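import Cfsg.Agent.Lib.Lie.PermCover
import Cfsg.Agent.Lib.Lie.McLaughlinMult.Gens

/-!
A central table on a Sylow 5-subgroup of the McLaughlin group (generated).
-/

set_option autoImplicit false
set_option maxRecDepth 100000
set_option maxHeartbeats 0
set_option Elab.async false

namespace Cfsg.Agent.Lie.McLaughlinMult

open Cfsg.Agent.Lie PermCover McLaughlinOut

/-- generators of the subgroup -/
def fiveGens : List Elem :=
  [(0x1598c507499624c72583160925d348bea058ba854ad57bb982431a1110c9a6e02da8cc19254b70640af1dab541160da70121c424b427b89ca8912990ee9d52931b0f45234dbefd789a92f0862b4482663eb686af60132cc4bf0daf8102100148c08e4f9291aca7e165f205758c17b0e7182478f223b3966c4072a8f8833f3e15cf76f01e0911741787ad553050dd073c30c590c0a98d32752a1d21a1d111a50a0f1f8e5c8a845c1538c06ebcd72b7021d84f0b612ec350a4415d6c264394dd80d64b6414727f29c805a10114ba7a0fc0e1e9e563813019780e1fe1e28972002d008c42ce71bb5d442e498f876cd233e8f22b3086152733405c38e14b139282919909706f269ac74671b320aa493fc05b6a36b23d22286821046b246122200601bed207b7333d569b3642426f5810bdde10508451480,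 0x43538152cac112903a1c014d04a3c0fc9d2d01c444d2898da8b7090f96aa25032010d83d2b1a65302bf9da6959c0a1e9b2403dc28157b8868566aa7cf6f710b28ccd92307d30f56b4199c1b072a880f4632e0ce26864459ea8491cdfa7c6230962ee3941cf22d3c1b5d8e45486207097fa86005706a9872803125db6d71011407045d961b87d063e11a55688cde43121c203a110f2f172173f805c06f35be50a1a523adde0011a8d96a5081707a936e9d9188a1c191cce816255d20b153490c37143321cde4731476bd82a68ba4e789816cea374484a8b352f89f10718c856da85ae84816558fcbcfa7e0b99a614190932ad208a504522389d92fb17bcc94b20311098911e404601c3a9b1bee70ca1d805f2d9411035619c4a83a1b1251e9604b9404044229cd10a7b1955cc14f051687709b1c96bf, [475, 148, 224, 241]),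
    (0x1ac34bb4cc24b6116e078200d3fc29303f3ea78a43c2724d82ee7a0ba0451103c9ca1379ab1748181bf986860b240f225411cd7eaa22b4006c065805d4ef7b889b0086fbc112d98211910471631864c41535890263bbc498a15588c123300415b4c80f97ddae63c0f5608f1f0ed22f959200846c2cb8056d48927c629753a895c8b43ad4e07c2d1050ade5c0304e83370dce25837a54ba0b6aa5908744eb1e10a028070aacc5eac616c287184ec8c0106cae6a5203c5ea680bf11a4329950f6e97d0480e210b9c9c6646717124af1c43572044712d94d151ad19a5627a69528a4a01488675b18060247b0e4304067ab5c4492f3e1669b36adc50f5720e9d07a3f325b6d31a850524d3a98c3b000741da415034454aeb3441a20ff5e39c5ad7333ecca69252721ec51b431c2a805064c4dd7ebb17c34, 0x29c3c19069ecb40a3ec1a1c85110697cd377be4de240c3b8066e0919d603a6d90c68fb79bd98cd66e3f172020e374d0310b2e1ea33308f412aa6ba60090b16af5a8d90a32916a816084a8e21f97ca2806f9545cbc4333818cc769f1fae072804fe17883c4b2971b11d3c521cabcfcb52e2847cf261b909a08519c03a7329a898884534090e0e1c13a1f05522291c4b7f17562ea5a15cda7850131aad14fbb132894a39de0ae838be069c348c1d2b7639e44e8873189229d47a4c6eac891d0201b2404c226013014f4465d0ed1a5e86a6d56903a941026a35c05f08327bfc50c52b03c78c968349c649362b53440822cd6d00590c8845b4902c5600603354a4538be82acf54b2c52354ab21d04461368c8f75dc284a823b4440c4131bac402a7a19a19093908e10964601d82d83287c9458709ddbcbf,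 [332, 97, 175, 224, 239, 248]),
    (0x75b50374c3110ec731fc221b19c1e14be4b8104216272b17ef6608d4b0cd1c0d95009512dd1494523c90b0221040da19599ada83f3d3b5ea2c0ac4612732db8142ae1012d1ec400ae8c4c34c3147413169589a275a931aa66843c000d36cc1954953ea59331264165d446172bd4c902e3ec907806b3c88cc128383ea37410024524e37584ca2a104f21e53a81f82f363413e69301b87a635a210de723e278ed013f0f906f4721c170d6051151a2658175fc0f29b2d0e233210d6c8c529280e371580d8ec62bb7c60ce060edc45e3a3461e7b49a44a00518b4864b179a6892893885104a95597cc21c0599c302982b2572e759145f46a23af20008823e00ce34e8a21ade1236c9e3c771d620eb40b01e29b85af576ad49089deff470e4b4f770bf50c6515154d08b0b80868803bb71af0e72be434d8, 0x2e1bc252c8105b0e0fc15bac3832f87e33883b108350c1d42495570e404320a3f1c28027bb842c20c89dc50c122d61ea31e42c067f1817426da310b13c06154457e00029f18ae560148b49255181f0a8392707cb7329919cd468275f6227ec103c360eb487a7d791b58e8b738eca0775936038fe23af490f54bac4d6ef523cdb29648a185e9f1013972cf81ae978f02b86cacb06a85cf26c063c4990d38845da8a4092446088520d76872c38d32ac03a144c5b6e220967e44a39d293730e1200d21310206f463448a8f23170ecaf6d8556cf931b281c9b39a80745514bfd92c66b1a89aad1bad0f4a9373ad34a2722091a282f3342cf7343d9f40983944a6614a2cd96e03383c802e641e14e2b3806a02d752a62244484005d04105c01be4a6628612ea3a299565f219ede834348c4a90233029a6c1,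 [370, 137, 186, 234, 243, 248])]

def fiveElt0 : Janko.Tree (ℕ) :=
  (.node (.node (.node (.leaf 1345185137112576) (.leaf 5007052139472905)) (.node (.leaf 3885494647938612) (.leaf 4133718686739709))) (.node (.node (.leaf 8954595774133251) (.leaf 2375936912758291)) (.node (.leaf 3483426269213748) (.leaf 7045068582070886))))

def fiveElt1 : Janko.Tree (ℕ) :=
  (.node (.node (.node (.leaf 3815112750405823) (.leaf 4944258642016430)) (.node (.leaf 4130262743613449) (.leaf 5258707224057085))) (.node (.node (.leaf 3070280246529042) (.leaf 8881673068617412)) (.node (.leaf 405480548096737) (.leaf 8383776432153317))))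

def fiveElt2 : Janko.Tree (ℕ) :=
  (.node (.node (.node (.leaf 7050550594531519) (.leaf 1381425688723649)) (.node (.leaf 3483735261580819) (.leaf 8655660144210137))) (.node (.node (.leaf 3809819603336360) (.leaf 1384644712912089)) (.node (.leaf 8673597637284966) (.leaf 6439232985898180))))

def fiveElt3 : Janko.Tree (ℕ) :=
  (.node (.node (.node (.leaf 4222622241931457) (.leaf 3078772349245121)) (.node (.leaf 6067811710665224) (.leaf 6633081121896978))) (.node (.node (.leaf 7037596306113228) (.leaf 819152673393313)) (.node (.leaf 8389984563532961) (.leaf 1384286509113347))))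

def fiveElt4 : Janko.Tree (ℕ) :=
  (.node (.node (.node (.leaf 395516828062916) (.leaf 8529836461374680)) (.node (.leaf 8665252482553908) (.leaf 8884212668669631))) (.node (.node (.leaf 4240696956502228) (.leaf 8530857049540660)) (.node (.leaf 4128666458302680) (.leaf 5178184641856640))))

def fiveElt5 : Janko.Tree (ℕ) :=
  (.node (.node (.node (.leaf 6051989229219045) (.leaf 7038056246392059)) (.node (.leaf 4132818994177126) (.leaf 3808365218742004))) (.node (.node (.leaf 8391027978003169) (.leaf 3870762280818429)) (.node (.leaf 6620745508086446) (.leaf 5013928517636264))))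

def fiveElt6 : Janko.Tree (ℕ) :=
  (.node (.node (.node (.leaf 5182962591383293) (.leaf 2373434253609472)) (.node (.leaf 3484445402818721) (.leaf 3870577084392652))) (.node (.node (.leaf 825460637440757) (.leaf 399134559622873)) (.node (.leaf 6456499450234376) (.leaf 1352195295693516))))

def fiveElt7 : Janko.Tree (ℕ) :=
  (.node (.node (.node (.leaf 1355444233217220) (.leaf 4944049498298073)) (.node (.leaf 388227772548224) (.leaf 5253355897415892))) (.node (.node (.leaf 1901126512915971) (.leaf 6060199123697369)) (.node (.leaf 8867180701923521) (.leaf 1390747113763572))))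

def fiveElt8 : Janko.Tree (ℕ) :=
  (.node (.node (.node (.leaf 6623883976554213) (.leaf 8655527624107520)) (.node (.leaf 5184230772836597) (.leaf 3499347313703620))) (.node (.node (.leaf 8515736936654866) (.leaf 6628351282840083)) (.node (.leaf 3818487712648920) (.leaf 8938025492547297))))

def fiveElt9 : Janko.Tree (ℕ) :=
  (.node (.node (.node (.leaf 6445694899842813) (.leaf 8384762597365760)) (.node (.leaf 1343947793515764) (.leaf 8392315429838345))) (.node (.node (.leaf 8946759537265326) (.leaf 5003397755059730)) (.node (.leaf 5254910610310881) (.leaf 4233013804486312))))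

def fiveElt10 : Janko.Tree (ℕ) :=
  (.node (.node (.node (.leaf 6058939386801915) (.leaf 816204895035054)) (.node (.leaf 6615176455446144) (.leaf 5179059383630339))) (.node (.node (.leaf 7037184933744768) (.leaf 1337179840287762)) (.node (.leaf 1917067811661528) (.leaf 4134795786985491))))

def fiveElt11 : Janko.Tree (ℕ) :=
  (.node (.node (.node (.leaf 8656478720024744) (.leaf 3882733252222145)) (.node (.leaf 6447224263870632) (.leaf 4938269649413332))) (.node (.node (.leaf 2375587919903240) (.leaf 2365564005764287)) (.node (.leaf 3499506202160379) (.leaf 6060944760581877))))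

def fiveElt12 : Janko.Tree (ℕ) :=
  (.node (.node (.node (.leaf 4933044177603788) (.leaf 5250660907927796)) (.node (.leaf 8949292362475060) (.leaf 3062140875142758))) (.node (.node (.leaf 8882558122392821) (.leaf 8942909502595775)) (.node (.leaf 5172395630453248) (.leaf 3078183229170184))))

def fiveElt13 : Janko.Tree (ℕ) :=
  (.node (.node (.node (.leaf 2363400783530708) (.leaf 388143628790488)) (.node (.leaf 8878572930698249) (.leaf 8521867042049236))) (.node (.node (.leaf 818451173466356) (.leaf 4222812447652001)) (.leaf 6456952936342190)))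

def fiveElt14 : Janko.Tree (ℕ) :=
  (.node (.node (.node (.leaf 3069218295670497) (.leaf 5009875401228539)) (.node (.leaf 1372328510374419) (.leaf 1906916134766284))) (.node (.node (.leaf 4223238307329152) (.leaf 1918545981095073)) (.leaf 4996349974136835)))

def fiveElt15 : Janko.Tree (ℕ) :=
  (.node (.node (.node (.leaf 8520701332493557) (.leaf 4926535591275017)) (.node (.leaf 1907171937554952) (.leaf 3813611045220581))) (.node (.node (.leaf 3887426739928805) (.leaf 809963788500582)) (.leaf 5250959907753211)))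

/-- a table -/
def fiveElt : Janko.Tree (ℕ) := (.node (.node (.node (.node fiveElt0 fiveElt8) (.node fiveElt4 fiveElt12)) (.node (.node fiveElt2 fiveElt10) (.node fiveElt6 fiveElt14))) (.node (.node (.node fiveElt1 fiveElt9) (.node fiveElt5 fiveElt13)) (.node (.node fiveElt3 fiveElt11) (.node fiveElt7 fiveElt15))))

def fiveNext0 : Janko.Tree (ℕ) :=
  (.node (.node (.node (.node (.node (.leaf 1) (.leaf 106)) (.leaf 47)) (.node (.node (.leaf 45) (.leaf 108)) (.leaf 53))) (.node (.node (.node (.leaf 25) (.leaf 107)) (.leaf 83)) (.node (.node (.leaf 63) (.leaf 124)) (.leaf 77)))) (.node (.node (.node (.node (.leaf 15) (.leaf 93)) (.leaf 78)) (.node (.node (.leaf 54) (.leaf 118)) (.leaf 99))) (.node (.node (.node (.leaf 34) (.leaf 10)) (.leaf 72)) (.node (.node (.leaf 46) (.leaf 118)) (.leaf 45)))))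

def fiveNext1 : Janko.Tree (ℕ) :=
  (.node (.node (.node (.node (.node (.leaf 2) (.leaf 89)) (.leaf 30)) (.node (.node (.leaf 46) (.leaf 22)) (.leaf 67))) (.node (.node (.node (.leaf 26) (.leaf 115)) (.leaf 58)) (.node (.node (.leaf 60) (.leaf 22)) (.leaf 97)))) (.node (.node (.node (.node (.leaf 16) (.leaf 81)) (.leaf 0)) (.node (.node (.leaf 55) (.leaf 88)) (.leaf 61))) (.node (.node (.node (.leaf 21) (.leaf 116)) (.leaf 89)) (.node (.node (.leaf 7) (.leaf 124)) (.leaf 101)))))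

def fiveNext2 : Janko.Tree (ℕ) :=
  (.node (.node (.node (.node (.node (.leaf 3) (.leaf 50)) (.leaf 47)) (.node (.node (.leaf 47) (.leaf 121)) (.leaf 29))) (.node (.node (.node (.leaf 27) (.leaf 90)) (.leaf 3)) (.node (.node (.leaf 64) (.leaf 101)) (.leaf 6)))) (.node (.node (.node (.node (.leaf 13) (.leaf 111)) (.leaf 79)) (.node (.node (.leaf 56) (.leaf 114)) (.leaf 100))) (.node (.node (.node (.leaf 37) (.leaf 76)) (.leaf 90)) (.node (.node (.leaf 62) (.leaf 84)) (.leaf 102)))))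

def fiveNext3 : Janko.Tree (ℕ) :=
  (.node (.node (.node (.node (.node (.leaf 4) (.leaf 107)) (.leaf 15)) (.node (.node (.leaf 48) (.leaf 111)) (.leaf 83))) (.node (.node (.node (.leaf 28) (.leaf 109)) (.leaf 58)) (.node (.node (.leaf 65) (.leaf 26)) (.leaf 78)))) (.node (.node (.node (.node (.leaf 16) (.leaf 85)) (.leaf 36)) (.node (.node (.leaf 32) (.leaf 120)) (.leaf 1))) (.node (.node (.node (.leaf 31) (.leaf 116)) (.leaf 65)) (.node (.node (.leaf 7) (.leaf 120)) (.leaf 43)))))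

def fiveNext4 : Janko.Tree (ℕ) :=
  (.node (.node (.node (.node (.node (.leaf 5) (.leaf 91)) (.leaf 59)) (.node (.node (.leaf 49) (.leaf 102)) (.leaf 93))) (.node (.node (.node (.leaf 29) (.leaf 62)) (.leaf 84)) (.node (.node (.leaf 66) (.leaf 121)) (.leaf 68)))) (.node (.node (.node (.node (.leaf 17) (.leaf 104)) (.leaf 79)) (.node (.node (.leaf 54) (.leaf 28)) (.leaf 75))) (.node (.node (.node (.leaf 37) (.leaf 117)) (.leaf 91)) (.node (.node (.leaf 71) (.leaf 75)) (.leaf 102)))))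

def fiveNext5 : Janko.Tree (ℕ) :=
  (.node (.node (.node (.node (.node (.leaf 6) (.leaf 108)) (.leaf 73)) (.node (.node (.leaf 46) (.leaf 122)) (.leaf 56))) (.node (.node (.node (.leaf 30) (.leaf 99)) (.leaf 9)) (.node (.node (.leaf 41) (.leaf 52)) (.leaf 78)))) (.node (.node (.node (.node (.leaf 18) (.leaf 113)) (.leaf 80)) (.node (.node (.leaf 32) (.leaf 115)) (.leaf 95))) (.node (.node (.node (.leaf 38) (.leaf 15)) (.leaf 92)) (.node (.node (.leaf 72) (.leaf 52)) (.leaf 103)))))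

def fiveNext6 : Janko.Tree (ℕ) :=
  (.node (.node (.node (.node (.node (.leaf 7) (.leaf 109)) (.leaf 33)) (.node (.node (.leaf 49) (.leaf 104)) (.leaf 96))) (.node (.node (.node (.leaf 18) (.leaf 112)) (.leaf 85)) (.node (.node (.leaf 64) (.leaf 63)) (.leaf 42)))) (.node (.node (.node (.node (.leaf 19) (.leaf 96)) (.leaf 19)) (.node (.node (.leaf 57) (.leaf 121)) (.leaf 20))) (.node (.node (.node (.leaf 39) (.leaf 117)) (.leaf 67)) (.node (.node (.leaf 65) (.leaf 48)) (.leaf 37)))))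

def fiveNext7 : Janko.Tree (ℕ) :=
  (.node (.node (.node (.node (.node (.leaf 8) (.leaf 92)) (.leaf 61)) (.node (.node (.leaf 50) (.leaf 123)) (.leaf 97))) (.node (.node (.node (.leaf 28) (.leaf 13)) (.leaf 63)) (.node (.node (.leaf 41) (.leaf 26)) (.leaf 98)))) (.node (.node (.node (.node (.leaf 20) (.leaf 106)) (.leaf 80)) (.node (.node (.leaf 58) (.leaf 110)) (.leaf 1))) (.node (.node (.node (.leaf 35) (.leaf 8)) (.leaf 93)) (.node (.leaf 27) (.leaf 103)))))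

def fiveNext8 : Janko.Tree (ℕ) :=
  (.node (.node (.node (.node (.node (.leaf 9) (.leaf 105)) (.leaf 75)) (.node (.node (.leaf 5) (.leaf 11)) (.leaf 69))) (.node (.node (.node (.leaf 18) (.leaf 100)) (.leaf 86)) (.node (.node (.leaf 12) (.leaf 48)) (.leaf 71)))) (.node (.node (.node (.node (.leaf 21) (.leaf 114)) (.leaf 81)) (.node (.node (.leaf 59) (.leaf 109)) (.leaf 2))) (.node (.node (.node (.leaf 40) (.leaf 117)) (.leaf 94)) (.node (.leaf 27) (.leaf 2)))))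

def fiveNext9 : Janko.Tree (ℕ) :=
  (.node (.node (.node (.node (.node (.leaf 6) (.leaf 29)) (.leaf 76)) (.node (.node (.leaf 50) (.leaf 113)) (.leaf 85))) (.node (.node (.node (.leaf 31) (.leaf 113)) (.leaf 87)) (.node (.node (.leaf 67) (.leaf 105)) (.leaf 70)))) (.node (.node (.node (.node (.leaf 22) (.leaf 87)) (.leaf 16)) (.node (.node (.leaf 39) (.leaf 122)) (.leaf 91))) (.node (.node (.node (.leaf 41) (.leaf 118)) (.leaf 68)) (.node (.leaf 44) (.leaf 23)))))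

def fiveNext10 : Janko.Tree (ℕ) :=
  (.node (.node (.node (.node (.node (.leaf 9) (.leaf 110)) (.leaf 33)) (.node (.node (.leaf 51) (.leaf 119)) (.leaf 96))) (.node (.node (.node (.leaf 32) (.leaf 95)) (.leaf 60)) (.node (.node (.leaf 68) (.leaf 122)) (.leaf 99)))) (.node (.node (.node (.node (.leaf 23) (.leaf 115)) (.leaf 81)) (.node (.node (.leaf 60) (.leaf 57)) (.leaf 55))) (.node (.node (.node (.leaf 42) (.leaf 107)) (.leaf 88)) (.node (.leaf 14) (.leaf 104)))))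

def fiveNext11 : Janko.Tree (ℕ) :=
  (.node (.node (.node (.node (.node (.leaf 10) (.leaf 8)) (.leaf 76)) (.node (.node (.leaf 38) (.leaf 39)) (.leaf 59))) (.node (.node (.node (.leaf 33) (.leaf 94)) (.leaf 84)) (.node (.node (.leaf 44) (.leaf 116)) (.leaf 17)))) (.node (.node (.node (.node (.leaf 20) (.leaf 4)) (.leaf 82)) (.node (.node (.leaf 61) (.leaf 112)) (.leaf 92))) (.node (.node (.node (.leaf 43) (.leaf 25)) (.leaf 14)) (.node (.leaf 56) (.leaf 86)))))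

def fiveNext12 : Janko.Tree (ℕ) :=
  (.node (.node (.node (.node (.node (.leaf 11) (.leaf 108)) (.leaf 19)) (.node (.node (.leaf 51) (.leaf 11)) (.leaf 87))) (.node (.node (.node (.leaf 34) (.leaf 114)) (.leaf 64)) (.node (.node (.leaf 69) (.leaf 54)) (.leaf 74)))) (.node (.node (.node (.node (.leaf 23) (.leaf 98)) (.leaf 71)) (.node (.node (.leaf 35) (.leaf 70)) (.leaf 100))) (.node (.node (.node (.leaf 40) (.leaf 55)) (.leaf 95)) (.node (.leaf 69) (.leaf 10)))))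

def fiveNext13 : Janko.Tree (ℕ) :=
  (.node (.node (.node (.node (.node (.leaf 12) (.leaf 83)) (.leaf 66)) (.node (.node (.leaf 52) (.leaf 49)) (.leaf 98))) (.node (.node (.node (.leaf 35) (.leaf 31)) (.leaf 88)) (.node (.node (.leaf 70) (.leaf 123)) (.leaf 74)))) (.node (.node (.node (.node (.leaf 24) (.leaf 110)) (.leaf 82)) (.node (.node (.leaf 57) (.leaf 25)) (.leaf 66))) (.node (.node (.node (.leaf 43) (.leaf 119)) (.leaf 24)) (.node (.leaf 30) (.leaf 72)))))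

def fiveNext14 : Janko.Tree (ℕ) :=
  (.node (.node (.node (.node (.node (.leaf 13) (.leaf 111)) (.leaf 77)) (.node (.node (.leaf 0) (.leaf 123)) (.leaf 73))) (.node (.node (.node (.leaf 36) (.leaf 97)) (.leaf 82)) (.node (.node (.leaf 45) (.leaf 79)) (.leaf 3)))) (.node (.node (.node (.node (.leaf 17) (.leaf 34)) (.leaf 0)) (.node (.node (.leaf 40) (.leaf 124)) (.leaf 94))) (.node (.node (.node (.leaf 5) (.leaf 80)) (.leaf 89)) (.node (.leaf 73) (.leaf 105)))))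

def fiveNext15 : Janko.Tree (ℕ) :=
  (.node (.node (.node (.node (.node (.leaf 14) (.leaf 112)) (.leaf 36)) (.node (.node (.leaf 53) (.leaf 106)) (.leaf 90))) (.node (.node (.node (.leaf 21) (.leaf 77)) (.leaf 86)) (.node (.node (.leaf 12) (.leaf 119)) (.leaf 101)))) (.node (.node (.node (.node (.leaf 24) (.leaf 4)) (.leaf 51)) (.node (.node (.leaf 62) (.leaf 42)) (.leaf 38))) (.node (.node (.node (.leaf 44) (.leaf 120)) (.leaf 53)) (.node (.leaf 74) (.leaf 103)))))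

/-- a table -/
def fiveNext : Janko.Tree (ℕ) := (.node (.node (.node (.node fiveNext0 fiveNext8) (.node fiveNext4 fiveNext12)) (.node (.node fiveNext2 fiveNext10) (.node fiveNext6 fiveNext14))) (.node (.node (.node fiveNext1 fiveNext9) (.node fiveNext5 fiveNext13)) (.node (.node fiveNext3 fiveNext11) (.node fiveNext7 fiveNext15))))

def fiveWord0 : Janko.Tree (ℕ) :=
  (.node (.node (.node (.leaf 1) (.leaf 1052674)) (.node (.leaf 65792) (.leaf 16843024))) (.node (.node (.leaf 4114) (.leaf 1118498)) (.node (.leaf 69905) (.leaf 268501265))))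

def fiveWord1 : Janko.Tree (ℕ) :=
  (.node (.node (.node (.leaf 16) (.leaf 1052688)) (.node (.leaf 65793) (.leaf 16843025))) (.node (.node (.leaf 4130) (.leaf 1118754)) (.node (.leaf 69906) (.leaf 268505105))))

def fiveWord2 : Janko.Tree (ℕ) :=
  (.node (.node (.node (.leaf 17) (.leaf 1052689)) (.node (.leaf 65794) (.leaf 16846865))) (.node (.node (.leaf 4352) (.leaf 1122850)) (.node (.leaf 69922) (.leaf 268505345))))

def fiveWord3 : Janko.Tree (ℕ) :=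
  (.node (.node (.node (.leaf 18) (.leaf 1052928)) (.node (.leaf 65808) (.leaf 16847105))) (.node (.node (.leaf 4353) (.leaf 16777233)) (.node (.leaf 70178) (.leaf 268505360))))

def fiveWord4 : Janko.Tree (ℕ) :=
  (.node (.node (.node (.leaf 256) (.leaf 1052929)) (.node (.leaf 65809) (.leaf 16847120))) (.node (.node (.leaf 4354) (.leaf 16777250)) (.node (.leaf 74274) (.leaf 286331426))))

def fiveWord5 : Janko.Tree (ℕ) :=
  (.node (.node (.node (.leaf 257) (.leaf 1052944)) (.node (.leaf 65826) (.leaf 17895714))) (.node (.node (.leaf 4368) (.leaf 16777473)) (.node (.leaf 1048577) (.leaf 286335522))))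

def fiveWord6 : Janko.Tree (ℕ) :=
  (.node (.node (.node (.leaf 258) (.leaf 1052945)) (.node (.leaf 66082) (.leaf 17895970))) (.node (.node (.leaf 4369) (.leaf 16777488)) (.node (.leaf 1048578) (.leaf 4294971665))))

def fiveWord7 : Janko.Tree (ℕ) :=
  (.node (.node (.node (.leaf 272) (.leaf 1057314)) (.node (.leaf 69632) (.leaf 17900066))) (.node (.node (.leaf 4370) (.leaf 16777489)) (.node (.leaf 1048592) (.leaf 4294976034))))

def fiveWord8 : Janko.Tree (ℕ) :=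
  (.node (.node (.node (.leaf 273) (.leaf 1114112)) (.node (.leaf 69634) (.leaf 268435729))) (.node (.node (.leaf 4386) (.leaf 16777762)) (.node (.leaf 1048593) (.leaf 4295033105))))

def fiveWord9 : Janko.Tree (ℕ) :=
  (.node (.node (.node (.leaf 274) (.leaf 1114384)) (.node (.leaf 69648) (.leaf 268436002))) (.node (.node (.leaf 4642) (.leaf 16781328)) (.node (.leaf 1048610) (.leaf 4295036945))))

def fiveWord10 : Janko.Tree (ℕ) :=
  (.node (.node (.node (.leaf 290) (.leaf 1114385)) (.node (.leaf 69649) (.leaf 268439569))) (.node (.node (.leaf 65536) (.leaf 16781329)) (.node (.leaf 1048832) (.leaf 4295037185))))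

def fiveWord11 : Janko.Tree (ℕ) :=
  (.node (.node (.node (.leaf 4096) (.leaf 1118225)) (.node (.leaf 69650) (.leaf 268439809))) (.node (.node (.leaf 65537) (.leaf 16781568)) (.node (.leaf 1048833) (.leaf 4295037200))))

def fiveWord12 : Janko.Tree (ℕ) :=
  (.node (.node (.node (.leaf 4097) (.leaf 1118226)) (.node (.leaf 69888) (.leaf 268439824))) (.node (.node (.leaf 65538) (.leaf 16781569)) (.node (.leaf 1048848) (.leaf 4581302818))))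

def fiveWord13 : Janko.Tree (ℕ) :=
  (.node (.node (.node (.leaf 4098) (.leaf 1118465)) (.node (.leaf 69889) (.leaf 268439825))) (.node (.node (.leaf 65552) (.leaf 16781584)) (.leaf 1048849)))

def fiveWord14 : Janko.Tree (ℕ) :=
  (.node (.node (.node (.leaf 4112) (.leaf 1118480)) (.node (.leaf 69890) (.leaf 268444194))) (.node (.node (.leaf 65553) (.leaf 16781585)) (.leaf 1049122)))

def fiveWord15 : Janko.Tree (ℕ) :=
  (.node (.node (.node (.leaf 4113) (.leaf 1118482)) (.node (.leaf 69904) (.leaf 268501264))) (.node (.node (.leaf 65570) (.leaf 16785954)) (.leaf 1052672)))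

/-- a table -/
def fiveWord : Janko.Tree (ℕ) := (.node (.node (.node (.node fiveWord0 fiveWord8) (.node fiveWord4 fiveWord12)) (.node (.node fiveWord2 fiveWord10) (.node fiveWord6 fiveWord14))) (.node (.node (.node fiveWord1 fiveWord9) (.node fiveWord5 fiveWord13)) (.node (.node fiveWord3 fiveWord11) (.node fiveWord7 fiveWord15))))

def fivePar0 : Janko.Tree (ℕ) :=
  (.node (.node (.node (.leaf 0) (.leaf 514)) (.node (.leaf 224) (.leaf 1056))) (.node (.node (.leaf 82) (.leaf 786)) (.node (.leaf 353) (.leaf 1441))))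

def fivePar1 : Janko.Tree (ℕ) :=
  (.node (.node (.node (.leaf 0) (.leaf 528)) (.node (.leaf 225) (.leaf 1057))) (.node (.node (.leaf 98) (.leaf 802)) (.node (.leaf 354) (.leaf 1473))))

def fivePar2 : Janko.Tree (ℕ) :=
  (.node (.node (.node (.leaf 1) (.leaf 529)) (.node (.leaf 226) (.leaf 1089))) (.node (.node (.leaf 112) (.leaf 818)) (.node (.leaf 370) (.leaf 1489))))

def fivePar3 : Janko.Tree (ℕ) :=
  (.node (.node (.node (.leaf 2) (.leaf 560)) (.node (.leaf 240) (.leaf 1105))) (.node (.node (.leaf 113) (.leaf 849)) (.node (.leaf 386) (.leaf 1504))))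

def fivePar4 : Janko.Tree (ℕ) :=
  (.node (.node (.node (.leaf 16) (.leaf 561)) (.node (.leaf 241) (.leaf 1120))) (.node (.node (.leaf 114) (.leaf 866)) (.node (.leaf 402) (.leaf 1618))))

def fivePar5 : Janko.Tree (ℕ) :=
  (.node (.node (.node (.leaf 17) (.leaf 576)) (.node (.leaf 258) (.leaf 1266))) (.node (.node (.leaf 128) (.leaf 881)) (.node (.leaf 417) (.leaf 1634))))

def fivePar6 : Janko.Tree (ℕ) :=
  (.node (.node (.node (.leaf 18) (.leaf 577)) (.node (.leaf 274) (.leaf 1282))) (.node (.node (.leaf 129) (.leaf 896)) (.node (.leaf 418) (.leaf 1665))))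

def fivePar7 : Janko.Tree (ℕ) :=
  (.node (.node (.node (.leaf 32) (.leaf 610)) (.node (.leaf 288) (.leaf 1298))) (.node (.node (.leaf 130) (.leaf 897)) (.node (.leaf 432) (.leaf 1682))))

def fivePar8 : Janko.Tree (ℕ) :=
  (.node (.node (.node (.leaf 33) (.leaf 624)) (.node (.leaf 290) (.leaf 1329))) (.node (.node (.leaf 146) (.leaf 914)) (.node (.leaf 433) (.leaf 1697))))

def fivePar9 : Janko.Tree (ℕ) :=
  (.node (.node (.node (.leaf 34) (.leaf 672)) (.node (.leaf 304) (.leaf 1346))) (.node (.node (.leaf 162) (.leaf 944)) (.node (.leaf 450) (.leaf 1713))))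

def fivePar10 : Janko.Tree (ℕ) :=
  (.node (.node (.node (.leaf 50) (.leaf 673)) (.node (.leaf 305) (.leaf 1361))) (.node (.node (.leaf 176) (.leaf 945)) (.node (.leaf 464) (.leaf 1729))))

def fivePar11 : Janko.Tree (ℕ) :=
  (.node (.node (.node (.leaf 64) (.leaf 721)) (.node (.leaf 306) (.leaf 1377))) (.node (.node (.leaf 177) (.leaf 960)) (.node (.leaf 465) (.leaf 1744))))

def fivePar12 : Janko.Tree (ℕ) :=
  (.node (.node (.node (.leaf 65) (.leaf 722)) (.node (.leaf 336) (.leaf 1392))) (.node (.node (.leaf 178) (.leaf 961)) (.node (.leaf 480) (.leaf 1858))))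

def fivePar13 : Janko.Tree (ℕ) :=
  (.node (.node (.node (.leaf 66) (.leaf 753)) (.node (.leaf 337) (.leaf 1393))) (.node (.node (.leaf 192) (.leaf 976)) (.leaf 481)))

def fivePar14 : Janko.Tree (ℕ) :=
  (.node (.node (.node (.leaf 80) (.leaf 768)) (.node (.leaf 338) (.leaf 1410))) (.node (.node (.leaf 193) (.leaf 977)) (.leaf 498)))

def fivePar15 : Janko.Tree (ℕ) :=
  (.node (.node (.node (.leaf 81) (.leaf 770)) (.node (.leaf 352) (.leaf 1440))) (.node (.node (.leaf 210) (.leaf 994)) (.leaf 512)))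

/-- a table -/
def fivePar : Janko.Tree (ℕ) := (.node (.node (.node (.node fivePar0 fivePar8) (.node fivePar4 fivePar12)) (.node (.node fivePar2 fivePar10) (.node fivePar6 fivePar14))) (.node (.node (.node fivePar1 fivePar9) (.node fivePar5 fivePar13)) (.node (.node fivePar3 fivePar11) (.node fivePar7 fivePar15))))

def fiveL0 : Janko.Tree (List ℤ) :=
  (.node (.node (.node (.node (.node (.leaf []) (.leaf [])) (.leaf [12, 6, 6, -6, -4, 0, -2, 0, -2, 0, 0, 0, 0, 0, 0, 0, 1, 0, 0, 0])) (.node (.node (.leaf []) (.leaf [-20, -4, -3, 9, 6, -5, 5, 0, 4, 1, 0, 0, -1, 0, 0, 0, -1, 0, 0, 0])) (.leaf [-3, 6, 3, -1, 3, -5, 1, 0, 0, 0, 0, 0, 0, 0, -1, 0, 0, 0, 0, 0]))) (.node (.node (.node (.leaf []) (.leaf [0, -1, -1, 1, 0, 0, -1, 0, 1, 1, -1, 0, 0, 0, 0, 0, 0, 0, 0, 0])) (.leaf [])) (.node (.node (.leaf []) (.leaf [0, -4, -4, 0, 0, 4, 0, 0, 0, 0, 0, 0, 0, 0, 0, 0, 0, 0, 0, 0]))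 (.leaf [6, -9, 0, 1, -8, 8, 1, 0, 0, 0, 0, 0, 0, 0, 0, 0, 1, 0, 0, 0])))) (.node (.node (.node (.node (.leaf []) (.leaf [29, -45, -7, 6, -37, 41, 2, 0, 0, 1, 0, 0, -1, -2, 0, 0, 2, -1, 0, 1])) (.leaf [])) (.node (.node (.leaf []) (.leaf [-20, -41, 10, 38, -31, 8, 13, -2, 0, -2, 0, 0, 2, -5, 0, 0, 0, 1, 1, 0])) (.leaf []))) (.node (.node (.node (.leaf [-1, 0, -1, 0, 1, 0, 0, 0, 0, 0, 0, 0, 0, 0, 0, 0, 0, 0, 0, 0]) (.leaf [0, -1, -2, 0, 0, 2, 0, 0, 0, 0, 0, 0, 0, 0, 0, 0, 0, 0, 0, 0])) (.leaf [-16, 18, 2, -2, 17, -17, 1, 0, 0, 0, 0, 0, 0, 1, 0, 0, 0, 0, 0, 0])) (.node (.node (.leaf [-5, 4, -1, 0, 5, -4, 0, 0, 1, 0, 0, 0, 0, 0, 0, 0, 0, 0, 0, 0]) (.leaf [-5, -32, -31, 1, 0, 32, 4, 0, -2, -1, 0, 0, 0, -1, 0, 0, 1, 0, 0, 0])) (.leaf [10, -26, -2, 7, -19, 19, 2, 0, 2, 0, 0, 0, 0, 0, 0, 0, 0, 0, 0, 0])))))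

def fiveL1 : Janko.Tree (List ℤ) :=
  (.node (.node (.node (.node (.node (.leaf []) (.leaf [1, 4, 5, -1, -1, -3, 1, 1, 0, 0, 0, 0, -1, 0, 0, 0, 0, 0, 0, 0])) (.leaf [3, 4, 4, -2, -1, -2, 1, 0, -1, 0, 0, -1, 0, 0, 0, 0, 0, 0, 0, 0])) (.node (.node (.leaf []) (.leaf [1, 1, 1, -1, 0, 0, 1, 0, -1, -1, 0, 0, 0, 0, 0, 0, 0, 0, 0, 0])) (.leaf [3, -5, 3, 1, -7, 5, 3, 0, -3, -1, 0, 0, 1, -1, -1, 0, 0, 0, 0, 0]))) (.node (.node (.node (.leaf []) (.leaf [210, -33, 50, -48, -127, 81, -35, 1, 4, 6, -1, 0, -6, 0, 1, 0, 2, 0, -2, 1])) (.leaf [19, -28, -7, 2, -22, 28, 1, 0, -2, -1, 0, 0, 1, -2, 0, 0, 0, 0, 0, 0])) (.node (.node (.leaf [18, -20, -2, -4, -21, 27, 7, 2, -7, -3, 0, 0, 3, -3, -1, 0, 0, 0, 0, 0]) (.leaf [0, 0, 1, 0, 0, 0, 0, 0, 0, 0, 0, 0, 0, 0, 0, 0, 0, 0, 0, 0])) (.leaf [-29, -28, -27, 15, 6, 16, 8, 0, 2, 0, 0, 0, 0, -3, 0, 0, 0, 0, 0, 1])))) (.node (.node (.node (.node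 (.leaf []) (.leaf [0, 0, 0, 0, 0, 0, 0, 0, 0, 0, 0, 1, 0, 0, 0, 0, 0, 0, 0, 0])) (.leaf [0, 1, 0, 0, 0, 0, 0, 0, 0, 0, 0, 0, 0, 0, 0, 0, 0, 0, 0, 0])) (.node (.node (.leaf []) (.leaf [5, -21, -2, 9, -16, 14, 2, 0, 0, 0, 0, 0, 0, -1, 0, 0, 0, 0, 0, 0])) (.leaf [-21, -106, -14, 51, -61, 64, 33, -2, -11, -8, 0, -2, 7, -9, 0, 0, -2, 1, 1, 0]))) (.node (.node (.node (.leaf [0, 0, 0, 0, 0, 0, 0, 0, 1, 0, 0, 0, 0, 0, 0, 0, 0, 0, 0, 0]) (.leaf [])) (.leaf [])) (.node (.node (.leaf [1, 1, 1, -1, 0, 0, 0, 0, 0, 0, 0, 0, 0, 0, 0, 0, 0, 0, 0, 0]) (.leaf [-103, -92, -51, 50, 0, 52, 55, -2, -29, -22, 0, -1, 20, -10, 0, 1, -4, 1, 2, -1])) (.leaf [0, -2, -2, 0, 0, 2, 0, 0, 0, 0, 0, 0, 0, 0, 0, 0, 0, 0, 0, 0])))))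

def fiveL2 : Janko.Tree (List ℤ) :=
  (.node (.node (.node (.node (.node (.leaf []) (.leaf [2, 4, 3, -2, 0, -2, 1, 0, -1, -1, 0, 0, 0, 0, 0, 0, 0, 0, 0, 0])) (.leaf [0, 0, 0, 0, 0, 0, 0, 0, 0, 0, 0, 0, 0, 0, 0, 0, 1, 0, 0, 0])) (.node (.node (.leaf []) (.leaf [])) (.leaf [-9, 20, -1, -8, 19, -14, -2, 0, 0, 0, 0, 0, 0, 2, 0, 0, 0, 0, 0, 0]))) (.node (.node (.node (.leaf []) (.leaf [26, -17, 14, 6, -30, 12, -2, 0, 2, 1, -1, 0, -1, -1, 0, 0, 0, 1, 0, 0])) (.leaf [0, 0, -1, 0, 1, 0, 0, 0, 0, 0, 0, 0, 0, 0, 0, 0, 0, 0, 0, 0])) (.node (.node (.leaf []) (.leaf [5, 6, 4, -5, 0, -1, 1, 0, -4, -2, 0, 0, 2, 0, 0, 0, -1, 0, 0, 0])) (.leaf [5, -3, 1, 0, -5, 4, 0, 0, -1, 0, 0, 0, 0, 0, 0, 0, 0, 0, 0, 0])))) (.node (.node (.node (.node (.leaf [-1, 0, -1, 0, 1, 0, 0, 0, 0, 0, 0, 0, 0, 0, 0, 0, 0, 0, 0, 0]) (.leaf [12, -9, 5, 2, -13, 7, -2, 0, 0, 0, 0, 1, 0, 0, 0, 0, 0, 1, 0, 0])) (.leaf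 [])) (.node (.node (.leaf []) (.leaf [175, -94, 44, -5, -154, 102, -16, 1, 9, 7, 0, 0, -7, -3, 0, 0, 1, 0, -2, 1])) (.leaf []))) (.node (.node (.node (.leaf []) (.leaf [3, -37, -5, 14, -22, 23, 5, 0, 4, 0, 0, 0, 0, 0, 0, 0, 0, 0, 0, 0])) (.leaf [])) (.node (.node (.leaf [2, 0, 2, 0, -2, 0, 0, 0, 0, 0, 0, 0, 0, 0, 0, 0, 0, 0, 0, 0]) (.leaf [-350, -156, -136, 145, 98, 24, 109, -3, -40, -36, 0, -2, 32, -12, 0, 2, -8, 1, 5, -2])) (.leaf [])))))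

def fiveL3 : Janko.Tree (List ℤ) :=
  (.node (.node (.node (.node (.node (.leaf []) (.leaf [])) (.leaf [1, 0, 0, -1, 0, 1, 0, 0, -1, 0, 0, 0, 0, 0, 0, 0, 0, 0, 0, 0])) (.node (.node (.leaf []) (.leaf [13, -4, 8, 0, -12, 4, -1, 0, -1, -1, 0, 0, 0, 0, 0, 0, 0, 1, 0, 0])) (.leaf [11, -13, 1, 4, -13, 9, -2, 0, 4, 2, 0, 0, -2, 0, 0, -1, 0, 0, 0, 0]))) (.node (.node (.node (.leaf []) (.leaf [127, 132, 74, -69, 6, -76, -65, 2, 26, 22, 0, 1, -20, 13, 0, -1, 5, -1, -2, 0])) (.leaf [23, -28, 0, 5, -28, 25, 0, 0, 0, 0, 0, 0, 0, -2, 0, 0, 0, 0, 0, 0])) (.node (.node (.leaf []) (.leaf [0, 1, 0, 0, 0, 0, 0, 0, 0, 0, 0, 0, 0, 0, 0, 0, 0, 0, 0, 0])) (.leaf [3, 5, -1, -5, 3, 0, -1, 0, -2, 0, 0, 0, 0, 0, 0, 0, 1, 0, 0, 0])))) (.node (.node (.node (.node (.leaf [0, -1, -1, 0, 0, 1, 0, 0, 0, 0, 0, 0, 0, 0, 0, 0, 0, 0, 0, 0]) (.leaf [-1, -1, 0, 0, 0, 1, 0, 0, -1, 0, 0, 1, 1, 0, 0, 0, 0,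 0, 0, 0])) (.leaf [-10, -13, -3, 10, -3, 3, 3, 0, 3, 0, 0, 0, 0, 0, 0, 0, -1, 0, 0, 0])) (.node (.node (.leaf [4, -10, 5, 8, -12, 3, 0, 0, 2, 1, 0, 0, -1, -1, 0, 0, 0, 0, 0, 0]) (.leaf [20, 13, 28, 1, -16, -15, -5, 0, 6, 3, 0, 0, -3, 1, 0, 0, 0, 0, -1, 0])) (.leaf [0, 1, 0, 0, 0, 0, 0, 0, 0, 0, 0, 0, 0, 0, 0, 0, 0, 0, 0, 0]))) (.node (.node (.node (.leaf [3, 0, 3, 0, -3, 0, 0, 0, 0, 0, 0, 0, 0, 0, 0, 0, 0, 0, 0, 0]) (.leaf [0, -3, -3, 0, 0, 3, 0, 0, 0, 0, 0, 0, 0, 0, 0, 0, 0, 0, 0, 0])) (.leaf [-1, -3, -4, 1, 1, 2, -1, -1, 1, 0, 0, 0, 0, 0, 0, 1, 0, 0, 0, 0])) (.node (.node (.leaf [-5, 9, 0, -2, 8, -7, -1, 0, 0, 0, 0, 0, 0, 0, 0, 0, 0, 0, 0, 0]) (.leaf [-388, -134, -140, 144, 130, 1, 116, -3, -42, -38, 0, -2, 34, -11, 0, 2, -9, 1, 5, -2])) (.leaf [-2, -4, -4, 2, 1, 2, -1, 0, 1, 0, 0, 0, 0, 0, 0, 0, 0, 0, 0, 0])))))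

def fiveL4 : Janko.Tree (List ℤ) :=
  (.node (.node (.node (.node (.node (.leaf []) (.leaf [1, 4, 2, -2, 1, -2, 1, 0, -1, -1, 0, -1, 0, 0, 0, 0, 0, 0, 0, 0])) (.leaf [0, 0, 0, 0, 0, 0, 0, 1, 0, 0, 0, 0, 0, 0, 0, 0, 0, 0, 0, 0])) (.node (.node (.leaf []) (.leaf [-6, -20, -17, 4, -1, 17, 4, 0, -2, -1, 0, 0, 0, -1, 0, 0, 1, 0, 0, 0])) (.leaf [157, -50, 39, -26, -114, 77, -17, 3, 5, 5, 0, 0, -5, -1, 0, -1, 1, 0, -2, 1]))) (.node (.node (.node (.leaf []) (.leaf [0, 0, 0, 0, 0, 0, 0, 0, 0, 0, 0, 0, 0, 1, 0, 0, 0, 0, 0, 0])) (.leaf [])) (.node (.node (.leaf []) (.leaf [-8, 2, -4, 1, 7, -3, 0, 0, -1, 0, 0, 0, 1, 0, 0, 0, 0, 0, 0, 0])) (.leaf [255, 63, 117, -75, -118, 6, -63, 3, 19, 18, 0, 1, -17, 6, 0, 0, 2, -1, -3, 1])))) (.node (.node (.node (.node (.leaf []) (.leaf [10, -10, 1, 3, -11, 7, -2, 0, 4, 2, 0, 0, -2, 0, 0, 0, 1, 0, -1, 0])) (.leaf [0, -1, -1, 0, 0, 1, 0, 0, 0,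 0, 0, 0, 0, 0, 0, 0, 0, 0, 0, 0])) (.node (.node (.leaf [-1, 0, -1, 0, 1, 0, 0, 0, 0, 0, 0, 0, 0, 0, 0, 0, 0, 0, 0, 0]) (.leaf [-16, 10, -7, 2, 18, -13, -4, -2, 3, 1, 0, 0, -1, 2, 1, 0, 0, 0, 0, 0])) (.leaf [-5, 3, -2, 0, 5, -3, 0, 0, 1, 0, 0, 0, 0, 0, 0, 0, 0, 0, 0, 0]))) (.node (.node (.node (.leaf [-5, 3, -2, 0, 5, -3, 0, 0, 0, 0, 0, 0, 0, 0, 0, 0, 0, 0, 0, 0]) (.leaf [])) (.leaf [])) (.node (.node (.leaf []) (.leaf [-2, -5, 3, 5, -4, 0, 1, 0, 2, 0, 0, 0, 0, 0, 0, 0, -1, 0, 0, 0])) (.leaf [0, -3, -3, 0, 0, 3, 0, 0, 0, 0, 0, 0, 0, 0, 0, 0, 0, 0, 0, 0])))))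

def fiveL5 : Janko.Tree (List ℤ) :=
  (.node (.node (.node (.node (.node (.leaf []) (.leaf [])) (.leaf [-70, 37, -30, -4, 70, -35, 4, 1, -4, -2, 0, 0, 2, 2, 0, 0, 1, -1, 0, 0])) (.node (.node (.leaf [-1, 0, -1, 0, 1, 0, 0, 0, 0, 0, 0, 0, 0, 0, 0, 0, 0, 0, 0, 0]) (.leaf [])) (.leaf [-27, 41, -10, -17, 46, -27, -3, 2, -3, -1, 0, 1, 2, 3, 0, -1, 0, 0, 0, 0]))) (.node (.node (.node (.leaf []) (.leaf [112, 143, 60, -81, 27, -75, -59, 2, 24, 20, 0, 1, -18, 13, 0, -1, 4, -2, -2, 0])) (.leaf [6, -10, 1, 4, -10, 7, 1, 0, 0, 0, 0, 0, 0, -1, 0, 0, 0, 0, 0, 0])) (.node (.node (.leaf [-21, 27, -7, -10, 32, -19, -2, 1, -3, -2, 0, 1, 2, 2, 0, -1, 0, 0, 0, 0]) (.leaf [-3, 0, -4, 0, 4, 0, 0, 0, 0, 0, 0, 0, 0, 0, 0, 0, 0, 0, 0, 0])) (.leaf [-10, 16, -3, -4, 16, -12, -2, 0, -1, 0, 0, 0, 0, 0, 0, 0, 1, 0, 0, 0])))) (.node (.node (.node (.node (.leaf []) (.leaf [])) (.leaf [])) (.node (.node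 (.leaf [10, -20, 1, 7, -19, 15, 2, 0, 0, 0, 0, 0, 0, -2, 0, 0, 0, 0, 0, 0]) (.leaf [246, 12, 86, -65, -128, 47, -53, 1, 16, 14, 0, 0, -14, 6, 1, 0, 2, -1, -3, 1])) (.leaf [1, 0, 1, 0, -1, 0, 0, 0, 0, 0, 0, 0, 0, 0, 0, 0, 0, 0, 0, 0]))) (.node (.node (.node (.leaf []) (.leaf [-2, -4, -5, 1, 2, 3, -1, 0, 0, 0, 0, 0, 0, 0, 0, 0, 0, 0, 0, 0])) (.leaf [])) (.node (.node (.leaf []) (.leaf [0, -3, -4, 0, 0, 4, 0, 0, 0, 0, 0, 0, 0, 0, 0, 0, 0, 0, 0, 0])) (.leaf [])))))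

def fiveL6 : Janko.Tree (List ℤ) :=
  (.node (.node (.node (.node (.node (.leaf []) (.leaf [])) (.leaf [17, -31, 3, 12, -30, 21, 1, -1, 2, 1, 0, 0, -1, -2, 0, 1, 0, 0, 0, 0])) (.node (.node (.leaf [0, -1, -1, 0, 0, 1, 0, 0, 0, 0, 0, 0, 0, 0, 0, 0, 0, 0, 0, 0]) (.leaf [-19, 6, -10, 1, 18, -8, 0, 0, 1, 0, 0, 0, -1, 1, 0, 0, 1, 0, 0, 0])) (.leaf []))) (.node (.node (.node (.leaf [-5, 10, -1, -4, 10, -7, -1, 0, 0, 0, 0, 0, 0, 1, 0, 0, 0, 0, 0, 0]) (.leaf [-251, 18, -99, 39, 159, -52, 54, -3, -25, -19, 0, -1, 19, -5, 0, 0, -3, 1, 3, -1])) (.leaf [])) (.node (.node (.leaf [0, 0, 0, 0, 0, 0, 0, 0, 0, 0, 0, 0, 0, 0, 1, 0, 0, 0, 0, 0]) (.leaf [1, 10, 12, 1, -1, -11, -1, 0, 0, 0, 0, 0, 0, 0, 0, 0, 0, 0, 0, 0])) (.leaf [-12, 23, 1, -4, 19, -19, -3, 0, -1, 0, 0, 0, 0, 0, 0, 0, 0, 0, 0, 0])))) (.node (.node (.node (.node (.leaf []) (.leaf [43, -21, 16, -1, -40, 23, -2, 0, 2, 1,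 1, 0, -1, -1, 0, 0, -1, 0, -1, 0])) (.leaf [-1, -4, -3, 2, 0, 2, -1, 0, 1, 0, 0, 0, 0, 0, 0, 0, 0, 0, 0, 0])) (.node (.node (.leaf []) (.leaf [-169, 47, -9, 56, 93, -100, 20, -3, -2, -4, 0, 0, 5, -3, 0, 0, 1, 1, 3, -1])) (.leaf [-5, 8, -1, -2, 8, -6, -1, 0, 0, 0, 0, 0, 0, 0, 0, 0, 0, 0, 0, 0]))) (.node (.node (.node (.leaf []) (.leaf [0, -4, -4, 0, 0, 4, 0, 0, 0, 0, 0, 0, 0, 0, 0, 0, 0, 0, 0, 0])) (.leaf [-22, 13, -10, -1, 24, -13, -1, -1, -1, -1, 0, 0, 1, 1, 0, 0, 0, 0, 0, 0])) (.node (.node (.leaf [16, -20, 8, 10, -25, 11, -1, -2, 4, 2, 0, 0, -2, -1, 0, 1, 0, 0, 0, 0]) (.leaf [0, 0, 1, 0, 0, 0, 0, 0, 0, 0, 0, 0, 0, 0, 0, 0, 0, 0, 0, 0])) (.leaf [4, -5, -2, 0, -3, 5, -1, 0, 0, 0, 0, 0, 0, 0, 0, 0, 0, 0, 0, 0])))))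

def fiveL7 : Janko.Tree (List ℤ) :=
  (.node (.node (.node (.node (.node (.leaf []) (.leaf [80, -10, 33, -10, -55, 19, -14, 1, 8, 5, 0, -1, -6, 1, 0, 0, 0, 0, -1, 0])) (.leaf [0, 0, 0, 0, 0, 0, 0, 0, 0, 0, 0, 0, 0, 0, 0, 0, 0, 0, 0, 1])) (.node (.node (.leaf []) (.leaf [])) (.leaf []))) (.node (.node (.node (.leaf [-1, 0, -1, 0, 1, 0, 0, 0, 0, 0, 0, 0, 0, 0, 0, 0, 0, 0, 0, 0]) (.leaf [1, 7, 5, -1, 0, -5, 1, 0, 0, 0, 0, -1, 0, 0, 0, 0, 0, 0, 0, 0])) (.leaf [0, -2, 0, 2, -1, 0, -1, 0, 0, 0, 0, 0, 0, 0, 0, 0, 0, 0, 0, 0])) (.node (.node (.leaf [7, -3, 3, -1, -6, 4, 0, 0, -1, 0, 0, 0, 0, 0, 0, -1, 0, 0, 0, 0]) (.leaf [0, 0, 1, 0, 0, 0, 0, 0, 0, 0, 0, 0, 0, 0, 0, 0, 0, 0, 0, 0])) (.leaf [268, 11, 86, -69, -133, 48, -67, 5, 29, 23, 0, 1, -23, 10, 0, 0, 3, -2, -4, 1])))) (.node (.node (.node (.node (.leaf []) (.leaf [16, 50, 21, -20, 15, -31, -11, 0, -4, 0, 0, 0, 1, 1, 0,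 0, 0, 0, 0, -1])) (.leaf [0, -2, -2, 0, 0, 2, 0, 0, 0, 0, 0, 0, 0, 0, 0, 0, 0, 0, 0, 0])) (.node (.node (.leaf []) (.leaf [-170, 72, -47, 14, 138, -87, 18, -1, -9, -7, 0, 0, 7, 2, 0, 0, -1, 0, 2, -1])) (.leaf [0, 0, 1, 0, 0, 0, 0, 0, 0, 0, 0, 0, 0, 0, 0, 0, 0, 0, 0, 0]))) (.node (.node (.node (.leaf [4, -15, -3, 5, -10, 11, 0, 0, 0, 0, 0, 1, 0, -1, 0, 0, 0, 0, 0, 0]) (.leaf [0, 0, 1, 0, 0, 0, 0, 0, 0, 0, 0, 0, 0, 0, 0, 0, 0, 0, 0, 0])) (.leaf [])) (.node (.node (.leaf [-3, 11, 5, -1, 6, -11, -2, 0, 2, 1, 0, 0, -1, 1, 0, 0, 0, 0, 0, 0]) (.leaf [1, 0, 0, 0, 0, 0, 0, 0, 0, 0, 0, 0, 0, 0, 0, 0, 0, 0, 0, 0])) (.leaf [0, 1, 1, 0, 0, -1, 0, 0, 0, 0, 0, 0, 0, 0, 0, 0, 0, 0, 0, 0])))))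

def fiveL8 : Janko.Tree (List ℤ) :=
  (.node (.node (.node (.node (.node (.leaf []) (.leaf [-3, 0, -3, 0, 3, 0, 0, 0, 0, 0, 0, 0, 0, 0, 0, 0, 0, 0, 0, 0])) (.leaf [])) (.node (.node (.leaf [1, 0, 0, 0, 0, 0, -1, 0, 0, 0, 0, 0, 0, 0, 0, 0, 0, 0, 0, 0]) (.leaf [0, 1, 0, 0, 0, 0, 0, 0, 0, 0, 0, 0, 0, 0, 0, 0, 0, 0, 0, 0])) (.leaf [23, 109, 18, -52, 60, -66, -32, 2, 10, 8, -1, 1, -7, 9, 0, 0, 1, -1, -1, 0]))) (.node (.node (.node (.leaf [-5, 9, -2, -4, 10, -6, -1, 0, 0, 0, 0, 0, 0, 1, 0, 0, 0, 0, 0, 0]) (.leaf [24, 281, 127, -52, 118, -256, -89, 4, 53, 36, -1, -1, -34, 27, 0, 1, 6, -3, -1, -1])) (.leaf [])) (.node (.node (.leaf [-1, -1, 0, 1, 0, 0, 0, 0, 0, 0, 0, 0, 0, 0, 0, 0, 0, 0, 0, 0]) (.leaf [292, 35, 90, -95, -137, 59, -60, 1, 12, 16, 0, 1, -14, 1, 0, -1, 5, 0, -3, 1])) (.leaf [-1, 0, -1, 1, 0, 0, 0, 0, 0, 0, 0, 0, 0, 0, 0, 0, -1, 0, 0, 0])))) (.node (.node (.node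 (.node (.leaf []) (.leaf [])) (.leaf [])) (.node (.node (.leaf []) (.leaf [-176, 69, -40, 24, 136, -96, 16, -1, -5, -5, 0, 0, 5, 3, 0, 0, -1, 0, 2, -1])) (.leaf [1, 0, 0, 0, 0, 0, 0, 0, 0, 0, 0, 0, 0, 0, 0, 0, 0, 0, 0, 0]))) (.node (.node (.node (.leaf []) (.leaf [-10, 11, -2, -3, 12, -8, 2, 0, -4, -2, 0, 0, 2, 0, 0, 0, 0, 0, 0, 0])) (.leaf [])) (.node (.node (.leaf [2, 2, 1, -2, 0, 0, 0, 0, 0, 0, 0, 0, 0, 0, 0, 0, 0, 0, 0, 0]) (.leaf [0, 1, 0, 0, 0, 0, 0, 0, 0, 0, 0, 0, 0, 0, 0, 0, 0, 0, 0, 0])) (.leaf [0, 0, 1, 0, 0, 0, 0, 0, 0, 0, 0, 0, 0, 0, 0, 0, 0, 0, 0, 0])))))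

def fiveL9 : Janko.Tree (List ℤ) :=
  (.node (.node (.node (.node (.node (.leaf [4, 0, 4, 0, -4, 0, 0, 0, 0, 0, 0, 0, 0, 0, 0, 0, 0, 0, 0, 0]) (.leaf [-5, 22, 2, -9, 16, -14, -2, 0, 0, 0, 0, 0, 0, 1, 0, 0, 0, 0, 0, 0])) (.leaf [])) (.node (.node (.leaf [0, 3, 3, 0, 0, -3, 0, 0, 0, 0, 0, 0, 0, 0, 0, 0, 0, 0, 0, 0]) (.leaf [16, -10, 6, -2, -18, 14, 4, 2, -3, -1, 0, 0, 1, -2, -1, 0, 0, 0, 0, 0])) (.leaf [0, 0, 0, 0, 0, 0, 0, 0, 0, 0, 0, 0, 1, 0, 0, 0, 0, 0, 0, 0]))) (.node (.node (.node (.leaf []) (.leaf [-14, -69, -13, 28, -40, 50, 26, 0, -16, -9, 0, 0, 9, -9, -1, 0, 0, 2, 1, 0])) (.leaf [])) (.node (.node (.leaf []) (.leaf [3, -11, -5, 4, -6, 8, -1, 0, 2, 1, 0, 0, -1, 0, 0, 0, 0, 0, 0, 0])) (.leaf [5, -8, 2, 2, -8, 6, 1, 0, 0, 0, 0, 0, 0, 0, 0, 0, -1, 0, 0, 0])))) (.node (.node (.node (.node (.leaf []) (.leaf [-112, 95, -27, -14, 124, -86, 1, 0, -5, -3, 0, 1, 4, 5, 0,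 0, -1, 0, 1, -1])) (.leaf [0, 0, -1, 0, 1, 0, -1, 0, 0, 0, 0, 0, 0, 0, 0, 0, 0, 0, 0, 0])) (.node (.node (.leaf [2, -12, -5, 2, -6, 11, 2, 0, -2, -1, 0, 0, 1, -1, 0, 0, 0, 0, 0, 0]) (.leaf [-280, 71, -48, 68, 176, -140, 36, -3, 1, -6, 0, 0, 7, 1, 0, 0, -2, 1, 3, -1])) (.leaf [0, -1, -1, 1, 0, 0, 0, 0, 0, 0, 0, -1, 0, 0, 0, 0, 0, 0, 0, 0]))) (.node (.node (.node (.leaf []) (.leaf [])) (.leaf [23, 108, 20, -51, 58, -66, -32, 2, 10, 8, 0, 2, -7, 9, 0, 0, 2, -1, -1, 0])) (.node (.node (.leaf [5, 4, 4, -3, -2, -1, 1, 0, 1, 1, 0, -1, -1, 0, 0, 0, 0, 0, 0, 0]) (.leaf [0, 0, 1, 0, 0, 0, 0, 0, 0, 0, 0, 0, 0, 0, 0, 0, 0, 0, 0, 0])) (.leaf [3, -1, 4, 0, -5, 2, 3, 0, -3, -1, 0, 0, 1, -1, 0, 0, 0, 0, 0, 0])))))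

def fiveL10 : Janko.Tree (List ℤ) :=
  (.node (.node (.node (.node (.node (.leaf [0, 4, 4, 0, 0, -4, 0, 0, 0, 0, 0, 0, 0, 0, 0, 0, 0, 0, 0, 0]) (.leaf [])) (.leaf [0, 0, 0, 0, 0, 0, 0, 0, 0, 0, 0, 0, 0, 0, 0, 1, 0, 0, 0, 0])) (.node (.node (.leaf []) (.leaf [-4, 0, -4, 0, 4, 0, 0, 0, 0, 0, 0, 0, 0, 0, 0, 0, 0, 0, 0, 0])) (.leaf [-13, -6, 5, 8, -4, -1, 9, 0, 0, -1, 1, 0, 1, -1, 0, 0, -1, 0, 0, 0]))) (.node (.node (.node (.leaf []) (.leaf [-112, -144, -61, 81, -27, 76, 59, -2, -24, -20, 0, -1, 18, -12, 0, 1, -4, 2, 2, 0])) (.leaf [14, -13, 4, 3, -17, 11, 1, 0, 1, 0, 0, -1, -1, -1, 0, 0, 0, 0, 0, 0])) (.node (.node (.leaf []) (.leaf [10, 3, 9, -1, -7, -2, -2, 0, 0, 0, 0, 0, 1, 0, 0, 0, -1, 0, 0, 0])) (.leaf [-7, 67, -8, -32, 59, -43, -20, 0, 8, 5, 0, 0, -5, 8, 1, 0, 0, -2, 0, 0])))) (.node (.node (.node (.node (.leaf []) (.leaf [])) (.leaf [0, 2, 2, 0, 0, -2, 0, 0, 0,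 0, 0, 0, 0, 0, 0, 0, 0, 0, 0, 0])) (.node (.node (.leaf []) (.leaf [-274, 28, -86, 62, 168, -88, 44, -3, -9, -11, 0, 0, 11, -1, 0, 0, -2, 1, 3, -1])) (.leaf [-6, 10, -2, -4, 11, -7, -1, 0, 0, 0, 0, 0, 0, 1, 0, 0, 0, 0, 0, 0]))) (.node (.node (.node (.leaf []) (.leaf [4, 5, 2, -5, 1, 0, 0, 0, -3, -1, 0, 0, 2, 0, 0, 0, -1, 0, 0, 0])) (.leaf [-3, 0, -3, 0, 3, 0, 0, 0, 0, 0, 0, 0, 0, 0, 0, 0, 0, 0, 0, 0])) (.node (.node (.leaf [6, -9, 2, 3, -10, 7, 1, 0, 0, 0, 0, 0, 0, -1, 0, 0, 0, 0, 0, 0]) (.leaf [0, 0, 0, 1, 0, 0, 0, 0, 0, 0, 0, 0, 0, 0, 0, 0, 0, 0, 0, 0])) (.leaf [])))))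

def fiveL11 : Janko.Tree (List ℤ) :=
  (.node (.node (.node (.node (.node (.leaf []) (.leaf [1, 0, 0, 0, 0, 0, 0, -1, 0, 0, 0, 0, 0, 0, 0, 0, 0, 0, 0, 0])) (.leaf [16, -17, 2, 1, -18, 16, 1, 0, 0, 0, 0, 0, 0, 0, 0, 0, 0, 0, 0, 0])) (.node (.node (.leaf [7, 0, 7, 0, -7, 0, 0, 0, 0, 0, 0, 0, 0, 0, 0, 0, 0, 0, 0, 0]) (.leaf [3, 0, -7, -8, 3, 9, 2, 0, -4, -2, 0, 0, 2, -1, 0, 0, 0, 0, 0, 0])) (.leaf [17, -10, 13, 3, -22, 8, 2, 1, 1, 1, 0, 0, -1, -1, 0, 0, 0, 0, 0, 0]))) (.node (.node (.node (.leaf []) (.leaf [-111, -144, -58, 80, -27, 75, 59, -2, -24, -20, 0, -1, 18, -11, 0, 1, -4, 2, 2, 0])) (.leaf [-2, 0, -2, 0, 2, 0, 0, 0, 0, 0, 0, 0, 0, 0, 0, 0, 0, 0, 0, 0])) (.node (.node (.leaf [-27, 49, -3, -17, 46, -35, -1, 1, -1, -1, 0, -1, 1, 3, 0, 0, 0, 0, 0, 0]) (.leaf [0, 0, 0, 0, 0, 0, 1, 0, -1, -1, 0, 0, 0, 0, 0, 0, 0, 0, 0, 0])) (.leaf [-3, -4, 1, 5, -3, 0, 1, 0, 1, 0, 0,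 0, 0, 0, 0, 0, -1, 0, 0, 0])))) (.node (.node (.node (.node (.leaf [-1, 0, -1, 0, 1, 0, 0, 0, 0, 0, 0, 0, 0, 0, 0, 0, 0, 0, 0, 0]) (.leaf [0, 1, 0, 0, 0, 0, 0, 0, 0, 0, 0, 0, 0, 0, 0, 0, 0, 0, 0, 0])) (.leaf [])) (.node (.node (.leaf []) (.leaf [-209, 64, -62, 29, 158, -96, 22, -1, -3, -5, 0, 0, 5, 3, 0, 0, -1, 0, 2, -1])) (.leaf [0, 0, 0, 0, 0, 0, 0, 0, 0, 0, 0, 0, 0, 0, 0, 0, 0, 0, 1, 0]))) (.node (.node (.node (.leaf []) (.leaf [-2, 0, -3, 0, 3, 0, 0, 0, 0, 0, 0, 0, 0, 0, 0, 0, 0, 0, 0, 0])) (.leaf [0, 1, 0, 0, 0, 0, 0, 0, 0, 0, 0, 0, 0, -1, 0, 0, 0, 0, 0, 0])) (.node (.node (.leaf [0, 0, 0, 0, 0, 0, 0, 0, 0, 1, 0, 0, 0, 0, 0, 0, 0, 0, 0, 0]) (.leaf [0, 0, 0, 0, 1, 0, 0, 0, 0, 0, 0, 0, 0, 0, 0, 0, 0, 0, 0, 0])) (.leaf [-12, 9, -4, -2, 13, -7, 1, 0, -3, -1, 0, 0, 2, 0, 0, 0, 0, 0, 0, 0])))))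

def fiveL12 : Janko.Tree (List ℤ) :=
  (.node (.node (.node (.node (.node (.leaf []) (.leaf [6, 19, 16, -3, 1, -17, -4, -1, 2, 1, 0, 0, 0, 1, 0, 0, -1, 0, 0, 0])) (.leaf [-1, -1, 0, 1, 0, 0, 0, 0, 0, 0, 0, 0, 0, 0, 0, 0, 0, 0, 0, 0])) (.node (.node (.leaf [0, 7, 7, 0, 0, -7, 0, 0, 0, 0, 0, 0, 0, 0, 0, 0, 0, 0, 0, 0]) (.leaf [0, 0, 1, 0, 0, 0, 0, 0, 0, 0, 0, 0, 0, 0, 0, 0, 0, 0, 0, 0])) (.leaf [-229, -43, -101, 63, 111, -13, 56, -3, -20, -16, 0, -1, 16, -7, 0, 0, -3, 1, 3, -1]))) (.node (.node (.node (.leaf []) (.leaf [158, -32, 2, -60, -75, 89, -23, 3, 3, 5, 0, 0, -5, 3, 0, 0, 0, -1, -3, 1])) (.leaf [4, 1, 5, 1, -4, -2, -1, 0, 2, 1, 0, 0, -1, 0, 0, 0, 0, 0, 0, 0])) (.node (.node (.leaf []) (.leaf [8, -2, 3, -1, -7, 4, 0, 0, 1, 0, 0, 0, -1, 0, 0, 0, 0, 0, 0, 0])) (.leaf [-1, 2, 3, 1, 0, -3, 0, 0, 0, 0, 0, 0, 0, 0, 0, 0, -1, 0, 0, 0])))) (.node (.node (.node (.node (.leaf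 [0, -1, -1, 0, 0, 1, 0, 0, 0, 0, 0, 0, 0, 0, 0, 0, 0, 0, 0, 0]) (.leaf [-1, -7, -6, 1, 0, 6, -1, 0, 0, 0, 0, 1, 0, 0, 0, 0, 0, 0, 0, 0])) (.leaf [6, 0, 6, 0, -6, 0, 0, 0, 0, 0, 0, 0, 0, 0, 0, 0, 0, 0, 0, 0])) (.node (.node (.leaf [-29, 25, -14, -8, 38, -19, -3, 1, -2, -2, 0, 2, 2, 2, 0, 0, 0, 0, 0, 0]) (.leaf [-230, -88, -73, 105, 69, -14, 57, -1, -11, -14, 0, -1, 12, -3, 0, 1, -5, 0, 3, -1])) (.leaf [26, 14, 94, 60, -53, -81, -34, 0, 34, 19, 0, 1, -19, 7, 0, 0, 2, 0, 1, -1]))) (.node (.node (.node (.leaf [-1, 0, -1, 0, 1, 0, 0, 0, 0, 0, 0, 0, 0, 0, 0, 0, 0, 0, 0, 0]) (.leaf [-9, 16, 3, -3, 13, -14, -1, 0, 0, 0, 0, 0, 0, 1, 0, 0, 0, 0, 0, 0])) (.leaf [])) (.node (.node (.leaf [104, 146, 56, -79, 33, -79, -59, 2, 25, 20, 0, 1, -18, 12, 0, 0, 4, -2, -2, 0]) (.leaf [0, 0, 0, 0, 0, 1, 0, 0, 0, 0, 0, 0, 0, 0, 0, 0, 0, 0, 0, 0])) (.leaf [-1, 0, -2, 0, 2, 0, 0, 0, 0, 0, 0,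 0, 0, 0, 0, 0, 0, 0, 0, 0])))))

def fiveL13 : Janko.Tree (List ℤ) :=
  (.node (.node (.node (.node (.node (.leaf []) (.leaf [-3, 1, -5, 0, 6, -2, -3, -1, 3, 1, 0, 0, -1, 1, 0, 0, 0, 0, 0, 0])) (.leaf [0, 0, 0, 0, 0, 0, 0, 0, 0, 0, 1, 0, 0, 0, 0, 0, 0, 0, 0, 0])) (.node (.node (.leaf []) (.leaf [-13, 5, -8, -1, 13, -4, 2, 0, 0, 0, 0, 0, 0, 0, 0, 0, 0, -1, 0, 0])) (.leaf []))) (.node (.node (.node (.leaf []) (.leaf [-23, -275, -123, 51, -118, 252, 90, -4, -53, -36, 1, 0, 34, -27, 0, -1, -6, 3, 1, 1])) (.leaf [])) (.node (.node (.leaf []) (.leaf [344, 165, 130, -151, -86, -27, -109, 3, 39, 35, 0, 2, -32, 13, 0, -2, 8, -1, -5, 2])) (.leaf [2, 12, 7, -1, 3, -11, -4, 0, 0, 0, 0, 0, 0, 0, 0, 0, 0, 0, 0, 0])))) (.node (.node (.node (.node (.leaf []) (.leaf [-4, 0, -4, 0, 4, 0, 0, 0, 0, 0, 0, 0, 0, 0, 0, 0, 0, 0, 0, 0])) (.leaf [0, 6, 6, 0, 0, -6, 0, 0, 0, 0, 0, 0, 0, 0, 0,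 0, 0, 0, 0, 0])) (.node (.node (.leaf [-2, 0, -2, 0, 2, 0, 0, 0, 0, 0, 0, 0, 0, 0, 0, 0, 0, 0, 0, 0]) (.leaf [0, -2, -3, 0, 0, 3, 0, 0, 0, 0, 0, 0, 0, 0, 0, 0, 0, 0, 0, 0])) (.leaf [72, -198, 9, 73, -173, 139, 28, -4, -4, -5, 1, 0, 4, -14, 0, 0, -2, 2, 1, 0]))) (.node (.node (.node (.leaf [0, -1, -1, 0, 0, 1, 0, 0, 0, 0, 0, 0, 0, 0, 0, 0, 0, 0, 0, 0]) (.leaf [])) (.leaf [0, 0, 0, 0, 0, 0, 1, 0, 0, 0, 0, 0, 0, 0, 0, 0, 0, 0, 0, 0])) (.node (.leaf [32, -41, 11, 14, -48, 30, 3, -1, 2, 2, 0, -1, -2, -3, 0, 0, 0, 0, 0, 0]) (.leaf [-3, 2, 1, 1, 2, -3, 0, 0, 0, 0, 0, 0, 0, 0, 0, 0, 0, 0, 0, 0])))))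

def fiveL14 : Janko.Tree (List ℤ) :=
  (.node (.node (.node (.node (.node (.leaf []) (.leaf [])) (.leaf [])) (.node (.node (.leaf [1, 0, 0, 0, 0, 0, 0, 0, 0, 0, 0, 0, 0, 0, 0, 0, 0, 0, 0, 0]) (.leaf [376, 153, 139, -152, -113, -12, -113, 3, 40, 37, 0, 2, -33, 11, 0, -2, 9, -2, -5, 2])) (.leaf [-45, 169, 1, -64, 136, -117, -26, 3, 7, 7, 0, -1, -6, 12, 0, 0, 3, -2, -1, 0]))) (.node (.node (.node (.leaf []) (.leaf [44, -63, -66, -49, -25, 123, 30, -1, -31, -18, 0, 0, 18, -11, 0, 0, -3, 1, -1, 1])) (.leaf [-10, 14, -1, -3, 14, -12, 0, 0, 0, 0, 0, 0, 0, 1, 0, 0, 0, 0, 0, 0])) (.node (.node (.leaf [9, -16, -4, 0, -11, 16, 2, 0, 0, 0, 0, 0, 0, 0, 0, 0, 0, 0, 0, 0]) (.leaf [-9, -14, -17, 4, 5, 10, 1, 0, 2, 1, 0, 0, -2, 0, 0, 0, 1, 0, 0, 0])) (.leaf [0, 0, -1, 0, 0, 1, 0, 0, 0, 0, 0, 0, 0, 0, 0, 0, 0, 0, 0, 0])))) (.node (.node (.node (.node (.leaf [3, 0, 3, 0, -3, 0, 0, 0,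 0, 0, 0, 0, 0, 0, 0, 0, 0, 0, 0, 0]) (.leaf [0, 0, -1, 0, 0, 1, 0, 0, 0, 0, 0, 0, 0, -1, 0, 0, 0, 0, 0, 0])) (.leaf [0, 0, 1, 0, 0, 0, 0, 0, 0, 0, 0, 0, 0, 0, 0, 0, 0, 0, 0, 0])) (.node (.node (.leaf [-5, 8, -3, -4, 10, -5, -1, 0, 0, 0, 0, 0, 0, 1, 0, 0, 0, 0, 0, 0]) (.leaf [])) (.leaf [278, -57, 67, -63, -178, 120, -37, 3, 5, 9, 0, 0, -9, 0, 0, 0, 2, -1, -3, 1]))) (.node (.node (.node (.leaf [-1, -1, 0, 1, 0, 0, 0, 0, 0, 0, 0, 0, 0, 0, 0, 0, 0, 0, 0, 0]) (.leaf [2, 4, 6, 0, -2, -4, 1, 0, 0, 0, 0, 0, -1, 0, 0, 0, 0, 0, 0, 0])) (.leaf [-2, 2, 3, 1, 0, -3, 1, 1, 0, 0, 0, 0, 0, 0, 0, 0, 0, 0, 0, 0])) (.node (.leaf []) (.leaf [])))))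

def fiveL15 : Janko.Tree (List ℤ) :=
  (.node (.node (.node (.node (.node (.leaf []) (.leaf [])) (.leaf [3, -8, 3, 4, -8, 4, 1, 0, 1, 0, 0, 0, 0, 0, 0, 0, -1, 0, 0, 0])) (.node (.node (.leaf []) (.leaf [8, 9, -4, -10, 6, 1, -4, 0, -3, 0, 0, 0, 1, 0, 0, 0, 1, -1, 0, 0])) (.leaf [0, 0, 0, 0, 0, 0, 0, 0, 0, 0, 0, 0, 0, 0, 0, 0, 0, 1, 0, 0]))) (.node (.node (.node (.leaf [0, 1, 1, 0, 0, -1, 0, 0, 1, 0, 0, 0, 0, 0, 0, 0, 0, 0, 0, 0]) (.leaf [11, 10, 6, -9, -1, -1, -1, 0, -2, -1, 0, 0, 1, 0, 0, 0, 0, 0, 0, 0])) (.leaf [-17, 19, 5, 1, 16, -21, 0, 0, 1, 1, 0, 0, 0, 1, 0, 0, 0, 0, 0, 0])) (.node (.node (.leaf [11, -13, 0, 2, -13, 12, 0, 0, 0, 0, 0, 0, 0, -1, 0, 0, 0, 0, 0, 0]) (.leaf [-1, -19, -13, 4, -6, 17, 3, 0, 0, 0, 0, 0, -1, -1, 0, 0, 1, 0, 0, 0])) (.leaf [])))) (.node (.node (.node (.node (.leaf [0, 3, 3, 0, 0, -3, 0, 0, 0, 0, 0, 0, 0, 0, 0, 0, 0, 0, 0, 0]) (.leaf [0,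 0, 1, 0, 0, 0, 0, 0, 0, 0, 0, 0, 0, 0, 0, 0, 0, 0, 0, 0])) (.leaf [0, -1, -1, 1, 0, 0, 0, 0, 0, 0, 0, 0, 0, 0, 0, 0, 0, 0, 0, 0])) (.node (.node (.leaf []) (.leaf [-15, 4, -4, 3, 11, -7, 1, 0, 0, 0, 0, 0, 0, 0, 0, 0, 0, 0, 0, 0])) (.leaf [5, -8, 0, 2, -8, 7, 1, 0, 0, 0, 0, 0, 0, 0, 0, 0, 0, 0, 0, 0]))) (.node (.node (.node (.leaf []) (.leaf [])) (.leaf [-1, 1, 0, -1, 1, 0, 1, 0, 0, 0, 0, 0, 0, 0, 0, 0, 0, 0, 0, 0])) (.node (.leaf []) (.leaf [0, 1, -1, 0, 1, -1, 0, 0, 1, 0, 0, 0, -1, 0, 0, 0, 0, 0, 0, 0])))))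

/-- a table -/
def fiveL : Janko.Tree (List ℤ) := (.node (.node (.node (.node fiveL0 fiveL8) (.node fiveL4 fiveL12)) (.node (.node fiveL2 fiveL10) (.node fiveL6 fiveL14))) (.node (.node (.node fiveL1 fiveL9) (.node fiveL5 fiveL13)) (.node (.node fiveL3 fiveL11) (.node fiveL7 fiveL15))))

def fiveKind0 : Janko.Tree (ℕ) :=
  (.node (.node (.node (.node (.node (.leaf 0) (.leaf 0)) (.leaf 1)) (.node (.node (.leaf 0) (.leaf 1)) (.leaf 1))) (.node (.node (.node (.leaf 0) (.leaf 1)) (.leaf 0)) (.node (.node (.leaf 0) (.leaf 1)) (.leaf 1)))) (.node (.node (.node (.node (.leaf 0) (.leaf 1)) (.leaf 0)) (.node (.node (.leaf 0) (.leaf 1)) (.leaf 0))) (.node (.node (.node (.leaf 1) (.leaf 1)) (.leaf 1)) (.node (.node (.leaf 1) (.leaf 1)) (.leaf 1)))))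

def fiveKind1 : Janko.Tree (ℕ) :=
  (.node (.node (.node (.node (.node (.leaf 0) (.leaf 1)) (.leaf 1)) (.node (.node (.leaf 0) (.leaf 1)) (.leaf 1))) (.node (.node (.node (.leaf 0) (.leaf 1)) (.leaf 1)) (.node (.node (.leaf 1) (.leaf 1)) (.leaf 1)))) (.node (.node (.node (.node (.leaf 0) (.leaf 2)) (.leaf 1)) (.node (.node (.leaf 0) (.leaf 1)) (.leaf 1))) (.node (.node (.node (.leaf 2) (.leaf 0)) (.leaf 0)) (.node (.node (.leaf 1) (.leaf 1)) (.leaf 1)))))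

def fiveKind2 : Janko.Tree (ℕ) :=
  (.node (.node (.node (.node (.node (.leaf 0) (.leaf 1)) (.leaf 2)) (.node (.node (.leaf 0) (.leaf 0)) (.leaf 1))) (.node (.node (.node (.leaf 0) (.leaf 1)) (.leaf 1)) (.node (.node (.leaf 0) (.leaf 1)) (.leaf 1)))) (.node (.node (.node (.node (.leaf 1) (.leaf 1)) (.leaf 0)) (.node (.node (.leaf 0) (.leaf 1)) (.leaf 0))) (.node (.node (.node (.leaf 0) (.leaf 1)) (.leaf 0)) (.node (.node (.leaf 1) (.leaf 1)) (.leaf 0)))))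

def fiveKind3 : Janko.Tree (ℕ) :=
  (.node (.node (.node (.node (.node (.leaf 0) (.leaf 0)) (.leaf 1)) (.node (.node (.leaf 0) (.leaf 1)) (.leaf 1))) (.node (.node (.node (.leaf 0) (.leaf 1)) (.leaf 1)) (.node (.node (.leaf 0) (.leaf 1)) (.leaf 1)))) (.node (.node (.node (.node (.leaf 1) (.leaf 1)) (.leaf 1)) (.node (.node (.leaf 1) (.leaf 1)) (.leaf 1))) (.node (.node (.node (.leaf 1) (.leaf 1)) (.leaf 1)) (.node (.node (.leaf 1) (.leaf 1)) (.leaf 1)))))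

def fiveKind4 : Janko.Tree (ℕ) :=
  (.node (.node (.node (.node (.node (.leaf 0) (.leaf 1)) (.leaf 2)) (.node (.node (.leaf 0) (.leaf 1)) (.leaf 1))) (.node (.node (.node (.leaf 0) (.leaf 2)) (.leaf 0)) (.node (.node (.leaf 0) (.leaf 1)) (.leaf 1)))) (.node (.node (.node (.node (.leaf 0) (.leaf 1)) (.leaf 1)) (.node (.node (.leaf 1) (.leaf 1)) (.leaf 1))) (.node (.node (.node (.leaf 1) (.leaf 0)) (.leaf 0)) (.node (.node (.leaf 0) (.leaf 1)) (.leaf 1)))))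

def fiveKind5 : Janko.Tree (ℕ) :=
  (.node (.node (.node (.node (.node (.leaf 0) (.leaf 0)) (.leaf 1)) (.node (.node (.leaf 1) (.leaf 0)) (.leaf 1))) (.node (.node (.node (.leaf 0) (.leaf 1)) (.leaf 1)) (.node (.node (.leaf 1) (.leaf 1)) (.leaf 1)))) (.node (.node (.node (.node (.leaf 0) (.leaf 0)) (.leaf 0)) (.node (.node (.leaf 1) (.leaf 1)) (.leaf 1))) (.node (.node (.node (.leaf 0) (.leaf 1)) (.leaf 0)) (.node (.node (.leaf 0) (.leaf 1)) (.leaf 0)))))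

def fiveKind6 : Janko.Tree (ℕ) :=
  (.node (.node (.node (.node (.node (.leaf 0) (.leaf 0)) (.leaf 1)) (.node (.node (.leaf 1) (.leaf 1)) (.leaf 0))) (.node (.node (.node (.leaf 1) (.leaf 1)) (.leaf 0)) (.node (.node (.leaf 2) (.leaf 1)) (.leaf 1)))) (.node (.node (.node (.node (.leaf 0) (.leaf 1)) (.leaf 1)) (.node (.node (.leaf 0) (.leaf 1)) (.leaf 1))) (.node (.node (.node (.leaf 0) (.leaf 1)) (.leaf 1)) (.node (.node (.leaf 1) (.leaf 1)) (.leaf 1)))))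

def fiveKind7 : Janko.Tree (ℕ) :=
  (.node (.node (.node (.node (.node (.leaf 0) (.leaf 1)) (.leaf 2)) (.node (.node (.leaf 0) (.leaf 0)) (.leaf 0))) (.node (.node (.node (.leaf 1) (.leaf 1)) (.leaf 1)) (.node (.node (.leaf 1) (.leaf 1)) (.leaf 1)))) (.node (.node (.node (.node (.leaf 0) (.leaf 1)) (.leaf 1)) (.node (.node (.leaf 0) (.leaf 1)) (.leaf 1))) (.node (.node (.node (.leaf 1) (.leaf 1)) (.leaf 0)) (.node (.node (.leaf 1) (.leaf 2)) (.leaf 1)))))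

def fiveKind8 : Janko.Tree (ℕ) :=
  (.node (.node (.node (.node (.node (.leaf 0) (.leaf 1)) (.leaf 0)) (.node (.node (.leaf 1) (.leaf 1)) (.leaf 1))) (.node (.node (.node (.leaf 1) (.leaf 1)) (.leaf 0)) (.node (.node (.leaf 1) (.leaf 1)) (.leaf 1)))) (.node (.node (.node (.node (.leaf 0) (.leaf 0)) (.leaf 0)) (.node (.node (.leaf 0) (.leaf 1)) (.leaf 1))) (.node (.node (.node (.leaf 0) (.leaf 1)) (.leaf 0)) (.node (.node (.leaf 1) (.leaf 2)) (.leaf 1)))))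

def fiveKind9 : Janko.Tree (ℕ) :=
  (.node (.node (.node (.node (.node (.leaf 1) (.leaf 1)) (.leaf 0)) (.node (.node (.leaf 1) (.leaf 1)) (.leaf 2))) (.node (.node (.node (.leaf 0) (.leaf 1)) (.leaf 0)) (.node (.node (.leaf 0) (.leaf 1)) (.leaf 1)))) (.node (.node (.node (.node (.leaf 0) (.leaf 1)) (.leaf 1)) (.node (.node (.leaf 1) (.leaf 1)) (.leaf 1))) (.node (.node (.node (.leaf 0) (.leaf 0)) (.leaf 1)) (.node (.node (.leaf 1) (.leaf 2)) (.leaf 1)))))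

def fiveKind10 : Janko.Tree (ℕ) :=
  (.node (.node (.node (.node (.node (.leaf 1) (.leaf 0)) (.leaf 2)) (.node (.node (.leaf 0) (.leaf 1)) (.leaf 1))) (.node (.node (.node (.leaf 0) (.leaf 1)) (.leaf 1)) (.node (.node (.leaf 0) (.leaf 1)) (.leaf 1)))) (.node (.node (.node (.node (.leaf 0) (.leaf 0)) (.leaf 1)) (.node (.node (.leaf 0) (.leaf 1)) (.leaf 1))) (.node (.node (.node (.leaf 0) (.leaf 1)) (.leaf 1)) (.node (.node (.leaf 1) (.leaf 2)) (.leaf 0)))))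

def fiveKind11 : Janko.Tree (ℕ) :=
  (.node (.node (.node (.node (.node (.leaf 0) (.leaf 1)) (.leaf 1)) (.node (.node (.leaf 1) (.leaf 1)) (.leaf 1))) (.node (.node (.node (.leaf 0) (.leaf 1)) (.leaf 1)) (.node (.node (.leaf 1) (.leaf 1)) (.leaf 1)))) (.node (.node (.node (.node (.leaf 1) (.leaf 1)) (.leaf 0)) (.node (.node (.leaf 0) (.leaf 1)) (.leaf 2))) (.node (.node (.node (.leaf 0) (.leaf 1)) (.leaf 1)) (.node (.node (.leaf 2) (.leaf 2)) (.leaf 1)))))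

def fiveKind12 : Janko.Tree (ℕ) :=
  (.node (.node (.node (.node (.node (.leaf 0) (.leaf 1)) (.leaf 1)) (.node (.node (.leaf 1) (.leaf 1)) (.leaf 1))) (.node (.node (.node (.leaf 0) (.leaf 1)) (.leaf 1)) (.node (.node (.leaf 0) (.leaf 1)) (.leaf 1)))) (.node (.node (.node (.node (.leaf 1) (.leaf 1)) (.leaf 1)) (.node (.node (.leaf 1) (.leaf 1)) (.leaf 1))) (.node (.node (.node (.leaf 1) (.leaf 1)) (.leaf 0)) (.node (.node (.leaf 1) (.leaf 2)) (.leaf 1)))))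

def fiveKind13 : Janko.Tree (ℕ) :=
  (.node (.node (.node (.node (.node (.leaf 0) (.leaf 1)) (.leaf 2)) (.node (.node (.leaf 0) (.leaf 1)) (.leaf 0))) (.node (.node (.node (.leaf 0) (.leaf 1)) (.leaf 0)) (.node (.node (.leaf 0) (.leaf 1)) (.leaf 1)))) (.node (.node (.node (.node (.leaf 0) (.leaf 1)) (.leaf 1)) (.node (.node (.leaf 1) (.leaf 1)) (.leaf 1))) (.node (.node (.node (.leaf 1) (.leaf 0)) (.leaf 2)) (.node (.leaf 1) (.leaf 1)))))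

def fiveKind14 : Janko.Tree (ℕ) :=
  (.node (.node (.node (.node (.node (.leaf 0) (.leaf 0)) (.leaf 0)) (.node (.node (.leaf 1) (.leaf 1)) (.leaf 1))) (.node (.node (.node (.leaf 0) (.leaf 1)) (.leaf 1)) (.node (.node (.leaf 1) (.leaf 1)) (.leaf 1)))) (.node (.node (.node (.node (.leaf 1) (.leaf 1)) (.leaf 1)) (.node (.node (.leaf 1) (.leaf 0)) (.leaf 1))) (.node (.node (.node (.leaf 1) (.leaf 1)) (.leaf 1)) (.node (.leaf 0) (.leaf 0)))))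

def fiveKind15 : Janko.Tree (ℕ) :=
  (.node (.node (.node (.node (.node (.leaf 0) (.leaf 0)) (.leaf 1)) (.node (.node (.leaf 0) (.leaf 1)) (.leaf 2))) (.node (.node (.node (.leaf 1) (.leaf 1)) (.leaf 1)) (.node (.node (.leaf 1) (.leaf 1)) (.leaf 0)))) (.node (.node (.node (.node (.leaf 1) (.leaf 1)) (.leaf 1)) (.node (.node (.leaf 0) (.leaf 1)) (.leaf 1))) (.node (.node (.node (.leaf 0) (.leaf 0)) (.leaf 1)) (.node (.leaf 0) (.leaf 1)))))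

/-- a table -/
def fiveKind : Janko.Tree (ℕ) := (.node (.node (.node (.node fiveKind0 fiveKind8) (.node fiveKind4 fiveKind12)) (.node (.node fiveKind2 fiveKind10) (.node fiveKind6 fiveKind14))) (.node (.node (.node fiveKind1 fiveKind9) (.node fiveKind5 fiveKind13)) (.node (.node fiveKind3 fiveKind11) (.node fiveKind7 fiveKind15))))

def fiveRank0 : Janko.Tree (ℕ) :=
  (.node (.node (.node (.node (.node (.leaf 0) (.leaf 0)) (.leaf 166)) (.node (.node (.leaf 0) (.leaf 179)) (.leaf 109))) (.node (.node (.node (.leaf 0) (.leaf 87)) (.leaf 0)) (.node (.node (.leaf 0) (.leaf 59)) (.leaf 156)))) (.node (.node (.node (.node (.leaf 0) (.leaf 192)) (.leaf 0)) (.node (.node (.leaf 0) (.leaf 228)) (.leaf 0))) (.node (.node (.node (.leaf 107) (.leaf 48)) (.leaf 113)) (.node (.node (.leaf 82) (.leaf 183)) (.leaf 163)))))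

def fiveRank1 : Janko.Tree (ℕ) :=
  (.node (.node (.node (.node (.node (.leaf 0) (.leaf 95)) (.leaf 91)) (.node (.node (.leaf 0) (.leaf 84)) (.leaf 133))) (.node (.node (.node (.leaf 0) (.leaf 200)) (.leaf 114)) (.node (.node (.leaf 141) (.leaf 10)) (.leaf 221)))) (.node (.node (.node (.node (.leaf 0) (.leaf 0)) (.leaf 7)) (.node (.node (.leaf 0) (.leaf 120)) (.leaf 212))) (.node (.node (.node (.leaf 0) (.leaf 0)) (.leaf 0)) (.node (.node (.leaf 20) (.leaf 222)) (.leaf 49)))))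

def fiveRank2 : Janko.Tree (ℕ) :=
  (.node (.node (.node (.node (.node (.leaf 0) (.leaf 85)) (.leaf 0)) (.node (.node (.leaf 0) (.leaf 0)) (.leaf 117))) (.node (.node (.node (.leaf 0) (.leaf 186)) (.leaf 21)) (.node (.node (.leaf 0) (.leaf 190)) (.leaf 80)))) (.node (.node (.node (.node (.leaf 25) (.leaf 174)) (.leaf 0)) (.node (.node (.leaf 0) (.leaf 196)) (.leaf 0))) (.node (.node (.node (.leaf 0) (.leaf 169)) (.leaf 0)) (.node (.node (.leaf 31) (.leaf 226)) (.leaf 0)))))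

def fiveRank3 : Janko.Tree (ℕ) :=
  (.node (.node (.node (.node (.node (.leaf 0) (.leaf 0)) (.leaf 75)) (.node (.node (.leaf 0) (.leaf 172)) (.leaf 134))) (.node (.node (.node (.leaf 0) (.leaf 223)) (.leaf 123)) (.node (.node (.leaf 0) (.leaf 3)) (.leaf 161)))) (.node (.node (.node (.node (.leaf 63) (.leaf 94)) (.leaf 167)) (.node (.node (.leaf 119) (.leaf 184)) (.leaf 6))) (.node (.node (.node (.leaf 32) (.leaf 54)) (.leaf 135)) (.node (.node (.leaf 67) (.leaf 224)) (.leaf 86)))))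

def fiveRank4 : Janko.Tree (ℕ) :=
  (.node (.node (.node (.node (.node (.leaf 0) (.leaf 89)) (.leaf 0)) (.node (.node (.leaf 0) (.leaf 185)) (.leaf 197))) (.node (.node (.node (.leaf 0) (.leaf 0)) (.leaf 0)) (.node (.node (.leaf 0) (.leaf 126)) (.leaf 209)))) (.node (.node (.node (.node (.leaf 0) (.leaf 176)) (.leaf 43)) (.node (.node (.leaf 22) (.leaf 139)) (.leaf 81))) (.node (.node (.node (.leaf 83) (.leaf 0)) (.leaf 0)) (.node (.node (.leaf 0) (.leaf 189)) (.leaf 55)))))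

def fiveRank5 : Janko.Tree (ℕ) :=
  (.node (.node (.node (.node (.node (.leaf 0) (.leaf 0)) (.leaf 188)) (.node (.node (.leaf 79) (.leaf 0)) (.leaf 138))) (.node (.node (.node (.leaf 0) (.leaf 217)) (.leaf 103)) (.node (.node (.leaf 136) (.leaf 38)) (.leaf 158)))) (.node (.node (.node (.node (.leaf 0) (.leaf 0)) (.leaf 0)) (.node (.node (.leaf 118) (.leaf 202)) (.leaf 40))) (.node (.node (.node (.leaf 0) (.leaf 92)) (.leaf 0)) (.node (.node (.leaf 0) (.leaf 58)) (.leaf 0)))))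

def fiveRank6 : Janko.Tree (ℕ) :=
  (.node (.node (.node (.node (.node (.leaf 0) (.leaf 0)) (.leaf 144)) (.node (.node (.leaf 44) (.leaf 178)) (.leaf 0))) (.node (.node (.node (.leaf 99) (.leaf 208)) (.leaf 0)) (.node (.node (.leaf 0) (.leaf 69)) (.leaf 162)))) (.node (.node (.node (.node (.leaf 0) (.leaf 187)) (.leaf 76)) (.node (.node (.leaf 0) (.leaf 231)) (.leaf 66))) (.node (.node (.node (.leaf 0) (.leaf 61)) (.leaf 130)) (.node (.node (.leaf 143) (.leaf 8)) (.leaf 110)))))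

def fiveRank7 : Janko.Tree (ℕ) :=
  (.node (.node (.node (.node (.node (.leaf 0) (.leaf 194)) (.leaf 0)) (.node (.node (.leaf 0) (.leaf 0)) (.leaf 0))) (.node (.node (.node (.leaf 23) (.leaf 147)) (.leaf 72)) (.node (.node (.leaf 152) (.leaf 9)) (.leaf 229)))) (.node (.node (.node (.node (.leaf 0) (.leaf 191)) (.leaf 50)) (.node (.node (.leaf 0) (.leaf 195)) (.leaf 15))) (.node (.node (.node (.leaf 146) (.leaf 12)) (.leaf 0)) (.node (.node (.leaf 115) (.leaf 0)) (.leaf 60)))))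

def fiveRank8 : Janko.Tree (ℕ) :=
  (.node (.node (.node (.node (.node (.leaf 0) (.leaf 34)) (.leaf 0)) (.node (.node (.leaf 70) (.leaf 4)) (.leaf 213))) (.node (.node (.node (.leaf 98) (.leaf 237)) (.leaf 0)) (.node (.node (.leaf 18) (.leaf 220)) (.leaf 155)))) (.node (.node (.node (.node (.leaf 0) (.leaf 0)) (.leaf 0)) (.node (.node (.leaf 0) (.leaf 198)) (.leaf 1))) (.node (.node (.node (.leaf 0) (.leaf 153)) (.leaf 0)) (.node (.node (.leaf 102) (.leaf 0)) (.leaf 14)))))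

def fiveRank9 : Janko.Tree (ℕ) :=
  (.node (.node (.node (.node (.node (.leaf 27) (.leaf 122)) (.leaf 0)) (.node (.node (.leaf 52) (.leaf 140)) (.leaf 0))) (.node (.node (.node (.leaf 0) (.leaf 203)) (.leaf 0)) (.node (.node (.leaf 0) (.leaf 106)) (.leaf 154)))) (.node (.node (.node (.node (.leaf 0) (.leaf 193)) (.leaf 64)) (.node (.node (.leaf 116) (.leaf 207)) (.leaf 90))) (.node (.node (.node (.leaf 0) (.leaf 0)) (.leaf 211)) (.node (.node (.leaf 151) (.leaf 0)) (.leaf 132)))))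

def fiveRank10 : Janko.Tree (ℕ) :=
  (.node (.node (.node (.node (.node (.leaf 47) (.leaf 0)) (.leaf 0)) (.node (.node (.leaf 0) (.leaf 39)) (.leaf 173))) (.node (.node (.node (.leaf 0) (.leaf 216)) (.leaf 131)) (.node (.node (.leaf 0) (.leaf 181)) (.leaf 204)))) (.node (.node (.node (.node (.leaf 0) (.leaf 0)) (.leaf 51)) (.node (.node (.leaf 0) (.leaf 201)) (.leaf 104))) (.node (.node (.node (.leaf 0) (.leaf 177)) (.leaf 35)) (.node (.node (.leaf 97) (.leaf 0)) (.leaf 0)))))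

def fiveRank11 : Janko.Tree (ℕ) :=
  (.node (.node (.node (.node (.node (.leaf 0) (.leaf 73)) (.leaf 159)) (.node (.node (.leaf 37) (.leaf 121)) (.leaf 129))) (.node (.node (.node (.leaf 0) (.leaf 219)) (.leaf 29)) (.node (.node (.leaf 145) (.leaf 88)) (.leaf 160)))) (.node (.node (.node (.node (.leaf 24) (.leaf 5)) (.leaf 0)) (.node (.node (.leaf 0) (.leaf 199)) (.leaf 0))) (.node (.node (.node (.leaf 0) (.leaf 33)) (.leaf 108)) (.node (.node (.leaf 0) (.leaf 0)) (.leaf 128)))))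

def fiveRank12 : Janko.Tree (ℕ) :=
  (.node (.node (.node (.node (.node (.leaf 0) (.leaf 182)) (.leaf 68)) (.node (.node (.leaf 57) (.leaf 11)) (.leaf 210))) (.node (.node (.node (.leaf 0) (.leaf 232)) (.leaf 142)) (.node (.node (.leaf 0) (.leaf 125)) (.leaf 157)))) (.node (.node (.node (.node (.leaf 45) (.leaf 148)) (.leaf 36)) (.node (.node (.leaf 150) (.leaf 233)) (.leaf 235))) (.node (.node (.node (.leaf 101) (.leaf 105)) (.leaf 0)) (.node (.node (.leaf 218) (.leaf 0)) (.leaf 28)))))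

def fiveRank13 : Janko.Tree (ℕ) :=
  (.node (.node (.node (.node (.node (.leaf 0) (.leaf 127)) (.leaf 0)) (.node (.node (.leaf 0) (.leaf 171)) (.leaf 0))) (.node (.node (.node (.leaf 0) (.leaf 236)) (.leaf 0)) (.node (.node (.leaf 0) (.leaf 227)) (.leaf 175)))) (.node (.node (.node (.node (.leaf 0) (.leaf 41)) (.leaf 56)) (.node (.node (.leaf 30) (.leaf 53)) (.leaf 214))) (.node (.node (.node (.leaf 78) (.leaf 0)) (.leaf 0)) (.node (.leaf 137) (.leaf 62)))))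

def fiveRank14 : Janko.Tree (ℕ) :=
  (.node (.node (.node (.node (.node (.leaf 0) (.leaf 0)) (.leaf 0)) (.node (.node (.leaf 2) (.leaf 225)) (.leaf 215))) (.node (.node (.node (.leaf 0) (.leaf 234)) (.leaf 111)) (.node (.node (.leaf 165) (.leaf 205)) (.leaf 42)))) (.node (.node (.node (.node (.leaf 26) (.leaf 100)) (.leaf 16)) (.node (.node (.leaf 149) (.leaf 0)) (.leaf 206))) (.node (.node (.node (.leaf 19) (.leaf 96)) (.leaf 74)) (.node (.leaf 0) (.leaf 0)))))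

def fiveRank15 : Janko.Tree (ℕ) :=
  (.node (.node (.node (.node (.node (.leaf 0) (.leaf 0)) (.leaf 164)) (.node (.node (.leaf 0) (.leaf 170)) (.leaf 0))) (.node (.node (.node (.leaf 77) (.leaf 230)) (.leaf 124)) (.node (.node (.leaf 112) (.leaf 180)) (.leaf 0)))) (.node (.node (.node (.node (.leaf 46) (.leaf 13)) (.leaf 17)) (.node (.node (.leaf 0) (.leaf 168)) (.leaf 65))) (.node (.node (.node (.leaf 0) (.leaf 0)) (.leaf 71)) (.node (.leaf 0) (.leaf 93)))))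

/-- a table -/
def fiveRank : Janko.Tree (ℕ) := (.node (.node (.node (.node fiveRank0 fiveRank8) (.node fiveRank4 fiveRank12)) (.node (.node fiveRank2 fiveRank10) (.node fiveRank6 fiveRank14))) (.node (.node (.node fiveRank1 fiveRank9) (.node fiveRank5 fiveRank13)) (.node (.node fiveRank3 fiveRank11) (.node fiveRank7 fiveRank15))))

def fiveVia0 : Janko.Tree (ℕ × ℕ) :=
  (.node (.node (.node (.node (.node (.leaf (0, 0)) (.leaf (0, 0))) (.leaf (5, 46))) (.node (.node (.leaf (0, 0)) (.leaf (5, 86))) (.leaf (3, 51)))) (.node (.node (.node (.leaf (0, 0)) (.leaf (0, 107))) (.leaf (0, 0))) (.node (.node (.leaf (0, 0)) (.leaf (5, 102))) (.leaf (5, 74))))) (.node (.node (.node (.node (.leaf (0, 0)) (.leaf (4, 90))) (.leaf (0, 0))) (.node (.node (.leaf (0, 0)) (.leaf (4, 115))) (.leaf (0, 0)))) (.node (.node (.node (.leaf (4, 5)) (.leaf (5, 79))) (.leaf (4, 58))) (.node (.node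 (.leaf (5, 16)) (.leaf (5, 122))) (.leaf (3, 50))))))

def fiveVia1 : Janko.Tree (ℕ × ℕ) :=
  (.node (.node (.node (.node (.node (.leaf (0, 0)) (.leaf (4, 85))) (.leaf (0, 91))) (.node (.node (.leaf (0, 0)) (.leaf (3, 86))) (.leaf (3, 64)))) (.node (.node (.node (.leaf (0, 0)) (.leaf (5, 115))) (.leaf (5, 105))) (.node (.node (.leaf (3, 13)) (.leaf (2, 117))) (.leaf (3, 45))))) (.node (.node (.node (.node (.leaf (0, 0)) (.leaf (11, 0))) (.leaf (1, 48))) (.node (.node (.leaf (0, 0)) (.leaf (3, 62))) (.leaf (3, 15)))) (.node (.node (.node (.leaf (8, 0)) (.leaf (0, 0))) (.leaf (0, 0))) (.node (.node (.leaf (2, 37)) (.leaf (4, 97))) (.leaf (5, 49))))))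

def fiveVia2 : Janko.Tree (ℕ × ℕ) :=
  (.node (.node (.node (.node (.node (.leaf (0, 0)) (.leaf (0, 86))) (.leaf (16, 0))) (.node (.node (.leaf (0, 0)) (.leaf (0, 0))) (.leaf (4, 40)))) (.node (.node (.node (.leaf (0, 0)) (.leaf (4, 96))) (.leaf (4, 26))) (.node (.node (.leaf (0, 0)) (.leaf (3, 104))) (.leaf (3, 3))))) (.node (.node (.node (.node (.leaf (4, 1)) (.leaf (3, 91))) (.leaf (0, 0))) (.node (.node (.leaf (0, 0)) (.leaf (5, 112))) (.leaf (0, 0)))) (.node (.node (.node (.leaf (0, 0)) (.leaf (3, 81))) (.leaf (0, 0))) (.node (.node (.leaf (4, 17)) (.leaf (5, 91))) (.leaf (0, 0))))))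

def fiveVia3 : Janko.Tree (ℕ × ℕ) :=
  (.node (.node (.node (.node (.node (.leaf (0, 0)) (.leaf (0, 0))) (.leaf (5, 5))) (.node (.node (.leaf (0, 0)) (.leaf (4, 107))) (.leaf (4, 83)))) (.node (.node (.node (.leaf (0, 0)) (.leaf (4, 124))) (.leaf (5, 26))) (.node (.node (.leaf (0, 0)) (.leaf (1, 118))) (.leaf (5, 75))))) (.node (.node (.node (.node (.leaf (5, 1)) (.leaf (4, 91))) (.leaf (4, 22))) (.node (.node (.leaf (4, 18)) (.leaf (3, 92))) (.leaf (1, 70)))) (.node (.node (.node (.leaf (0, 84)) (.leaf (5, 80))) (.leaf (4, 59))) (.node (.node (.leaf (1, 74)) (.leaf (4, 123))) (.leaf (4, 50))))))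

def fiveVia4 : Janko.Tree (ℕ × ℕ) :=
  (.node (.node (.node (.node (.node (.leaf (0, 0)) (.leaf (4, 86))) (.leaf (7, 0))) (.node (.node (.leaf (0, 0)) (.leaf (3, 89))) (.leaf (5, 110)))) (.node (.node (.node (.leaf (0, 0)) (.leaf (13, 0))) (.leaf (0, 0))) (.node (.node (.leaf (0, 0)) (.leaf (5, 118))) (.leaf (3, 68))))) (.node (.node (.node (.node (.leaf (0, 0)) (.leaf (4, 117))) (.leaf (5, 22))) (.node (.node (.leaf (4, 11)) (.leaf (5, 32))) (.leaf (5, 70)))) (.node (.node (.node (.leaf (5, 6)) (.leaf (0, 0))) (.leaf (0, 0))) (.node (.node (.leaf (0, 0)) (.leaf (3, 117))) (.leaf (5, 50))))))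

def fiveVia5 : Janko.Tree (ℕ × ℕ) :=
  (.node (.node (.node (.node (.node (.leaf (0, 0)) (.leaf (0, 0))) (.leaf (3, 44))) (.node (.node (.leaf (4, 8)) (.leaf (0, 0))) (.leaf (4, 41)))) (.node (.node (.node (.leaf (0, 0)) (.leaf (5, 97))) (.leaf (4, 20))) (.node (.node (.leaf (4, 33)) (.leaf (4, 105))) (.leaf (5, 45))))) (.node (.node (.node (.node (.leaf (0, 0)) (.leaf (0, 0))) (.leaf (0, 0))) (.node (.node (.leaf (5, 11)) (.leaf (5, 113))) (.leaf (4, 95)))) (.node (.node (.node (.leaf (0, 0)) (.leaf (4, 81))) (.leaf (0, 0))) (.node (.node (.leaf (0, 0)) (.leaf (5, 116))) (.leaf (0, 0))))))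

def fiveVia6 : Janko.Tree (ℕ × ℕ) :=
  (.node (.node (.node (.node (.node (.leaf (0, 0)) (.leaf (0, 0))) (.leaf (4, 44))) (.node (.node (.leaf (5, 8)) (.leaf (3, 56))) (.leaf (0, 0)))) (.node (.node (.node (.leaf (2, 40)) (.leaf (4, 94))) (.leaf (0, 0))) (.node (.node (.leaf (14, 0)) (.leaf (3, 119))) (.leaf (5, 76))))) (.node (.node (.node (.node (.leaf (0, 0)) (.leaf (4, 92))) (.leaf (3, 24))) (.node (.node (.leaf (0, 0)) (.leaf (4, 112))) (.leaf (5, 38)))) (.node (.node (.node (.leaf (0, 0)) (.leaf (5, 124))) (.leaf (3, 12))) (.node (.node (.leaf (5, 29)) (.leaf (2, 124))) (.leaf (4, 51))))))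

def fiveVia7 : Janko.Tree (ℕ × ℕ) :=
  (.node (.node (.node (.node (.node (.leaf (0, 0)) (.leaf (5, 60))) (.leaf (19, 0))) (.node (.node (.leaf (0, 0)) (.leaf (0, 0))) (.leaf (0, 0)))) (.node (.node (.node (.leaf (4, 4)) (.leaf (3, 6))) (.leaf (3, 11))) (.node (.node (.leaf (5, 14)) (.leaf (2, 119))) (.leaf (3, 101))))) (.node (.node (.node (.node (.leaf (0, 0)) (.leaf (4, 106))) (.leaf (5, 23))) (.node (.node (.leaf (0, 0)) (.leaf (5, 65))) (.leaf (2, 71)))) (.node (.node (.node (.leaf (5, 12)) (.leaf (2, 103))) (.leaf (0, 0))) (.node (.node (.leaf (4, 39)) (.leaf (0, 0))) (.leaf (5, 103))))))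

def fiveVia8 : Janko.Tree (ℕ × ℕ) :=
  (.node (.node (.node (.node (.node (.leaf (0, 0)) (.leaf (4, 57))) (.leaf (0, 0))) (.node (.node (.leaf (0, 63)) (.leaf (1, 109))) (.leaf (3, 43)))) (.node (.node (.node (.leaf (5, 4)) (.leaf (5, 98))) (.leaf (0, 0))) (.node (.node (.leaf (3, 1)) (.leaf (4, 99))) (.leaf (5, 71))))) (.node (.node (.node (.node (.leaf (0, 0)) (.leaf (0, 0))) (.leaf (0, 0))) (.node (.node (.leaf (0, 0)) (.leaf (5, 114))) (.leaf (0, 72)))) (.node (.node (.node (.leaf (0, 0)) (.leaf (3, 83))) (.leaf (0, 0))) (.node (.node (.leaf (4, 55)) (.leaf (1, 0))) (.leaf (2, 82))))))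

def fiveVia9 : Janko.Tree (ℕ × ℕ) :=
  (.node (.node (.node (.node (.node (.leaf (0, 54)) (.leaf (1, 112))) (.leaf (0, 0))) (.node (.node (.leaf (1, 101)) (.leaf (5, 109))) (.leaf (12, 0)))) (.node (.node (.node (.leaf (0, 0)) (.leaf (3, 69))) (.leaf (0, 0))) (.node (.node (.leaf (0, 0)) (.leaf (3, 27))) (.leaf (5, 77))))) (.node (.node (.node (.node (.leaf (0, 0)) (.leaf (5, 56))) (.leaf (4, 24))) (.node (.node (.leaf (3, 4)) (.leaf (4, 122))) (.leaf (3, 72)))) (.node (.node (.node (.leaf (0, 0)) (.leaf (0, 0))) (.leaf (4, 61))) (.node (.node (.leaf (5, 18)) (.leaf (2, 0))) (.leaf (4, 89))))))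

def fiveVia10 : Janko.Tree (ℕ × ℕ) :=
  (.node (.node (.node (.node (.node (.leaf (1, 79)) (.leaf (0, 0))) (.leaf (15, 0))) (.node (.node (.leaf (0, 0)) (.leaf (4, 88))) (.leaf (3, 67)))) (.node (.node (.node (.leaf (0, 0)) (.leaf (5, 41))) (.leaf (4, 56))) (.node (.node (.leaf (0, 0)) (.leaf (5, 120))) (.leaf (3, 120))))) (.node (.node (.node (.node (.leaf (0, 0)) (.leaf (0, 0))) (.leaf (5, 24))) (.node (.node (.leaf (0, 0)) (.leaf (5, 67))) (.leaf (4, 72)))) (.node (.node (.node (.leaf (0, 0)) (.leaf (4, 104))) (.leaf (4, 31))) (.node (.node (.leaf (3, 38)) (.leaf (3, 0))) (.leaf (0, 0))))))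

def fiveVia11 : Janko.Tree (ℕ × ℕ) :=
  (.node (.node (.node (.node (.node (.leaf (0, 0)) (.leaf (0, 89))) (.leaf (5, 78))) (.node (.node (.leaf (0, 105)) (.leaf (5, 88))) (.leaf (4, 67)))) (.node (.node (.node (.leaf (0, 0)) (.leaf (5, 99))) (.leaf (4, 28))) (.node (.node (.leaf (4, 43)) (.leaf (3, 107))) (.leaf (5, 37))))) (.node (.node (.node (.node (.leaf (4, 2)) (.leaf (1, 94))) (.leaf (0, 0))) (.node (.node (.leaf (0, 0)) (.leaf (3, 61))) (.leaf (18, 0)))) (.node (.node (.node (.leaf (0, 0)) (.leaf (4, 84))) (.leaf (1, 97))) (.node (.node (.leaf (9, 0)) (.leaf (4, 0))) (.leaf (5, 58))))))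

def fiveVia12 : Janko.Tree (ℕ × ℕ) :=
  (.node (.node (.node (.node (.node (.leaf (0, 0)) (.leaf (5, 119))) (.leaf (3, 2))) (.node (.node (.leaf (1, 116)) (.leaf (2, 110))) (.leaf (4, 108)))) (.node (.node (.node (.leaf (0, 0)) (.leaf (4, 116))) (.leaf (5, 28))) (.node (.node (.leaf (0, 0)) (.leaf (5, 54))) (.leaf (3, 22))))) (.node (.node (.node (.node (.leaf (5, 2)) (.leaf (5, 94))) (.leaf (4, 25))) (.node (.node (.leaf (3, 7)) (.leaf (4, 121))) (.leaf (5, 100)))) (.node (.node (.node (.leaf (4, 7)) (.leaf (3, 105))) (.leaf (0, 0))) (.node (.node (.leaf (5, 95)) (.leaf (5, 0))) (.leaf (4, 54))))))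

def fiveVia13 : Janko.Tree (ℕ × ℕ) :=
  (.node (.node (.node (.node (.node (.leaf (0, 0)) (.leaf (5, 53))) (.leaf (10, 0))) (.node (.node (.leaf (0, 0)) (.leaf (4, 49))) (.leaf (0, 0)))) (.node (.node (.node (.leaf (0, 0)) (.leaf (5, 44))) (.leaf (0, 0))) (.node (.node (.leaf (0, 0)) (.leaf (5, 121))) (.leaf (3, 49))))) (.node (.node (.node (.node (.leaf (0, 0)) (.leaf (4, 119))) (.leaf (5, 25))) (.node (.node (.leaf (4, 13)) (.leaf (5, 101))) (.leaf (5, 35)))) (.node (.node (.node (.leaf (5, 7)) (.leaf (0, 0))) (.leaf (6, 0))) (.node (.leaf (3, 37)) (.leaf (3, 84))))))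

def fiveVia14 : Janko.Tree (ℕ × ℕ) :=
  (.node (.node (.node (.node (.node (.leaf (0, 0)) (.leaf (0, 0))) (.leaf (0, 0))) (.node (.node (.leaf (0, 26)) (.leaf (5, 123))) (.leaf (5, 30)))) (.node (.node (.node (.leaf (0, 0)) (.leaf (4, 100))) (.leaf (4, 37))) (.node (.node (.leaf (5, 19)) (.leaf (4, 120))) (.leaf (5, 48))))) (.node (.node (.node (.node (.leaf (4, 3)) (.leaf (5, 62))) (.leaf (2, 52))) (.node (.node (.leaf (5, 13)) (.leaf (0, 0))) (.leaf (3, 115)))) (.node (.node (.node (.leaf (3, 0)) (.leaf (3, 85))) (.leaf (3, 63))) (.node (.leaf (0, 0)) (.leaf (0, 0))))))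

def fiveVia15 : Janko.Tree (ℕ × ℕ) :=
  (.node (.node (.node (.node (.node (.leaf (0, 0)) (.leaf (0, 0))) (.leaf (5, 47))) (.node (.node (.leaf (0, 0)) (.leaf (4, 111))) (.leaf (17, 0)))) (.node (.node (.node (.leaf (2, 46)) (.leaf (4, 118))) (.leaf (3, 58))) (.node (.node (.leaf (4, 82)) (.leaf (5, 89))) (.leaf (0, 0))))) (.node (.node (.node (.node (.leaf (5, 3)) (.leaf (2, 95))) (.leaf (3, 26))) (.node (.node (.leaf (0, 0)) (.leaf (3, 103))) (.leaf (3, 25)))) (.node (.node (.node (.leaf (0, 0)) (.leaf (0, 0))) (.leaf (4, 63))) (.node (.leaf (0, 0)) (.leaf (4, 103))))))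

/-- a table -/
def fiveVia : Janko.Tree (ℕ × ℕ) := (.node (.node (.node (.node fiveVia0 fiveVia8) (.node fiveVia4 fiveVia12)) (.node (.node fiveVia2 fiveVia10) (.node fiveVia6 fiveVia14))) (.node (.node (.node fiveVia1 fiveVia9) (.node fiveVia5 fiveVia13)) (.node (.node fiveVia3 fiveVia11) (.node fiveVia7 fiveVia15))))

def fiveOrd0 : Janko.Tree (ℕ) :=
  (.node (.node (.node (.leaf 77) (.leaf 65)) (.node (.leaf 17) (.leaf 19))) (.node (.node (.leaf 66) (.leaf 5)) (.node (.leaf 32) (.leaf 11))))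

def fiveOrd1 : Janko.Tree (ℕ) :=
  (.node (.node (.node (.leaf 39) (.leaf 62)) (.node (.leaf 124) (.leaf 69))) (.node (.node (.leaf 115) (.leaf 10)) (.node (.leaf 31) (.leaf 36))))

def fiveOrd2 : Janko.Tree (ℕ) :=
  (.node (.node (.node (.leaf 4) (.leaf 89)) (.node (.leaf 67) (.leaf 112))) (.node (.node (.leaf 82) (.leaf 87)) (.node (.leaf 52) (.leaf 50))))

def fiveOrd3 : Janko.Tree (ℕ) :=
  (.node (.node (.node (.leaf 86) (.leaf 64)) (.node (.leaf 48) (.leaf 2))) (.node (.node (.leaf 119) (.leaf 123)) (.node (.leaf 33) (.leaf 55))))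

def fiveOrd4 : Janko.Tree (ℕ) :=
  (.node (.node (.node (.leaf 49) (.leaf 78)) (.node (.leaf 34) (.leaf 113))) (.node (.node (.leaf 23) (.leaf 35)) (.node (.leaf 37) (.leaf 45))))

def fiveOrd5 : Janko.Tree (ℕ) :=
  (.node (.node (.node (.leaf 95) (.leaf 117)) (.node (.leaf 38) (.leaf 73))) (.node (.node (.leaf 110) (.leaf 114)) (.node (.leaf 96) (.leaf 81))))

def fiveOrd6 : Janko.Tree (ℕ) :=
  (.node (.node (.node (.leaf 74) (.leaf 60)) (.node (.leaf 104) (.leaf 51))) (.node (.node (.leaf 47) (.leaf 9)) (.node (.leaf 122) (.leaf 28))))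

def fiveOrd7 : Janko.Tree (ℕ) :=
  (.node (.node (.node (.leaf 29) (.leaf 116)) (.node (.leaf 59) (.leaf 21))) (.node (.node (.leaf 58) (.leaf 43)) (.node (.leaf 3) (.leaf 100))))

def fiveOrd8 : Janko.Tree (ℕ) :=
  (.node (.node (.node (.leaf 83) (.leaf 106)) (.node (.leaf 101) (.leaf 105))) (.node (.node (.leaf 94) (.leaf 54)) (.node (.leaf 93) (.leaf 120))))

def fiveOrd9 : Janko.Tree (ℕ) :=
  (.node (.node (.node (.leaf 22) (.leaf 6)) (.node (.leaf 18) (.leaf 24))) (.node (.node (.leaf 13) (.leaf 61)) (.node (.leaf 30) (.leaf 92))))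

def fiveOrd10 : Janko.Tree (ℕ) :=
  (.node (.node (.node (.leaf 90) (.leaf 40)) (.node (.leaf 111) (.leaf 15))) (.node (.node (.leaf 91) (.leaf 42)) (.node (.leaf 121) (.leaf 25))))

def fiveOrd11 : Janko.Tree (ℕ) :=
  (.node (.node (.node (.leaf 41) (.leaf 76)) (.node (.leaf 1) (.leaf 109))) (.node (.node (.leaf 70) (.leaf 53)) (.node (.leaf 20) (.leaf 44))))

def fiveOrd12 : Janko.Tree (ℕ) :=
  (.node (.node (.node (.leaf 0) (.leaf 63)) (.node (.leaf 56) (.leaf 68))) (.node (.node (.leaf 27) (.leaf 8)) (.node (.leaf 79) (.leaf 16))))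

def fiveOrd13 : Janko.Tree (ℕ) :=
  (.node (.node (.node (.leaf 118) (.leaf 103)) (.node (.leaf 102) (.leaf 84))) (.node (.node (.leaf 80) (.leaf 88)) (.leaf 12)))

def fiveOrd14 : Janko.Tree (ℕ) :=
  (.node (.node (.node (.leaf 7) (.leaf 57)) (.node (.leaf 85) (.leaf 72))) (.node (.node (.leaf 108) (.leaf 99)) (.leaf 107)))

def fiveOrd15 : Janko.Tree (ℕ) :=
  (.node (.node (.node (.leaf 46) (.leaf 97)) (.node (.leaf 75) (.leaf 98))) (.node (.node (.leaf 14) (.leaf 26)) (.leaf 71)))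

/-- a table -/
def fiveOrd : Janko.Tree (ℕ) := (.node (.node (.node (.node fiveOrd0 fiveOrd8) (.node fiveOrd4 fiveOrd12)) (.node (.node fiveOrd2 fiveOrd10) (.node fiveOrd6 fiveOrd14))) (.node (.node (.node fiveOrd1 fiveOrd9) (.node fiveOrd5 fiveOrd13)) (.node (.node fiveOrd3 fiveOrd11) (.node fiveOrd7 fiveOrd15))))

/-- relators -/
def fiveRels : List (List ℕ) :=
  [[0, 0, 0, 0, 0],
    [1, 1, 1, 1, 1],
    [2, 2, 2, 2, 2],
    [1, 0, 2, 2, 1, 1, 1, 1, 0, 0, 0, 0],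
    [2, 0, 2, 2, 2, 2, 0, 0, 0, 0],
    [2, 1, 2, 2, 2, 2, 1, 1, 1, 1]]

/-- the certificate -/
def fiveCert : CentralLocal.Cert :=
  { act := actB baseB fiveGens, one := oneB, N := 125, k := 3, q := 0, rels := fiveRels, P := 20,
    elt := fiveElt, next := fiveNext, word := fiveWord, par := fivePar, L := fiveL, kind := fiveKind, rank := fiveRank,
    via := fiveVia, pv := [375, 376, 377, 378, 379, 380, 189, 132, 49, 123, 141, 273, 201, 292, 102, 138, 130, 207, 219, 135] }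

theorem five_edges0 : ((List.range 125).all fun i => fiveCert.edgeCheck (Nat.add 0 i)) = true := by decide +kernel

theorem five_edges : ∀ i < 125, fiveCert.edgeCheck i = true := by
  intro i hi
  exact (by have := List.all_eq_true.1 five_edges0 (i - 0) (List.mem_range.2 (by omega)); rwa [show Nat.add 0 (i - 0) = i from Nat.add_sub_cancel' (by omega)] at this)

theorem five_tree0 : ((List.range 125).all fun i => fiveCert.treeCheck (Nat.add 0 i)) = true := by decide +kernel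

theorem five_tree : ∀ i < 125, fiveCert.treeCheck i = true := by
  intro i hi
  exact (by have := List.all_eq_true.1 five_tree0 (i - 0) (List.mem_range.2 (by omega)); rwa [show Nat.add 0 (i - 0) = i from Nat.add_sub_cancel' (by omega)] at this)

theorem five_vars0 : ((List.range 381).all fun i => fiveCert.varCheck (Nat.add 0 i)) = true := by decide +kernel

theorem five_vars : ∀ i < 381, fiveCert.varCheck i = true := by
  intro i hi
  exact (by have := List.all_eq_true.1 five_vars0 (i - 0) (List.mem_range.2 (by omega)); rwa [show Nat.add 0 (i - 0) = i from Nat.add_sub_cancel' (by omega)] at this)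

theorem five_ord0 : ((List.range 125).all fun i => fiveCert.ordCheck fiveOrd (Nat.add 0 i)) = true := by decide +kernel

theorem five_ord : ∀ i < 125, fiveCert.ordCheck fiveOrd i = true := by
  intro i hi
  exact (by have := List.all_eq_true.1 five_ord0 (i - 0) (List.mem_range.2 (by omega)); rwa [show Nat.add 0 (i - 0) = i from Nat.add_sub_cancel' (by omega)] at this)

theorem five_rels : (fiveCert.rels.all fun w => fiveCert.relCheck w) = true := by decide +kernel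

theorem five_valid : fiveCert.Valid where
  npos := Nat.succ_pos _
  kpos := Nat.succ_pos _
  edges := five_edges
  tree := five_tree
  rels := List.all_eq_true.1 five_rels
  vars := five_vars

/-- the lattice -/
def fiveLat : CentralBound.Lat :=
  { basis := [[-1, -1, 0, 1, 0, 0, 0, 0, -2, 0, 0, 0, 0, 0, 0, 0, 0, 0, 0, 0],
      [-1, 0, 0, 0, 1, 0, 0, 0, -5, 0, 0, 0, 0, 0, 0, 0, 0, 0, 0, 0],
      [0, -1, 0, 0, 0, 1, 0, 0, -5, 0, 0, 0, 0, 0, 0, 0, 0, 0, 0, 0],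
      [-1, 0, 0, 0, 0, 0, 1, 0, 2, 0, 0, 0, 0, 0, 0, 0, 0, 0, 0, 0],
      [0, 0, 0, 0, 0, 0, 0, 1, 0, 0, 0, 0, 0, 0, 0, 0, 0, 0, 0, 0],
      [0, 0, 1, 0, 0, 0, 0, 0, -5, 0, 0, 0, 0, 0, 0, 0, 0, 0, 0, 0],
      [0, 0, 0, 0, 0, 0, 0, 0, 0, 1, 0, 0, 0, 0, 0, 0, 0, 0, 0, 0],
      [0, 0, 0, 0, 0, 0, 0, 0, 0, 0, 1, 0, 0, 0, 0, 0, 0, 0, 0, 0],
      [-1, 0, 0, 0, 0, 0, 0, 0, 3, 0, 0, 1, 0, 0, 0, 0, 0, 0, 0, 0],
      [0, 0, 0, 0, 0, 0, 0, 0, 0, 0, 0, 0, 1, 0, 0, 0, 0, 0, 0, 0],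
      [0, -1, 0, 0, 0, 0, 0, 0, 3, 0, 0, 0, 0, 1, 0, 0, 0, 0, 0, 0],
      [0, 0, 0, 0, 0, 0, 0, 0, 0, 0, 0, 0, 0, 0, 1, 0, 0, 0, 0, 0],
      [0, 0, 0, 0, 0, 0, 0, 0, -1, 0, 0, 0, 0, 0, 0, 1, 0, 0, 0, 0],
      [0, 0, 0, 0, 0, 0, 0, 0, -1, 0, 0, 0, 0, 0, 0, 0, 1, 0, 0, 0],
      [0, 0, 0, 0, 0, 0, 0, 0, 0, 0, 0, 0, 0, 0, 0, 0, 0, 1, 0, 0],
      [0, 0, 0, 0, 0, 0, 0, 0, 0, 0, 0, 0, 0, 0, 0, 0, 0, 0, 1, 0],
      [0, 0, 0, 0, 0, 0, 0, 0, 0, 0, 0, 0, 0, 0, 0, 0, 0, 0, 0, 1]],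
    compl := [[1, 0, 0, 0, 0, 0, 0, 0, 0, 0, 0, 0, 0, 0, 0, 0, 0, 0, 0, 0], [0, 1, 0, 0, 0, 0, 0, 0, 0, 0, 0, 0, 0, 0, 0, 0, 0, 0, 0, 0], [0, 0, 0, 0, 0, 0, 0, 0, 1, 0, 0, 0, 0, 0, 0, 0, 0, 0, 0, 0]],
    counts := [[5, 0, 0], [0, 5, 0], [0, 0, 1]],
    piv := [0, 1, 2],
    coord := [([0, 0, 0, 0, 0, 0, 0, 0, 0, 0, 0, 0, 0, 0, 0, 0, 0], [1, 0, 0]),
      ([0, 0, 0, 0, 0, 0, 0, 0, 0, 0, 0, 0, 0, 0, 0, 0, 0], [0, 1, 0]),
      ([0, 0, 0, 0, 0, 1, 0, 0, 0, 0, 0, 0, 0, 0, 0, 0, 0], [0, 0, 5]),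
      ([1, 0, 0, 0, 0, 0, 0, 0, 0, 0, 0, 0, 0, 0, 0, 0, 0], [1, 1, 2]),
      ([0, 1, 0, 0, 0, 0, 0, 0, 0, 0, 0, 0, 0, 0, 0, 0, 0], [1, 0, 5]),
      ([0, 0, 1, 0, 0, 0, 0, 0, 0, 0, 0, 0, 0, 0, 0, 0, 0], [0, 1, 5]),
      ([0, 0, 0, 1, 0, 0, 0, 0, 0, 0, 0, 0, 0, 0, 0, 0, 0], [1, 0, -2]),
      ([0, 0, 0, 0, 1, 0, 0, 0, 0, 0, 0, 0, 0, 0, 0, 0, 0], [0, 0, 0]),
      ([0, 0, 0, 0, 0, 0, 0, 0, 0, 0, 0, 0, 0, 0, 0, 0, 0], [0, 0, 1]),
      ([0, 0, 0, 0, 0, 0, 1, 0, 0, 0, 0, 0, 0, 0, 0, 0, 0], [0, 0, 0]),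
      ([0, 0, 0, 0, 0, 0, 0, 1, 0, 0, 0, 0, 0, 0, 0, 0, 0], [0, 0, 0]),
      ([0, 0, 0, 0, 0, 0, 0, 0, 1, 0, 0, 0, 0, 0, 0, 0, 0], [1, 0, -3]),
      ([0, 0, 0, 0, 0, 0, 0, 0, 0, 1, 0, 0, 0, 0, 0, 0, 0], [0, 0, 0]),
      ([0, 0, 0, 0, 0, 0, 0, 0, 0, 0, 1, 0, 0, 0, 0, 0, 0], [0, 1, -3]),
      ([0, 0, 0, 0, 0, 0, 0, 0, 0, 0, 0, 1, 0, 0, 0, 0, 0], [0, 0, 0]),
      ([0, 0, 0, 0, 0, 0, 0, 0, 0, 0, 0, 0, 1, 0, 0, 0, 0], [0, 0, 1]),
      ([0, 0, 0, 0, 0, 0, 0, 0, 0, 0, 0, 0, 0, 1, 0, 0, 0], [0, 0, 1]),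
      ([0, 0, 0, 0, 0, 0, 0, 0, 0, 0, 0, 0, 0, 0, 1, 0, 0], [0, 0, 0]),
      ([0, 0, 0, 0, 0, 0, 0, 0, 0, 0, 0, 0, 0, 0, 0, 1, 0], [0, 0, 0]),
      ([0, 0, 0, 0, 0, 0, 0, 0, 0, 0, 0, 0, 0, 0, 0, 0, 1], [0, 0, 0])],
    gens := [],
    ord := [],
    red := [([], ([(58, 0), (25, 1)], [(12, (0, 9)), (-51, (0, 12)), (-62, (0, 15)), (-43, (0, 23)), (1, (0, 70)), (1, (0, 48)), (-58, (2, 56)), (51, (0, 36)), (28, (0, 16)), (25, (2, 61)), (-9, (2, 30)), (4, (0, 45)), (58, (3, 5)), (-25, (2, 87))]), [-4, 25, -10, -3, 1, -13, -2, 0, 1, 2, 1, 0, 0, 0, 0, 0, 0]),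
      ([], ([(-53, 0), (-2, 1)], [(-47, (0, 12)), (9, (0, 9)), (40, (0, 15)), (-37, (0, 23)), (-8, (0, 70)), (-8, (0, 48)), (53, (2, 56)), (-12, (0, 36)), (-21, (0, 16)), (-2, (2, 61)), (19, (2, 30)), (40, (0, 45)), (-53, (3, 5)), (2, (2, 87))]), [14, -47, 35, 6, -1, 6, 2, 0, -1, -2, -3, 0, 0, 0, 0, 0, 0]),
      ([], ([(-48, 0), (-25, 1)], [(-45, (0, 15)), (-26, (0, 9)), (-13, (0, 12)), (50, (0, 23)), (2, (0, 70)), (2, (0, 48)), (48, (2, 56)), (-48, (0, 36)), (-60, (0, 16)), (-25, (2, 61)), (29, (2, 30)), (5, (0, 45)), (-48, (3, 5)), (25, (2, 87))]), [5, -20, 13, 2, -1, 4, 2, 0, -1, -2, -1, 0, 0, 0, 0, 0, 0]),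
      ([], ([(-62, 0), (-11, 1)], [(38, (0, 23)), (-57, (0, 9)), (1, (0, 12)), (47, (0, 15)), (-56, (0, 70)), (-56, (0, 48)), (62, (2, 56)), (47, (0, 36)), (-42, (0, 16)), (-11, (2, 61)), (1, (2, 30)), (-2, (0, 45)), (-62, (3, 5)), (11, (2, 87))]), [3, -62, 32, -1, -1, 26, 2, 0, -1, -2, -3, 0, 0, 1, 0, 0, 0]),
      ([], ([(23, 0), (59, 1)], [(46, (0, 48)), (43, (0, 9)), (40, (0, 12)), (20, (0, 15)), (-8, (0, 23)), (46, (0, 70)), (-22, (2, 56)), (39, (0, 36)), (-15, (0, 16)), (59, (2, 61)), (46, (2, 30)), (44, (0, 45)), (23, (3, 5)), (-59, (2, 87))]), [17, 0, 10, 9, 0, -14, -2, 0, 0, 2, -2, 0, 0, -1, 0, 0, 0]),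
      ([], ([(40, 0), (-45, 1)], [(27, (0, 70)), (49, (0, 9)), (26, (0, 12)), (-55, (0, 15)), (-57, (0, 23)), (27, (0, 48)), (-40, (2, 56)), (62, (0, 36)), (2, (0, 16)), (-45, (2, 61)), (-45, (2, 30)), (-19, (0, 45)), (40, (3, 5)), (45, (2, 87))]), [-27, 58, -45, -11, 1, -3, 0, 0, 1, 0, 5, 0, 0, 1, 0, 0, 0]),
      ([], ([(52, 0), (36, 1)], [(-58, (0, 9)), (43, (0, 12)), (32, (0, 15)), (-29, (0, 23)), (60, (0, 48)), (60, (0, 70)), (-51, (2, 56)), (1, (1, 57)), (8, (0, 36)), (-31, (0, 16)), (-21, (2, 30)), (37, (2, 61)), (-12, (0, 45)), (52, (3, 5)), (-36, (2, 87))]), [0, 44, -25, 3, 1, -16, -3, 0, 1, 3, 1, 0, 0, -1, 0, 0, 0]),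
      ([], ([(-18, 0), (-18, 1)], [(18, (2, 56)), (31, (0, 9)), (-34, (0, 12)), (-46, (0, 15)), (18, (0, 23)), (36, (0, 48)), (36, (0, 70)), (1, (1, 31)), (1, (0, 36)), (58, (0, 16)), (-35, (2, 30)), (-16, (2, 61)), (-39, (0, 45)), (-17, (3, 5)), (18, (2, 87))]), [-11, 19, -16, -4, 0, 1, 0, 0, 0, 0, 2, 0, 0, 0, 0, 0, 0]),
      ([], ([(-3, 0), (4, 1)], [(-34, (0, 9)), (-54, (0, 12)), (-35, (0, 15)), (-36, (0, 23)), (18, (0, 48)), (18, (0, 70)), (26, (0, 36)), (-25, (0, 16)), (-5, (2, 30)), (4, (2, 61)), (2, (2, 56)), (-61, (0, 45)), (-3, (3, 5)), (-4, (2, 87))]), [-6, -6, -3, -4, 0, 10, 0, 0, 0, 0, 0, 0, 0, 0, 0, 0, 0]),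
      ([], ([(-12, 0), (-51, 1)], [(-24, (2, 30)), (-22, (0, 9)), (41, (0, 12)), (23, (0, 15)), (-61, (0, 23)), (24, (0, 36)), (-18, (0, 16)), (-50, (2, 61)), (13, (2, 56)), (1, (1, 57)), (-45, (0, 45)), (-12, (3, 5)), (51, (2, 87))]), [-18, 3, -17, -8, 0, 19, 2, 0, 0, -2, 2, 0, 0, 1, 0, 0, 0]),
      ([], ([(17, 0), (5, 1)], [(5, (2, 61)), (-38, (0, 9)), (59, (0, 12)), (38, (0, 15)), (-27, (0, 23)), (24, (0, 48)), (24, (0, 70)), (-17, (2, 56)), (34, (0, 36)), (12, (0, 16)), (34, (2, 30)), (-29, (0, 45)), (17, (3, 5)), (-5, (2, 87))]), [-3, -2, -6, -1, 0, 9, 0, 0, 0, 0, 0, 0, 0, 0, 0, 0, 0]),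
      ([], ([(12, 0), (-32, 1)], [(1, (3, 14)), (-10, (0, 9)), (-18, (0, 12)), (50, (0, 15)), (50, (0, 23)), (-34, (0, 70)), (-34, (0, 48)), (-13, (2, 56)), (27, (0, 36)), (-10, (0, 16)), (-32, (2, 61)), (25, (2, 30)), (48, (0, 45)), (13, (3, 5)), (32, (2, 87))]), [-7, 4, -2, -3, 0, 0, 1, 0, 0, -1, 1, 0, 0, 1, 0, 0, 0]),
      ([], ([(29, 0), (-44, 1)], [(-27, (0, 9)), (-44, (0, 12)), (-30, (0, 15)), (50, (0, 23)), (31, (0, 48)), (31, (0, 70)), (-30, (2, 56)), (-57, (0, 36)), (-8, (0, 16)), (59, (2, 30)), (-44, (2, 61)), (2, (0, 45)), (30, (3, 5)), (44, (2, 87))]), [-10, 39, -24, -3, 0, -11, 1, 0, 0, -1, 3, 0, 0, 0, 0, 0, 0]),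
      ([], ([], [(-38, (0, 45)), (-38, (0, 9)), (-40, (0, 12)), (51, (0, 15)), (-51, (0, 16)), (-1, (0, 36))]), [-4, -4, -4, -2, 0, 9, 0, 0, 0, 0, 0, 0, 0, 0, 0, 0, 0]),
      ([], ([(32, 1), (42, 0)], [(42, (3, 5)), (-32, (0, 9)), (-23, (0, 12)), (9, (0, 15)), (6, (0, 23)), (35, (0, 70)), (35, (0, 48)), (-41, (2, 56)), (1, (1, 57)), (-27, (0, 36)), (-11, (0, 16)), (-41, (2, 30)), (32, (2, 61)), (18, (0, 45)), (-31, (2, 87))]), [3, 45, -18, 4, 1, -25, -3, 0, 1, 3, 1, 0, 0, -1, 0, 0, 0]),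
      ([], ([], [(-1, (2, 87)), (-19, (0, 9)), (12, (0, 12)), (-25, (0, 15)), (7, (0, 23)), (-1, (0, 48)), (-1, (0, 70)), (1, (2, 56)), (-1, (0, 36)), (-14, (0, 45))]), [-1, -1, -1, -1, 0, 2, 0, 0, 0, 0, 0, 0, 0, 0, 0, 0, 0]),
      ([], ([(-17, 1), (48, 0)], [(61, (0, 9)), (-61, (0, 12)), (-2, (0, 15)), (-42, (0, 23)), (41, (0, 70)), (42, (0, 48)), (-48, (2, 56)), (-2, (1, 57)), (10, (0, 36)), (-51, (0, 16)), (-29, (2, 30)), (-19, (2, 61)), (13, (0, 45)), (49, (3, 5)), (14, (2, 87))]), [-14, 63, -38, -4, 1, -18, -1, 0, 1, 1, 4, 0, 0, 0, 0, 0, 0])],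
    kill := [] }

/-- conjugate commuting pairs -/
def fiveSpecs : List Spec :=
  [(([0, 1, 1, 1], [2], [0, 0, 1, 1], [2, 2, 2]), (0x404a8978009976ac41b39e4ad29819aa31881e0d6e254431340220174c6662a9ec64af5fad54a01820409a752cbf1f4330688c60c56c2099a053fb5d90725d08082a26d85428456f17e141c25929a8f80eb091aea4a87870e354889e6da7f9cdac0a10ad078f1328d46c9f2382112170493d24041221da03a81b1903075f0489c464ebb9a6942db305c7c53830b0c034921e043353745007653997b126fadc7c1f519e4325e47bbd08d12bb05ceec371260496869f4b4e84c2182cb03f1411ceb87985ecaa480fc00f74e0d1928029390726c3b8bc982a65a2d886450b8532cf310387b08211595c1b849b5ead9302e566377a00ddaa615be50a5c6e39510fb0d1a1709b5b281faab63c384ae9520b2160f381c514c3224460c13089da0ab1288604ebc691bcce914f23076b2058b4e8fe3d24dc029, 0x220350333898e6fe10b448648520642aef539d6250f5f81052ea183a46ccc30194823b60c2570913f27872783432048703ca28645a624009c0143b4d1c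336bb0080e36f2f60acd4e83cf8a926429c29a29a2cbadd13a99c8510e328f49479a8d121086b6c7c2d430ade4ba1e820286c7a116110c1419186ff4b8e1e22341b609e2a5a02d3e5f163f49a6f881d18e9c012b418633f9a5920a290756231551b86a7d85b894a5c6f9ace4987b00d05022b859d8055f3703c1f071dc845880a3d262e06be16e507c92ccc3f69201f4344d9c5d6953d919ef118396c266a57285da5567b38ec9259a81a81b4811db2fb3121492b904aa0b2c51e2d56c5e743d608e52b2640c221b950008d08c384aab7330976da4231996d0220bd0212581b5acd50c2882eee10129ce9603af15eb246419c0ac1d3f1e061, [375, 18, 204, 237, 242, 248])),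
    (([0, 1, 1, 1], [2], [0, 0, 1, 0, 1, 1, 0], [2, 2]), (0x34d8c976c871a2482a03c5c340f33cb69812ab59cc749ac956e34cad4720b06114b21b1b334c0145d0c9c2446e89024965835cec7479330da64839bdce9c25a248e795c44596e239a946608380b51cb6313a0f6f875bc110857a1a91a06342f4467a6042da82228a84cf0a349d6024d560f61c5c7da0c08e953bc40aa0692541a1f0c8a1eea43e95ccc81819acc2381482546828686188401fb1584df6d2cd508f0702962c36d940022c0b321ca3b1f04cbcd62b169bca64a1397ef34d97d92ae4f174569d27af96e7282bf9ea2643c19fa35513bc43124fb982e8a7e230042f7022cb0ec6c391dd0c20844d8f6153e406073c10ccab4608c02108551b99427251dc2a4c849f178901d2be20862a94daa1d101f8350240370a4634d3aa0846878dc784238a10007f7fbe9a09224a4576a976c0062b9, 0x151ac2509ab51e445d2d056346f968be154b871620205978b24f558287cc84e900bac33638d4cc62b11406486385950ca6e948f2467e351da4b441c5d61a3fa1e1e47731d042b98928e1a0983405e4e26a8c4d27a80445148d402246ebb369897c2902bbc00d730b31f438433f902e7131a204af7e8cc0885539c1a49c4895d6ca42999cc8dc3585df704883a1446f7f8200c2842335824e25141b4c52d891880e55241301b06079362a64af1b03b1739564e4699801ecf6f0c9c2414b30966bf5aa6472e00c32d2af1351d4ccac829c9ea494d1cc470b110656e7e319b9602c6d8bc0f0c6c851ecec1d040868c459dd5c113c09df294093ccb10868bb80236264259c7c328fd269e1817206ea5eae0aa1f5041c410e7a0753e8e289ec5af03b3a484358520d42f77c20924d01e3014aa91e934fa0d,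 [297, 127, 197, 221, 246]))]

theorem five_gens : fiveGens.all (elemOK 275 baseX) = true ∧ fiveSpecs.all (specOK 275 baseX baseB fiveCert fiveGens) = true := by decide +kernel

theorem five_lat : CentralBound.latOK fiveCert (fiveSpecs.map extOf) (5 ^ 3) fiveLat = true := by decide +kernel

end Cfsg.Agent.Lie.McLaughlinMult
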