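import Cfsg.Agent.Lib.Lie.PermCover
import Cfsg.Agent.Lib.Lie.McLaughlinMult.Gens

/-!
A central table on a Sylow 2-subgroup of the McLaughlin group (generated).
-/

set_option autoImplicit false
set_option maxRecDepth 100000
set_option maxHeartbeats 0
set_option Elab.async false

namespace Cfsg.Agent.Lie.McLaughlinMult

open Cfsg.Agent.Lie PermCover McLaughlinOut

/-- generators of the subgroup -/
def twoGens : List Elem :=
  [(0x23a06de1a2d8de2f1fc28dd09043c8442b7282c92e93cad19e5e38ae00ca202aa9e2fb293216a9713399889560c1d58e211bb81e7244afe1c4b1b431d08a3332424d13241064d46b23c8e6860421464655a4dbeb362b90aced301acca846eadd7a513b249c28b82ae402ef831014e6a5e200625b523d83c134fa19520a3990ce0ea0ea34c46c060c1e885280682a942ac3c6eeb0144a1a783aa75380e2e2ec98fd7f8e4f80480b286702540a0589a08299f4531296132a14f3380ee3611b5eecc103e520ad693709c9117070fe87802947ac641034fc983a3cc423c268e92c547015cbad50fb406ae720909f0b24405cfaf024090941661b6830ba2c8edae8c8817c8a8369bf0ce3e14bf99a610caf95e276c169622a3493c882d3d0e028ec01b64229b88c2d8e7740b2d5ca05836c36093d98dea00,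 0x2381e2f493851ade0742a10ce752cd6ed6889f0fe5b41899082a7a1d4cc4134aa8029929419ea3c5a39988144828200dd223ba06c6363a1724b64c417e62030d8241f18b4c90d41598db0467e9b84a68051f9b4f2069618eed1b9add6cf710897aaf430d16cfa5f439e2fe641003a0710824c8e965bd94a7b589d8b4ab66be0e008539bd1489081e0e25478135d894652e8c065694493c305c371c63f2e29930c01615c16ae2e9547a810185dfe8c062ed165351b91f6a186c24d49c612c036d014b6d82d70127448c3173f0928756078667225315264c3a3cd78970d1849e85700e6023b68b305a195110886b2858a0b25019139041648b7c8b0f3eb555a9a8617c3079820704e7a103bce63a73c14a26723aa53e5e02a5846351f0e12a1554364227772a20ac9b81290090736be5ee8009a3d6a00, [83, 181, 232, 240]),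
    (0x1c199107d008eac65496c702e3e181d704379581ebd593f9eee43b43df25f7e89d9e6d33879b6882f0a4f2468281084107396468fc7138dc26e5c87190d87884cd6dc6b8ac8811699ed340a7a9d00f114693192dd12c30128307308a8c01fa62004f40855be7f3f00cd22f4bbfc76ae1d2c15a94490ce16a80ca8cd85d5305942733d2548e37283441abe599393cac49aac18901b239961f340d478f03ea010a666220976865c2dd0f076927dda452d3ee1ace501c8111281b81e8a56c82d6a8b79a10aa64318b4c3067c3bd4820851ddcc2610c08cac1208f4a29b5e25894ca2193428484ebb0f0d525ba4a62c5f88ca48958abc49094e23d14e5550a062185a420c4406b0a9dc327b1618e391f088ae5c463c83ade0d8694e300ba8974496d049a8e880b0d3291353418a71668140cea5b4380200, 0x1c199107d008eac65496c702e3e181d704379581ebd593f9eee43b43df25f7e89d9e6d33879b6882f0a4f2468281084107396468fc7138dc26e5c87190d87884cd6dc6b8ac8811699ed340a7a9d00f114693192dd12c30128307308a8c01fa62004f40855be7f3f00cd22f4bbfc76ae1d2c15a94490ce16a80ca8cd85d5305942733d2548e37283441abe599393cac49aac18901b239961f340d478f03ea010a666220976865c2dd0f076927dda452d3ee1ace501c8111281b81e8a56c82d6a8b79a10aa64318b4c3067c3bd4820851ddcc2610c08cac1208f4a29b5e25894ca2193428484ebb0f0d525ba4a62c5f88ca48958abc49094e23d14e5550a062185a420c4406b0a9dc327b1618e391f088ae5c463c83ade0d8694e300ba8974496d049a8e880b0d3291353418a71668140cea5b4380200,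 [27, 164, 227, 242]),
    (0x1c12b0c2e818691044102130804a7130d37d31d74792d97992fc03c0c064331b98260843bc9c2501514928a42a9c458e80cbd8282f640dde22e34960c09a54015b2d156b59aad482211b049013398a7f0a995fae3811c99abd61b0844365f931885751c04ccab48004f6b45990846040d1b5ae835c170b4db0e8952eec5d9051c802224919063bb70d5055289222ed2a27922b70da84d09d079e1130b7982cfcd2560e8aca0662144e765a9ea008a4d9f0143806b19d512231b95c6c35a65be8d2cae594647b8c094dd2fbfa1eaa7faa4cede5e205d69329bb89af02713ca2be25985a0280f9bc6a9f7c2c9450a060f8401e1da084274713008b0d1485c62627238030e915bbc66483e8994c9658b04723d238f14e1c47abdce2d1905996e57a848220e45840e63f431d60ef47dc39b4b07cb3d6c00, 0x1c12b0c2e818691044102130804a7130d37d31d74792d97992fc03c0c064331b98260843bc9c2501514928a42a9c458e80cbd8282f640dde22e34960c09a54015b2d156b59aad482211b049013398a7f0a995fae3811c99abd61b0844365f931885751c04ccab48004f6b45990846040d1b5ae835c170b4db0e8952eec5d9051c802224919063bb70d5055289222ed2a27922b70da84d09d079e1130b7982cfcd2560e8aca0662144e765a9ea008a4d9f0143806b19d512231b95c6c35a65be8d2cae594647b8c094dd2fbfa1eaa7faa4cede5e205d69329bb89af02713ca2be25985a0280f9bc6a9f7c2c9450a060f8401e1da084274713008b0d1485c62627238030e915bbc66483e8994c9658b04723d238f14e1c47abdce2d1905996e57a848220e45840e63f431d60ef47dc39b4b07cb3d6c00,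 [22, 190, 225, 240]),
    (0x449cafc87958fe1c44bb5f0a23183a0a3165818baac160bd3310603b19b094017146057726c16c36f3ce14fa32b69d25a6aaaa222a0825cec2e043bc78dc39ba9843515ab5ced4322c030340210df29281b280e3f5c8995042783650afb54af964243dae98eb83f2184a723baf464d257a11ad00053997ec51f04cc00f7ac21428f241253a0c79231fa4c710e52a4011330a05450238de9a0aa2a166c292d982ae41928ccf786adc7a015d874f23059b84ea746dad0d270469040488090d8e26810205d6d383988c2a52f96202f62dba0665e27c38aa900b21ca2912b884349825a093c9f169183e1767310dc946429cfadd0c8e92c380f1a9b0d02cac608787f3808eff6bb904e2314b196abc1424c9c67228dcf50c0493476d12214d1614531ac22e352418069c78aac36df64c09e8cf069b4f800, 0x449cafc87958fe1c44bb5f0a23183a0a3165818baac160bd3310603b19b094017146057726c16c36f3ce14fa32b69d25a6aaaa222a0825cec2e043bc78dc39ba9843515ab5ced4322c030340210df29281b280e3f5c8995042783650afb54af964243dae98eb83f2184a723baf464d257a11ad00053997ec51f04cc00f7ac21428f241253a0c79231fa4c710e52a4011330a05450238de9a0aa2a166c292d982ae41928ccf786adc7a015d874f23059b84ea746dad0d270469040488090d8e26810205d6d383988c2a52f96202f62dba0665e27c38aa900b21ca2912b884349825a093c9f169183e1767310dc946429cfadd0c8e92c380f1a9b0d02cac608787f3808eff6bb904e2314b196abc1424c9c67228dcf50c0493476d12214d1614531ac22e352418069c78aac36df64c09e8cf069b4f800,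 [89, 187, 227, 242, 248]),
    (0x449cafe87b3d3cef4e31086a2669dd7d04523a91aff80440062f62be8c6ce5b3d804a6798fc6ce2863b884ec4c408f2a52421e22b4443c0365333070a08a47818d635568ad3ed469ad48a92873e20e3407954029b57179f70a4b84982a80f415642138ae908143f3dda4e4072f476251d31dae2c051486ec0143d1d10336c2142736ac34c50b641e01aeb618e4ea401134078906da3a023045b7018e3732010ab92da08108624adcb20734911d29a830252a5f500a976702e90546106c82cf66833b7c98647ca74a25a3a318de5c41980fa26278119454702a8c2dd2b8909a651c128fee716919a27a84bb4dc947908c669158abd2c4b54bc5b0cc1e864628c7e0588eac6b1c852a713961604e1f24d78200c2fc2ede70868641f0e8b82ab802b08226c65acd3289352acec813e36826567ebd59200, 0x449cafe87b3d3cef4e31086a2669dd7d04523a91aff80440062f62be8c6ce5b3d804a6798fc6ce2863b884ec4c408f2a52421e22b4443c0365333070a08a47818d635568ad3ed469ad48a92873e20e3407954029b57179f70a4b84982a80f415642138ae908143f3dda4e4072f476251d31dae2c051486ec0143d1d10336c2142736ac34c50b641e01aeb618e4ea401134078906da3a023045b7018e3732010ab92da08108624adcb20734911d29a830252a5f500a976702e90546106c82cf66833b7c98647ca74a25a3a318de5c41980fa26278119454702a8c2dd2b8909a651c128fee716919a27a84bb4dc947908c669158abd2c4b54bc5b0cc1e864628c7e0588eac6b1c852a713961604e1f24d78200c2fc2ede70868641f0e8b82ab802b08226c65acd3289352acec813e36826567ebd59200,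 [41, 165, 230, 239, 248]),
    (0x449cb0c5d2e53d10444299c6e503217cd307a04baac163bd801c4ca2db6430dbd96a7179acc02507f3b9da1532820b6bf0cb9a22584e3756ce06d0bdc49d7cb7db247568ac76d4820083ecc42424e6d0521546d062b1c81ac448b0920fd744157a215343e1c7511385ea26792c93e6d28811af00052a8b4030eaec3ccb12905430758c35b8e33ba31f64c1e13c28943f0d186c131a38de9a7d188d90b439d8a8cf3c92a040924a4cb20b098f906304da19707466b19e87046c2160893581c0a4613819d63147a2874372f8aa025c74aa4fae41cb1d9485299495ef04b090349825a08fe326c1a030237c1094440071e866976a984ae38303245a921e920c8786f0b86aff6b178401733ad1464e222dd782968a954efc7b935ce4514059d8953d848220c818fd8a103e2ad00ea35198d2ae54349e200, 0x449cb0c5d2e53d10444299c6e503217cd307a04baac163bd801c4ca2db6430dbd96a7179acc02507f3b9da1532820b6bf0cb9a22584e3756ce06d0bdc49d7cb7db247568ac76d4820083ecc42424e6d0521546d062b1c81ac448b0920fd744157a215343e1c7511385ea26792c93e6d28811af00052a8b4030eaec3ccb12905430758c35b8e33ba31f64c1e13c28943f0d186c131a38de9a7d188d90b439d8a8cf3c92a040924a4cb20b098f906304da19707466b19e87046c2160893581c0a4613819d63147a2874372f8aa025c74aa4fae41cb1d9485299495ef04b090349825a08fe326c1a030237c1094440071e866976a984ae38303245a921e920c8786f0b86aff6b178401733ad1464e222dd782968a954efc7b935ce4514059d8953d848220c818fd8a103e2ad00ea35198d2ae54349e200,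 [22, 197, 230, 246]),
    (0x44956722304c92c64d9099c6e03b8d95045228d1aac160a9eeb404bb002437ebcc0c047b225b65a2f17188fa261b4b6c30ea1c142f83181502e691606edc78809b2d86bb58f4d469b7da23402c24f89207c14c69c5dc30eced74308a81b489552824639a0f6953f00cccfc3610046081d1c55b0088948a0e10c9592f0381105426a221fd3ac885a6900655295d70bd113317e851b23a028c0aa29e4777303520693c8684a994f2dcb2cd5cb55067844314283805c415c702ec21d4b335a8108ba13ad5306464988a2e225bbcdeee74bc0fade4b2997cc10b2a8c2a91c88494eb2f9361a1723c3c8a9f7c42944b2060ec661e1f2bc9e746ea3c6ad01e8a06230723805aff15bf840323387102bc58a4c9c290f8f1ce26602094e182414d167587048220e658410c3f39b95f6b083bd59ef45b369f200, 0x44956722304c92c64d9099c6e03b8d95045228d1aac160a9eeb404bb002437ebcc0c047b225b65a2f17188fa261b4b6c30ea1c142f83181502e691606edc78809b2d86bb58f4d469b7da23402c24f89207c14c69c5dc30eced74308a81b489552824639a0f6953f00cccfc3610046081d1c55b0088948a0e10c9592f0381105426a221fd3ac885a6900655295d70bd113317e851b23a028c0aa29e4777303520693c8684a994f2dcb2cd5cb55067844314283805c415c702ec21d4b335a8108ba13ad5306464988a2e225bbcdeee74bc0fade4b2997cc10b2a8c2a91c88494eb2f9361a1723c3c8a9f7c42944b2060ec661e1f2bc9e746ea3c6ad01e8a06230723805aff15bf840323387102bc58a4c9c290f8f1ce26602094e182414d167587048220e658410c3f39b95f6b083bd59ef45b369f200,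 [110, 198, 226, 242, 248])]

def twoElt0 : Janko.Tree (ℕ) :=
  (.node (.node (.node (.leaf 1345185137112576) (.leaf 988959068505088)) (.node (.leaf 4023346477261824) (.leaf 8875829646988800))) (.node (.node (.leaf 3323280896369152) (.leaf 3317312394219520)) (.node (.leaf 8937688767143936) (.leaf 9431485854854656))))

def twoElt1 : Janko.Tree (ℕ) :=
  (.node (.node (.node (.leaf 8409911601143808) (.leaf 1659867295686656)) (.node (.leaf 7821675586242048) (.leaf 8937945764206592))) (.node (.node (.leaf 1343622842792448) (.leaf 8038550755693056)) (.node (.leaf 9579594550138880) (.leaf 8033659863031808))))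

def twoElt2 : Janko.Tree (ℕ) :=
  (.node (.node (.node (.leaf 3102437451800576) (.leaf 8881685163720704)) (.node (.leaf 8035782124506112) (.leaf 1482095940869120))) (.node (.node (.leaf 8033677858955264) (.leaf 9431509456727552)) (.node (.leaf 988976552199168) (.leaf 6343872071659008))))

def twoElt3 : Janko.Tree (ℕ) :=
  (.node (.node (.node (.leaf 1347673409777152) (.leaf 8410195227318272)) (.node (.leaf 7826566601324544) (.leaf 4013107954658816))) (.node (.node (.leaf 7827430292410880) (.leaf 3311680349805568)) (.node (.leaf 3114247925370880) (.leaf 1664417470465536))))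

def twoElt4 : Janko.Tree (ℕ) :=
  (.node (.node (.node (.leaf 6978829433299968) (.leaf 8952809572344320)) (.node (.leaf 1659182664168448) (.leaf 6978809331573760))) (.node (.node (.leaf 8410183146936320) (.leaf 9438829020502016)) (.node (.leaf 1003537804890112) (.leaf 8937691823480832))))

def twoElt5 : Janko.Tree (ℕ) :=
  (.node (.node (.node (.leaf 3114252235804672) (.leaf 6977871789717504)) (.node (.leaf 8884846530203648) (.leaf 6341399417796096))) (.node (.node (.leaf 3101758439601152) (.leaf 8040044062150656)) (.node (.leaf 1669299598342144) (.leaf 1000718024601088))))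

def twoElt6 : Janko.Tree (ℕ) :=
  (.node (.node (.node (.leaf 6343861496770048) (.leaf 1490888678540800)) (.node (.leaf 8873068672694784) (.leaf 8409914292051968))) (.node (.node (.leaf 6983151523554816) (.leaf 8875827652335104)) (.node (.leaf 9579597380769792) (.leaf 8873071368321536))))

def twoElt7 : Janko.Tree (ℕ) :=
  (.node (.node (.node (.leaf 994539038184960) (.leaf 8422493195173376)) (.node (.leaf 8946831269416960) (.leaf 1669280521861120))) (.node (.node (.leaf 3109988670770176) (.leaf 1352212121436160)) (.node (.leaf 9577572964831744) (.leaf 1343617194375680))))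

def twoElt8 : Janko.Tree (ℕ) :=
  (.node (.node (.node (.leaf 3317307805126656) (.leaf 8422490218266112)) (.node (.leaf 3101756818240512) (.leaf 8881676710100992))) (.node (.node (.leaf 6341389298775552) (.leaf 1347659698073088)) (.node (.leaf 6983157860361728) (.leaf 1345202466403840))))

def twoElt9 : Janko.Tree (ℕ) :=
  (.node (.node (.node (.leaf 1482104683109376) (.leaf 1352214398156800)) (.node (.leaf 6970643793398272) (.leaf 1664416484541952))) (.node (.node (.leaf 1003513236230144) (.leaf 8040063390814208)) (.node (.leaf 8952792422359552) (.leaf 994511154451968))))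

def twoElt10 : Janko.Tree (ℕ) :=
  (.node (.node (.node (.leaf 7821652917077504) (.leaf 6336973577241600)) (.node (.leaf 1491178472701440) (.leaf 9439813345229824))) (.node (.node (.leaf 3109995905420288) (.leaf 7827448304325120)) (.node (.leaf 1478707733626368) (.leaf 6348732498210304))))

def twoElt11 : Janko.Tree (ℕ) :=
  (.node (.node (.node (.leaf 9438861070489600) (.leaf 1000720435539456)) (.node (.leaf 8422205297362432) (.leaf 8946822252974080))) (.node (.node (.leaf 9439808007191552) (.leaf 9581509137168384)) (.node (.leaf 6336976004170752) (.leaf 8884841591934976))))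

def twoElt12 : Janko.Tree (ℕ) :=
  (.node (.node (.node (.leaf 8937957329999872) (.leaf 3323287893516800)) (.node (.leaf 1490878463051264) (.leaf 6348753691241984))) (.node (.node (.leaf 4023343939183616) (.leaf 9574279393921536)) (.node (.leaf 6977858407528448) (.leaf 1659865207709696))))

def twoElt13 : Janko.Tree (ℕ) :=
  (.node (.node (.node (.leaf 3311695105629184) (.leaf 7826532793399296)) (.node (.leaf 8035814339120128) (.leaf 1659199445840896))) (.node (.node (.leaf 3308294413254144) (.leaf 4021412143315968)) (.node (.leaf 9574308789701120) (.leaf 1491153732599296))))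

def twoElt14 : Janko.Tree (ℕ) :=
  (.node (.node (.node (.leaf 4013089424223744) (.leaf 9436852148048384)) (.node (.leaf 4027680229254656) (.leaf 8038542045958656))) (.node (.node (.leaf 4027649908631040) (.leaf 1478708393704960)) (.node (.leaf 9581522465617920) (.leaf 3102423475331072))))

def twoElt15 : Janko.Tree (ℕ) :=
  (.node (.node (.node (.leaf 7822554041278464) (.leaf 4021414006111232)) (.node (.leaf 3308295889911296) (.leaf 7822563169918976))) (.node (.node (.leaf 9436870115398144) (.leaf 9577590919074304)) (.node (.leaf 8422211588818432) (.leaf 6970638673201664))))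

/-- a table -/
def twoElt : Janko.Tree (ℕ) := (.node (.node (.node (.node twoElt0 twoElt8) (.node twoElt4 twoElt12)) (.node (.node twoElt2 twoElt10) (.node twoElt6 twoElt14))) (.node (.node (.node twoElt1 twoElt9) (.node twoElt5 twoElt13)) (.node (.node twoElt3 twoElt11) (.node twoElt7 twoElt15))))

def twoNext0 : Janko.Tree (ℕ) :=
  (.node (.node (.node (.node (.node (.node (.leaf 1) (.leaf 23)) (.node (.leaf 104) (.leaf 90))) (.node (.node (.leaf 65) (.leaf 38)) (.leaf 46))) (.node (.node (.node (.leaf 44) (.leaf 92)) (.node (.leaf 51) (.leaf 122))) (.node (.node (.leaf 75) (.leaf 47)) (.leaf 8)))) (.node (.node (.node (.node (.leaf 29) (.leaf 115)) (.node (.leaf 11) (.leaf 101))) (.node (.node (.leaf 84) (.leaf 98)) (.leaf 14))) (.node (.node (.node (.leaf 58) (.leaf 24)) (.node (.leaf 117) (.leaf 54))) (.node (.node (.leaf 34) (.leaf 74)) (.leaf 91))))) (.node (.node (.node (.node (.node (.leaf 15) (.leaf 27)) (.node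 (.leaf 108) (.leaf 15))) (.node (.node (.leaf 78) (.leaf 127)) (.leaf 12))) (.node (.node (.node (.leaf 52) (.leaf 102)) (.node (.leaf 3) (.leaf 90))) (.node (.node (.leaf 98) (.leaf 83)) (.leaf 118)))) (.node (.node (.node (.node (.leaf 37) (.leaf 118)) (.node (.leaf 111) (.leaf 49))) (.node (.node (.leaf 15) (.leaf 102)) (.leaf 106))) (.node (.node (.node (.leaf 66) (.leaf 118)) (.node (.leaf 10) (.leaf 80))) (.node (.node (.leaf 103) (.leaf 36)) (.leaf 107))))))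

def twoNext1 : Janko.Tree (ℕ) :=
  (.node (.node (.node (.node (.node (.node (.leaf 2) (.leaf 17)) (.node (.leaf 19) (.leaf 113))) (.node (.node (.leaf 70) (.leaf 68)) (.leaf 105))) (.node (.node (.node (.leaf 1) (.leaf 64)) (.node (.leaf 115) (.leaf 71))) (.node (.node (.leaf 71) (.leaf 46)) (.leaf 33)))) (.node (.node (.node (.node (.leaf 30) (.leaf 51)) (.node (.leaf 14) (.leaf 46))) (.node (.node (.leaf 46) (.leaf 110)) (.leaf 113))) (.node (.node (.node (.leaf 1) (.leaf 63)) (.node (.leaf 112) (.leaf 115))) (.node (.node (.leaf 79) (.leaf 85)) (.leaf 63))))) (.node (.node (.node (.node (.node (.leaf 16) (.leaf 19)) (.node (.leaf 17) (.leaf 56))) (.node (.node (.leaf 48) (.leaf 91)) (.leaf 76))) (.node (.node (.node (.leaf 1) (.leaf 95)) (.node (.leaf 39) (.leaf 52))) (.node (.node (.leaf 67) (.leaf 78)) (.leaf 61)))) (.node (.node (.node (.node (.leaf 13) (.leaf 102)) (.node (.leaf 112) (.leaf 67))) (.node (.node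 (.leaf 7) (.leaf 34)) (.leaf 14))) (.node (.node (.node (.leaf 67) (.leaf 115)) (.node (.leaf 96) (.leaf 68))) (.node (.node (.leaf 98) (.leaf 92)) (.leaf 59))))))

def twoNext2 : Janko.Tree (ℕ) :=
  (.node (.node (.node (.node (.node (.node (.leaf 3) (.leaf 127)) (.node (.leaf 18) (.leaf 127))) (.node (.node (.leaf 74) (.leaf 82)) (.leaf 62))) (.node (.node (.node (.leaf 45) (.leaf 63)) (.node (.leaf 85) (.leaf 51))) (.node (.node (.leaf 92) (.leaf 78)) (.leaf 75)))) (.node (.node (.node (.node (.leaf 31) (.leaf 33)) (.node (.leaf 87) (.leaf 45))) (.node (.node (.leaf 73) (.leaf 123)) (.leaf 119))) (.node (.node (.node (.leaf 18) (.leaf 26)) (.node (.leaf 111) (.leaf 121))) (.node (.node (.leaf 100) (.leaf 116)) (.leaf 125))))) (.node (.node (.node (.node (.node (.leaf 17) (.leaf 104)) (.node (.leaf 48) (.leaf 61))) (.node (.node (.leaf 47) (.leaf 121)) (.leaf 124))) (.node (.node (.node (.leaf 55) (.leaf 22)) (.node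 (.leaf 13) (.leaf 78))) (.node (.node (.leaf 89) (.leaf 108)) (.leaf 109)))) (.node (.node (.node (.node (.leaf 19) (.leaf 107)) (.node (.leaf 57) (.leaf 98))) (.node (.node (.leaf 84) (.leaf 30)) (.leaf 65))) (.node (.node (.node (.leaf 68) (.leaf 58)) (.node (.leaf 88) (.leaf 99))) (.node (.node (.leaf 6) (.leaf 71)) (.leaf 29))))))

def twoNext3 : Janko.Tree (ℕ) :=
  (.node (.node (.node (.node (.node (.node (.leaf 4) (.leaf 21)) (.node (.leaf 58) (.leaf 96))) (.node (.node (.leaf 2) (.leaf 93)) (.leaf 78))) (.node (.node (.node (.leaf 46) (.leaf 91)) (.node (.leaf 14) (.leaf 87))) (.node (.node (.leaf 69) (.leaf 116)) (.leaf 82)))) (.node (.node (.node (.node (.leaf 32) (.leaf 60)) (.node (.leaf 8) (.leaf 120))) (.node (.node (.leaf 35) (.leaf 55)) (.leaf 66))) (.node (.node (.node (.leaf 46) (.leaf 119)) (.node (.leaf 118) (.leaf 114))) (.node (.node (.leaf 101) (.leaf 37)) (.leaf 126))))) (.node (.node (.node (.node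 (.node (.leaf 18) (.leaf 17)) (.node (.leaf 8) (.leaf 50))) (.node (.node (.leaf 79) (.leaf 125)) (.leaf 62))) (.node (.node (.node (.leaf 56) (.leaf 100)) (.node (.leaf 115) (.leaf 77))) (.node (.node (.leaf 99) (.leaf 34)) (.leaf 117)))) (.node (.node (.node (.node (.leaf 25) (.leaf 21)) (.node (.leaf 8) (.leaf 16))) (.node (.node (.leaf 33) (.leaf 29)) (.leaf 55))) (.node (.node (.node (.leaf 2) (.leaf 101)) (.node (.leaf 31) (.leaf 120))) (.node (.node (.leaf 5) (.leaf 70)) (.leaf 125))))))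

def twoNext4 : Janko.Tree (ℕ) :=
  (.node (.node (.node (.node (.node (.node (.leaf 5) (.leaf 108)) (.node (.leaf 18) (.leaf 109))) (.node (.node (.leaf 36) (.leaf 109)) (.leaf 96))) (.node (.node (.node (.leaf 47) (.leaf 127)) (.node (.leaf 56) (.leaf 60))) (.node (.node (.leaf 45) (.leaf 124)) (.leaf 15)))) (.node (.node (.node (.node (.leaf 17) (.leaf 55)) (.node (.leaf 79) (.leaf 123))) (.node (.node (.leaf 83) (.leaf 53)) (.leaf 2))) (.node (.node (.node (.leaf 41) (.leaf 41)) (.node (.leaf 87) (.leaf 82))) (.node (.node (.leaf 58) (.leaf 35)) (.leaf 31))))) (.node (.node (.node (.node (.node (.leaf 19) (.leaf 104)) (.node (.leaf 109) (.leaf 43))) (.node (.node (.leaf 3) (.leaf 67)) (.leaf 43))) (.node (.node (.node (.leaf 0) (.leaf 38)) (.node (.leaf 54) (.leaf 123))) (.node (.node (.leaf 22) (.leaf 97)) (.leaf 59)))) (.node (.node (.node (.node (.leaf 31) (.leaf 127)) (.node (.leaf 75) (.leaf 77))) (.node (.node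 (.leaf 86) (.leaf 116)) (.leaf 106))) (.node (.node (.node (.leaf 69) (.leaf 26)) (.node (.leaf 122) (.leaf 111))) (.node (.node (.leaf 105) (.leaf 57)) (.leaf 19))))))

def twoNext5 : Janko.Tree (ℕ) :=
  (.node (.node (.node (.node (.node (.node (.leaf 6) (.leaf 64)) (.node (.leaf 86) (.leaf 42))) (.node (.node (.leaf 61) (.leaf 49)) (.leaf 12))) (.node (.node (.node (.leaf 48) (.leaf 123)) (.node (.leaf 114) (.leaf 126))) (.node (.node (.leaf 93) (.leaf 114)) (.leaf 38)))) (.node (.node (.node (.node (.leaf 33) (.leaf 121)) (.node (.leaf 112) (.leaf 84))) (.node (.node (.leaf 3) (.leaf 52)) (.leaf 78))) (.node (.node (.node (.leaf 59) (.leaf 40)) (.node (.leaf 28) (.leaf 101))) (.node (.node (.leaf 56) (.leaf 34)) (.leaf 93))))) (.node (.node (.node (.node (.node (.leaf 20) (.leaf 20)) (.node (.leaf 61) (.leaf 62))) (.node (.node (.leaf 19) (.leaf 85)) (.leaf 42))) (.node (.node (.node (.leaf 57) (.leaf 105)) (.node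 (.leaf 20) (.leaf 120))) (.node (.node (.leaf 6) (.leaf 86)) (.leaf 101)))) (.node (.node (.node (.node (.leaf 35) (.leaf 125)) (.node (.leaf 9) (.leaf 50))) (.node (.node (.leaf 3) (.leaf 113)) (.leaf 118))) (.node (.node (.node (.leaf 70) (.leaf 53)) (.node (.leaf 45) (.leaf 76))) (.node (.node (.leaf 55) (.leaf 103)) (.leaf 27))))))

def twoNext6 : Janko.Tree (ℕ) :=
  (.node (.node (.node (.node (.node (.node (.leaf 7) (.leaf 39)) (.node (.leaf 49) (.leaf 122))) (.node (.node (.leaf 7) (.leaf 82)) (.leaf 11))) (.node (.node (.node (.leaf 49) (.leaf 63)) (.node (.leaf 9) (.leaf 59))) (.node (.node (.leaf 4) (.leaf 32)) (.leaf 73)))) (.node (.node (.node (.node (.leaf 29) (.leaf 20)) (.node (.leaf 64) (.leaf 59))) (.node (.node (.leaf 85) (.leaf 101)) (.leaf 79))) (.node (.node (.node (.leaf 44) (.leaf 122)) (.node (.leaf 119) (.leaf 113))) (.node (.node (.leaf 55) (.leaf 19)) (.leaf 17))))) (.node (.node (.node (.node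 (.node (.leaf 21) (.leaf 57)) (.node (.leaf 72) (.leaf 41))) (.node (.node (.leaf 80) (.leaf 28)) (.leaf 7))) (.node (.node (.node (.leaf 47) (.leaf 94)) (.node (.leaf 9) (.leaf 68))) (.node (.node (.leaf 98) (.leaf 33)) (.leaf 16)))) (.node (.node (.node (.node (.leaf 37) (.leaf 63)) (.node (.leaf 43) (.leaf 106))) (.node (.node (.leaf 30) (.leaf 30)) (.leaf 57))) (.node (.node (.node (.leaf 71) (.leaf 92)) (.node (.leaf 12) (.leaf 119))) (.node (.node (.leaf 75) (.leaf 74)) (.leaf 107))))))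

def twoNext7 : Janko.Tree (ℕ) :=
  (.node (.node (.node (.node (.node (.node (.leaf 6) (.leaf 105)) (.node (.leaf 105) (.leaf 40))) (.node (.node (.leaf 21) (.leaf 104)) (.leaf 32))) (.node (.node (.node (.leaf 50) (.leaf 116)) (.node (.leaf 100) (.leaf 117))) (.node (.node (.leaf 24) (.leaf 89)) (.leaf 112)))) (.node (.node (.node (.node (.leaf 0) (.leaf 54)) (.node (.leaf 58) (.leaf 89))) (.node (.node (.leaf 33) (.leaf 120)) (.leaf 119))) (.node (.node (.node (.leaf 60) (.leaf 50)) (.node (.leaf 10) (.leaf 57))) (.node (.node (.leaf 54) (.leaf 100)) (.leaf 16))))) (.node (.node (.node (.node (.node (.leaf 0) (.leaf 126)) (.node (.leaf 44) (.leaf 69))) (.node (.node (.leaf 73) (.leaf 83)) (.leaf 42))) (.node (.node (.node (.leaf 53) (.leaf 24)) (.node (.leaf 53) (.leaf 53))) (.node (.node (.leaf 4) (.leaf 85)) (.leaf 94)))) (.node (.node (.node (.node (.leaf 0) (.leaf 41)) (.node (.leaf 113) (.leaf 90))) (.node (.node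 (.leaf 87) (.leaf 127)) (.leaf 112))) (.node (.node (.node (.leaf 72) (.leaf 121)) (.node (.leaf 96) (.leaf 113))) (.node (.node (.leaf 23) (.leaf 93)) (.leaf 16))))))

def twoNext8 : Janko.Tree (ℕ) :=
  (.node (.node (.node (.node (.node (.node (.leaf 8) (.leaf 108)) (.node (.leaf 7) (.leaf 124))) (.node (.node (.leaf 71) (.leaf 107)) (.leaf 5))) (.node (.node (.node (.leaf 51) (.leaf 23)) (.node (.leaf 54) (.leaf 102))) (.node (.node (.leaf 94) (.leaf 88)) (.leaf 24)))) (.node (.node (.node (.node (.leaf 34) (.leaf 100)) (.node (.leaf 72) (.leaf 48))) (.node (.node (.leaf 48) (.leaf 68)) (.leaf 76))) (.node (.node (.node (.leaf 61) (.leaf 67)) (.node (.leaf 47) (.leaf 118))) (.node (.node (.leaf 64) (.leaf 62)) (.leaf 99))))) (.node (.node (.node (.node (.node (.leaf 22) (.leaf 60)) (.node (.leaf 93) (.leaf 123))) (.node (.node (.leaf 81) (.leaf 97)) (.leaf 20))) (.node (.node (.node (.leaf 55) (.leaf 23)) (.node (.leaf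 92) (.leaf 59))) (.node (.node (.leaf 49) (.leaf 44)) (.leaf 35)))) (.node (.node (.node (.node (.leaf 38) (.leaf 86)) (.node (.leaf 14) (.leaf 66))) (.node (.node (.leaf 77) (.leaf 74)) (.leaf 79))) (.node (.node (.node (.leaf 5) (.leaf 40)) (.node (.leaf 10) (.leaf 90))) (.node (.node (.leaf 67) (.leaf 81)) (.leaf 74))))))

def twoNext9 : Janko.Tree (ℕ) :=
  (.node (.node (.node (.node (.node (.node (.leaf 9) (.leaf 99)) (.node (.leaf 6) (.leaf 91))) (.node (.node (.leaf 75) (.leaf 27)) (.leaf 112))) (.node (.node (.node (.leaf 1) (.leaf 22)) (.node (.leaf 86) (.leaf 126))) (.node (.node (.leaf 22) (.leaf 96)) (.leaf 18)))) (.node (.node (.node (.node (.leaf 35) (.leaf 81)) (.node (.leaf 110) (.leaf 123))) (.node (.node (.leaf 65) (.leaf 29)) (.leaf 14))) (.node (.node (.node (.leaf 62) (.leaf 40)) (.node (.leaf 120) (.leaf 111))) (.node (.node (.leaf 5) (.leaf 117)) (.leaf 27))))) (.node (.node (.node (.node (.node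 (.leaf 23) (.leaf 44)) (.node (.leaf 88) (.leaf 124))) (.node (.node (.leaf 15) (.leaf 115)) (.leaf 89))) (.node (.node (.node (.leaf 1) (.leaf 103)) (.node (.leaf 84) (.leaf 79))) (.node (.node (.leaf 10) (.leaf 34)) (.leaf 31)))) (.node (.node (.node (.node (.leaf 1) (.leaf 36)) (.node (.leaf 76) (.leaf 119))) (.node (.node (.leaf 13) (.leaf 70)) (.leaf 122))) (.node (.node (.node (.leaf 73) (.leaf 72)) (.node (.leaf 89) (.leaf 40))) (.node (.node (.leaf 7) (.leaf 73)) (.leaf 47))))))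

def twoNext10 : Janko.Tree (ℕ) :=
  (.node (.node (.node (.node (.node (.node (.leaf 10) (.leaf 18)) (.node (.leaf 42) (.leaf 52))) (.node (.node (.leaf 36) (.leaf 99)) (.leaf 46))) (.node (.node (.node (.leaf 52) (.leaf 94)) (.node (.leaf 72) (.leaf 88))) (.node (.node (.leaf 95) (.leaf 114)) (.leaf 68)))) (.node (.node (.node (.node (.leaf 12) (.leaf 32)) (.node (.leaf 79) (.leaf 77))) (.node (.node (.leaf 6) (.leaf 103)) (.leaf 106))) (.node (.node (.node (.leaf 25) (.leaf 120)) (.node (.leaf 45) (.leaf 110))) (.node (.node (.leaf 102) (.leaf 72)) (.leaf 117))))) (.node (.node (.node (.node (.node (.leaf 24) (.leaf 72)) (.node (.leaf 90) (.leaf 44))) (.node (.node (.leaf 51) (.leaf 91)) (.leaf 32))) (.node (.node (.node (.leaf 58) (.leaf 9)) (.node (.leaf 37) (.leaf 110))) (.node (.node (.leaf 69) (.leaf 38)) (.leaf 116)))) (.node (.node (.node (.node (.leaf 39) (.leaf 125)) (.node (.leaf 39) (.leaf 125))) (.node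 (.node (.leaf 88) (.leaf 69)) (.leaf 83))) (.node (.node (.node (.leaf 69) (.leaf 117)) (.node (.leaf 103) (.leaf 84))) (.node (.node (.leaf 105) (.leaf 38)) (.leaf 42))))))

def twoNext11 : Janko.Tree (ℕ) :=
  (.node (.node (.node (.node (.node (.node (.leaf 11) (.leaf 17)) (.node (.leaf 85) (.leaf 126))) (.node (.node (.leaf 2) (.leaf 110)) (.leaf 88))) (.node (.node (.node (.leaf 53) (.leaf 102)) (.node (.leaf 12) (.leaf 100))) (.node (.node (.leaf 96) (.leaf 80)) (.leaf 38)))) (.node (.node (.node (.node (.leaf 36) (.leaf 60)) (.node (.leaf 8) (.leaf 45))) (.node (.node (.leaf 28) (.leaf 95)) (.leaf 36))) (.node (.node (.node (.leaf 2) (.leaf 56)) (.node (.leaf 77) (.leaf 50))) (.node (.node (.leaf 25) (.leaf 61)) (.leaf 98))))) (.node (.node (.node (.node (.node (.leaf 25) (.leaf 95)) (.node (.leaf 8) (.leaf 59))) (.node (.node (.leaf 82) (.leaf 31)) (.leaf 13))) (.node (.node (.node (.leaf 37) (.leaf 81)) (.node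 (.leaf 116) (.leaf 87))) (.node (.node (.leaf 95) (.leaf 92)) (.leaf 29)))) (.node (.node (.node (.node (.leaf 40) (.leaf 108)) (.node (.leaf 22) (.leaf 89))) (.node (.node (.leaf 89) (.leaf 92)) (.leaf 70))) (.node (.node (.node (.leaf 2) (.leaf 109)) (.node (.leaf 61) (.leaf 99))) (.node (.node (.leaf 5) (.leaf 27)) (.leaf 90))))))

def twoNext12 : Janko.Tree (ℕ) :=
  (.node (.node (.node (.node (.node (.node (.leaf 12) (.leaf 104)) (.node (.leaf 104) (.leaf 43))) (.node (.node (.leaf 24) (.leaf 28)) (.leaf 13))) (.node (.node (.node (.leaf 26) (.leaf 77)) (.node (.leaf 51) (.leaf 51))) (.node (.node (.leaf 71) (.leaf 98)) (.leaf 15)))) (.node (.node (.node (.node (.leaf 24) (.leaf 122)) (.node (.leaf 57) (.leaf 88))) (.node (.node (.leaf 85) (.leaf 102)) (.leaf 54))) (.node (.node (.node (.leaf 63) (.leaf 26)) (.node (.leaf 29) (.leaf 94))) (.node (.node (.leaf 103) (.leaf 60)) (.leaf 63))))) (.node (.node (.node (.node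 (.node (.leaf 26) (.leaf 117)) (.node (.leaf 87) (.leaf 126))) (.node (.node (.leaf 30) (.leaf 86)) (.leaf 12))) (.node (.node (.node (.leaf 43) (.leaf 37)) (.node (.leaf 31) (.leaf 118))) (.node (.node (.leaf 7) (.leaf 36)) (.leaf 87)))) (.node (.node (.node (.node (.leaf 41) (.leaf 21)) (.node (.leaf 66) (.leaf 66))) (.node (.node (.leaf 10) (.leaf 23)) (.leaf 15))) (.node (.node (.node (.leaf 74) (.leaf 126)) (.node (.leaf 11) (.leaf 73))) (.node (.node (.leaf 106) (.leaf 114)) (.leaf 106))))))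

def twoNext13 : Janko.Tree (ℕ) :=
  (.node (.node (.node (.node (.node (.node (.leaf 13) (.leaf 76)) (.node (.leaf 91) (.leaf 50))) (.node (.node (.leaf 76) (.leaf 69)) (.leaf 32))) (.node (.node (.node (.leaf 35) (.leaf 127)) (.node (.leaf 100) (.leaf 114))) (.node (.node (.leaf 97) (.leaf 33)) (.leaf 81)))) (.node (.node (.node (.node (.leaf 30) (.leaf 42)) (.node (.leaf 108) (.leaf 107))) (.node (.node (.leaf 3) (.leaf 94)) (.leaf 112))) (.node (.node (.node (.leaf 64) (.leaf 101)) (.node (.leaf 111) (.leaf 71))) (.node (.node (.leaf 23) (.leaf 119)) (.leaf 18))))) (.node (.node (.node (.node (.node (.leaf 27) (.leaf 26)) (.node (.leaf 110) (.leaf 109))) (.node (.node (.leaf 3) (.leaf 97)) (.leaf 107))) (.node (.node (.node (.leaf 48) (.leaf 95)) (.node (.leaf 30) (.leaf 94))) (.node (.node (.leaf 67) (.leaf 75)) (.leaf 97)))) (.node (.node (.node (.node (.leaf 42) (.leaf 65)) (.node (.leaf 53) (.leaf 62))) (.node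 (.node (.leaf 90) (.leaf 106)) (.leaf 82))) (.node (.node (.node (.leaf 75) (.leaf 124)) (.node (.leaf 123) (.leaf 80))) (.node (.node (.leaf 6) (.leaf 110)) (.leaf 39))))))

def twoNext14 : Janko.Tree (ℕ) :=
  (.node (.node (.node (.node (.node (.node (.leaf 14) (.leaf 35)) (.node (.leaf 65) (.leaf 124))) (.node (.node (.leaf 58) (.leaf 108)) (.leaf 11))) (.node (.node (.node (.leaf 41) (.leaf 49)) (.node (.leaf 9) (.leaf 121))) (.node (.node (.leaf 5) (.leaf 84)) (.leaf 70)))) (.node (.node (.node (.node (.leaf 34) (.leaf 41)) (.node (.leaf 13) (.leaf 83))) (.node (.node (.leaf 86) (.leaf 52)) (.leaf 66))) (.node (.node (.node (.leaf 65) (.leaf 52)) (.node (.leaf 121) (.leaf 81))) (.node (.node (.leaf 56) (.leaf 116)) (.leaf 99))))) (.node (.node (.node (.node (.node (.leaf 28) (.leaf 20)) (.node (.leaf 111) (.leaf 97))) (.node (.node (.leaf 83) (.leaf 84)) (.leaf 115))) (.node (.node (.node (.leaf 26) (.leaf 103))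 (.node (.leaf 80) (.leaf 113))) (.node (.node (.leaf 49) (.leaf 74)) (.leaf 16)))) (.node (.node (.node (.node (.leaf 43) (.leaf 111)) (.node (.leaf 9) (.leaf 124))) (.node (.node (.leaf 4) (.leaf 32)) (.leaf 68))) (.node (.node (.node (.leaf 60) (.leaf 95)) (.node (.leaf 48) (.leaf 93))) (.node (.node (.leaf 81) (.leaf 39)) (.leaf 76))))))

def twoNext15 : Janko.Tree (ℕ) :=
  (.node (.node (.node (.node (.node (.node (.leaf 0) (.leaf 64)) (.node (.leaf 64) (.leaf 40))) (.node (.node (.leaf 77) (.leaf 125)) (.leaf 73))) (.node (.node (.node (.leaf 54) (.leaf 25)) (.node (.leaf 20) (.leaf 83))) (.node (.node (.leaf 4) (.leaf 97)) (.leaf 45)))) (.node (.node (.node (.node (.leaf 0) (.leaf 62)) (.node (.leaf 44) (.leaf 105))) (.node (.node (.leaf 47) (.leaf 70)) (.leaf 39))) (.node (.node (.node (.leaf 21) (.leaf 4)) (.node (.leaf 11) (.leaf 93))) (.node (.node (.leaf 104) (.leaf 80)) (.leaf 16))))) (.node (.node (.node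 (.node (.node (.leaf 0) (.leaf 121)) (.node (.leaf 21) (.leaf 109))) (.node (.node (.leaf 28) (.leaf 28)) (.leaf 122))) (.node (.node (.node (.leaf 56) (.leaf 25)) (.node (.leaf 10) (.leaf 96))) (.node (.node (.leaf 4) (.leaf 11)) (.leaf 65)))) (.node (.node (.node (.node (.leaf 25) (.leaf 22)) (.node (.leaf 114) (.leaf 50))) (.node (.node (.leaf 91) (.leaf 120)) (.leaf 80))) (.node (.node (.node (.leaf 37) (.leaf 27)) (.node (.leaf 78) (.leaf 82))) (.node (.node (.leaf 107) (.leaf 66)) (.leaf 43))))))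

/-- a table -/
def twoNext : Janko.Tree (ℕ) := (.node (.node (.node (.node twoNext0 twoNext8) (.node twoNext4 twoNext12)) (.node (.node twoNext2 twoNext10) (.node twoNext6 twoNext14))) (.node (.node (.node twoNext1 twoNext9) (.node twoNext5 twoNext13)) (.node (.node twoNext3 twoNext11) (.node twoNext7 twoNext15))))

def twoWord0 : Janko.Tree (ℕ) :=
  (.node (.node (.node (.leaf 1) (.leaf 4388)) (.node (.leaf 320) (.leaf 4928))) (.node (.node (.leaf 275) (.leaf 4627)) (.node (.leaf 4134) (.leaf 65862))))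

def twoWord1 : Janko.Tree (ℕ) :=
  (.node (.node (.node (.leaf 16) (.leaf 4389)) (.node (.leaf 322) (.leaf 4930))) (.node (.node (.leaf 276) (.leaf 4629)) (.node (.leaf 4144) (.leaf 66067))))

def twoWord2 : Janko.Tree (ℕ) :=
  (.node (.node (.node (.leaf 17) (.leaf 4400)) (.node (.leaf 325) (.leaf 4933))) (.node (.node (.leaf 277) (.leaf 4657)) (.node (.leaf 4145) (.leaf 66100))))

def twoWord3 : Janko.Tree (ℕ) :=
  (.node (.node (.node (.leaf 18) (.leaf 4401)) (.node (.leaf 326) (.leaf 4945))) (.node (.node (.leaf 278) (.leaf 4660)) (.node (.leaf 4146) (.leaf 66102))))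

def twoWord4 : Janko.Tree (ℕ) :=
  (.node (.node (.node (.leaf 19) (.leaf 4402)) (.node (.leaf 337) (.leaf 5122))) (.node (.node (.leaf 288) (.leaf 4662)) (.node (.leaf 4148) (.leaf 66308))))

def twoWord5 : Janko.Tree (ℕ) :=
  (.node (.node (.node (.leaf 20) (.leaf 4404)) (.node (.leaf 342) (.leaf 5123))) (.node (.node (.leaf 289) (.leaf 4677)) (.node (.leaf 4149) (.leaf 66322))))

def twoWord6 : Janko.Tree (ℕ) :=
  (.node (.node (.node (.leaf 21) (.leaf 4405)) (.node (.leaf 4112) (.leaf 5155))) (.node (.node (.leaf 291) (.leaf 4694)) (.node (.leaf 4162) (.leaf 66325))))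

def twoWord7 : Janko.Tree (ℕ) :=
  (.node (.node (.node (.leaf 22) (.leaf 4406)) (.node (.leaf 4114) (.leaf 5157))) (.node (.node (.leaf 292) (.leaf 4865)) (.node (.leaf 4165) (.leaf 66337))))

def twoWord8 : Janko.Tree (ℕ) :=
  (.node (.node (.node (.leaf 257) (.leaf 4416)) (.node (.leaf 4115) (.leaf 5201))) (.node (.node (.leaf 293) (.leaf 4868)) (.node (.leaf 4166) (.leaf 66340))))

def twoWord9 : Janko.Tree (ℕ) :=
  (.node (.node (.node (.leaf 258) (.leaf 4418)) (.node (.leaf 4116) (.leaf 5206))) (.node (.node (.leaf 294) (.leaf 4869)) (.node (.leaf 4177) (.leaf 66370))))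

def twoWord10 : Janko.Tree (ℕ) :=
  (.node (.node (.node (.leaf 259) (.leaf 4421)) (.node (.leaf 4117) (.leaf 5392))) (.node (.node (.leaf 304) (.leaf 4880)) (.node (.leaf 4182) (.leaf 66385))))

def twoWord11 : Janko.Tree (ℕ) :=
  (.node (.node (.node (.leaf 260) (.leaf 4422)) (.node (.leaf 4118) (.leaf 5395))) (.node (.node (.leaf 305) (.leaf 4882)) (.node (.leaf 4355) (.leaf 66595))))

def twoWord12 : Janko.Tree (ℕ) :=
  (.node (.node (.node (.leaf 261) (.leaf 4609)) (.node (.leaf 4129) (.leaf 65798))) (.node (.node (.leaf 306) (.leaf 4885)) (.node (.leaf 4357) (.leaf 66835))))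

def twoWord13 : Janko.Tree (ℕ) :=
  (.node (.node (.node (.leaf 262) (.leaf 4611)) (.node (.leaf 4131) (.leaf 65827))) (.node (.node (.leaf 308) (.leaf 4897)) (.node (.leaf 4358) (.leaf 70438))))

def twoWord14 : Janko.Tree (ℕ) :=
  (.node (.node (.node (.leaf 272) (.leaf 4612)) (.node (.leaf 4132) (.leaf 65845))) (.node (.node (.leaf 309) (.leaf 4900)) (.node (.leaf 4384) (.leaf 70464))))

def twoWord15 : Janko.Tree (ℕ) :=
  (.node (.node (.node (.leaf 274) (.leaf 4624)) (.node (.leaf 4133) (.leaf 65846))) (.node (.node (.leaf 310) (.leaf 4902)) (.node (.leaf 4387) (.leaf 70691))))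

/-- a table -/
def twoWord : Janko.Tree (ℕ) := (.node (.node (.node (.node twoWord0 twoWord8) (.node twoWord4 twoWord12)) (.node (.node twoWord2 twoWord10) (.node twoWord6 twoWord14))) (.node (.node (.node twoWord1 twoWord9) (.node twoWord5 twoWord13)) (.node (.node twoWord3 twoWord11) (.node twoWord7 twoWord15))))

def twoPar0 : Janko.Tree (ℕ) :=
  (.node (.node (.node (.leaf 0) (.leaf 244)) (.node (.leaf 80) (.leaf 464))) (.node (.node (.leaf 35) (.leaf 339)) (.node (.leaf 150) (.leaf 662))))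

def twoPar1 : Janko.Tree (ℕ) :=
  (.node (.node (.node (.leaf 0) (.leaf 245)) (.node (.leaf 82) (.leaf 466))) (.node (.node (.leaf 36) (.leaf 341)) (.node (.leaf 160) (.leaf 707))))

def twoPar2 : Janko.Tree (ℕ) :=
  (.node (.node (.node (.leaf 1) (.leaf 256)) (.node (.leaf 85) (.leaf 469))) (.node (.node (.leaf 37) (.leaf 353)) (.node (.leaf 161) (.leaf 724))))

def twoPar3 : Janko.Tree (ℕ) :=
  (.node (.node (.node (.leaf 2) (.leaf 257)) (.node (.leaf 86) (.leaf 481))) (.node (.node (.leaf 38) (.leaf 356)) (.node (.leaf 162) (.leaf 726))))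

def twoPar4 : Janko.Tree (ℕ) :=
  (.node (.node (.node (.leaf 3) (.leaf 258)) (.node (.leaf 97) (.leaf 514))) (.node (.node (.leaf 48) (.leaf 358)) (.node (.leaf 164) (.leaf 788))))

def twoPar5 : Janko.Tree (ℕ) :=
  (.node (.node (.node (.leaf 4) (.leaf 260)) (.node (.leaf 102) (.leaf 515))) (.node (.node (.leaf 49) (.leaf 373)) (.node (.leaf 165) (.leaf 802))))

def twoPar6 : Janko.Tree (ℕ) :=
  (.node (.node (.node (.leaf 5) (.leaf 261)) (.node (.leaf 128) (.leaf 531))) (.node (.node (.leaf 51) (.leaf 390)) (.node (.leaf 178) (.leaf 805))))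

def twoPar7 : Janko.Tree (ℕ) :=
  (.node (.node (.node (.leaf 6) (.leaf 262)) (.node (.leaf 130) (.leaf 533))) (.node (.node (.leaf 52) (.leaf 417)) (.node (.leaf 181) (.leaf 817))))

def twoPar8 : Janko.Tree (ℕ) :=
  (.node (.node (.node (.leaf 17) (.leaf 272)) (.node (.leaf 131) (.leaf 545))) (.node (.node (.leaf 53) (.leaf 420)) (.node (.leaf 182) (.leaf 820))))

def twoPar9 : Janko.Tree (ℕ) :=
  (.node (.node (.node (.leaf 18) (.leaf 274)) (.node (.leaf 132) (.leaf 550))) (.node (.node (.leaf 54) (.leaf 421)) (.node (.leaf 193) (.leaf 834))))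

def twoPar10 : Janko.Tree (ℕ) :=
  (.node (.node (.node (.leaf 19) (.leaf 277)) (.node (.leaf 133) (.leaf 576))) (.node (.node (.leaf 64) (.leaf 432)) (.node (.leaf 198) (.leaf 849))))

def twoPar11 : Janko.Tree (ℕ) :=
  (.node (.node (.node (.leaf 20) (.leaf 278)) (.node (.leaf 134) (.leaf 579))) (.node (.node (.leaf 65) (.leaf 434)) (.node (.leaf 227) (.leaf 867))))

def twoPar12 : Janko.Tree (ℕ) :=
  (.node (.node (.node (.leaf 21) (.leaf 321)) (.node (.leaf 145) (.leaf 614))) (.node (.node (.leaf 66) (.leaf 437)) (.node (.leaf 229) (.leaf 915))))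

def twoPar13 : Janko.Tree (ℕ) :=
  (.node (.node (.node (.leaf 22) (.leaf 323)) (.node (.leaf 147) (.leaf 627))) (.node (.node (.leaf 68) (.leaf 449)) (.node (.leaf 230) (.leaf 1094))))

def twoPar14 : Janko.Tree (ℕ) :=
  (.node (.node (.node (.leaf 32) (.leaf 324)) (.node (.leaf 148) (.leaf 645))) (.node (.node (.leaf 69) (.leaf 452)) (.node (.leaf 240) (.leaf 1104))))

def twoPar15 : Janko.Tree (ℕ) :=
  (.node (.node (.node (.leaf 34) (.leaf 336)) (.node (.leaf 149) (.leaf 646))) (.node (.node (.leaf 70) (.leaf 454)) (.node (.leaf 243) (.leaf 1171))))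

/-- a table -/
def twoPar : Janko.Tree (ℕ) := (.node (.node (.node (.node twoPar0 twoPar8) (.node twoPar4 twoPar12)) (.node (.node twoPar2 twoPar10) (.node twoPar6 twoPar14))) (.node (.node (.node twoPar1 twoPar9) (.node twoPar5 twoPar13)) (.node (.node twoPar3 twoPar11) (.node twoPar7 twoPar15))))

def twoL0 : Janko.Tree (List ℤ) :=
  (.node (.node (.node (.node (.node (.node (.leaf []) (.leaf [1336, 123, -531, 1846, 859, -569, -334, -22, 658, -1862, -856, 1414, -116, 16])) (.node (.leaf [-222, -8, 86, -268, -153, 83, 53, 2, -99, 274, 155, -221, 12, -6]) (.leaf [2426, 109, -949, 3148, 1327, -1093, -484, -19, 1108, -3207, -1347, 2252, -149, 59]))) (.node (.node (.leaf [14, 0, -2, 12, 4, -6, 0, 0, 2, -12, -4, 7, 0, 0]) (.leaf [-621, 20, 267, -672, -485, 197, 157, -3, -271, 696, 498, -610, 6, -23])) (.node (.leaf [62, 17, -18, 104, 20, -38, -7, -2, 32, -102, -18, 59, -13, -2]) (.leaf [1, 0, 0, 0, 0, 0, 0, 0, 0, 0, 0, 0,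 0, 0])))) (.node (.node (.node (.leaf []) (.leaf [866, -15, -350, 992, 560, -329, -178, 8, 370, -1022, -579, 790, -23, 30])) (.node (.leaf [-148, 11, 90, -208, -166, 33, 84, 2, -86, 216, 169, -227, -5, -8]) (.leaf [-78, -1, 30, -94, -44, 33, 12, -2, -34, 96, 46, -67, 5, -2]))) (.node (.node (.leaf [430, 85, -148, 672, 220, -220, -98, -18, 219, -666, -209, 459, -62, -5]) (.leaf [-58, 29, 44, -16, -110, -17, 41, -2, -26, 26, 117, -86, -17, -10])) (.leaf [-2, -1, -1, 0, 1, 1, 0, 1, 1, 0, -1, 0, 0, 0])))) (.node (.node (.node (.node (.leaf []) (.leaf [0, 0, -1, 4, 0, 0, -2, 0, 1, -4, 0, 3, 0, 0])) (.node (.leaf [-2, -7, -6, -10, 15, 9, -9, 0, 0, 8, -16, 9, 6, 2]) (.leaf [760, 80, -245, 962, 468, -311, -146, -8, 330, -970, -468, 736, -80, 8]))) (.node (.node (.leaf []) (.leaf [1, 0, 0, 0, 0, -1, 0, 0, 0, 0, 0, 0, 0, 0])) (.leaf [0, 0, 0, 1, 0, 0, 0, 0, 0, 0, 0, 0, 0, 0]))) (.node (.node (.node (.leaf [-4, 0, 0, -4, 0, 2, 0,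 0, 0, 4, 0, -2, 0, 0]) (.leaf [0, 0, 0, 0, 0, 0, 1, 0, 0, 0, 0, 0, 0, 0])) (.node (.leaf []) (.leaf [0, 0, 0, 1, 0, 0, 0, 0, 0, 0, 0, 0, 0, 0]))) (.node (.node (.leaf [1, 0, 0, 0, 0, -1, 0, 0, 0, 0, 0, 0, 0, 0]) (.leaf [78, 11, -28, 112, 39, -39, -11, 0, 39, -112, -39, 73, -11, 0])) (.leaf [-450, -80, 158, -683, -229, 228, 89, 12, -227, 678, 221, -459, 63, 5]))))) (.node (.node (.node (.node (.node (.leaf []) (.leaf [1024, 17, -420, 1277, 606, -435, -206, 2, 467, -1306, -621, 946, -48, 29])) (.node (.leaf []) (.leaf [5, 1, 1, 0, 1, -2, 1, -1, -1, 0, 0, 0, 0, 0]))) (.node (.node (.leaf []) (.leaf [-888, -15, 379, -1089, -640, 328, 225, 2, -418, 1114, 651, -905, 38, -25])) (.node (.leaf [0, 1, 0, 0, 0, 0, 0, 0, 0, 0, 0, 0, 0, 0]) (.leaf [58, 0, -24, 70, 36, -22, -10, 2, 26, -72, -38, 53, -3, 2])))) (.node (.node (.node (.leaf [-50, -14, 16, -88, -17, 31, 5, 0, -28, 86, 16, -49, 12, 2]) (.leaf [92, -27, -52, 74, 87, -17,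 -34, 2, 34, -82, -92, 92, 17, 8])) (.node (.leaf [3, 0, 1, 0, 0, -1, 1, 0, -1, 0, 0, 0, 0, 0]) (.leaf [2068, 118, -776, 2707, 1052, -968, -389, -25, 932, -2757, -1064, 1880, -143, 50]))) (.node (.node (.leaf []) (.leaf [-94, 27, 52, -74, -87, 18, 34, -2, -34, 82, 92, -91, -17, -8])) (.leaf [324, 119, -108, 634, 1, -270, 10, -9, 200, -611, 15, 243, -87, -23])))) (.node (.node (.node (.node (.leaf []) (.leaf [112, 7, -40, 132, 57, -52, -10, 1, 49, -133, -58, 85, -9, 1])) (.node (.leaf [-4, 0, 0, -2, 0, 2, -1, 0, 0, 2, 0, 0, 0, 0]) (.leaf [0, 0, 0, 0, 1, 0, 0, 0, 0, 0, 0, 0, 0, 0]))) (.node (.node (.leaf [52, 9, -11, 68, 20, -26, -3, 0, 20, -68, -20, 42, -9, 0]) (.leaf [-786, -87, 274, -1036, -443, 354, 139, 10, -362, 1042, 441, -738, 83, -6])) (.leaf [118, -19, -56, 106, 116, -21, -41, 2, 44, -112, -120, 127, 11, 6]))) (.node (.node (.node (.leaf []) (.leaf [104, 3, -36, 113, 60, -42, -11, 2, 42, -115, -62, 81, -7, 2]))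 (.node (.leaf [0, 0, 0, 0, 1, 0, 0, 0, 0, 0, 0, 0, 0, 0]) (.leaf [-380, -60, 117, -504, -178, 189, 35, 2, -172, 500, 175, -315, 54, 4]))) (.node (.node (.leaf [14, 0, -2, 12, 4, -6, 0, 0, 2, -12, -4, 7, 0, 0]) (.leaf [0, 0, 0, 1, 0, 0, 0, 0, 0, 0, 0, 0, 0, 0])) (.leaf [-164, -31, 52, -254, -74, 86, 34, 6, -78, 252, 70, -168, 23, 2]))))))

def twoL1 : Janko.Tree (List ℤ) :=
  (.node (.node (.node (.node (.node (.node (.leaf []) (.leaf [0, 0, 1, 0, 0, 0, 0, 0, 0, 0, 0, 0, 0, 0])) (.node (.leaf [-152, 1, 64, -176, -120, 50, 45, 2, -68, 182, 122, -162, 3, -6]) (.leaf [-18, -5, 7, -30, -12, 9, 4, 0, -12, 30, 12, -21, 5, 0]))) (.node (.node (.leaf [-6, 0, 0, -6, 0, 3, 0, 0, 0, 6, 0, -3, 0, 0]) (.leaf [450, 80, -158, 683, 230, -228, -89, -12, 227, -678, -221, 459, -63, -5])) (.node (.leaf [1, 0, 0, 0, 1, 0, -1, 0, 0, 0, -1, 1, 0, 0]) (.leaf [0, 1, 0, 0, 0, 0, 0, 0, 0, 0, 0, 0, 0, 0])))) (.node (.node (.node (.leaf [0, 0, 1,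 0, 0, 0, 0, 0, 0, 0, 0, 0, 0, 0]) (.leaf [10, 10, 13, 14, -32, -19, 18, 0, -4, -12, 32, -21, -9, -1])) (.node (.leaf []) (.leaf [1165, 100, -386, 1384, 865, -397, -264, -7, 498, -1399, -869, 1195, -108, 15]))) (.node (.node (.leaf [380, 63, -132, 559, 210, -182, -80, -10, 187, -556, -203, 392, -50, -3]) (.leaf [80, 17, -24, 128, 19, -50, -7, -2, 38, -126, -17, 67, -13, -2])) (.leaf [564, 19, -243, 720, 423, -204, -162, -6, 270, -732, -426, 612, -24, 12])))) (.node (.node (.node (.node (.leaf []) (.leaf [-212, 15, 121, -280, -224, 50, 107, 2, -117, 292, 229, -300, -5, -12])) (.node (.leaf [2, 1, 1, 0, 1, -1, 0, -1, 0, 0, 0, 0, 0, 0]) (.leaf [30, -6, -12, 21, 31, -3, -11, 0, 8, -22, -32, 31, 4, 2]))) (.node (.node (.leaf [-788, -156, 221, -1106, -363, 399, 90, 12, -363, 1098, 353, -706, 136, 8]) (.leaf [-100, 0, 48, -112, -88, 30, 30, 2, -50, 115, 89, -106, 1, -3])) (.leaf [-122, -5, 50, -150, -77, 51, 22, -1, -60, 154,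 80, -112, 10, -4]))) (.node (.node (.node (.leaf [0, 0, 0, 0, 0, 0, 1, 0, 0, 0, 0, 0, 0, 0]) (.leaf [-57, 4, 27, -51, -45, 18, 8, -1, -25, 52, 46, -43, -2, -1])) (.node (.leaf [-68, 1, 28, -60, -50, 23, 8, 0, -28, 62, 50, -50, 0, -1]) (.leaf [94, 15, -34, 142, 52, -46, -21, -2, 48, -142, -50, 99, -13, 0]))) (.node (.node (.leaf [10, -1, -6, 12, 9, -3, -2, 1, 5, -12, -9, 10, 0, 0]) (.leaf [44, 17, -10, 80, 10, -30, -3, -2, 24, -78, -8, 42, -13, -2])) (.leaf [-1106, -53, 442, -1390, -748, 432, 259, 8, -511, 1410, 754, -1108, 65, -20]))))) (.node (.node (.node (.node (.node (.leaf []) (.leaf [2, 0, 0, 0, 1, -1, 1, 0, 0, 0, 0, -1, 0, 0])) (.node (.leaf [-47, -16, 19, -96, -15, 33, 7, 1, -32, 94, 13, -52, 13, 2]) (.leaf [-24, -9, 4, -52, 1, 19, 1, 0, -12, 50, -2, -24, 8, 2]))) (.node (.node (.leaf [-2, 0, -1, 0, 0, 1, -1, 0, 1, 0, 0, 0, 0, 0]) (.leaf [-22, -3, 9, -32, -12, 11, 4, 0, -12, 32, 12, -21, 3, 0])) (.node (.leaf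 [-2, 1, 0, 0, 0, 1, 0, 0, 1, 0, 0, 0, -1, 0]) (.leaf [12, 3, -6, 20, 8, -6, -2, 0, 8, -20, -8, 14, -2, 0])))) (.node (.node (.node (.leaf [0, 0, 0, 0, 1, 0, 0, 0, 0, 0, 0, 0, 0, 0]) (.leaf [492, 11, -182, 546, 314, -188, -82, 2, 206, -558, -321, 425, -25, 12])) (.node (.leaf [12, 5, -3, 20, 8, -6, -1, 0, 8, -20, -8, 14, -5, 0]) (.leaf [0, 0, 1, 0, 0, 0, 0, 0, 0, 0, 0, 0, 0, 0]))) (.node (.node (.leaf [350, 32, -120, 447, 213, -146, -65, -2, 155, -450, -213, 335, -34, 3]) (.leaf [662, 59, -254, 890, 421, -279, -156, -10, 318, -900, -421, 682, -59, 10])) (.leaf [2, 0, 0, 2, 0, -1, 0, 0, 0, -1, 0, 0, 0, 0])))) (.node (.node (.node (.node (.leaf [-2, 0, 0, 4, -4, -1, -1, 0, 0, -4, 4, 1, 0, 0]) (.leaf [164, -67, -124, 89, 324, 49, -119, 10, 74, -102, -336, 272, 45, 13])) (.node (.leaf [-2, 0, 0, 0, 0, 1, -1, 0, 0, 0, 0, 1, 0, 0]) (.leaf [339, 32, -120, 448, 203, -145, -67, -2, 155, -451, -203, 332, -34, 3]))) (.node (.node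 (.leaf [18, 0, -3, 12, 8, -7, 1, 0, 4, -12, -8, 7, 0, 0]) (.leaf [270, 26, -108, 365, 189, -108, -65, -2, 135, -366, -189, 287, -26, 2])) (.leaf [0, 0, 0, 0, 0, 0, 1, 0, 0, 0, 0, 0, 0, 0]))) (.node (.node (.node (.leaf []) (.leaf [-110, -47, 36, -215, 16, 103, -20, 2, -74, 207, -21, -59, 37, 8])) (.node (.leaf [-6, 0, 0, 1, -7, 0, 0, 0, 0, -1, 7, -3, 0, 0]) (.leaf [0, 0, 0, 0, 0, 0, 1, 0, 0, 0, 0, 0, 0, 0]))) (.node (.node (.leaf [-56, -14, 16, -86, -25, 30, 5, 0, -28, 84, 24, -52, 12, 2]) (.leaf [-3188, -178, 1276, -4107, -2335, 1168, 892, 44, -1491, 4166, 2343, -3468, 193, -59])) (.leaf [1000, 126, -328, 1301, 636, -409, -196, -12, 448, -1301, -630, 995, -114, 0]))))))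

def twoL2 : Janko.Tree (List ℤ) :=
  (.node (.node (.node (.node (.node (.node (.leaf []) (.leaf [])) (.node (.leaf [-152, 1, 64, -176, -120, 49, 46, 2, -68, 182, 122, -162, 3, -6]) (.leaf [-235, -32, 103, -373, -143, 115, 64, 5, -135, 375, 141, -268, 29, -2]))) (.node (.node (.leaf [-2, 0, 0, 0, -2, 0, 0, 0, 0, 0, 2, -1, 0, 0]) (.leaf [142, 13, -85, 268, 136, -52, -91, -10, 95, -270, -132, 246, -5, 2])) (.node (.leaf [68, 6, -19, 84, 30, -31, -6, 1, 25, -84, -30, 54, -7, 0]) (.leaf [0, 0, 1, 0, 0, 0, 0, 0, 0, 0, 0, 0, 0, 0])))) (.node (.node (.node (.leaf []) (.leaf [-16, 16, 29, -11, -62, -16, 31, 0, -16, 14, 64, -54, -13, -3])) (.node (.leaf [1295, 210, -403, 1796, 651, -628, -194, -20, 599, -1792, -639, 1205, -186, -4]) (.leaf [0, 1, 0, 0, 0, 0, 0, 0, 0, 0, 0, 0, 0, 0]))) (.node (.node (.leaf []) (.leaf [62, 17, -19, 104, 17, -40, -5, -2, 33, -102, -15, 55, -13, -2])) (.leaf [-40, -11, 9, -58, -10, 24, -2, 0, -17,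 56, 9, -28, 9, 2])))) (.node (.node (.node (.node (.leaf []) (.leaf [-661, -59, 254, -890, -421, 279, 156, 10, -318, 900, 421, -682, 59, -10])) (.node (.leaf [46, -3, -22, 36, 42, -12, -8, 0, 20, -37, -42, 36, 2, 1]) (.leaf [0, 0, 0, 0, 1, 0, 0, 0, 0, 0, 0, 0, 0, 0]))) (.node (.node (.leaf [-818, -66, 343, -1136, -563, 335, 227, 14, -414, 1148, 562, -901, 64, -12]) (.leaf [-1006, -89, 344, -1257, -652, 397, 209, 10, -442, 1271, 654, -990, 93, -14])) (.leaf [856, 144, -282, 1223, 431, -422, -137, -17, 406, -1212, -417, 812, -116, -11]))) (.node (.node (.node (.leaf [1, 0, 0, 0, 0, -1, 0, 0, 0, 0, 0, 0, 0, 0]) (.leaf [0, 1, 0, 0, 0, 0, 0, 0, 0, 0, 0, 0, 0, 0])) (.node (.leaf [-52, -5, 16, -51, -22, 25, -3, 0, -20, 50, 22, -26, 4, 1]) (.leaf [10, 43, 34, 42, -93, -53, 56, -2, -2, -32, 99, -68, -31, -10]))) (.node (.node (.leaf []) (.leaf [-263, -26, 108, -367, -179, 110, 66, 2, -135, 369, 179, -284, 26, -2])) (.leaf [])))))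 (.node (.node (.node (.node (.node (.leaf []) (.leaf [-66, -9, 22, -92, -31, 33, 9, 0, -31, 92, 31, -59, 9, 0])) (.node (.leaf [-2, -2, 1, -8, -4, 1, 1, 0, -4, 8, 4, -7, 3, 0]) (.leaf [12, 1, -3, 12, 5, -6, -1, -1, 4, -12, -4, 7, 0, 0]))) (.node (.node (.leaf [18, 0, -5, 24, 4, -10, -2, 0, 5, -24, -4, 14, 0, 0]) (.leaf [-582, 17, 249, -647, -455, 185, 155, -2, -255, 669, 467, -588, 7, -22])) (.node (.leaf []) (.leaf [158, -49, -97, 123, 230, 8, -98, 2, 66, -138, -239, 230, 31, 16])))) (.node (.node (.node (.leaf []) (.leaf [0, 0, 0, 0, 0, 0, 1, 0, 0, 0, 0, 0, 0, 0])) (.node (.leaf [-10, 0, 5, -12, -4, 5, 1, 0, -4, 12, 4, -7, 0, 0]) (.leaf [120, -34, -83, 125, 177, 1, -86, 0, 61, -136, -183, 198, 22, 12]))) (.node (.node (.leaf []) (.leaf [-509, -20, 218, -650, -386, 183, 151, 9, -243, 660, 387, -559, 21, -10])) (.leaf [-120, -44, 37, -237, 19, 108, -11, 3, -72, 229, -24, -76, 33, 8])))) (.node (.node (.node (.node (.leaf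 [32, 6, -6, 48, 4, -20, -1, 0, 12, -48, -4, 24, -6, 0]) (.leaf [4192, 173, -1692, 5304, 2998, -1553, -1115, -38, 1937, -5394, -3024, 4423, -225, 90])) (.node (.leaf [-36, -9, 10, -58, -10, 22, -1, -2, -18, 56, 10, -28, 9, 2]) (.leaf [-11, 0, 0, 1, -10, 0, -1, 0, 0, -1, 10, -3, 0, 0]))) (.node (.node (.leaf [-4, 0, 0, -2, 0, 2, -1, 0, 0, 2, 0, 0, 0, 0]) (.leaf [2, 0, 0, 0, 3, 0, 0, 0, 0, 0, -2, 1, 0, 0])) (.leaf [1, 0, 0, 0, 0, -1, 0, 0, 0, 0, 0, 0, 0, 0]))) (.node (.node (.node (.leaf []) (.leaf [-4, 0, 0, -8, 4, 4, 0, 0, 0, 9, -4, -3, 0, 0])) (.node (.leaf [-4, 0, 0, 1, -4, 0, 0, 0, 0, -1, 4, -1, 0, 0]) (.leaf [109, 22, -48, 203, 43, -69, -41, -12, 65, -204, -37, 134, -11, 1]))) (.node (.node (.leaf [10, 0, 0, 8, -1, -6, 2, 0, 0, -8, 2, 1, 0, 0]) (.leaf [164, 31, -52, 254, 74, -85, -34, -6, 78, -252, -70, 168, -23, -2])) (.leaf [-402, -58, 142, -577, -233, 185, 89, 10, -195, 576, 227, -417, 48, 1]))))))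

def twoL3 : Janko.Tree (List ℤ) :=
  (.node (.node (.node (.node (.node (.node (.leaf []) (.leaf [182, 24, -87, 300, 123, -86, -62, -6, 110, -302, -120, 227, -20, 2])) (.node (.leaf [-10, 0, 0, -12, 4, 7, -1, 0, 0, 12, -4, -3, 0, 0]) (.leaf [-88, -19, 28, -136, -40, 48, 6, -2, -46, 133, 39, -80, 19, 3]))) (.node (.node (.leaf [0, 0, 0, 0, 0, 1, 0, 0, 0, 0, 0, 0, 0, 0]) (.leaf [22, 3, -9, 32, 12, -11, -3, 0, 12, -32, -12, 21, -3, 0])) (.node (.leaf [194, 5, -83, 236, 150, -67, -54, -2, 93, -242, -152, 206, -9, 6]) (.leaf [0, 0, 0, 1, 0, 0, 0, 0, 0, 0, 0, 0, 0, 0])))) (.node (.node (.node (.leaf []) (.leaf [634, -11, -255, 692, 454, -217, -139, 4, 268, -714, -467, 592, -15, 22])) (.node (.leaf [-2, -1, 0, 0, 0, 1, 0, 1, 0, 0, 0, 0, 0, 0]) (.leaf [2, -1, 0, 1, 0, -1, 0, 0, 0, -1, 0, 0, 1, 0]))) (.node (.node (.leaf [500, 97, -176, 783, 241, -264, -96, -14, 259, -776, -231, 512, -76, -7]) (.leaf [102, -2, -36, 88, 81, -28,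 -18, 0, 36, -90, -82, 85, 0, 2])) (.leaf [46, -22, -45, 39, 94, 11, -44, 0, 28, -44, -96, 89, 17, 5])))) (.node (.node (.node (.node (.leaf []) (.leaf [-154, -2, 71, -184, -132, 48, 50, 3, -77, 190, 134, -173, 5, -6])) (.node (.leaf [0, 0, 0, 0, 1, 0, 0, 0, 0, 0, 0, 0, 0, 0]) (.leaf [-214, 15, 122, -284, -226, 51, 108, 2, -118, 296, 231, -304, -5, -12]))) (.node (.node (.leaf [-1662, -161, 635, -2270, -1040, 713, 386, 24, -801, 2288, 1037, -1717, 155, -18]) (.leaf [50, 14, -16, 82, 24, -28, -5, 0, 28, -79, -23, 49, -12, -2])) (.leaf [2, 0, 0, 1, 0, -1, 1, 0, 0, -1, 0, 0, 0, 0]))) (.node (.node (.node (.leaf [2, 2, 0, 0, 0, -1, 0, -1, 0, 0, 0, 0, 0, 0]) (.leaf [-2, 1, 1, -1, 0, 1, 0, 0, 0, 1, 0, 0, -1, 0])) (.node (.leaf []) (.leaf [160, 11, -66, 218, 113, -63, -45, -2, 80, -222, -114, 178, -13, 4]))) (.node (.node (.leaf []) (.leaf [8, 0, 0, 8, -1, -5, 1, 0, 0, -8, 2, 2, 0, 0])) (.leaf []))))) (.node (.node (.node (.node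 (.node (.leaf []) (.leaf [0, 0, 0, 0, 0, 0, 1, 0, 0, 0, 0, 0, 0, 0])) (.node (.leaf [0, 0, 1, 0, 0, 0, 0, 0, 0, 0, 0, 0, 0, 0]) (.leaf [40, -1, -16, 29, 30, -13, -2, 0, 16, -30, -30, 24, 0, 1]))) (.node (.node (.leaf []) (.leaf [446, 75, -161, 677, 241, -220, -98, -12, 227, -674, -233, 469, -60, -3])) (.node (.leaf [36, 10, -9, 58, 9, -22, 1, 1, 17, -56, -8, 28, -9, -2]) (.leaf [-52, -17, 19, -100, -11, 37, 7, 2, -32, 98, 10, -52, 13, 2])))) (.node (.node (.node (.leaf []) (.leaf [72, -29, -49, 40, 114, 9, -45, 2, 31, -50, -120, 101, 17, 10])) (.node (.leaf [-4, 0, 0, -2, 0, 2, -1, 0, 0, 2, 0, 0, 0, 0]) (.leaf [150, -32, -99, 172, 205, -10, -99, 0, 81, -186, -211, 241, 18, 14]))) (.node (.node (.leaf []) (.leaf [-14, 0, 3, -12, -4, 6, 0, 0, -2, 12, 4, -7, 0, 0])) (.leaf [852, 153, -273, 1232, 411, -429, -128, -17, 402, -1217, -395, 801, -121, -15])))) (.node (.node (.node (.node (.leaf [10, 0, -4, 12, 4, -5, -1, 0, 4,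 -12, -4, 7, 0, 0]) (.leaf [0, 0, 0, 1, 0, 0, 0, 0, 0, 0, 0, 0, 0, 0])) (.node (.leaf [0, 0, 0, 0, 0, 0, 1, 0, 0, 0, 0, 0, 0, 0]) (.leaf [153, -27, -55, 70, 225, 18, -67, 5, 46, -85, -235, 193, 7, 15]))) (.node (.node (.leaf [-22, -17, 4, -56, -2, 20, 2, 2, -18, 54, 0, -27, 13, 2]) (.leaf [0, 0, 0, 0, 0, 1, 0, 0, 0, 0, 0, 0, 0, 0])) (.leaf [-68, -5, 19, -84, -30, 31, 6, -1, -25, 84, 30, -54, 7, 0]))) (.node (.node (.node (.leaf [0, 0, 0, 1, 0, 0, 0, 0, 0, 0, 0, 0, 0, 0]) (.leaf [-88, 2, 36, -89, -72, 26, 21, 0, -36, 91, 73, -84, 0, -2])) (.node (.leaf [-11, 0, 0, 1, -8, 2, -3, 0, 0, -1, 8, -1, 0, 0]) (.leaf [-1196, -93, 438, -1598, -609, 565, 223, 17, -545, 1619, 611, -1104, 98, -21]))) (.node (.node (.leaf [0, 0, 0, 0, 0, 1, 0, 0, 0, 0, 0, 0, 0, 0]) (.leaf [164, 31, -52, 254, 74, -86, -33, -6, 78, -252, -70, 168, -23, -2])) (.leaf [10, 0, -4, 12, 4, -5, -1, 0, 4, -12, -4, 7, 0, 0]))))))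

def twoL4 : Janko.Tree (List ℤ) :=
  (.node (.node (.node (.node (.node (.node (.leaf []) (.leaf [243, 32, -103, 380, 143, -118, -64, -5, 135, -382, -141, 271, -29, 2])) (.node (.leaf [438, 53, -154, 608, 250, -198, -92, -8, 205, -610, -247, 441, -47, 2]) (.leaf [-208, -101, 62, -464, 60, 211, -30, 6, -140, 444, -73, -133, 75, 20]))) (.node (.node (.leaf [152, -1, -64, 176, 120, -49, -45, -2, 68, -182, -122, 162, -3, 6]) (.leaf [-978, -1, 401, -1182, -591, 403, 199, -3, -435, 1213, 608, -894, 35, -31])) (.node (.leaf [96, 2, -36, 103, 64, -35, -16, 0, 40, -105, -65, 82, -4, 2]) (.leaf [0, 0, 0, 0, 1, 0, 0, 0, 0, 0, 0, 0, 0, 0])))) (.node (.node (.node (.leaf []) (.leaf [-296, -11, 147, -421, -240, 109, 109, 6, -162, 428, 240, -364, 12, -7])) (.node (.leaf [-68, -17, 23, -116, -16, 45, 6, 2, -36, 114, 14, -60, 13, 2]) (.leaf [-862, -144, 282, -1228, -431, 425, 137, 17, -406, 1218, 417, -815, 116, 11]))) (.node (.node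 (.leaf [-1652, -107, 617, -2063, -1076, 656, 349, 10, -743, 2087, 1083, -1611, 121, -24]) (.leaf [4, -1, 0, -1, 1, -2, 1, 0, 0, 0, -1, -1, 0, 1])) (.leaf [0, 0, 0, 0, 1, 0, 0, 0, 0, 0, 0, 0, 0, 0])))) (.node (.node (.node (.node (.leaf [-1284, -54, 534, -1632, -941, 473, 352, 14, -611, 1662, 949, -1372, 70, -30]) (.leaf [-50, -17, 16, -92, -14, 33, 6, 2, -29, 90, 12, -50, 13, 2])) (.node (.leaf [-68, -8, 20, -92, -27, 35, 6, -1, -29, 92, 28, -56, 9, 0]) (.leaf [-96, -15, 34, -142, -51, 47, 20, 2, -48, 142, 50, -98, 13, 0]))) (.node (.node (.leaf [-54, 6, 24, -56, -31, 21, 11, 0, -20, 58, 32, -43, -4, -2]) (.leaf [4, 0, 0, -1, 6, 0, 0, 0, 0, 1, -5, 2, 0, 0])) (.leaf [1, 0, 0, 0, 0, 0, 0, 0, 0, 0, 0, 0, 0, 0]))) (.node (.node (.node (.leaf [-2, -1, 0, 0, -1, 1, 0, 1, 0, 0, 0, 0, 0, 0]) (.leaf [-46, 3, 18, -31, -30, 16, 2, 0, -16, 33, 30, -24, -2, -1])) (.node (.leaf [2, -2, -2, 1, 0, -1, 0, 0, 0, -1, 0, 0, 2, 0]) (.leaf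 [133, -24, -78, 134, 157, -16, -65, 1, 61, -141, -161, 174, 16, 7]))) (.node (.node (.leaf [2, 0, 0, 0, 2, -1, 0, 0, 0, 0, -1, 0, 0, 0]) (.leaf [0, 0, 0, 0, 0, 1, 0, 0, 0, 0, 0, 0, 0, 0])) (.leaf [18, 16, -10, 63, 7, -18, -18, -8, 20, -62, -2, 43, -6, -1]))))) (.node (.node (.node (.node (.node (.leaf []) (.leaf [-29, 1, 13, -36, -24, 8, 8, -1, -12, 36, 24, -32, 0, 0])) (.node (.leaf []) (.leaf [2, 0, 0, 0, 1, -1, 1, 0, 0, 0, 0, -1, 0, 0]))) (.node (.node (.leaf [0, 1, 0, 0, 0, 0, 0, 0, 0, 0, 0, 0, 0, 0]) (.leaf [438, 71, -155, 657, 237, -214, -95, -12, 219, -654, -229, 457, -57, -3])) (.node (.leaf [56, 9, -18, 82, 22, -29, -3, 2, 26, -80, -22, 46, -9, -2]) (.leaf [14, 0, -1, 12, 4, -5, 0, 0, 2, -12, -4, 7, 0, 0])))) (.node (.node (.node (.leaf [1, 0, 0, 0, 0, 0, 0, 0, 0, 0, 0, 0, 0, 0]) (.leaf [-15, -1, 2, -12, -2, 8, 0, 1, -2, 12, 2, -6, 0, 0])) (.node (.leaf [-64, -17, 18, -104, -20, 39, 7, 2, -32, 102, 18, -58, 13,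 2]) (.leaf [-6, -43, -34, -42, 93, 52, -54, 2, 2, 32, -99, 66, 31, 10]))) (.node (.node (.leaf [1388, 81, -564, 1808, 1002, -521, -375, -14, 662, -1832, -1007, 1497, -91, 24]) (.leaf [536, 73, -194, 748, 303, -250, -103, -10, 264, -750, -299, 527, -65, 2])) (.leaf [-2, 0, 0, -1, 0, 1, 0, 0, 0, 1, 0, 0, 0, 0])))) (.node (.node (.node (.node (.leaf [-4, 0, 0, -2, 0, 2, -1, 0, 0, 2, 0, 0, 0, 0]) (.leaf [-160, -30, 71, -276, -87, 87, 45, 6, -98, 276, 84, -188, 24, 0])) (.node (.leaf [-209, -27, 94, -336, -127, 102, 60, 5, -120, 338, 125, -243, 24, -2]) (.leaf [-906, -155, 294, -1296, -444, 453, 138, 18, -429, 1284, 429, -849, 126, 12]))) (.node (.node (.leaf [20, 0, -4, 24, 4, -10, -2, 0, 4, -24, -4, 14, 0, 0]) (.leaf [11, 0, 0, -1, 10, 0, 2, 0, 0, 1, -10, 3, 0, 0])) (.leaf [66, -35, -34, -4, 104, 16, -34, 2, 11, -6, -110, 70, 23, 10]))) (.node (.node (.node (.leaf []) (.leaf [0, 0, 0, 0, 0, 1, 0, 0, 0, 0, 0, 0, 0, 0])) (.node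 (.leaf []) (.leaf [-1144, -65, 422, -1453, -614, 514, 202, 7, -507, 1477, 623, -1028, 82, -24]))) (.node (.node (.leaf []) (.leaf [-237, -31, 104, -376, -142, 115, 64, 4, -135, 378, 141, -269, 29, -2])) (.leaf [4, 0, 0, 3, 0, -2, 1, 0, 0, -2, 0, 0, 0, 0]))))))

def twoL5 : Janko.Tree (List ℤ) :=
  (.node (.node (.node (.node (.node (.node (.leaf []) (.leaf [246, 33, -102, 380, 146, -118, -65, -6, 134, -382, -144, 275, -29, 2])) (.node (.leaf [24, 0, -6, 24, 8, -11, -1, 0, 6, -24, -8, 14, 0, 0]) (.leaf [6, 0, 0, 7, 0, -3, 0, 0, 0, -6, 0, 3, 0, 0]))) (.node (.node (.leaf [-2, 0, 0, 0, 0, 1, -1, 0, 0, 0, 0, 1, 0, 0]) (.leaf [681, 108, -256, 1041, 358, -342, -162, -26, 348, -1039, -344, 720, -79, -2])) (.node (.leaf [10, 0, 0, 8, -1, -6, 2, 0, 0, -8, 2, 1, 0, 0]) (.leaf [0, 0, 0, 0, 0, 1, 0, 0, 0, 0, 0, 0, 0, 0])))) (.node (.node (.node (.leaf []) (.leaf [-102, -15, 33, -143, -54, 48, 19, 2, -47, 143, 53, -100, 13, 0])) (.node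 (.leaf [30, -2, -16, 36, 31, -7, -13, 0, 16, -38, -32, 39, 0, 2]) (.leaf [532, -118, -276, 492, 458, -129, -185, 11, 215, -543, -489, 540, 56, 51]))) (.node (.node (.leaf []) (.leaf [-84, -66, 22, -238, 72, 119, -33, 4, -74, 226, -80, -34, 50, 12])) (.leaf [-3, -1, -1, 0, 1, 2, 0, 1, 1, 0, -1, 0, 0, 0])))) (.node (.node (.node (.node (.leaf []) (.leaf [-1918, -104, 765, -2490, -1293, 757, 492, 24, -897, 2530, 1301, -1999, 120, -40])) (.node (.leaf []) (.leaf [5, 0, 1, 1, 0, -2, 1, 0, -1, -1, 0, 0, 0, 0]))) (.node (.node (.leaf [0, 0, 0, 0, 1, 0, 0, 0, 0, 0, 0, 0, 0, 0]) (.leaf [2, 0, 0, -1, 3, 1, 0, 0, 0, 1, -3, 1, 0, 0])) (.leaf [32, 25, -17, 110, -8, -38, -6, -3, 33, -104, 12, 46, -15, -6]))) (.node (.node (.node (.leaf []) (.leaf [-134, 1, 58, -144, -100, 46, 28, 0, -60, 147, 102, -122, 2, -3])) (.node (.leaf [1857, 92, -743, 2343, 1304, -703, -459, -12, 865, -2379, -1316, 1914, -116, 36]) (.leaf [-4, 2, 0, 1, -1,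 2, -1, 0, 0, 0, 1, 1, 0, -1]))) (.node (.node (.leaf [-2, 0, 0, 0, -1, 1, -1, 0, 0, 0, 1, 0, 0, 0]) (.leaf [0, 0, 0, 0, 0, 0, 1, 0, 0, 0, 0, 0, 0, 0])) (.leaf [-468, -94, 163, -739, -225, 248, 92, 14, -243, 732, 215, -484, 73, 7]))))) (.node (.node (.node (.node (.node (.leaf []) (.leaf [0, 1, 0, 0, 0, 0, 0, 0, 0, 0, 0, 0, 0, 0])) (.node (.leaf [-44, -16, 19, -96, -11, 33, 7, 1, -32, 94, 10, -51, 13, 2]) (.leaf [4, 1, 1, 0, 1, -1, 1, -1, -1, 0, 0, 0, 0, 0]))) (.node (.node (.leaf [72, 9, -18, 92, 28, -36, -6, 0, 28, -92, -28, 56, -9, 0]) (.leaf [-442, -17, 158, -495, -281, 170, 71, -2, -186, 506, 287, -384, 29, -10])) (.node (.leaf [36, 9, -10, 58, 10, -22, 2, 2, 18, -56, -10, 28, -9, -2]) (.leaf [10, 0, -3, 12, 4, -5, 0, 0, 4, -12, -4, 7, 0, 0])))) (.node (.node (.node (.leaf []) (.leaf [698, 13, -291, 850, 526, -244, -195, -6, 324, -872, -534, 739, -29, 22])) (.node (.leaf [2, 0, 1, 0, 0, 0, 1, 0, -1, 0, 0, 0, 0, 0])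 (.leaf [-60, -17, 22, -108, -20, 39, 9, 2, -36, 106, 18, -60, 13, 2]))) (.node (.node (.leaf [2, 0, 0, 3, 0, -1, 0, 0, 0, -2, 0, 1, 0, 0]) (.leaf [40, 17, -12, 80, 5, -32, -2, -2, 26, -78, -2, 36, -13, -2])) (.leaf [350, 168, -106, 730, 12, -297, 14, -12, 234, -697, 10, 290, -122, -33])))) (.node (.node (.node (.node (.leaf [-18, 0, 0, -8, -4, 7, -3, 0, 0, 8, 4, -3, 0, 0]) (.leaf [1164, 62, -457, 1468, 772, -460, -265, -8, 535, -1488, -778, 1157, -74, 20])) (.node (.leaf [0, 1, 0, 0, 0, 0, 0, 0, 0, 0, 0, 0, 0, 0]) (.leaf [0, 0, 1, 0, 0, 0, 0, 0, 0, 0, 0, 0, 0, 0]))) (.node (.node (.leaf [0, 0, 0, 0, 0, 0, 1, 0, 0, 0, 0, 0, 0, 0]) (.leaf [-2640, -187, 1012, -3520, -1451, 1207, 540, 37, -1230, 3569, 1457, -2513, 199, -49])) (.leaf [58, -2, -29, 55, 49, -19, -9, 1, 29, -56, -50, 47, 0, 1]))) (.node (.node (.node (.leaf []) (.leaf [10, 0, 0, -1, 8, -1, 2, 0, 0, 1, -8, 2, 0, 0])) (.node (.leaf [-1030, -145, 344, -1410, -540,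 489, 163, 14, -478, 1406, 531, -958, 127, 4]) (.leaf [-1378, -50, 539, -1734, -842, 571, 299, 7, -620, 1769, 856, -1323, 77, -34]))) (.node (.node (.leaf [0, 0, 0, 0, -1, -1, 1, 0, 0, 0, 1, -1, 0, 0]) (.leaf [-499, -67, 178, -714, -280, 233, 104, 9, -244, 716, 276, -507, 61, -2])) (.leaf [-502, -97, 176, -783, -241, 265, 96, 14, -259, 776, 231, -511, 76, 7]))))))

def twoL6 : Janko.Tree (List ℤ) :=
  (.node (.node (.node (.node (.node (.node (.leaf []) (.leaf [230, 32, -101, 368, 139, -112, -64, -5, 132, -370, -137, 265, -29, 2])) (.node (.leaf [5, 0, 0, -5, 8, 2, 2, 0, 0, 5, -8, 0, 0, 0]) (.leaf [72, 0, -34, 73, 63, -22, -18, -2, 34, -74, -62, 68, 1, 1]))) (.node (.node (.leaf [-72, -9, 18, -92, -28, 36, 5, 0, -28, 92, 28, -56, 10, 0]) (.leaf [-976, -19, 391, -1204, -588, 406, 194, -4, -438, 1230, 603, -903, 49, -26])) (.node (.leaf [0, 0, 0, 0, 0, 1, 0, 0, 0, 0, 0, 0, 0, 0]) (.leaf [0, 0, 0, 0, 0, 0, 1, 0, 0, 0, 0,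 0, 0, 0])))) (.node (.node (.node (.leaf []) (.leaf [6, 12, 19, 7, -39, -19, 22, 0, -8, -6, 40, -29, -11, -1])) (.node (.leaf [0, 0, 0, 0, 1, 0, 0, 0, 0, 0, 0, 0, 0, 0]) (.leaf [-844, -152, 270, -1221, -407, 426, 127, 17, -398, 1206, 391, -794, 120, 15]))) (.node (.node (.leaf [0, 0, 1, 0, 0, 0, 0, 0, 0, 0, 0, 0, 0, 0]) (.leaf [0, 0, 0, 1, 0, 0, 0, 0, 0, 0, 0, 0, 0, 0])) (.leaf [-246, -33, 102, -380, -142, 120, 64, 6, -134, 382, 140, -271, 29, -2])))) (.node (.node (.node (.node (.leaf [-276, -26, 108, -370, -189, 111, 65, 2, -135, 372, 189, -290, 26, -2]) (.leaf [0, 0, 0, 0, 1, 0, 0, 0, 0, 0, 0, 0, 0, 0])) (.node (.leaf [3, 1, 1, 0, -1, -1, 0, -1, -1, 0, 1, 0, 0, 0]) (.leaf [110, 2, -44, 129, 69, -45, -19, 1, 52, -134, -72, 98, -8, 5]))) (.node (.node (.leaf []) (.leaf [-84, 2, 36, -89, -67, 26, 21, 0, -36, 91, 68, -81, 0, -2])) (.leaf [-36, -9, 10, -56, -8, 24, 0, 0, -19, 56, 8, -27, 9, 0]))) (.node (.node (.node (.leaf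 [28, 11, -12, 68, 0, -25, -4, -1, 20, -66, 2, 31, -8, -2]) (.leaf [-44, 1, 16, -55, -20, 20, 6, -2, -18, 57, 22, -37, 3, -2])) (.node (.leaf []) (.leaf [12, -75, -25, -136, 168, 99, -71, 4, -30, 118, -179, 81, 53, 18]))) (.node (.node (.leaf [-2, 0, 0, 0, -1, 0, 0, 0, 0, 0, 1, 0, 0, 0]) (.leaf [-27, 23, 18, 14, -70, -22, 32, 2, 0, -8, 72, -52, -19, -6])) (.leaf [-1528, -114, 596, -2061, -847, 701, 302, 12, -726, 2084, 852, -1458, 124, -22]))))) (.node (.node (.node (.node (.node (.leaf []) (.leaf [2, -1, 1, 0, 0, -1, 0, 0, -1, 0, 0, 0, 1, 0])) (.node (.leaf [-12, 2, 11, -22, -15, 3, 4, -3, -8, 20, 15, -18, -1, 2]) (.leaf [0, 0, 0, 0, 0, 0, 1, 0, 0, 0, 0, 0, 0, 0]))) (.node (.node (.leaf []) (.leaf [0, 0, 0, 0, 1, 0, 0, 0, 0, 0, 0, 0, 0, 0])) (.node (.leaf [-9, 0, 0, -12, 4, 7, -1, 0, 0, 12, -4, -3, 0, 0]) (.leaf [30, -6, -16, 29, 32, -5, -13, 0, 12, -30, -32, 35, 4, 2])))) (.node (.node (.node (.leaf [6, 0, -2, 12, 0,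 -4, -2, 0, 2, -12, 0, 7, 0, 0]) (.leaf [256, -1, -92, 254, 145, -102, -25, 2, 98, -260, -149, 181, -7, 6])) (.node (.leaf [0, 0, 0, 0, 0, 0, 1, 0, 0, 0, 0, 0, 0, 0]) (.leaf [1129, 56, -447, 1430, 759, -441, -267, -7, 520, -1451, -766, 1140, -70, 21]))) (.node (.node (.leaf [-2, 0, 0, 0, -2, 0, 0, 0, 0, 0, 2, -1, 0, 0]) (.leaf [0, 0, 0, 0, 0, 1, 0, 0, 0, 0, 0, 0, 0, 0])) (.leaf [0, 1, 0, 0, 0, 0, 0, 0, 0, 0, 0, 0, 0, 0])))) (.node (.node (.node (.node (.leaf [-8, 0, 0, 0, -8, 0, 0, 0, 0, 0, 8, -4, 0, 0]) (.leaf [58, 9, -15, 78, 24, -29, -5, 0, 24, -78, -24, 49, -9, 0])) (.node (.leaf [32, 5, -10, 44, 16, -16, -4, 0, 16, -44, -16, 28, -5, 0]) (.leaf [-734, -172, 217, -1122, -295, 408, 85, 19, -358, 1102, 275, -671, 132, 21]))) (.node (.node (.leaf [1, 0, 0, 0, 0, -1, 0, 0, 0, 0, 0, 0, 0, 0]) (.leaf [0, 1, 0, 0, 0, 0, 0, 0, 0, 0, 0, 0, 0, 0])) (.leaf [-60, -10, 17, -82, -24, 30, 3, -1, -25, 80, 24, -48, 9, 2]))) (.node (.node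 (.node (.leaf []) (.leaf [1, 0, 0, 0, 0, -1, 0, 0, 0, 0, 0, 0, 0, 0])) (.node (.leaf [-10, 0, 0, 3, -8, 1, -2, 0, 0, -2, 8, -1, 0, 0]) (.leaf [-468, 106, 244, -428, -399, 115, 159, -11, -191, 475, 429, -468, -48, -47]))) (.node (.node (.leaf [326, 38, -104, 424, 181, -144, -53, -2, 143, -426, -181, 303, -38, 2]) (.leaf [-229, -32, 102, -368, -139, 112, 64, 5, -133, 370, 137, -264, 29, -2])) (.leaf [-164, -31, 52, -254, -74, 86, 34, 6, -78, 252, 70, -168, 23, 2]))))))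

def twoL7 : Janko.Tree (List ℤ) :=
  (.node (.node (.node (.node (.node (.node (.leaf [1, 0, 0, 0, 0, -1, 0, 0, 0, 0, 0, 0, 0, 0]) (.leaf [-54, -6, 16, -72, -23, 27, 5, 0, -23, 72, 23, -45, 7, 0])) (.node (.leaf [-12, 0, 0, -8, 2, 7, -3, 0, 0, 8, -2, 0, 0, 0]) (.leaf [0, 0, 0, 0, 0, 1, 0, 0, 0, 0, 0, 0, 0, 0]))) (.node (.node (.leaf [-72, -9, 19, -92, -28, 36, 6, 0, -28, 92, 28, -56, 9, 0]) (.leaf [-1062, -54, 424, -1380, -597, 477, 197, 0, -499, 1402, 607, -979, 75, -21])) (.node (.leaf [-2, 0, 0, 0, 1, 2, -1, 0, 0, 0, -1, 2, 0, 0]) (.leaf [0, 0, 0, 0, 0, 0, 0, 1, 0, 0, 0, 0, 0, 0])))) (.node (.node (.node (.leaf []) (.leaf [901, 60, -329, 1121, 544, -377, -172, -8, 400, -1135, -547, 839, -66, 14])) (.node (.leaf [56, -29, -44, 16, 109, 17, -41, 2, 26, -26, -115, 85, 17, 10]) (.leaf [10, 1, -3, 12, 4, -5, 0, 0, 4, -12, -4, 7, -1, 0]))) (.node (.node (.leaf [-846, -43, 314, -1027, -524, 343, 166, 6, -370, 1044, 529,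 -786, 53, -16]) (.leaf [76, -2, -36, 89, 65, -24, -23, 0, 36, -91, -65, 82, 0, 2])) (.leaf [-4, -1, -1, 0, -1, 2, -1, 1, 1, 0, 0, 0, 0, 0])))) (.node (.node (.node (.node (.leaf [0, 0, 0, 0, 1, 0, 0, 0, 0, 0, 0, 0, 0, 0]) (.leaf [-180, -5, 81, -224, -146, 62, 54, 2, -91, 230, 148, -199, 9, -6])) (.node (.leaf [3400, 174, -1362, 4342, 2372, -1298, -871, -34, 1584, -4408, -2388, 3546, -205, 66]) (.leaf [1030, 145, -347, 1423, 536, -493, -165, -14, 482, -1419, -527, 963, -127, -4]))) (.node (.node (.leaf [-526, -71, 186, -746, -290, 247, 107, 10, -254, 748, 286, -527, 63, -2]) (.leaf [-722, -39, 303, -953, -499, 286, 193, 10, -351, 967, 501, -766, 43, -14])) (.leaf [838, 152, -270, 1215, 407, -422, -127, -17, 398, -1200, -391, 791, -120, -15]))) (.node (.node (.node (.leaf []) (.leaf [18, 2, -6, 23, 8, -9, -1, 0, 8, -23, -8, 14, -2, 0])) (.node (.leaf [0, 0, 1, 0, 0, 0, 0, 0, 0, 0, 0, 0, 0, 0]) (.leaf [0, 0, 0, 1, 0, 0,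 0, 0, 0, 0, 0, 0, 0, 0]))) (.node (.node (.leaf [598, 42, -237, 786, 403, -240, -150, -8, 287, -798, -405, 625, -46, 12]) (.leaf [-148, 27, 58, -100, -141, 23, 41, -3, -44, 110, 147, -136, -13, -10])) (.leaf [0, 0, 0, 0, 1, 0, 0, 0, 0, 0, 0, 0, 0, 0]))))) (.node (.node (.node (.node (.node (.leaf [0, 0, 1, 0, 0, 0, 0, 0, 0, 0, 0, 0, 0, 0]) (.leaf [1398, 42, -551, 1741, 870, -570, -309, -7, 628, -1779, -886, 1345, -73, 38])) (.node (.leaf [-22, -5, 7, -32, -12, 11, 3, 0, -12, 32, 12, -21, 5, 0]) (.leaf [1377, 69, -540, 1771, 812, -594, -282, -7, 634, -1799, -823, 1307, -90, 28]))) (.node (.node (.leaf [-186, -24, 87, -300, -122, 88, 60, 6, -110, 302, 120, -225, 20, -2]) (.leaf [-842, -43, 314, -1022, -526, 341, 166, 6, -370, 1038, 531, -784, 53, -16])) (.node (.leaf [108, 19, -28, 150, 38, -58, -3, 2, 46, -148, -38, 84, -19, -2]) (.leaf [-6, 0, 0, -5, 0, 4, 0, 0, 0, 6, 0, -3, 0, 0])))) (.node (.node (.node (.leaf [14,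 0, 0, 6, 4, -5, 2, 0, 0, -6, -4, 3, 0, 0]) (.leaf [2, 0, 0, 0, 3, 0, 0, 0, 0, 0, -2, 1, 0, 0])) (.node (.leaf [1, 0, 0, 0, 0, -1, 0, 0, 0, 0, 0, 0, 0, 0]) (.leaf [0, 1, 0, 0, 0, 0, 0, 0, 0, 0, 0, 0, 0, 0]))) (.node (.node (.leaf [0, 0, 0, 0, 0, 1, 0, 0, 0, 0, 0, 0, 0, 0]) (.leaf [526, 71, -186, 746, 290, -247, -106, -10, 254, -748, -286, 527, -63, 2])) (.leaf [-384, -49, 134, -535, -217, 176, 73, 4, -183, 536, 215, -380, 47, -1])))) (.node (.node (.node (.node (.leaf [0, 0, 0, 0, 0, 0, 1, 0, 0, 0, 0, 0, 0, 0]) (.leaf [68, 8, -20, 92, 27, -34, -6, 1, 29, -92, -28, 56, -9, 0])) (.node (.leaf []) (.leaf [1376, -68, -595, 1613, 851, -545, -331, 1, 602, -1687, -888, 1284, -7, 74]))) (.node (.node (.leaf []) (.leaf [-1430, -87, 580, -1897, -910, 601, 345, 18, -685, 1924, 914, -1456, 96, -27])) (.leaf [-4, -1, -1, 0, -1, 2, -1, 1, 1, 0, 0, 0, 0, 0]))) (.node (.node (.node (.leaf []) (.leaf [-166, 37, 52, -185, 118, 156, -39,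 -3, -40, 207, -106, 25, -11, -22])) (.node (.leaf [-4, 0, 0, 1, -5, 0, 0, 0, 0, -1, 5, -2, 0, 0]) (.leaf [-1524, -75, 602, -1981, -884, 667, 316, 9, -705, 2013, 896, -1451, 98, -32]))) (.node (.node (.leaf [-684, -13, 290, -838, -522, 238, 195, 6, -322, 860, 530, -732, 29, -22]) (.leaf [639, -17, -276, 703, 497, -206, -161, 3, 283, -726, -510, 631, -9, 23])) (.leaf [0, 0, 0, 0, 0, 0, 1, 0, 0, 0, 0, 0, 0, 0]))))))

def twoL8 : Janko.Tree (List ℤ) :=
  (.node (.node (.node (.node (.node (.node (.leaf []) (.leaf [33, 10, -11, 58, 11, -21, 0, 1, 20, -56, -10, 28, -9, -2])) (.node (.leaf [8, 0, 0, 0, 4, -1, 2, 0, 0, 0, -4, 0, 0, 0]) (.leaf [-82, 3, 34, -94, -64, 25, 22, -2, -34, 96, 66, -85, 1, -2]))) (.node (.node (.leaf [-4, 0, 0, -2, 0, 2, -1, 0, 0, 2, 0, 0, 0, 0]) (.leaf [588, 106, -210, 887, 334, -284, -137, -22, 300, -882, -320, 630, -79, -5])) (.node (.leaf [3, 0, 0, 0, 1, -1, 1, 0, 0, 0, -1, 0, 0, 0]) (.leaf [0, 0,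 0, 0, 0, 0, 0, 0, 1, 0, 0, 0, 0, 0])))) (.node (.node (.node (.leaf []) (.leaf [580, 44, -222, 763, 381, -235, -141, -8, 272, -772, -382, 600, -46, 10])) (.node (.leaf [-198, -5, 82, -248, -144, 72, 56, 2, -92, 254, 146, -211, 9, -6]) (.leaf [249, -38, -141, 283, 254, -53, -116, 0, 119, -299, -262, 318, 22, 16]))) (.node (.node (.leaf []) (.leaf [86, -2, -36, 89, 70, -25, -21, 0, 36, -91, -71, 83, 0, 2])) (.leaf [-428, -53, 149, -596, -246, 193, 91, 8, -201, 598, 243, -434, 48, -2])))) (.node (.node (.node (.node (.leaf []) (.leaf [54, -29, -41, 16, 107, 18, -42, 2, 23, -26, -113, 87, 17, 10])) (.node (.leaf [-86, -2, 35, -110, -49, 37, 6, -7, -38, 108, 51, -71, 7, 2]) (.leaf [4, 0, 0, 3, 0, -2, 1, 0, 0, -2, 0, 0, 0, 0]))) (.node (.node (.leaf [-2, 0, -1, 0, 0, 1, -1, 0, 1, 0, 0, 0, 0, 0]) (.leaf [318, 40, -101, 415, 167, -146, -44, -2, 139, -414, -165, 283, -37, -1])) (.leaf [-38, -10, 9, -56, -8, 25, 0, 1, -19, 56,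 8, -27, 9, 0]))) (.node (.node (.node (.leaf []) (.leaf [-443, -166, 142, -819, -86, 324, 5, 12, -270, 788, 65, -373, 122, 31])) (.node (.leaf [1328, 85, -534, 1747, 932, -513, -349, -14, 632, -1766, -935, 1419, -91, 20]) (.leaf [132, 2, -50, 145, 85, -50, -19, 2, 54, -146, -86, 110, -5, 1]))) (.node (.node (.leaf [560, 68, -201, 784, 315, -258, -114, -8, 269, -788, -313, 560, -64, 4]) (.leaf [26, 17, -15, 84, 4, -26, -9, -2, 29, -82, -2, 44, -13, -2])) (.leaf [-10, -12, -4, -21, 11, 13, -23, -8, -7, 16, -9, 13, 15, 5]))))) (.node (.node (.node (.node (.node (.leaf []) (.leaf [38, 10, -9, 56, 9, -25, 0, -1, 19, -56, -8, 27, -9, 0])) (.node (.leaf [45, -55, -32, -92, 97, 35, -9, 9, -8, 81, -107, 3, 35, 11]) (.leaf [-104, -7, 38, -139, -66, 43, 27, 2, -48, 142, 66, -110, 9, -3]))) (.node (.node (.leaf []) (.leaf [142, 35, -64, 274, 82, -79, -54, -10, 92, -272, -76, 195, -23, -2])) (.node (.leaf [-2, 0, -1, 0, 0, 1, 0, 0,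 1, 0, 0, 0, 0, 0]) (.leaf [-4, 0, 0, -1, 0, 2, 0, 0, 0, 2, 0, 0, 0, 0])))) (.node (.node (.node (.leaf [-2, 0, 0, 0, -2, 0, 0, 0, 0, 0, 2, -1, 0, 0]) (.leaf [0, 0, 0, 0, 0, 1, 0, 0, 0, 0, 0, 0, 0, 0])) (.node (.leaf [-337, -77, 112, -531, -180, 171, 82, 20, -173, 525, 167, -370, 51, 6]) (.leaf [-238, -118, 75, -529, 47, 233, -23, 11, -162, 504, -65, -169, 82, 25]))) (.node (.node (.leaf [7, 0, 0, -1, 8, 1, 1, 0, 0, 1, -8, 3, 0, 0]) (.leaf [98, 20, -34, 160, 34, -58, -12, -1, 51, -158, -32, 91, -17, -2])) (.leaf [-328, -38, 104, -424, -182, 145, 51, 2, -143, 426, 181, -302, 38, -1])))) (.node (.node (.node (.node (.leaf []) (.leaf [3468, 170, -1384, 4422, 2406, -1324, -881, -30, 1604, -4488, -2424, 3604, -205, 66])) (.node (.leaf [96, 11, -34, 126, 47, -48, -9, 1, 48, -128, -48, 79, -14, 2]) (.leaf [-864, -145, 285, -1234, -435, 427, 138, 17, -410, 1223, 421, -819, 117, 11]))) (.node (.node (.leaf [-1016, -145, 347, -1415,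 -532, 487, 167, 14, -481, 1411, 523, -959, 127, 4]) (.leaf [56, 34, -12, 130, 0, -49, 5, 0, 39, -122, 3, 52, -27, -7])) (.leaf [-52, -9, 11, -68, -12, 30, 0, 0, -20, 68, 12, -34, 9, 0]))) (.node (.node (.node (.leaf [-314, -35, 98, -404, -173, 138, 50, 2, -135, 406, 173, -289, 36, -2]) (.leaf [-2094, -114, 784, -2708, -1081, 968, 392, 25, -936, 2759, 1094, -1895, 140, -51])) (.node (.leaf [0, 0, 0, 0, 0, 1, 0, 0, 0, 0, 0, 0, 0, 0]) (.leaf [920, 39, -354, 1197, 459, -434, -173, -10, 415, -1224, -467, 826, -56, 27]))) (.node (.node (.leaf [-1344, -80, 556, -1765, -960, 516, 374, 22, -651, 1792, 963, -1454, 84, -27]) (.leaf [-59, -8, 16, -80, -22, 30, 4, -1, -25, 80, 23, -47, 9, 0])) (.leaf [1, 0, 0, 0, 0, -1, 0, 0, 0, 0, 0, 0, 0, 0]))))))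

def twoL9 : Janko.Tree (List ℤ) :=
  (.node (.node (.node (.node (.node (.node (.leaf []) (.leaf [1482, 130, -582, 2049, 818, -693, -309, -22, 720, -2068, -816, 1445, -127, 19])) (.node (.leaf [0, 0, 0, 0, 0, 0, 1, 0, 0, 0, 0, 0, 0, 0]) (.leaf [-31, -46, 9, -172, 23, 53, 20, 9, -44, 165, -31, -83, 30, 7]))) (.node (.node (.leaf [-2, 0, 0, 0, 0, 1, -1, 0, 0, 0, 0, 1, 0, 0]) (.leaf [0, 0, 0, 0, 0, 1, 0, 0, 0, 0, 0, 0, 0, 0])) (.node (.leaf [14, 10, 0, 30, -7, -15, 6, 0, 8, -28, 8, 5, -8, -2]) (.leaf [0, 0, 0, 0, 0, 0, 0, 0, 0, 1, 0, 0, 0, 0])))) (.node (.node (.node (.leaf [0, 0, 0, 1, 0, 0, 0, 0, 0, 0, 0, 0, 0, 0]) (.leaf [0, 0, 0, 0, 1, 0, 0, 0, 0, 0, 0, 0, 0, 0])) (.node (.leaf [1, 0, 1, 0, 0, 0, -1, 0, -1, 0, 0, 1, 0, 0]) (.leaf [1124, 80, -414, 1484, 581, -524, -202, -9, 511, -1505, -587, 1028, -92, 21]))) (.node (.node (.leaf [-492, -11, 182, -546, -314, 189, 82, -2, -206, 558, 321, -425, 25, -12]) (.leaf [96, -2,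 -36, 89, 75, -28, -18, 0, 36, -91, -76, 83, 0, 2])) (.leaf [-14, 0, 3, -12, -4, 6, 0, 0, -2, 12, 4, -7, 0, 0])))) (.node (.node (.node (.node (.leaf []) (.leaf [1, 0, 0, 0, 0, -1, 0, 0, 0, 0, 0, 0, 0, 0])) (.node (.leaf [-6, 0, 0, -6, 0, 3, 0, 0, 0, 6, 0, -3, 0, 0]) (.leaf [-162, -11, 66, -218, -113, 64, 45, 2, -80, 222, 114, -177, 13, -4]))) (.node (.node (.leaf [-3394, -158, 1363, -4322, -2378, 1285, 875, 30, -1572, 4388, 2396, -3545, 194, -66]) (.leaf [0, 0, 1, 0, 0, 0, 0, 0, 0, 0, 0, 0, 0, 0])) (.leaf [0, 0, 0, 0, 0, 1, 0, 0, 0, 0, 0, 0, 0, 0]))) (.node (.node (.node (.leaf []) (.leaf [-54, 1, 20, -46, -37, 18, 6, 0, -20, 47, 38, -38, 0, -1])) (.node (.leaf []) (.leaf [82, -3, -34, 94, 64, -24, -22, 2, 34, -96, -66, 85, -1, 2]))) (.node (.node (.leaf [0, 0, 1, 0, 0, 0, 0, 0, 0, 0, 0, 0, 0, 0]) (.leaf [842, 168, -267, 1253, 365, -451, -105, -15, 410, -1236, -349, 769, -136, -17])) (.leaf [-382, -63, 132, -559, -209,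 183, 79, 10, -187, 556, 203, -391, 50, 3]))))) (.node (.node (.node (.node (.node (.leaf []) (.leaf [-60, -1, 25, -70, -40, 24, 9, -2, -29, 72, 42, -53, 5, -2])) (.node (.leaf [160, 0, -72, 182, 127, -53, -41, 0, 76, -187, -130, 161, -4, 5]) (.leaf [154, 109, -38, 412, -108, -200, 47, -8, 122, -390, 123, 76, -79, -22]))) (.node (.node (.leaf [62, 9, -15, 80, 20, -33, -2, 0, 24, -80, -20, 45, -9, 0]) (.leaf [-1646, -107, 621, -2059, -1080, 653, 350, 10, -747, 2083, 1087, -1610, 121, -24])) (.node (.leaf [-4, 0, 0, -3, 0, 2, 0, 0, 0, 3, 0, -1, 0, 0]) (.leaf [-2, 0, 0, 0, -1, 1, 0, 0, 0, 0, 2, -1, 0, 0])))) (.node (.node (.node (.leaf [0, 0, 0, 0, 0, 1, 0, 0, 0, 0, 0, 0, 0, 0]) (.leaf [-20, -17, 4, -56, -2, 19, 3, 2, -18, 54, 0, -28, 13, 2])) (.node (.leaf [-1559, -95, 612, -2053, -926, 677, 342, 18, -726, 2081, 931, -1524, 105, -28]) (.leaf [-56, -6, 18, -54, -33, 24, 2, 1, -23, 54, 32, -36, 4, 1]))) (.node (.node (.leaf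 [12, 0, 0, -1, 8, -2, 3, 0, 0, 1, -8, 1, 0, 0]) (.leaf [0, 1, 0, 0, 0, 0, 0, 0, 0, 0, 0, 0, 0, 0])) (.leaf [-352, -32, 120, -447, -212, 147, 64, 2, -155, 450, 213, -334, 34, -3])))) (.node (.node (.node (.node (.leaf [0, 1, 0, 0, 0, 0, 0, 0, 0, 0, 0, 0, 0, 0]) (.leaf [1470, 12, -614, 1754, 1118, -500, -404, -8, 665, -1796, -1135, 1539, -46, 42])) (.node (.leaf [-68, -21, 21, -124, -10, 50, 4, 2, -39, 122, 8, -59, 17, 2]) (.leaf [-10, -1, 3, -12, -4, 5, 1, 0, -4, 12, 4, -7, 1, 0]))) (.node (.node (.leaf [2, 0, 0, 2, 0, -1, 0, 0, 0, -1, 0, 0, 0, 0]) (.leaf [3008, 130, -1210, 3809, 2230, -1075, -841, -30, 1388, -3872, -2246, 3256, -163, 63])) (.leaf [-2, -3, -3, -20, 9, 5, 2, -1, -1, 21, -8, -10, 5, -1]))) (.node (.node (.node (.leaf []) (.leaf [-186, -7, 34, -257, 206, 219, -95, -4, -52, 267, -200, 82, 20, -9])) (.node (.leaf [-14, 0, 0, 1, -8, 3, -3, 0, 0, -1, 8, 0, 0, 0]) (.leaf [236, 32, -103, 373, 143, -115, -64, -5,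 135, -375, -141, 268, -29, 2]))) (.node (.node (.leaf [18, 0, 0, 8, 5, -7, 3, 0, 0, -8, -4, 3, 0, 0]) (.leaf [-243, -32, 103, -380, -147, 117, 66, 5, -135, 382, 145, -275, 29, -2])) (.leaf [56, -7, -28, 64, 39, -19, -10, 5, 22, -64, -41, 50, 3, 0]))))))

def twoL10 : Janko.Tree (List ℤ) :=
  (.node (.node (.node (.node (.node (.node (.leaf []) (.leaf [2, 0, 0, 0, 3, 0, 0, 0, 0, 0, -2, 1, 0, 0])) (.node (.leaf [1, 0, 0, 0, 0, -1, 0, 0, 0, 0, 0, 0, 0, 0]) (.leaf [70, 2, -26, 65, 49, -24, -8, 0, 28, -66, -50, 53, -2, 1]))) (.node (.node (.leaf [152, -1, -64, 176, 120, -49, -45, -2, 68, -182, -122, 162, -3, 6]) (.leaf [342, 79, -118, 552, 180, -178, -85, -20, 181, -546, -167, 381, -53, -6])) (.node (.leaf [-768, -139, 216, -1050, -360, 380, 88, 10, -344, 1044, 352, -678, 123, 6]) (.leaf [0, 0, 0, 0, 0, 0, 0, 0, 0, 0, 1, 0, 0, 0])))) (.node (.node (.node (.leaf []) (.leaf [490, 11, -182, 546, 312, -188, -82, 2, 206, -558,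 -319, 424, -25, 12])) (.node (.leaf [-3432, -172, 1376, -4388, -2391, 1311, 876, 31, -1596, 4452, 2407, -3578, 205, -64]) (.leaf [66, 17, -25, 121, 20, -44, -10, -2, 40, -119, -18, 66, -13, -2]))) (.node (.node (.leaf []) (.leaf [30, 19, -13, 77, 34, -14, -18, -2, 31, -77, -33, 66, -17, 0])) (.leaf [1100, 53, -442, 1384, 748, -428, -259, -8, 511, -1404, -754, 1105, -65, 20])))) (.node (.node (.node (.node (.leaf []) (.leaf [-2, 6, 2, 4, -9, -5, 4, -1, 3, -4, 9, -6, -4, 0])) (.node (.leaf [-50, -8, 12, -68, -13, 29, 0, -1, -21, 68, 14, -35, 9, 0]) (.leaf [0, 0, 1, -4, 0, 1, 2, 0, -1, 4, 0, -3, 0, 0]))) (.node (.node (.leaf [-14, 0, 3, -12, -4, 6, 0, 0, -2, 12, 4, -7, 0, 0]) (.leaf [-928, -105, 342, -1275, -517, 430, 185, 18, -444, 1282, 511, -903, 93, -6])) (.leaf [26, -23, -18, -14, 70, 23, -33, -2, 0, 8, -72, 53, 19, 6]))) (.node (.node (.node (.leaf [-50, -6, 9, -60, -12, 27, -1, 0, -16, 60, 12, -31, 7, 0]) (.leaf [-46,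 -17, 18, -97, -12, 34, 8, 2, -32, 95, 10, -52, 13, 2])) (.node (.leaf [212, -15, -122, 284, 224, -50, -108, -2, 118, -296, -229, 303, 5, 12]) (.leaf [82, -3, -34, 94, 64, -25, -21, 2, 34, -96, -66, 85, -1, 2]))) (.node (.node (.leaf []) (.leaf [-124, 19, 56, -106, -121, 22, 41, -2, -44, 112, 125, -129, -11, -6])) (.leaf [-1156, -99, 383, -1372, -861, 393, 262, 7, -494, 1387, 865, -1187, 107, -15]))))) (.node (.node (.node (.node (.node (.leaf []) (.leaf [42, 10, -9, 60, 7, -27, 1, -1, 19, -60, -7, 28, -9, 0])) (.node (.leaf [318, -40, -119, 346, 5, -203, 1, 3, 108, -373, -20, 123, 10, 27]) (.leaf [0, 0, 0, 1, 0, 0, 0, 0, 0, 0, 0, 0, 0, 0]))) (.node (.node (.leaf [-146, 11, 93, -205, -170, 31, 84, 2, -89, 213, 173, -226, -5, -8]) (.leaf [-10, -1, 3, -12, -4, 5, 1, 0, -4, 12, 4, -7, 1, 0])) (.node (.leaf [-2, 0, 0, 0, -1, 1, 0, 0, 0, 0, 1, 0, 0, 0]) (.leaf [-2, 0, 0, 0, 1, 1, 0, 0, 0, 0, 0, 1, 0, 0])))) (.node (.node (.node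 (.leaf []) (.leaf [-12, 0, 3, -12, -4, 6, 1, 0, -3, 12, 4, -7, 0, 0])) (.node (.leaf [-5, 0, 0, 6, -8, -2, -2, 0, 0, -5, 8, 0, 0, 0]) (.leaf [26, -4, -14, 43, 24, -7, -15, 2, 14, -46, -26, 43, -1, 3]))) (.node (.node (.leaf [-234, -45, 100, -413, -105, 137, 74, 18, -135, 412, 95, -273, 26, 1]) (.leaf [305, 41, -127, 472, 174, -150, -73, -5, 168, -474, -172, 330, -38, 2])) (.leaf [-339, -32, 120, -448, -203, 146, 67, 2, -155, 451, 203, -332, 34, -3])))) (.node (.node (.node (.node (.leaf []) (.leaf [374, 60, -117, 498, 178, -185, -35, -2, 172, -494, -175, 312, -54, -4])) (.node (.leaf [14, 5, -7, 28, 12, -7, -4, 0, 12, -28, -12, 21, -5, 0]) (.leaf [1009, 55, -401, 1292, 687, -393, -249, -9, 470, -1311, -692, 1038, -65, 19]))) (.node (.node (.leaf []) (.leaf [40, -16, -14, 7, 29, -4, 7, 10, 6, -10, -36, 10, 3, 3])) (.leaf [-6, -11, -19, -7, 39, 19, -22, 0, 8, 6, -40, 29, 11, 1]))) (.node (.node (.node (.leaf [-52, -22,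 16, -114, -11, 39, 18, 8, -32, 112, 6, -68, 12, 2]) (.leaf [-1444, 80, 627, -1677, -912, 559, 357, -1, -626, 1755, 952, -1358, -1, -78])) (.node (.leaf [-597, -42, 237, -786, -403, 239, 150, 8, -287, 798, 405, -625, 46, -12]) (.leaf [308, 14, -153, 441, 248, -115, -112, -6, 170, -448, -248, 378, -14, 7]))) (.node (.node (.leaf []) (.leaf [0, 0, 0, 0, 0, 0, 1, 0, 0, 0, 0, 0, 0, 0])) (.leaf [26, -2, -12, 34, 19, -9, -4, 3, 10, -32, -19, 25, 1, -2]))))))

def twoL11 : Janko.Tree (List ℤ) :=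
  (.node (.node (.node (.node (.node (.node (.leaf []) (.leaf [0, 0, 0, 0, 0, 1, 0, 0, 0, 0, 0, 0, 0, 0])) (.node (.leaf [15, 2, -2, 12, 2, -8, 0, -1, 2, -12, -2, 6, 0, 0]) (.leaf [1184, 75, -433, 1523, 626, -539, -219, -15, 525, -1547, -631, 1076, -84, 24]))) (.node (.node (.leaf [0, 0, 0, 0, 0, 0, 1, 0, 0, 0, 0, 0, 0, 0]) (.leaf [8, 43, 0, 140, -35, -42, -17, -9, 32, -133, 43, 63, -27, -7])) (.node (.leaf [96, 2, -36, 107, 63, -36, -17, 0, 40, -109, -64, 85, -4, 2]) (.leaf [2, 0, 0, 0, 0, 0, 0, 0, 0, 0, 0, 0, 0, 0])))) (.node (.node (.node (.leaf []) (.leaf [30, -23, -20, -2, 29, 0, -9, 2, 2, -2, -32, 15, 17, 4])) (.node (.leaf [-6, 0, 3, -12, 0, 4, 2, 0, -2, 12, 0, -7, 0, 0]) (.leaf [1912, 104, -768, 2493, 1296, -754, -496, -24, 900, -2532, -1304, 2004, -120, 40]))) (.node (.node (.leaf []) (.leaf [-262, 48, 144, -257, -270, 48, 110, -2, -114, 274, 280, -307, -29, -17])) (.leaf [-5, -1, -1, 0, -1, 2, 0, 1, 1, 0, 1,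 -1, 0, 0])))) (.node (.node (.node (.node (.leaf []) (.leaf [36, 9, -9, 56, 8, -24, 0, 0, 19, -56, -8, 27, -9, 0])) (.node (.leaf [0, 0, 0, 0, 0, 1, 0, 0, 0, 0, 0, 0, 0, 0]) (.leaf [0, 0, 0, 0, 0, 0, 1, 0, 0, 0, 0, 0, 0, 0]))) (.node (.node (.leaf [470, 11, -174, 524, 310, -175, -84, 2, 198, -536, -317, 418, -25, 12]) (.leaf [-144, -35, 64, -274, -81, 80, 53, 10, -92, 272, 76, -194, 23, 2])) (.leaf [-35, -17, 18, -96, -8, 30, 11, 2, -32, 94, 6, -52, 13, 2]))) (.node (.node (.node (.leaf [0, 0, 1, 0, 0, 0, 0, 0, 0, 0, 0, 0, 0, 0]) (.leaf [50, 14, -16, 86, 21, -29, -6, 0, 28, -83, -20, 50, -12, -2])) (.node (.leaf [148, -11, -89, 204, 166, -32, -82, -2, 85, -212, -169, 224, 5, 8]) (.leaf [-1072, -55, 425, -1360, -723, 419, 257, 9, -494, 1379, 728, -1086, 65, -19]))) (.node (.node (.leaf [524, 71, -186, 746, 291, -246, -108, -10, 254, -748, -286, 528, -63, 2]) (.leaf [-26, 23, 18, 14, -70, -22, 33, 2, 0, -8, 72, -53, -19,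 -6])) (.leaf [-436, -53, 154, -607, -253, 196, 93, 8, -205, 608, 249, -442, 47, -1]))))) (.node (.node (.node (.node (.node (.leaf []) (.leaf [1651, 107, -618, 2067, 1076, -656, -352, -10, 744, -2091, -1083, 1615, -121, 24])) (.node (.leaf [0, 0, 0, 1, 0, 0, 0, 0, 0, 0, 0, 0, 0, 0]) (.leaf [134, 49, -44, 266, -6, -115, 6, -3, 84, -258, 12, 98, -38, -8]))) (.node (.node (.leaf []) (.leaf [-10, 0, 5, -12, -4, 5, 1, 0, -4, 12, 4, -7, 0, 0])) (.node (.leaf [0, 0, 0, 4, -4, -1, 0, 0, 0, -4, 4, 0, 0, 0]) (.leaf [0, 0, 0, 0, 0, 1, 1, 0, 0, 0, 0, 0, 0, 0])))) (.node (.node (.node (.leaf [11, 0, 0, 8, 0, -6, 1, 0, 0, -8, 0, 3, 0, 0]) (.leaf [378, 47, -140, 536, 230, -168, -89, -8, 185, -538, -227, 399, -41, 2])) (.node (.leaf []) (.leaf [60, -1, -24, 71, 36, -23, -10, 2, 26, -73, -38, 53, -3, 2]))) (.node (.node (.leaf [10, 0, -4, 12, 4, -5, -1, 0, 4, -12, -4, 7, 0, 0]) (.leaf [-336, -104, 108, -591, -149, 196, 71, 20, -189, 578,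 133, -374, 71, 13])) (.leaf [-350, -32, 120, -447, -213, 146, 66, 2, -155, 450, 213, -335, 34, -3])))) (.node (.node (.node (.node (.leaf []) (.leaf [59, 8, -16, 80, 23, -30, -4, 1, 25, -80, -23, 47, -9, 0])) (.node (.leaf [-1, 0, -3, -3, 4, 1, 0, 0, 3, 3, -4, -1, 0, 0]) (.leaf [-40, 2, 8, -33, -20, 14, 1, -2, -10, 35, 22, -25, 3, -2]))) (.node (.node (.leaf []) (.leaf [-490, -85, 180, -762, -252, 251, 120, 22, -252, 760, 240, -525, 61, 2])) (.leaf [1426, 83, -557, 1822, 942, -569, -337, -16, 657, -1846, -946, 1438, -91, 24]))) (.node (.node (.node (.leaf [0, 0, 0, 0, 1, 0, 0, 0, 0, 0, 0, 0, 0, 0]) (.leaf [-2334, -85, 911, -2966, -1329, 1017, 478, 15, -1052, 3029, 1353, -2178, 133, -63])) (.node (.leaf [206, -20, -88, 184, 190, -46, -59, 3, 84, -198, -198, 206, 3, 14]) (.leaf [1772, 115, -721, 2399, 1084, -771, -423, -24, 856, -2430, -1087, 1799, -122, 31]))) (.node (.node (.leaf [0, 0, 0, 0, 0, 0, 1, 0, 0, 0, 0, 0, 0,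 0]) (.leaf [373, 33, -103, 398, 209, -150, -13, 13, 142, -397, -215, 271, -45, -1])) (.leaf [2332, 67, -916, 2934, 1360, -994, -496, -16, 1040, -2999, -1384, 2193, -116, 65]))))))

def twoL12 : Janko.Tree (List ℤ) :=
  (.node (.node (.node (.node (.node (.node (.leaf []) (.leaf [-66, -9, 22, -92, -31, 33, 9, 0, -31, 92, 31, -59, 9, 0])) (.node (.leaf [-89, -19, 30, -138, -38, 49, 7, -1, -47, 136, 37, -80, 18, 2]) (.leaf [4, 0, 0, 3, 0, -2, 1, 0, 0, -2, 0, 0, 0, 0]))) (.node (.node (.leaf [1, 0, 0, 0, 0, -1, 0, 0, 0, 0, 0, 0, 0, 0]) (.leaf [0, 1, 0, 0, 0, 0, 0, 0, 0, 0, 0, 0, 0, 0])) (.node (.leaf [6, 0, 0, 4, 1, -3, 1, 0, 0, -4, 0, 1, 0, 0]) (.leaf [0, 0, 0, 0, 0, 0, 0, 0, 0, 0, 0, 1, 0, 0])))) (.node (.node (.node (.leaf [-6, 0, 0, -3, 0, 3, -1, 0, 0, 3, 0, 0, 0, 0]) (.leaf [-4, 0, 0, -5, 0, 2, 1, 0, 0, 5, 0, -3, 0, 0])) (.node (.leaf [-1824, -139, 708, -2448, -1154, 766, 442, 26, -862, 2476, 1155, -1883, 141, -28])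 (.leaf [0, 0, 0, 0, 1, 0, 0, 0, 0, 0, 0, 0, 0, 0]))) (.node (.node (.leaf [362, 35, -126, 467, 221, -152, -69, -2, 163, -470, -221, 349, -36, 3]) (.leaf [-1534, -71, 635, -1982, -1103, 575, 416, 14, -728, 2012, 1111, -1642, 87, -30])) (.leaf [0, 0, 0, 0, 0, 1, 0, 0, 0, 0, 0, 0, 0, 0])))) (.node (.node (.node (.node (.leaf [14, 0, -2, 12, 4, -6, 0, 0, 2, -12, -4, 7, 0, 0]) (.leaf [48, 6, -14, 47, 21, -24, 2, -1, 19, -46, -20, 24, -4, -1])) (.node (.leaf [-56, -9, 18, -82, -22, 30, 3, -2, -26, 80, 22, -46, 9, 2]) (.leaf [-15, 0, 0, 1, -11, 2, -3, 0, 0, -1, 11, -2, 0, 0]))) (.node (.node (.leaf [-2, 0, 0, 0, -2, 0, 0, 0, 0, 0, 2, -1, 0, 0]) (.leaf [-538, -73, 194, -746, -307, 250, 103, 10, -264, 748, 303, -528, 65, -2])) (.leaf [-48, -13, 12, -84, -12, 31, 5, 1, -24, 82, 10, -45, 11, 2]))) (.node (.node (.node (.leaf []) (.leaf [0, 0, 0, 0, 1, 0, 0, 0, 0, 0, 0, 0, 0, 0])) (.node (.leaf [-1, 0, 0, 1, -3, -1, 0, 0, 0, -1,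 3, -1, 0, 0]) (.leaf [-448, -72, 159, -669, -241, 219, 96, 12, -223, 666, 233, -464, 58, 3]))) (.node (.node (.leaf []) (.leaf [-118, 19, 56, -106, -116, 21, 42, -2, -44, 112, 120, -127, -11, -6])) (.leaf [-4288, -195, 1726, -5468, -3044, 1605, 1142, 44, -1987, 5556, 3066, -4535, 239, -88]))))) (.node (.node (.node (.node (.node (.leaf []) (.leaf [1022, 144, -348, 1418, 532, -490, -166, -14, 481, -1414, -523, 959, -126, -4])) (.node (.leaf [32, 3, -10, 28, 15, -15, 3, 0, 12, -27, -14, 13, -2, -1]) (.leaf [1432, 51, -564, 1799, 882, -591, -308, -5, 649, -1835, -898, 1373, -82, 36]))) (.node (.node (.leaf [1562, 95, -615, 2066, 922, -683, -344, -18, 730, -2094, -927, 1528, -105, 28]) (.leaf [-474, -11, 174, -525, -310, 177, 83, -2, -198, 538, 317, -418, 25, -12])) (.leaf [0, 0, 0, 0, 0, 0, 1, 0, 0, 0, 0, 0, 0, 0]))) (.node (.node (.node (.leaf [12, 2, -6, 20, 8, -6, -3, 0, 8, -20, -8, 14, -2, 0]) (.leaf [-24, 0, 7, -24,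 -8, 11, 1, 0, -6, 24, 8, -14, 0, 0])) (.node (.leaf [-7, 0, 0, 1, -8, 0, -1, 0, 0, -1, 8, -3, 0, 0]) (.leaf [42, 1, -14, 54, 20, -19, -5, 2, 18, -56, -22, 37, -5, 2]))) (.node (.node (.leaf [4, 0, 0, 3, 0, -2, 1, 0, 0, -2, 0, 0, 0, 0]) (.leaf [218, 8, -86, 268, 150, -83, -53, -2, 99, -274, -151, 219, -12, 6])) (.leaf [-1048, -57, 415, -1339, -703, 413, 251, 9, -486, 1358, 708, -1065, 67, -19])))) (.node (.node (.node (.node (.leaf []) (.leaf [0, 0, 0, 0, 0, 1, 0, 0, 0, 0, 0, 0, 0, 0])) (.node (.leaf [736, 24, -244, 810, 551, -232, -176, -3, 288, -831, -560, 738, -42, 21]) (.leaf [-44, -45, 3, -126, 61, 74, -37, 1, -36, 115, -67, 9, 33, 11]))) (.node (.node (.leaf [-2, 0, 0, -1, 0, 1, 0, 0, 0, 1, 0, 0, 0, 0]) (.leaf [-1203, -67, 473, -1540, -814, 471, 299, 14, -559, 1566, 820, -1239, 79, -26])) (.leaf [0, 0, 0, 1, 0, 0, 0, 0, 0, 0, 0, 0, 0, 0]))) (.node (.node (.node (.leaf []) (.leaf [-920, -39, 354, -1197, -455, 436,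 172, 10, -415, 1224, 463, -822, 56, -27])) (.node (.leaf [0, 0, 1, 0, 0, 0, 0, 0, 0, 0, 0, 0, 0, 0]) (.leaf [0, 0, 0, 1, 0, 0, 0, 0, 0, 0, 0, 0, 0, 0]))) (.node (.node (.leaf []) (.leaf [-638, 25, 217, -591, -593, 127, 196, 0, -224, 622, 608, -687, 7, -31])) (.leaf [112, -19, -56, 102, 118, -18, -43, 2, 44, -108, -121, 127, 11, 6]))))))

def twoL13 : Janko.Tree (List ℤ) :=
  (.node (.node (.node (.node (.node (.node (.leaf []) (.leaf [-36, -10, 9, -56, -7, 24, 1, 1, -19, 56, 7, -27, 9, 0])) (.node (.leaf [-99, -34, 41, -235, -39, 67, 45, 9, -68, 232, 33, -156, 22, 3]) (.leaf [130, 1, -56, 143, 101, -44, -28, 0, 60, -146, -102, 123, -4, 3]))) (.node (.node (.leaf []) (.leaf [370, 60, -126, 539, 201, -177, -76, -10, 179, -536, -195, 377, -47, -3])) (.node (.leaf [2, 0, 0, 0, 1, 0, 1, 0, 0, 0, -1, 0, 0, 0]) (.leaf [0, 0, 0, 0, 0, 0, 0, 0, 0, 0, 0, 0, 1, 0])))) (.node (.node (.node (.leaf [1, 0, 0, 0, 1, 0, -1, 0, 0, 0, -1,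 1, 0, 0]) (.leaf [-220, -21, 109, -345, -166, 93, 80, 6, -130, 348, 164, -278, 18, -3])) (.node (.leaf [-82, -17, 24, -128, -21, 51, 7, 2, -38, 126, 19, -68, 13, 2]) (.leaf [146, -11, -90, 208, 164, -32, -84, -2, 86, -216, -167, 226, 5, 8]))) (.node (.node (.leaf []) (.leaf [0, 0, 0, 1, 0, 0, 0, 0, 0, 0, 0, 0, 0, 0])) (.leaf [-62, -9, 15, -80, -20, 33, 3, 0, -24, 80, 20, -45, 9, 0])))) (.node (.node (.node (.node (.leaf [-6, 0, 0, -6, 0, 3, 0, 0, 0, 6, 0, -3, 0, 0]) (.leaf [50, 8, -12, 68, 14, -29, 0, 1, 21, -68, -14, 35, -9, 0])) (.node (.leaf [-2, 0, 0, 0, 0, 1, -1, 0, 0, 0, 0, 1, 0, 0]) (.leaf [273, 25, -108, 374, 177, -116, -64, -2, 135, -377, -177, 285, -26, 3]))) (.node (.node (.leaf [0, 0, 0, 0, 0, 1, 0, 0, 0, 0, 0, 0, 0, 0]) (.leaf [-78, -39, 32, -198, -20, 63, 29, 10, -60, 192, 12, -115, 23, 6])) (.leaf [8, -1, -4, 12, 3, -4, -1, 1, 4, -12, -4, 7, 0, 0]))) (.node (.node (.node (.leaf []) (.leaf [-94, 2, 36, -89,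 -74, 28, 19, 0, -36, 91, 75, -83, 0, -2])) (.node (.leaf [-152, 3, 66, -161, -123, 47, 37, 0, -68, 166, 126, -148, 2, -5]) (.leaf [-10, 0, 5, -12, -4, 5, 1, 0, -4, 12, 4, -7, 0, 0]))) (.node (.node (.leaf [20, 17, -4, 56, 2, -19, -2, -2, 18, -54, 0, 28, -13, -2]) (.leaf [0, 57, 6, 172, -155, -98, 33, -11, 28, -155, 169, -31, -29, -17])) (.leaf [6, 0, 0, 7, 0, -3, 0, 0, 0, -6, 0, 3, 0, 0]))))) (.node (.node (.node (.node (.node (.leaf []) (.leaf [124, 47, -38, 231, -12, -109, 18, -2, 77, -223, 17, 69, -37, -8])) (.node (.leaf []) (.leaf [18, 5, -7, 30, 12, -9, -3, 0, 12, -30, -12, 21, -5, 0]))) (.node (.node (.leaf [0, 0, 0, 1, 0, 0, 0, 0, 0, 0, 0, 0, 0, 0]) (.leaf [76, 39, -32, 198, 20, -62, -29, -10, 60, -192, -12, 116, -23, -6])) (.leaf [-1163, -157, 380, -1555, -710, 494, 230, 18, -526, 1553, 700, -1163, 137, 2]))) (.node (.node (.node (.leaf [10, 0, -4, 12, 4, -5, -1, 0, 4, -12, -4, 7, 0, 0]) (.leaf [842, 43, -314,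 1026, 524, -341, -167, -6, 370, -1042, -529, 786, -53, 16])) (.node (.leaf [-11, 0, 0, 1, -8, 1, -2, 0, 0, -1, 8, -1, 0, 0]) (.leaf [589, 26, -215, 689, 362, -237, -101, 0, 253, -701, -368, 522, -38, 12]))) (.node (.node (.leaf [344, 32, -120, 447, 209, -145, -66, -2, 155, -450, -209, 334, -34, 3]) (.leaf [66, 9, -22, 92, 31, -32, -9, 0, 31, -92, -31, 59, -9, 0])) (.leaf [-356, -33, 123, -459, -213, 151, 66, 2, -159, 462, 213, -340, 35, -3])))) (.node (.node (.node (.node (.leaf []) (.leaf [62, 9, -15, 80, 24, -31, -4, 0, 24, -80, -24, 49, -9, 0])) (.node (.leaf [134, 47, -39, 226, -4, -111, 22, -2, 78, -218, 9, 66, -37, -8]) (.leaf [-42, 2, 17, -34, -29, 15, 3, -1, -17, 36, 30, -27, 0, -1]))) (.node (.node (.leaf []) (.leaf [44, -12, -4, 0, 25, -7, 4, 3, -4, -2, -27, 8, 7, 2])) (.leaf [20, -16, -29, 15, 63, 14, -31, 0, 16, -18, -64, 56, 13, 3]))) (.node (.node (.node (.leaf []) (.leaf [2, 37, -7, 126, -25, -35, -24,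 -11, 34, -121, 33, 64, -21, -5])) (.node (.leaf []) (.leaf [216, 18, -103, 328, 154, -93, -73, -6, 122, -332, -152, 260, -16, 4]))) (.node (.node (.leaf [0, 1, 0, 0, 0, 0, 0, 0, 0, 0, 0, 0, 0, 0]) (.leaf [62, 67, -5, 212, -112, -120, 52, -2, 56, -196, 121, -10, -49, -16])) (.leaf [48, 16, -19, 96, 15, -33, -7, -1, 32, -94, -13, 52, -13, -2]))))))

def twoL14 : Janko.Tree (List ℤ) :=
  (.node (.node (.node (.node (.node (.node (.leaf []) (.leaf [1296, 57, -540, 1652, 949, -479, -355, -14, 619, -1682, -957, 1386, -72, 30])) (.node (.leaf [1, 1, 1, 0, -2, -2, 0, -1, -1, 0, 3, -1, 0, 0]) (.leaf [-82, 3, 34, -94, -64, 25, 22, -2, -34, 96, 66, -85, 1, -2]))) (.node (.node (.leaf [2, 0, 2, 0, 0, -1, 0, 0, -1, 0, 0, 0, 0, 0]) (.leaf [73, 31, -32, 202, 27, -54, -43, -9, 56, -198, -21, 135, -19, -3])) (.node (.leaf [0, 0, 0, 0, 0, 0, 1, 0, 0, 0, 0, 0, 0, 0]) (.leaf [0, 0, 0, 0, 0, 0, 0, 0, 0, 0, 0, 0, 0, 1])))) (.node (.node (.node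 (.leaf [36, 12, -10, 72, 7, -25, -4, 0, 20, -70, -6, 38, -10, -2]) (.leaf [-1367, -81, 561, -1797, -990, 515, 377, 14, -658, 1821, 995, -1489, 91, -24])) (.node (.leaf [0, 0, 0, 0, 0, 1, 0, 0, 0, 0, 0, 0, 0, 0]) (.leaf [60, 17, -22, 108, 20, -39, -8, -2, 36, -106, -18, 60, -13, -2]))) (.node (.node (.leaf [1690, 112, -676, 2211, 1173, -660, -440, -24, 806, -2240, -1176, 1789, -118, 30]) (.leaf [-32, 23, 20, 2, -28, 1, 8, -2, -2, 2, 32, -14, -17, -4])) (.leaf [1, 0, 0, 0, 0, -1, 0, 0, 0, 0, 0, 0, 0, 0])))) (.node (.node (.node (.node (.leaf [-10, 0, 0, -8, 2, 6, -2, 0, 0, 8, -2, -1, 0, 0]) (.leaf [48, 8, -12, 68, 11, -28, 0, 1, 21, -68, -12, 34, -9, 0])) (.node (.leaf [-32, -5, 10, -44, -16, 16, 3, 0, -16, 44, 16, -28, 6, 0]) (.leaf [1503, 94, -618, 1997, 1068, -580, -409, -16, 730, -2023, -1073, 1631, -104, 26]))) (.node (.node (.leaf []) (.leaf [6, 0, 0, -1, 7, 1, 0, 0, 0, 1, -7, 3, 0, 0])) (.leaf [-2, 0, 0, -1, 0, 1,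 0, 0, 0, 1, 0, 0, 0, 0]))) (.node (.node (.node (.leaf []) (.leaf [4, 0, 0, -1, 4, 0, 1, 0, 0, 1, -4, 1, 0, 0])) (.node (.leaf []) (.leaf [-1166, -62, 457, -1465, -772, 461, 263, 8, -535, 1486, 778, -1154, 74, -20]))) (.node (.node (.leaf [-2, 0, 0, 0, -1, 1, -1, 0, 0, 0, 1, 0, 0, 0]) (.leaf [-273, -24, 108, -374, -177, 116, 64, 2, -135, 377, 177, -285, 26, -3])) (.leaf [-264, -52, 82, -379, -155, 120, 50, 6, -126, 374, 150, -272, 41, 5]))))) (.node (.node (.node (.node (.node (.leaf []) (.leaf [0, 0, 0, 1, 0, 0, 0, 0, 0, 0, 0, 0, 0, 0])) (.node (.leaf []) (.leaf [509, 54, -181, 669, 273, -236, -85, -8, 233, -671, -270, 462, -48, 2]))) (.node (.node (.leaf []) (.leaf [-840, -43, 314, -1022, -524, 341, 166, 6, -370, 1038, 529, -783, 53, -16])) (.leaf [-722, -21, 238, -789, -543, 225, 173, 3, -280, 810, 552, -724, 40, -21]))) (.node (.node (.node (.leaf [-2, 0, 0, -1, 0, 1, 0, 0, 0, 1, 0, 0, 0, 0]) (.leaf [-546, -71, 190,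 -770, -296, 256, 110, 10, -258, 772, 292, -543, 63, -2])) (.node (.leaf [-91, -7, 32, -108, -49, 41, 8, -1, -41, 109, 50, -71, 9, -1]) (.leaf [728, -12, -250, 723, 640, -171, -215, -2, 268, -754, -654, 778, -17, 31]))) (.node (.node (.leaf [11, 0, 0, -1, 8, -1, 3, 0, 0, 1, -8, 1, 0, 0]) (.leaf [66, 9, -22, 92, 31, -33, -8, 0, 31, -92, -31, 59, -9, 0])) (.leaf [0, 0, 1, 0, 0, 0, 0, 0, 0, 0, 0, 0, 0, 0])))) (.node (.node (.node (.node (.leaf []) (.leaf [-50, 21, 44, -40, -93, -9, 43, 1, -27, 45, 95, -89, -17, -5])) (.node (.leaf [0, 0, 0, 1, 0, 0, 0, 0, 0, 0, 0, 0, 0, 0]) (.leaf [-198, 2, 82, -221, -146, 67, 44, -2, -86, 226, 150, -189, 5, -5]))) (.node (.node (.leaf [0, 1, 0, 0, 0, 0, 0, 0, 0, 0, 0, 0, 0, 0]) (.leaf [0, 0, 1, 0, 0, 0, 0, 0, 0, 0, 0, 0, 0, 0])) (.leaf [322, 51, -102, 426, 154, -159, -29, -2, 148, -422, -151, 266, -45, -4]))) (.node (.node (.node (.leaf []) (.leaf [34, 6, -15, 52, 20, -17, -7, 0, 20, -52,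 -20, 35, -5, 0])) (.node (.leaf [196, 5, -82, 248, 145, -71, -57, -2, 92, -254, -146, 212, -9, 6]) (.leaf [176, 1, -71, 185, 116, -67, -21, 4, 79, -190, -120, 139, -10, 5]))) (.node (.node (.leaf [-4034, -222, 1595, -5182, -2768, 1560, 1017, 40, -1871, 5256, 2785, -4193, 256, -74]) (.leaf [0, 0, 0, 1, 0, 0, 0, 0, 0, 0, 0, 0, 0, 0])) (.leaf [58, -6, -29, 64, 43, -19, -8, 5, 25, -64, -45, 50, 1, 0]))))))

def twoL15 : Janko.Tree (List ℤ) :=
  (.node (.node (.node (.node (.node (.node (.leaf [0, 1, 0, 0, 0, 0, 0, 0, 0, 0, 0, 0, 0, 0]) (.leaf [40, 11, -8, 58, 10, -24, 2, 0, 17, -56, -9, 28, -9, -2])) (.node (.leaf [3, 1, 1, 0, -1, -1, 0, -1, -1, 0, 1, 0, 0, 0]) (.leaf [0, 0, 0, 0, 0, 0, 1, 0, 0, 0, 0, 0, 0, 0]))) (.node (.node (.leaf []) (.leaf [426, 77, -149, 651, 218, -216, -87, -12, 215, -646, -209, 439, -60, -5])) (.node (.leaf [-1, -1, -1, 0, -1, 1, 0, 1, 0, 0, 0, 0, 0, 0]) (.leaf [-22, 5, 10, -18, -22, 3, 9, 0, -8,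 20, 24, -25, -2, -2])))) (.node (.node (.node (.leaf []) (.leaf [4, 0, 0, 3, 0, -2, 1, 0, 0, -2, 0, 0, 0, 0])) (.node (.leaf [2, 0, -3, 0, 4, 0, 1, 0, 3, 0, -4, 0, 0, 0]) (.leaf [93, -28, -67, 101, 143, 3, -73, 0, 49, -111, -148, 164, 18, 10]))) (.node (.node (.leaf [0, 0, 0, 0, 1, 0, 0, 0, 0, 0, 0, 0, 0, 0]) (.leaf [890, 105, -326, 1222, 517, -403, -185, -18, 428, -1228, -511, 884, -93, 6])) (.leaf [-100, 1, 38, -110, -61, 40, 16, -1, -44, 115, 64, -84, 6, -5])))) (.node (.node (.node (.node (.leaf [0, 0, 0, 0, 0, 1, 0, 0, 0, 0, 0, 0, 0, 0]) (.leaf [72, 9, -19, 92, 28, -36, -5, 0, 28, -92, -28, 56, -9, 0])) (.node (.leaf [-32, -5, 11, -44, -16, 16, 4, 0, -16, 44, 16, -28, 5, 0]) (.leaf [41, 14, -16, 86, 15, -28, -8, 0, 28, -83, -14, 49, -12, -2]))) (.node (.node (.leaf [8, 0, -1, 12, 0, -5, -1, 0, 1, -12, 0, 7, 0, 0]) (.leaf [460, 58, -166, 647, 269, -208, -99, -8, 221, -648, -265, 470, -51, 1])) (.leaf [-76, -6, 27,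 -94, -34, 38, 6, -1, -36, 96, 36, -57, 9, -2]))) (.node (.node (.node (.leaf [-62, -9, 15, -80, -24, 31, 5, 0, -24, 80, 24, -49, 9, 0]) (.leaf [1, 0, 0, 0, 0, 0, 0, 0, 0, 0, 0, 0, 0, 0])) (.node (.leaf [-104, -2, 36, -107, -67, 38, 16, 0, -40, 110, 68, -86, 4, -2]) (.leaf [-430, -77, 149, -651, -217, 218, 85, 12, -215, 646, 209, -437, 60, 5]))) (.node (.node (.leaf []) (.leaf [-1310, -61, 517, -1634, -888, 507, 308, 10, -599, 1660, 896, -1312, 77, -26])) (.leaf [0, 0, 0, 0, 0, 1, 0, 0, 0, 0, 0, 0, 0, 0]))))) (.node (.node (.node (.node (.node (.leaf [0, 0, 0, 1, 0, 0, 0, 0, 0, 0, 0, 0, 0, 0]) (.leaf [-90, 28, 67, -96, -146, -6, 73, 0, -49, 106, 151, -163, -18, -10])) (.node (.leaf [-79, -8, 24, -104, -35, 38, 8, -1, -33, 104, 36, -66, 9, 0]) (.leaf [-26, 4, 15, -29, -27, 5, 12, 0, -12, 30, 28, -33, -3, -1]))) (.node (.node (.leaf [840, 43, -314, 1022, 524, -340, -166, -6, 370, -1038, -529, 783, -53, 16]) (.leaf [0, 0,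 0, 0, 0, 0, 1, 0, 0, 0, 0, 0, 0, 0])) (.leaf [14, 44, 8, 85, -77, -61, 42, -3, 22, -72, 85, -39, -28, -13]))) (.node (.node (.node (.leaf [-6, 0, 0, -4, 0, 3, -1, 0, 0, 4, 0, -1, 0, 0]) (.leaf [-20, 0, 8, -24, -4, 13, 0, 0, -8, 24, 4, -10, 0, 0])) (.node (.leaf [0, 1, 0, 0, 0, 0, 0, 0, 0, 0, 0, 0, 0, 0]) (.leaf [274, 79, -95, 481, 50, -197, -8, -6, 162, -471, -42, 220, -63, -10]))) (.node (.node (.leaf [0, 0, 0, 0, 0, 0, 1, 0, 0, 0, 0, 0, 0, 0]) (.leaf [0, 0, 0, 0, -1, 0, 1, 0, 0, 0, 1, -1, 0, 0])) (.leaf [-316, -51, 102, -419, -158, 154, 31, 2, -148, 416, 155, -267, 45, 4])))) (.node (.node (.node (.node (.leaf [-7, 0, 1, -12, 0, 4, 1, 0, -1, 12, 0, -7, 0, 0]) (.leaf [0, 1, 0, 0, 0, 0, 0, 0, 0, 0, 0, 0, 0, 0])) (.node (.leaf []) (.leaf [0, 0, 0, 0, 0, 1, 0, 0, 0, 0, 0, 0, 0, 0]))) (.node (.node (.leaf []) (.leaf [-238, 46, 146, -250, -304, 22, 136, 0, -120, 270, 314, -345, -26, -20])) (.leaf [-58, -9, 15, -78, -24, 29,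 6, 0, -24, 78, 24, -49, 9, 0]))) (.node (.node (.node (.leaf [164, 2, -70, 196, 128, -55, -49, -2, 76, -202, -130, 176, -5, 6]) (.leaf [0, 0, 1, 0, 0, 0, 0, 0, 0, 0, 0, 0, 0, 0])) (.node (.leaf [64, 17, -17, 104, 18, -39, -6, -2, 31, -102, -16, 57, -13, -2]) (.leaf [232, 23, -115, 365, 174, -99, -82, -6, 138, -368, -172, 292, -20, 3]))) (.node (.node (.leaf []) (.leaf [104, 0, -43, 121, 66, -42, -19, 1, 48, -125, -68, 92, -5, 4])) (.leaf [446, 54, -197, 698, 275, -213, -129, -11, 252, -704, -272, 512, -49, 6]))))))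

/-- a table -/
def twoL : Janko.Tree (List ℤ) := (.node (.node (.node (.node twoL0 twoL8) (.node twoL4 twoL12)) (.node (.node twoL2 twoL10) (.node twoL6 twoL14))) (.node (.node (.node twoL1 twoL9) (.node twoL5 twoL13)) (.node (.node twoL3 twoL11) (.node twoL7 twoL15))))

def twoKind0 : Janko.Tree (ℕ) :=
  (.node (.node (.node (.node (.node (.node (.leaf 0) (.leaf 1)) (.node (.leaf 1) (.leaf 1))) (.node (.node (.leaf 1) (.leaf 1)) (.node (.leaf 1) (.leaf 2)))) (.node (.node (.node (.leaf 0) (.leaf 1)) (.node (.leaf 1) (.leaf 1))) (.node (.node (.leaf 1) (.leaf 1)) (.leaf 1)))) (.node (.node (.node (.node (.leaf 0) (.leaf 1)) (.node (.leaf 1) (.leaf 1))) (.node (.node (.leaf 0) (.leaf 1)) (.leaf 1))) (.node (.node (.node (.leaf 1) (.leaf 1)) (.node (.leaf 0) (.leaf 1))) (.node (.node (.leaf 1) (.leaf 1)) (.leaf 1))))) (.node (.node (.node (.node (.node (.leaf 0) (.leaf 1)) (.node (.leaf 0) (.leaf 1))) (.node (.node (.leaf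 0) (.leaf 1)) (.node (.leaf 1) (.leaf 1)))) (.node (.node (.node (.leaf 1) (.leaf 1)) (.node (.leaf 1) (.leaf 1))) (.node (.node (.leaf 0) (.leaf 1)) (.leaf 1)))) (.node (.node (.node (.node (.leaf 0) (.leaf 1)) (.node (.leaf 1) (.leaf 1))) (.node (.node (.leaf 1) (.leaf 1)) (.leaf 1))) (.node (.node (.node (.leaf 0) (.leaf 1)) (.node (.leaf 1) (.leaf 1))) (.node (.node (.leaf 1) (.leaf 1)) (.leaf 1))))))

def twoKind1 : Janko.Tree (ℕ) :=
  (.node (.node (.node (.node (.node (.node (.leaf 0) (.leaf 1)) (.node (.leaf 1) (.leaf 1))) (.node (.node (.leaf 1) (.leaf 1)) (.node (.leaf 1) (.leaf 2)))) (.node (.node (.node (.leaf 1) (.leaf 1)) (.node (.leaf 0) (.leaf 1))) (.node (.node (.leaf 1) (.leaf 1)) (.leaf 1)))) (.node (.node (.node (.node (.leaf 0) (.leaf 1)) (.node (.leaf 1) (.leaf 1))) (.node (.node (.leaf 1) (.leaf 1)) (.leaf 1))) (.node (.node (.node (.leaf 1) (.leaf 1)) (.node (.leaf 1) (.leaf 1))) (.node (.node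 (.leaf 1) (.leaf 1)) (.leaf 1))))) (.node (.node (.node (.node (.node (.leaf 0) (.leaf 1)) (.node (.leaf 1) (.leaf 1))) (.node (.node (.leaf 1) (.leaf 1)) (.node (.leaf 1) (.leaf 1)))) (.node (.node (.node (.leaf 1) (.leaf 1)) (.node (.leaf 1) (.leaf 1))) (.node (.node (.leaf 1) (.leaf 1)) (.leaf 1)))) (.node (.node (.node (.node (.leaf 1) (.leaf 1)) (.node (.leaf 1) (.leaf 1))) (.node (.node (.leaf 1) (.leaf 1)) (.leaf 1))) (.node (.node (.node (.leaf 0) (.leaf 1)) (.node (.leaf 1) (.leaf 1))) (.node (.node (.leaf 1) (.leaf 1)) (.leaf 1))))))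

def twoKind2 : Janko.Tree (ℕ) :=
  (.node (.node (.node (.node (.node (.node (.leaf 0) (.leaf 0)) (.node (.leaf 1) (.leaf 1))) (.node (.node (.leaf 1) (.leaf 1)) (.node (.leaf 1) (.leaf 2)))) (.node (.node (.node (.leaf 0) (.leaf 1)) (.node (.leaf 1) (.leaf 1))) (.node (.node (.leaf 0) (.leaf 1)) (.leaf 1)))) (.node (.node (.node (.node (.leaf 0) (.leaf 1)) (.node (.leaf 1) (.leaf 1))) (.node (.node (.leaf 1) (.leaf 1)) (.leaf 1))) (.node (.node (.node (.leaf 1) (.leaf 1)) (.node (.leaf 1) (.leaf 1))) (.node (.node (.leaf 0) (.leaf 1)) (.leaf 0))))) (.node (.node (.node (.node (.node (.leaf 0) (.leaf 1)) (.node (.leaf 1) (.leaf 1))) (.node (.node (.leaf 1) (.leaf 1)) (.node (.leaf 0) (.leaf 1)))) (.node (.node (.node (.leaf 0) (.leaf 1)) (.node (.leaf 1) (.leaf 1))) (.node (.node (.leaf 1) (.leaf 1)) (.leaf 1)))) (.node (.node (.node (.node (.leaf 1) (.leaf 1)) (.node (.leaf 1) (.leaf 1))) (.node (.node (.leaf 1) (.leaf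 1)) (.leaf 1))) (.node (.node (.node (.leaf 0) (.leaf 1)) (.node (.leaf 1) (.leaf 1))) (.node (.node (.leaf 1) (.leaf 1)) (.leaf 1))))))

def twoKind3 : Janko.Tree (ℕ) :=
  (.node (.node (.node (.node (.node (.node (.leaf 0) (.leaf 1)) (.node (.leaf 1) (.leaf 1))) (.node (.node (.leaf 1) (.leaf 1)) (.node (.leaf 1) (.leaf 2)))) (.node (.node (.node (.leaf 0) (.leaf 1)) (.node (.leaf 1) (.leaf 1))) (.node (.node (.leaf 1) (.leaf 1)) (.leaf 1)))) (.node (.node (.node (.node (.leaf 0) (.leaf 1)) (.node (.leaf 1) (.leaf 1))) (.node (.node (.leaf 1) (.leaf 1)) (.leaf 1))) (.node (.node (.node (.leaf 1) (.leaf 1)) (.node (.leaf 0) (.leaf 1))) (.node (.node (.leaf 0) (.leaf 1)) (.leaf 0))))) (.node (.node (.node (.node (.node (.leaf 0) (.leaf 1)) (.node (.leaf 1) (.leaf 1))) (.node (.node (.leaf 0) (.leaf 1)) (.node (.leaf 1) (.leaf 1)))) (.node (.node (.node (.leaf 0) (.leaf 1)) (.node (.leaf 1) (.leaf 1))) (.node (.node (.leaf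 0) (.leaf 1)) (.leaf 1)))) (.node (.node (.node (.node (.leaf 1) (.leaf 1)) (.node (.leaf 1) (.leaf 1))) (.node (.node (.leaf 1) (.leaf 1)) (.leaf 1))) (.node (.node (.node (.leaf 1) (.leaf 1)) (.node (.leaf 1) (.leaf 1))) (.node (.node (.leaf 1) (.leaf 1)) (.leaf 1))))))

def twoKind4 : Janko.Tree (ℕ) :=
  (.node (.node (.node (.node (.node (.node (.leaf 0) (.leaf 1)) (.node (.leaf 1) (.leaf 1))) (.node (.node (.leaf 1) (.leaf 1)) (.node (.leaf 1) (.leaf 2)))) (.node (.node (.node (.leaf 0) (.leaf 1)) (.node (.leaf 1) (.leaf 1))) (.node (.node (.leaf 1) (.leaf 1)) (.leaf 1)))) (.node (.node (.node (.node (.leaf 1) (.leaf 1)) (.node (.leaf 1) (.leaf 1))) (.node (.node (.leaf 1) (.leaf 1)) (.leaf 1))) (.node (.node (.node (.leaf 1) (.leaf 1)) (.node (.leaf 1) (.leaf 1))) (.node (.node (.leaf 1) (.leaf 1)) (.leaf 1))))) (.node (.node (.node (.node (.node (.leaf 0) (.leaf 1)) (.node (.leaf 0) (.leaf 1))) (.node (.node (.leaf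 1) (.leaf 1)) (.node (.leaf 1) (.leaf 1)))) (.node (.node (.node (.leaf 1) (.leaf 1)) (.node (.leaf 1) (.leaf 1))) (.node (.node (.leaf 1) (.leaf 1)) (.leaf 1)))) (.node (.node (.node (.node (.leaf 1) (.leaf 1)) (.node (.leaf 1) (.leaf 1))) (.node (.node (.leaf 1) (.leaf 1)) (.leaf 1))) (.node (.node (.node (.leaf 0) (.leaf 1)) (.node (.leaf 0) (.leaf 1))) (.node (.node (.leaf 0) (.leaf 1)) (.leaf 1))))))

def twoKind5 : Janko.Tree (ℕ) :=
  (.node (.node (.node (.node (.node (.node (.leaf 0) (.leaf 1)) (.node (.leaf 1) (.leaf 1))) (.node (.node (.leaf 1) (.leaf 1)) (.node (.leaf 1) (.leaf 2)))) (.node (.node (.node (.leaf 0) (.leaf 1)) (.node (.leaf 1) (.leaf 1))) (.node (.node (.leaf 0) (.leaf 1)) (.leaf 1)))) (.node (.node (.node (.node (.leaf 0) (.leaf 1)) (.node (.leaf 0) (.leaf 1))) (.node (.node (.leaf 1) (.leaf 1)) (.leaf 1))) (.node (.node (.node (.leaf 0) (.leaf 1)) (.node (.leaf 1) (.leaf 1))) (.node (.node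 (.leaf 1) (.leaf 1)) (.leaf 1))))) (.node (.node (.node (.node (.node (.leaf 0) (.leaf 1)) (.node (.leaf 1) (.leaf 1))) (.node (.node (.leaf 1) (.leaf 1)) (.node (.leaf 1) (.leaf 1)))) (.node (.node (.node (.leaf 0) (.leaf 1)) (.node (.leaf 1) (.leaf 1))) (.node (.node (.leaf 1) (.leaf 1)) (.leaf 1)))) (.node (.node (.node (.node (.leaf 1) (.leaf 1)) (.node (.leaf 1) (.leaf 1))) (.node (.node (.leaf 1) (.leaf 1)) (.leaf 1))) (.node (.node (.node (.leaf 0) (.leaf 1)) (.node (.leaf 1) (.leaf 1))) (.node (.node (.leaf 1) (.leaf 1)) (.leaf 1))))))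

def twoKind6 : Janko.Tree (ℕ) :=
  (.node (.node (.node (.node (.node (.node (.leaf 0) (.leaf 1)) (.node (.leaf 1) (.leaf 1))) (.node (.node (.leaf 1) (.leaf 1)) (.node (.leaf 1) (.leaf 2)))) (.node (.node (.node (.leaf 0) (.leaf 1)) (.node (.leaf 1) (.leaf 1))) (.node (.node (.leaf 1) (.leaf 1)) (.leaf 1)))) (.node (.node (.node (.node (.leaf 1) (.leaf 1)) (.node (.leaf 1) (.leaf 1))) (.node (.node (.leaf 0) (.leaf 1)) (.leaf 1))) (.node (.node (.node (.leaf 1) (.leaf 1)) (.node (.leaf 0) (.leaf 1))) (.node (.node (.leaf 1) (.leaf 1)) (.leaf 1))))) (.node (.node (.node (.node (.node (.leaf 0) (.leaf 1)) (.node (.leaf 1) (.leaf 1))) (.node (.node (.leaf 0) (.leaf 1)) (.node (.leaf 1) (.leaf 1)))) (.node (.node (.node (.leaf 1) (.leaf 1)) (.node (.leaf 1) (.leaf 1))) (.node (.node (.leaf 1) (.leaf 1)) (.leaf 1)))) (.node (.node (.node (.node (.leaf 1) (.leaf 1)) (.node (.leaf 1) (.leaf 1))) (.node (.node (.leaf 1) (.leaf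 1)) (.leaf 1))) (.node (.node (.node (.leaf 0) (.leaf 1)) (.node (.leaf 1) (.leaf 1))) (.node (.node (.leaf 1) (.leaf 1)) (.leaf 1))))))

def twoKind7 : Janko.Tree (ℕ) :=
  (.node (.node (.node (.node (.node (.node (.leaf 1) (.leaf 1)) (.node (.leaf 1) (.leaf 1))) (.node (.node (.leaf 1) (.leaf 1)) (.node (.leaf 1) (.leaf 2)))) (.node (.node (.node (.leaf 0) (.leaf 1)) (.node (.leaf 1) (.leaf 1))) (.node (.node (.leaf 1) (.leaf 1)) (.leaf 1)))) (.node (.node (.node (.node (.leaf 1) (.leaf 1)) (.node (.leaf 1) (.leaf 1))) (.node (.node (.leaf 1) (.leaf 1)) (.leaf 1))) (.node (.node (.node (.leaf 0) (.leaf 1)) (.node (.leaf 1) (.leaf 1))) (.node (.node (.leaf 1) (.leaf 1)) (.leaf 1))))) (.node (.node (.node (.node (.node (.leaf 1) (.leaf 1)) (.node (.leaf 1) (.leaf 1))) (.node (.node (.leaf 1) (.leaf 1)) (.node (.leaf 1) (.leaf 1)))) (.node (.node (.node (.leaf 1) (.leaf 1)) (.node (.leaf 1) (.leaf 1))) (.node (.node (.leaf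 1) (.leaf 1)) (.leaf 1)))) (.node (.node (.node (.node (.leaf 1) (.leaf 1)) (.node (.leaf 0) (.leaf 1))) (.node (.node (.leaf 0) (.leaf 1)) (.leaf 1))) (.node (.node (.node (.leaf 0) (.leaf 1)) (.node (.leaf 1) (.leaf 1))) (.node (.node (.leaf 1) (.leaf 1)) (.leaf 1))))))

def twoKind8 : Janko.Tree (ℕ) :=
  (.node (.node (.node (.node (.node (.node (.leaf 0) (.leaf 1)) (.node (.leaf 1) (.leaf 1))) (.node (.node (.leaf 1) (.leaf 1)) (.node (.leaf 1) (.leaf 2)))) (.node (.node (.node (.leaf 0) (.leaf 1)) (.node (.leaf 1) (.leaf 1))) (.node (.node (.leaf 0) (.leaf 1)) (.leaf 1)))) (.node (.node (.node (.node (.leaf 0) (.leaf 1)) (.node (.leaf 1) (.leaf 1))) (.node (.node (.leaf 1) (.leaf 1)) (.leaf 1))) (.node (.node (.node (.leaf 0) (.leaf 1)) (.node (.leaf 1) (.leaf 1))) (.node (.node (.leaf 1) (.leaf 1)) (.leaf 1))))) (.node (.node (.node (.node (.node (.leaf 0) (.leaf 1)) (.node (.leaf 1) (.leaf 1))) (.node (.node (.leaf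 0) (.leaf 1)) (.node (.leaf 1) (.leaf 1)))) (.node (.node (.node (.leaf 1) (.leaf 1)) (.node (.leaf 1) (.leaf 1))) (.node (.node (.leaf 1) (.leaf 1)) (.leaf 1)))) (.node (.node (.node (.node (.leaf 0) (.leaf 1)) (.node (.leaf 1) (.leaf 1))) (.node (.node (.leaf 1) (.leaf 1)) (.leaf 1))) (.node (.node (.node (.leaf 1) (.leaf 1)) (.node (.leaf 1) (.leaf 1))) (.node (.node (.leaf 1) (.leaf 1)) (.leaf 1))))))

def twoKind9 : Janko.Tree (ℕ) :=
  (.node (.node (.node (.node (.node (.node (.leaf 0) (.leaf 1)) (.node (.leaf 1) (.leaf 1))) (.node (.node (.leaf 1) (.leaf 1)) (.node (.leaf 1) (.leaf 2)))) (.node (.node (.node (.leaf 1) (.leaf 1)) (.node (.leaf 1) (.leaf 1))) (.node (.node (.leaf 1) (.leaf 1)) (.leaf 1)))) (.node (.node (.node (.node (.leaf 0) (.leaf 1)) (.node (.leaf 1) (.leaf 1))) (.node (.node (.leaf 1) (.leaf 1)) (.leaf 1))) (.node (.node (.node (.leaf 0) (.leaf 1)) (.node (.leaf 0) (.leaf 1))) (.node (.node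 (.leaf 1) (.leaf 1)) (.leaf 1))))) (.node (.node (.node (.node (.node (.leaf 0) (.leaf 1)) (.node (.leaf 1) (.leaf 1))) (.node (.node (.leaf 1) (.leaf 1)) (.node (.leaf 1) (.leaf 1)))) (.node (.node (.node (.leaf 1) (.leaf 1)) (.node (.leaf 1) (.leaf 1))) (.node (.node (.leaf 1) (.leaf 1)) (.leaf 1)))) (.node (.node (.node (.node (.leaf 1) (.leaf 1)) (.node (.leaf 1) (.leaf 1))) (.node (.node (.leaf 1) (.leaf 1)) (.leaf 1))) (.node (.node (.node (.leaf 0) (.leaf 1)) (.node (.leaf 1) (.leaf 1))) (.node (.node (.leaf 1) (.leaf 1)) (.leaf 1))))))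

def twoKind10 : Janko.Tree (ℕ) :=
  (.node (.node (.node (.node (.node (.node (.leaf 0) (.leaf 1)) (.node (.leaf 1) (.leaf 1))) (.node (.node (.leaf 1) (.leaf 1)) (.node (.leaf 1) (.leaf 2)))) (.node (.node (.node (.leaf 0) (.leaf 1)) (.node (.leaf 1) (.leaf 1))) (.node (.node (.leaf 0) (.leaf 1)) (.leaf 1)))) (.node (.node (.node (.node (.leaf 1) (.leaf 1)) (.node (.leaf 1) (.leaf 1))) (.node (.node (.leaf 1) (.leaf 1)) (.leaf 1))) (.node (.node (.node (.leaf 1) (.leaf 1)) (.node (.leaf 1) (.leaf 1))) (.node (.node (.leaf 0) (.leaf 1)) (.leaf 1))))) (.node (.node (.node (.node (.node (.leaf 0) (.leaf 1)) (.node (.leaf 1) (.leaf 1))) (.node (.node (.leaf 1) (.leaf 1)) (.node (.leaf 1) (.leaf 1)))) (.node (.node (.node (.leaf 0) (.leaf 1)) (.node (.leaf 1) (.leaf 1))) (.node (.node (.leaf 1) (.leaf 1)) (.leaf 1)))) (.node (.node (.node (.node (.leaf 0) (.leaf 1)) (.node (.leaf 1) (.leaf 1))) (.node (.node (.leaf 0) (.leaf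 1)) (.leaf 1))) (.node (.node (.node (.leaf 1) (.leaf 1)) (.node (.leaf 1) (.leaf 1))) (.node (.node (.leaf 1) (.leaf 1)) (.leaf 1))))))

def twoKind11 : Janko.Tree (ℕ) :=
  (.node (.node (.node (.node (.node (.node (.leaf 0) (.leaf 1)) (.node (.leaf 1) (.leaf 1))) (.node (.node (.leaf 1) (.leaf 1)) (.node (.leaf 1) (.leaf 1)))) (.node (.node (.node (.leaf 0) (.leaf 1)) (.node (.leaf 1) (.leaf 1))) (.node (.node (.leaf 0) (.leaf 1)) (.leaf 1)))) (.node (.node (.node (.node (.leaf 0) (.leaf 1)) (.node (.leaf 1) (.leaf 1))) (.node (.node (.leaf 1) (.leaf 1)) (.leaf 1))) (.node (.node (.node (.leaf 1) (.leaf 1)) (.node (.leaf 1) (.leaf 1))) (.node (.node (.leaf 1) (.leaf 1)) (.leaf 1))))) (.node (.node (.node (.node (.node (.leaf 0) (.leaf 1)) (.node (.leaf 1) (.leaf 1))) (.node (.node (.leaf 0) (.leaf 1)) (.node (.leaf 1) (.leaf 1)))) (.node (.node (.node (.leaf 1) (.leaf 1)) (.node (.leaf 0) (.leaf 1))) (.node (.node (.leaf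 1) (.leaf 1)) (.leaf 1)))) (.node (.node (.node (.node (.leaf 0) (.leaf 1)) (.node (.leaf 1) (.leaf 1))) (.node (.node (.leaf 0) (.leaf 1)) (.leaf 1))) (.node (.node (.node (.leaf 1) (.leaf 1)) (.node (.leaf 1) (.leaf 1))) (.node (.node (.leaf 1) (.leaf 1)) (.leaf 1))))))

def twoKind12 : Janko.Tree (ℕ) :=
  (.node (.node (.node (.node (.node (.node (.leaf 0) (.leaf 1)) (.node (.leaf 1) (.leaf 1))) (.node (.node (.leaf 1) (.leaf 1)) (.node (.leaf 1) (.leaf 2)))) (.node (.node (.node (.leaf 1) (.leaf 1)) (.node (.leaf 1) (.leaf 1))) (.node (.node (.leaf 1) (.leaf 1)) (.leaf 1)))) (.node (.node (.node (.node (.leaf 1) (.leaf 1)) (.node (.leaf 1) (.leaf 1))) (.node (.node (.leaf 1) (.leaf 1)) (.leaf 1))) (.node (.node (.node (.leaf 0) (.leaf 1)) (.node (.leaf 1) (.leaf 1))) (.node (.node (.leaf 0) (.leaf 1)) (.leaf 1))))) (.node (.node (.node (.node (.node (.leaf 0) (.leaf 1)) (.node (.leaf 1) (.leaf 1))) (.node (.node (.leaf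 1) (.leaf 1)) (.leaf 1))) (.node (.node (.node (.leaf 1) (.leaf 1)) (.node (.leaf 1) (.leaf 1))) (.node (.node (.leaf 1) (.leaf 1)) (.leaf 1)))) (.node (.node (.node (.node (.leaf 0) (.leaf 1)) (.node (.leaf 1) (.leaf 1))) (.node (.node (.leaf 1) (.leaf 1)) (.leaf 1))) (.node (.node (.node (.leaf 0) (.leaf 1)) (.node (.leaf 1) (.leaf 1))) (.node (.node (.leaf 0) (.leaf 1)) (.leaf 1))))))

def twoKind13 : Janko.Tree (ℕ) :=
  (.node (.node (.node (.node (.node (.node (.leaf 0) (.leaf 1)) (.node (.leaf 1) (.leaf 1))) (.node (.node (.leaf 0) (.leaf 1)) (.node (.leaf 1) (.leaf 2)))) (.node (.node (.node (.leaf 1) (.leaf 1)) (.node (.leaf 1) (.leaf 1))) (.node (.node (.leaf 0) (.leaf 1)) (.leaf 1)))) (.node (.node (.node (.node (.leaf 1) (.leaf 1)) (.node (.leaf 1) (.leaf 1))) (.node (.node (.leaf 1) (.leaf 1)) (.leaf 1))) (.node (.node (.node (.leaf 0) (.leaf 1)) (.node (.leaf 1) (.leaf 1))) (.node (.node (.leaf 1) (.leaf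 1)) (.leaf 1))))) (.node (.node (.node (.node (.node (.leaf 0) (.leaf 1)) (.node (.leaf 0) (.leaf 1))) (.node (.node (.leaf 1) (.leaf 1)) (.leaf 1))) (.node (.node (.node (.leaf 1) (.leaf 1)) (.node (.leaf 1) (.leaf 1))) (.node (.node (.leaf 1) (.leaf 1)) (.leaf 1)))) (.node (.node (.node (.node (.leaf 0) (.leaf 1)) (.node (.leaf 1) (.leaf 1))) (.node (.node (.leaf 0) (.leaf 1)) (.leaf 1))) (.node (.node (.node (.leaf 0) (.leaf 1)) (.node (.leaf 0) (.leaf 1))) (.node (.node (.leaf 1) (.leaf 1)) (.leaf 1))))))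

def twoKind14 : Janko.Tree (ℕ) :=
  (.node (.node (.node (.node (.node (.node (.leaf 0) (.leaf 1)) (.node (.leaf 1) (.leaf 1))) (.node (.node (.leaf 1) (.leaf 1)) (.node (.leaf 1) (.leaf 2)))) (.node (.node (.node (.leaf 1) (.leaf 1)) (.node (.leaf 1) (.leaf 1))) (.node (.node (.leaf 1) (.leaf 1)) (.leaf 1)))) (.node (.node (.node (.node (.leaf 1) (.leaf 1)) (.node (.leaf 1) (.leaf 1))) (.node (.node (.leaf 0) (.leaf 1)) (.leaf 1))) (.node (.node (.node (.leaf 0) (.leaf 1)) (.node (.leaf 0) (.leaf 1))) (.node (.node (.leaf 1) (.leaf 1)) (.leaf 1))))) (.node (.node (.node (.node (.node (.leaf 0) (.leaf 1)) (.node (.leaf 0) (.leaf 1))) (.node (.node (.leaf 0) (.leaf 1)) (.leaf 1))) (.node (.node (.node (.leaf 1) (.leaf 1)) (.node (.leaf 1) (.leaf 1))) (.node (.node (.leaf 1) (.leaf 1)) (.leaf 1)))) (.node (.node (.node (.node (.leaf 0) (.leaf 1)) (.node (.leaf 1) (.leaf 1))) (.node (.node (.leaf 1) (.leaf 1)) (.leaf 1)))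 (.node (.node (.node (.leaf 1) (.leaf 1)) (.node (.leaf 1) (.leaf 1))) (.node (.node (.leaf 1) (.leaf 1)) (.leaf 1))))))

def twoKind15 : Janko.Tree (ℕ) :=
  (.node (.node (.node (.node (.node (.node (.leaf 1) (.leaf 1)) (.node (.leaf 1) (.leaf 1))) (.node (.node (.leaf 0) (.leaf 1)) (.node (.leaf 1) (.leaf 1)))) (.node (.node (.node (.leaf 0) (.leaf 1)) (.node (.leaf 1) (.leaf 1))) (.node (.node (.leaf 1) (.leaf 1)) (.leaf 1)))) (.node (.node (.node (.node (.leaf 1) (.leaf 1)) (.node (.leaf 1) (.leaf 1))) (.node (.node (.leaf 1) (.leaf 1)) (.leaf 1))) (.node (.node (.node (.leaf 1) (.leaf 1)) (.node (.leaf 1) (.leaf 1))) (.node (.node (.leaf 0) (.leaf 1)) (.leaf 1))))) (.node (.node (.node (.node (.node (.leaf 1) (.leaf 1)) (.node (.leaf 1) (.leaf 1))) (.node (.node (.leaf 1) (.leaf 1)) (.leaf 1))) (.node (.node (.node (.leaf 1) (.leaf 1)) (.node (.leaf 1) (.leaf 1))) (.node (.node (.leaf 1) (.leaf 1)) (.leaf 1)))) (.node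 (.node (.node (.node (.leaf 1) (.leaf 1)) (.node (.leaf 0) (.leaf 1))) (.node (.node (.leaf 0) (.leaf 1)) (.leaf 1))) (.node (.node (.node (.leaf 1) (.leaf 1)) (.node (.leaf 1) (.leaf 1))) (.node (.node (.leaf 0) (.leaf 1)) (.leaf 1))))))

/-- a table -/
def twoKind : Janko.Tree (ℕ) := (.node (.node (.node (.node twoKind0 twoKind8) (.node twoKind4 twoKind12)) (.node (.node twoKind2 twoKind10) (.node twoKind6 twoKind14))) (.node (.node (.node twoKind1 twoKind9) (.node twoKind5 twoKind13)) (.node (.node twoKind3 twoKind11) (.node twoKind7 twoKind15))))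

def twoRank0 : Janko.Tree (ℕ) :=
  (.node (.node (.node (.node (.node (.node (.leaf 0) (.leaf 655)) (.node (.leaf 458) (.leaf 748))) (.node (.node (.leaf 245) (.leaf 607)) (.node (.leaf 408) (.leaf 0)))) (.node (.node (.node (.leaf 0) (.leaf 726)) (.node (.leaf 631) (.leaf 363))) (.node (.node (.leaf 713) (.leaf 450)) (.leaf 170)))) (.node (.node (.node (.node (.leaf 0) (.leaf 218)) (.node (.leaf 360) (.leaf 698))) (.node (.node (.leaf 0) (.leaf 79)) (.leaf 51))) (.node (.node (.node (.leaf 222) (.leaf 117)) (.node (.leaf 0) (.leaf 42))) (.node (.node (.leaf 104) (.leaf 340)) (.leaf 565))))) (.node (.node (.node (.node (.node (.leaf 0) (.leaf 730)) (.node (.leaf 0) (.leaf 139))) (.node (.node (.leaf 0) (.leaf 605)) (.node (.leaf 17) (.leaf 361)))) (.node (.node (.node (.leaf 511) (.leaf 600)) (.node (.leaf 143) (.leaf 754))) (.node (.node (.leaf 0) (.leaf 599)) (.leaf 693)))) (.node (.node (.node (.node (.leaf 0) (.leaf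 613)) (.node (.leaf 157) (.leaf 59))) (.node (.node (.leaf 317) (.leaf 641)) (.leaf 467))) (.node (.node (.node (.leaf 0) (.leaf 364)) (.node (.leaf 67) (.leaf 583))) (.node (.node (.leaf 243) (.leaf 45)) (.leaf 553))))))

def twoRank1 : Janko.Tree (ℕ) :=
  (.node (.node (.node (.node (.node (.node (.leaf 0) (.leaf 30)) (.node (.leaf 460) (.leaf 299))) (.node (.node (.leaf 272) (.leaf 560)) (.node (.leaf 180) (.leaf 0)))) (.node (.node (.node (.leaf 38) (.leaf 489)) (.node (.leaf 0) (.leaf 777))) (.node (.node (.leaf 556) (.leaf 414)) (.leaf 653)))) (.node (.node (.node (.node (.leaf 0) (.leaf 627)) (.node (.leaf 137) (.leaf 636))) (.node (.node (.leaf 702) (.leaf 401)) (.leaf 437))) (.node (.node (.node (.leaf 131) (.leaf 373)) (.node (.leaf 375) (.leaf 443))) (.node (.node (.leaf 331) (.leaf 541)) (.leaf 603))))) (.node (.node (.node (.node (.node (.leaf 0) (.leaf 286)) (.node (.leaf 425) (.leaf 405))) (.node (.node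 (.leaf 142) (.leaf 346)) (.node (.leaf 349) (.leaf 295)))) (.node (.node (.node (.leaf 73) (.leaf 592)) (.node (.leaf 304) (.leaf 25))) (.node (.node (.leaf 524) (.leaf 536)) (.leaf 164)))) (.node (.node (.node (.node (.leaf 235) (.leaf 742)) (.node (.leaf 189) (.leaf 522))) (.node (.node (.leaf 269) (.leaf 518)) (.leaf 121))) (.node (.node (.node (.leaf 0) (.leaf 682)) (.node (.leaf 198) (.leaf 110))) (.node (.node (.leaf 513) (.leaf 766)) (.leaf 779))))))

def twoRank2 : Janko.Tree (ℕ) :=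
  (.node (.node (.node (.node (.node (.node (.leaf 0) (.leaf 0)) (.node (.leaf 456) (.leaf 500))) (.node (.node (.leaf 281) (.leaf 581)) (.node (.leaf 333) (.leaf 0)))) (.node (.node (.node (.leaf 0) (.leaf 493)) (.node (.leaf 701) (.leaf 9))) (.node (.node (.leaf 0) (.leaf 412)) (.leaf 507)))) (.node (.node (.node (.node (.leaf 0) (.leaf 537)) (.node (.leaf 374) (.leaf 60))) (.node (.node (.leaf 652) (.leaf 699)) (.leaf 672))) (.node (.node (.node (.leaf 95) (.leaf 13)) (.node (.leaf 385) (.leaf 629))) (.node (.node (.leaf 0) (.leaf 517)) (.leaf 0))))) (.node (.node (.node (.node (.node (.leaf 0) (.leaf 337)) (.node (.leaf 297) (.leaf 253))) (.node (.node (.leaf 265) (.leaf 616)) (.node (.leaf 0) (.leaf 637)))) (.node (.node (.node (.leaf 0) (.leaf 118)) (.node (.leaf 258) (.leaf 634))) (.node (.node (.leaf 2) (.leaf 654)) (.leaf 688)))) (.node (.node (.node (.node (.leaf 305) (.leaf 763)) (.node (.leaf 356) (.leaf 202)))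 (.node (.node (.leaf 159) (.leaf 193)) (.leaf 93))) (.node (.node (.node (.leaf 0) (.leaf 226)) (.node (.leaf 274) (.leaf 733))) (.node (.node (.leaf 233) (.leaf 552)) (.leaf 555))))))

def twoRank3 : Janko.Tree (ℕ) :=
  (.node (.node (.node (.node (.node (.node (.leaf 0) (.leaf 482)) (.node (.leaf 228) (.leaf 509))) (.node (.node (.leaf 96) (.leaf 345)) (.node (.leaf 453) (.leaf 0)))) (.node (.node (.node (.leaf 0) (.leaf 604)) (.node (.leaf 134) (.leaf 289))) (.node (.node (.leaf 562) (.leaf 782)) (.leaf 492)))) (.node (.node (.node (.node (.leaf 0) (.leaf 454)) (.node (.leaf 69) (.leaf 625))) (.node (.node (.leaf 656) (.leaf 510)) (.leaf 151))) (.node (.node (.node (.leaf 135) (.leaf 290)) (.node (.leaf 0) (.leaf 445))) (.node (.node (.leaf 0) (.leaf 229)) (.leaf 0))))) (.node (.node (.node (.node (.node (.leaf 0) (.leaf 119)) (.node (.leaf 34) (.leaf 366))) (.node (.node (.leaf 0) (.leaf 574)) (.node (.leaf 357) (.leaf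 416)))) (.node (.node (.node (.leaf 0) (.leaf 540)) (.node (.leaf 154) (.leaf 628))) (.node (.node (.leaf 0) (.leaf 244)) (.leaf 676)))) (.node (.node (.node (.node (.leaf 259) (.leaf 48)) (.node (.leaf 125) (.leaf 775))) (.node (.node (.leaf 544) (.leaf 78)) (.leaf 332))) (.node (.node (.node (.leaf 55) (.leaf 391)) (.node (.leaf 206) (.leaf 753))) (.node (.node (.leaf 103) (.leaf 550)) (.leaf 249))))))

def twoRank4 : Janko.Tree (ℕ) :=
  (.node (.node (.node (.node (.node (.node (.leaf 0) (.leaf 480)) (.node (.leaf 548) (.leaf 690))) (.node (.node (.leaf 459) (.leaf 731)) (.node (.leaf 402) (.leaf 0)))) (.node (.node (.node (.leaf 0) (.leaf 491)) (.node (.leaf 415) (.leaf 673))) (.node (.node (.leaf 664) (.leaf 350)) (.leaf 66)))) (.node (.node (.node (.node (.leaf 710) (.leaf 411)) (.node (.leaf 320) (.leaf 442))) (.node (.node (.leaf 595) (.leaf 197)) (.leaf 4))) (.node (.node (.node (.leaf 136) (.leaf 367)) (.node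 (.leaf 291) (.leaf 498))) (.node (.node (.leaf 177) (.leaf 186)) (.leaf 715))))) (.node (.node (.node (.node (.node (.leaf 0) (.leaf 341)) (.node (.leaf 0) (.leaf 284))) (.node (.node (.leaf 22) (.leaf 567)) (.node (.leaf 353) (.leaf 242)))) (.node (.node (.node (.leaf 6) (.leaf 278)) (.node (.leaf 409) (.leaf 624))) (.node (.node (.leaf 659) (.leaf 588)) (.leaf 150)))) (.node (.node (.node (.node (.leaf 165) (.leaf 494)) (.node (.leaf 477) (.leaf 675))) (.node (.node (.leaf 260) (.leaf 203)) (.leaf 469))) (.node (.node (.node (.leaf 0) (.leaf 82)) (.node (.leaf 0) (.leaf 740))) (.node (.node (.leaf 0) (.leaf 502)) (.leaf 162))))))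

def twoRank5 : Janko.Tree (ℕ) :=
  (.node (.node (.node (.node (.node (.node (.leaf 0) (.leaf 484)) (.node (.leaf 256) (.leaf 221))) (.node (.node (.leaf 288) (.leaf 771)) (.node (.leaf 231) (.leaf 0)))) (.node (.node (.node (.leaf 0) (.leaf 618)) (.node (.leaf 441) (.leaf 735))) (.node (.node (.leaf 0) (.leaf 684)) (.leaf 169)))) (.node (.node (.node (.node (.leaf 0) (.leaf 705)) (.node (.leaf 0) (.leaf 155))) (.node (.node (.leaf 71) (.leaf 195)) (.leaf 472))) (.node (.node (.node (.leaf 0) (.leaf 397)) (.node (.leaf 661) (.leaf 351))) (.node (.node (.leaf 172) (.leaf 115)) (.leaf 563))))) (.node (.node (.node (.node (.node (.leaf 0) (.leaf 15)) (.node (.leaf 421) (.leaf 141))) (.node (.node (.leaf 315) (.leaf 589)) (.node (.leaf 355) (.leaf 248)))) (.node (.node (.node (.leaf 0) (.leaf 707)) (.node (.leaf 145) (.leaf 419))) (.node (.node (.leaf 212) (.leaf 545)) (.leaf 780)))) (.node (.node (.node (.node (.leaf 238)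 (.leaf 602)) (.node (.leaf 19) (.leaf 26))) (.node (.node (.leaf 129) (.leaf 743)) (.leaf 376))) (.node (.node (.node (.leaf 0) (.leaf 207)) (.node (.leaf 667) (.leaf 736))) (.node (.node (.leaf 179) (.leaf 531)) (.leaf 561))))))

def twoRank6 : Janko.Tree (ℕ) :=
  (.node (.node (.node (.node (.node (.node (.leaf 0) (.leaf 476)) (.node (.leaf 213) (.leaf 396))) (.node (.node (.leaf 316) (.leaf 767)) (.node (.leaf 97) (.leaf 0)))) (.node (.node (.node (.leaf 0) (.leaf 496)) (.node (.leaf 68) (.leaf 677))) (.node (.node (.leaf 36) (.leaf 47)) (.leaf 481)))) (.node (.node (.node (.node (.leaf 519) (.leaf 64)) (.node (.leaf 168) (.leaf 438))) (.node (.node (.leaf 0) (.leaf 393)) (.leaf 327))) (.node (.node (.node (.leaf 422) (.leaf 370)) (.node (.leaf 0) (.leaf 686))) (.node (.node (.leaf 181) (.leaf 462)) (.leaf 729))))) (.node (.node (.node (.node (.node (.leaf 0) (.leaf 348)) (.node (.leaf 429) (.leaf 112))) (.node (.node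 (.leaf 0) (.leaf 61)) (.node (.leaf 236) (.leaf 379)))) (.node (.node (.node (.leaf 267) (.leaf 650)) (.node (.leaf 124) (.leaf 610))) (.node (.node (.leaf 192) (.leaf 77)) (.leaf 16)))) (.node (.node (.node (.node (.leaf 240) (.leaf 313)) (.node (.leaf 302) (.leaf 679))) (.node (.node (.leaf 83) (.leaf 11)) (.leaf 354))) (.node (.node (.node (.leaf 0) (.leaf 81)) (.node (.leaf 210) (.leaf 738))) (.node (.node (.leaf 528) (.leaf 479)) (.leaf 551))))))

def twoRank7 : Janko.Tree (ℕ) :=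
  (.node (.node (.node (.node (.node (.node (.leaf 108) (.leaf 335)) (.node (.leaf 232) (.leaf 76))) (.node (.node (.leaf 318) (.leaf 727)) (.node (.leaf 185) (.leaf 0)))) (.node (.node (.node (.leaf 0) (.leaf 642)) (.node (.leaf 451) (.leaf 292))) (.node (.node (.leaf 647) (.leaf 394)) (.leaf 140)))) (.node (.node (.node (.node (.leaf 74) (.leaf 452)) (.node (.leaf 759) (.leaf 668))) (.node (.node (.leaf 533) (.leaf 621)) (.leaf 678))) (.node (.node (.node (.leaf 0) (.leaf 294)) (.node (.leaf 33) (.leaf 41))) (.node (.node (.leaf 538) (.leaf 470)) (.leaf 65))))) (.node (.node (.node (.node (.node (.leaf 39) (.leaf 739)) (.node (.leaf 301) (.leaf 732))) (.node (.node (.leaf 485) (.leaf 643)) (.node (.leaf 508) (.leaf 216)))) (.node (.node (.node (.leaf 227) (.leaf 280)) (.node (.leaf 99) (.leaf 8))) (.node (.node (.leaf 84) (.leaf 532)) (.leaf 573)))) (.node (.node (.node (.node (.leaf 132) (.leaf 319)) (.node (.leaf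 0) (.leaf 746))) (.node (.node (.leaf 0) (.leaf 725)) (.leaf 138))) (.node (.node (.node (.leaf 0) (.leaf 757)) (.node (.leaf 196) (.leaf 734))) (.node (.node (.leaf 708) (.leaf 606)) (.leaf 120))))))

def twoRank8 : Janko.Tree (ℕ) :=
  (.node (.node (.node (.node (.node (.node (.leaf 0) (.leaf 504)) (.node (.leaf 237) (.leaf 381))) (.node (.node (.leaf 161) (.leaf 719)) (.node (.leaf 173) (.leaf 0)))) (.node (.node (.node (.leaf 0) (.leaf 651)) (.node (.leaf 448) (.leaf 622))) (.node (.node (.leaf 0) (.leaf 392)) (.leaf 547)))) (.node (.node (.node (.node (.leaf 0) (.leaf 449)) (.node (.leaf 431) (.leaf 156))) (.node (.node (.leaf 144) (.leaf 570)) (.leaf 329))) (.node (.node (.node (.leaf 0) (.leaf 781)) (.node (.leaf 666) (.leaf 378))) (.node (.node (.leaf 530) (.leaf 474)) (.leaf 722))))) (.node (.node (.node (.node (.node (.leaf 0) (.leaf 330)) (.node (.leaf 579) (.leaf 444))) (.node (.node (.leaf 0) (.leaf 571))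 (.node (.leaf 146) (.leaf 153)))) (.node (.node (.node (.leaf 187) (.leaf 85)) (.node (.leaf 718) (.leaf 692))) (.node (.node (.leaf 201) (.leaf 424)) (.leaf 527)))) (.node (.node (.node (.node (.leaf 0) (.leaf 760)) (.node (.leaf 434) (.leaf 671))) (.node (.node (.leaf 669) (.leaf 721)) (.leaf 323))) (.node (.node (.node (.leaf 529) (.leaf 751)) (.node (.leaf 98) (.leaf 744))) (.node (.node (.leaf 712) (.leaf 310)) (.leaf 89))))))

def twoRank9 : Janko.Tree (ℕ) :=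
  (.node (.node (.node (.node (.node (.node (.leaf 0) (.leaf 728)) (.node (.leaf 126) (.leaf 577))) (.node (.node (.leaf 285) (.leaf 80)) (.node (.leaf 359) (.leaf 0)))) (.node (.node (.node (.leaf 56) (.leaf 63)) (.node (.leaf 264) (.leaf 741))) (.node (.node (.leaf 593) (.leaf 390)) (.leaf 246)))) (.node (.node (.node (.node (.leaf 0) (.leaf 87)) (.node (.leaf 220) (.leaf 446))) (.node (.node (.leaf 761) (.leaf 28)) (.leaf 94))) (.node (.node (.node (.leaf 0) (.leaf 387)) (.node (.leaf 0) (.leaf 382))) (.node (.node (.leaf 35) (.leaf 674)) (.leaf 557))))) (.node (.node (.node (.node (.node (.leaf 0) (.leaf 433)) (.node (.leaf 400) (.leaf 691))) (.node (.node (.leaf 307) (.leaf 662)) (.node (.leaf 211) (.leaf 191)))) (.node (.node (.node (.leaf 107) (.leaf 542)) (.node (.leaf 769) (.leaf 377))) (.node (.node (.leaf 208) (.leaf 10)) (.leaf 523)))) (.node (.node (.node (.node (.leaf 23) (.leaf 638)) (.node (.leaf 423)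 (.leaf 293))) (.node (.node (.leaf 149) (.leaf 765)) (.leaf 372))) (.node (.node (.node (.leaf 0) (.leaf 755)) (.node (.leaf 209) (.leaf 501))) (.node (.node (.leaf 239) (.leaf 483)) (.leaf 430))))))

def twoRank10 : Janko.Tree (ℕ) :=
  (.node (.node (.node (.node (.node (.node (.leaf 0) (.leaf 282)) (.node (.leaf 102) (.leaf 388))) (.node (.node (.leaf 457) (.leaf 717)) (.node (.leaf 700) (.leaf 0)))) (.node (.node (.node (.leaf 0) (.leaf 594)) (.node (.leaf 758) (.leaf 420))) (.node (.node (.leaf 0) (.leaf 620)) (.leaf 608)))) (.node (.node (.node (.node (.leaf 7) (.leaf 334)) (.node (.leaf 325) (.leaf 217))) (.node (.node (.leaf 255) (.leaf 649)) (.leaf 463))) (.node (.node (.node (.leaf 306) (.leaf 417)) (.node (.leaf 626) (.leaf 384))) (.node (.node (.leaf 0) (.leaf 468)) (.leaf 776))))) (.node (.node (.node (.node (.node (.leaf 0) (.leaf 427)) (.node (.leaf 756) (.leaf 43))) (.node (.node (.leaf 665) (.leaf 344))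 (.node (.leaf 176) (.leaf 188)))) (.node (.node (.node (.leaf 0) (.leaf 262)) (.node (.leaf 214) (.leaf 380))) (.node (.node (.leaf 772) (.leaf 478)) (.leaf 525)))) (.node (.node (.node (.node (.leaf 0) (.leaf 584)) (.node (.leaf 298) (.leaf 615))) (.node (.node (.leaf 0) (.leaf 716)) (.leaf 495))) (.node (.node (.node (.leaf 714) (.leaf 749)) (.node (.leaf 539) (.leaf 499))) (.node (.node (.leaf 183) (.leaf 114)) (.leaf 428))))))

def twoRank11 : Janko.Tree (ℕ) :=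
  (.node (.node (.node (.node (.node (.node (.leaf 0) (.leaf 88)) (.node (.leaf 279) (.leaf 752))) (.node (.node (.leaf 130) (.leaf 578)) (.node (.leaf 404) (.leaf 3)))) (.node (.node (.node (.leaf 0) (.leaf 596)) (.node (.leaf 266) (.leaf 704))) (.node (.node (.leaf 0) (.leaf 601)) (.leaf 190)))) (.node (.node (.node (.node (.leaf 0) (.leaf 328)) (.node (.leaf 101) (.leaf 111))) (.node (.node (.leaf 590) (.leaf 572)) (.leaf 475))) (.node (.node (.node (.leaf 37) (.leaf 512)) (.node (.leaf 632) (.leaf 611))) (.node (.node (.leaf 534) (.leaf 464)) (.leaf 549))))) (.node (.node (.node (.node (.node (.leaf 0) (.leaf 663)) (.node (.leaf 53) (.leaf 689))) (.node (.node (.leaf 0) (.leaf 252)) (.node (.leaf 225) (.leaf 182)))) (.node (.node (.node (.leaf 234) (.leaf 546)) (.node (.leaf 0) (.leaf 362))) (.node (.node (.leaf 251) (.leaf 720)) (.leaf 521)))) (.node (.node (.node (.node (.leaf 0) (.leaf 309)) (.node (.leaf 271)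 (.leaf 371))) (.node (.node (.leaf 0) (.leaf 723)) (.leaf 640))) (.node (.node (.node (.leaf 72) (.leaf 745)) (.node (.leaf 471) (.leaf 768))) (.node (.node (.leaf 127) (.leaf 773)) (.leaf 750))))))

def twoRank12 : Janko.Tree (ℕ) :=
  (.node (.node (.node (.node (.node (.node (.leaf 0) (.leaf 339)) (.node (.leaf 505) (.leaf 158))) (.node (.node (.leaf 106) (.leaf 12)) (.node (.leaf 223) (.leaf 0)))) (.node (.node (.node (.leaf 167) (.leaf 219)) (.node (.leaf 706) (.leaf 58))) (.node (.node (.leaf 520) (.leaf 658)) (.leaf 92)))) (.node (.node (.node (.node (.leaf 241) (.leaf 368)) (.node (.leaf 352) (.leaf 276))) (.node (.node (.leaf 277) (.leaf 598)) (.leaf 407))) (.node (.node (.node (.leaf 0) (.leaf 62)) (.node (.leaf 194) (.leaf 566))) (.node (.node (.leaf 0) (.leaf 466)) (.leaf 764))))) (.node (.node (.node (.node (.node (.leaf 0) (.leaf 670)) (.node (.leaf 386) (.leaf 737))) (.node (.node (.leaf 770) (.leaf 591))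 (.leaf 122))) (.node (.node (.node (.leaf 296) (.leaf 257)) (.node (.leaf 200) (.leaf 369))) (.node (.node (.leaf 166) (.leaf 461)) (.leaf 614)))) (.node (.node (.node (.node (.leaf 0) (.leaf 86)) (.node (.leaf 694) (.leaf 680))) (.node (.node (.leaf 152) (.leaf 703)) (.leaf 50))) (.node (.node (.node (.leaf 0) (.leaf 747)) (.node (.leaf 32) (.leaf 40))) (.node (.node (.leaf 0) (.leaf 697)) (.leaf 465))))))

def twoRank13 : Janko.Tree (ℕ) :=
  (.node (.node (.node (.node (.node (.node (.leaf 0) (.leaf 342)) (.node (.leaf 586) (.leaf 398))) (.node (.node (.leaf 0) (.leaf 558)) (.node (.leaf 175) (.leaf 0)))) (.node (.node (.node (.leaf 178) (.leaf 487)) (.node (.leaf 413) (.leaf 630))) (.node (.node (.leaf 0) (.leaf 46)) (.leaf 308)))) (.node (.node (.node (.node (.leaf 215) (.leaf 326)) (.node (.leaf 287) (.leaf 516))) (.node (.node (.leaf 105) (.leaf 568)) (.leaf 247))) (.node (.node (.node (.leaf 0) (.leaf 389)) (.node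 (.leaf 399) (.leaf 250))) (.node (.node (.leaf 543) (.leaf 774)) (.leaf 273))))) (.node (.node (.node (.node (.node (.leaf 0) (.leaf 783)) (.node (.leaf 0) (.leaf 300))) (.node (.node (.leaf 54) (.leaf 569)) (.leaf 778))) (.node (.node (.node (.leaf 254) (.leaf 648)) (.node (.leaf 204) (.leaf 623))) (.node (.node (.leaf 526) (.leaf 338)) (.leaf 575)))) (.node (.node (.node (.node (.leaf 0) (.leaf 311)) (.node (.leaf 683) (.leaf 365))) (.node (.node (.leaf 0) (.leaf 473)) (.leaf 490))) (.node (.node (.node (.leaf 0) (.leaf 576)) (.node (.leaf 0) (.leaf 486))) (.node (.node (.leaf 20) (.leaf 687)) (.leaf 426))))))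

def twoRank14 : Janko.Tree (ℕ) :=
  (.node (.node (.node (.node (.node (.node (.leaf 0) (.leaf 709)) (.node (.leaf 283) (.leaf 383))) (.node (.node (.leaf 147) (.leaf 587)) (.node (.leaf 123) (.leaf 0)))) (.node (.node (.node (.leaf 406) (.leaf 660)) (.node (.leaf 100) (.leaf 418))) (.node (.node (.leaf 711) (.leaf 597)) (.leaf 91)))) (.node (.node (.node (.node (.leaf 230) (.leaf 324)) (.node (.leaf 303) (.leaf 657))) (.node (.node (.leaf 0) (.leaf 199)) (.leaf 163))) (.node (.node (.node (.leaf 0) (.leaf 275)) (.node (.leaf 0) (.leaf 609))) (.node (.node (.leaf 174) (.leaf 515)) (.leaf 724))))) (.node (.node (.node (.node (.node (.leaf 0) (.leaf 49)) (.node (.leaf 0) (.leaf 619))) (.node (.node (.leaf 0) (.leaf 645)) (.leaf 695))) (.node (.node (.node (.leaf 148) (.leaf 535)) (.node (.leaf 612) (.leaf 696))) (.node (.node (.leaf 205) (.leaf 336)) (.leaf 31)))) (.node (.node (.node (.node (.leaf 0) (.leaf 497)) (.node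 (.leaf 52) (.leaf 395))) (.node (.node (.leaf 21) (.leaf 27)) (.leaf 582))) (.node (.node (.node (.leaf 5) (.leaf 347)) (.node (.leaf 447) (.leaf 580))) (.node (.node (.leaf 762) (.leaf 44)) (.leaf 432))))))

def twoRank15 : Janko.Tree (ℕ) :=
  (.node (.node (.node (.node (.node (.node (.leaf 24) (.leaf 506)) (.node (.leaf 171) (.leaf 113))) (.node (.node (.leaf 0) (.leaf 564)) (.node (.leaf 133) (.leaf 358)))) (.node (.node (.node (.leaf 0) (.leaf 160)) (.node (.leaf 268) (.leaf 617))) (.node (.node (.leaf 70) (.leaf 644)) (.leaf 439)))) (.node (.node (.node (.node (.leaf 109) (.leaf 321)) (.node (.leaf 343) (.leaf 514))) (.node (.node (.leaf 263) (.leaf 554)) (.leaf 435))) (.node (.node (.node (.leaf 312) (.leaf 1)) (.node (.leaf 403) (.leaf 559))) (.node (.node (.leaf 0) (.leaf 639)) (.leaf 90))))) (.node (.node (.node (.node (.node (.leaf 57) (.leaf 633)) (.node (.leaf 322) (.leaf 440))) (.node (.node (.leaf 646)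 (.leaf 116)) (.leaf 681))) (.node (.node (.node (.leaf 224) (.leaf 270)) (.node (.leaf 18) (.leaf 685))) (.node (.node (.leaf 128) (.leaf 184)) (.leaf 585)))) (.node (.node (.node (.node (.leaf 261) (.leaf 14)) (.node (.leaf 0) (.leaf 75))) (.node (.node (.leaf 0) (.leaf 635)) (.leaf 314))) (.node (.node (.node (.leaf 455) (.leaf 29)) (.node (.leaf 410) (.leaf 488))) (.node (.node (.leaf 0) (.leaf 436)) (.leaf 503))))))

/-- a table -/
def twoRank : Janko.Tree (ℕ) := (.node (.node (.node (.node twoRank0 twoRank8) (.node twoRank4 twoRank12)) (.node (.node twoRank2 twoRank10) (.node twoRank6 twoRank14))) (.node (.node (.node twoRank1 twoRank9) (.node twoRank5 twoRank13)) (.node (.node twoRank3 twoRank11) (.node twoRank7 twoRank15))))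

def twoVia0 : Janko.Tree (ℕ × ℕ) :=
  (.node (.node (.node (.node (.node (.node (.leaf (0, 0)) (.leaf (16, 108))) (.node (.leaf (25, 104)) (.leaf (27, 113)))) (.node (.node (.leaf (20, 65)) (.leaf (24, 93))) (.node (.leaf (17, 54)) (.leaf (0, 0))))) (.node (.node (.node (.leaf (0, 0)) (.leaf (21, 127))) (.node (.leaf (25, 120)) (.leaf (27, 118)))) (.node (.node (.leaf (14, 35)) (.leaf (26, 78))) (.leaf (11, 8))))) (.node (.node (.node (.node (.leaf (0, 0)) (.leaf (5, 115))) (.node (.leaf (17, 112)) (.leaf (13, 114)))) (.node (.node (.leaf (0, 0)) (.leaf (0, 29))) (.leaf (3, 59)))) (.node (.node (.node (.leaf (23, 89)) (.leaf (6, 86))) (.node (.leaf (0, 0)) (.leaf (3, 123)))) (.node (.node (.leaf (0, 5)) (.leaf (17, 74))) (.leaf (26, 125)))))) (.node (.node (.node (.node (.node (.leaf (0, 0)) (.leaf (24, 27))) (.node (.leaf (0, 0)) (.leaf (11, 65)))) (.node (.node (.leaf (0, 0)) (.leaf (27, 127))) (.node (.leaf (1, 57))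 (.leaf (16, 79))))) (.node (.node (.node (.leaf (23, 55)) (.leaf (26, 102))) (.node (.leaf (11, 24)) (.leaf (17, 120)))) (.node (.node (.leaf (0, 0)) (.leaf (27, 102))) (.leaf (21, 118))))) (.node (.node (.node (.node (.leaf (0, 0)) (.leaf (12, 118))) (.node (.leaf (24, 111)) (.leaf (4, 116)))) (.node (.node (.leaf (13, 7)) (.leaf (13, 98))) (.leaf (27, 106)))) (.node (.node (.node (.leaf (0, 0)) (.leaf (17, 118))) (.node (.leaf (4, 52)) (.leaf (27, 80)))) (.node (.node (.leaf (20, 103)) (.leaf (3, 107))) (.leaf (27, 71)))))))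

def twoVia1 : Janko.Tree (ℕ × ℕ) :=
  (.node (.node (.node (.node (.node (.node (.leaf (0, 0)) (.leaf (2, 73))) (.node (.leaf (27, 19)) (.leaf (24, 109)))) (.node (.node (.leaf (23, 70)) (.leaf (26, 93))) (.node (.leaf (12, 105)) (.leaf (1, 0))))) (.node (.node (.node (.leaf (2, 9)) (.leaf (24, 127))) (.node (.leaf (0, 0)) (.leaf (12, 117)))) (.node (.node (.leaf (15, 29)) (.leaf (25, 100))) (.leaf (17, 73))))) (.node (.node (.node (.node (.leaf (0, 0)) (.leaf (27, 77))) (.node (.leaf (2, 41)) (.leaf (23, 120)))) (.node (.node (.leaf (12, 100)) (.leaf (16, 110))) (.leaf (26, 113)))) (.node (.node (.node (.leaf (6, 13)) (.leaf (0, 87))) (.node (.leaf (24, 112)) (.leaf (26, 115)))) (.node (.node (.leaf (7, 21)) (.leaf (8, 105))) (.leaf (27, 125)))))) (.node (.node (.node (.node (.node (.leaf (0, 0)) (.leaf (4, 75))) (.node (.leaf (12, 74)) (.leaf (14, 56)))) (.node (.node (.leaf (8, 0)) (.leaf (6, 93))) (.node (.leaf (2,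 76)) (.leaf (17, 87))))) (.node (.node (.node (.leaf (4, 11)) (.leaf (23, 86))) (.node (.leaf (13, 13)) (.leaf (2, 121)))) (.node (.node (.leaf (26, 31)) (.leaf (10, 86))) (.leaf (3, 66))))) (.node (.node (.node (.node (.leaf (12, 58)) (.leaf (7, 120))) (.node (.leaf (26, 112)) (.leaf (27, 98)))) (.node (.node (.leaf (8, 25)) (.leaf (24, 116))) (.leaf (6, 61)))) (.node (.node (.node (.leaf (0, 0)) (.leaf (13, 59))) (.node (.leaf (25, 53)) (.leaf (6, 125)))) (.node (.node (.leaf (9, 34)) (.leaf (26, 92))) (.leaf (12, 119)))))))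

def twoVia2 : Janko.Tree (ℕ × ℕ) :=
  (.node (.node (.node (.node (.node (.node (.leaf (0, 0)) (.leaf (0, 0))) (.node (.leaf (17, 37)) (.leaf (9, 42)))) (.node (.node (.leaf (25, 74)) (.leaf (27, 93))) (.node (.leaf (1, 62)) (.leaf (2, 0))))) (.node (.node (.node (.leaf (0, 0)) (.leaf (22, 82))) (.node (.leaf (8, 56)) (.leaf (1, 119)))) (.node (.node (.leaf (0, 0)) (.leaf (21, 100))) (.leaf (2, 75))))) (.node (.node (.node (.node (.leaf (0, 0)) (.leaf (0, 103))) (.node (.leaf (9, 41)) (.leaf (4, 114)))) (.node (.node (.leaf (14, 83)) (.leaf (21, 123))) (.leaf (27, 119)))) (.node (.node (.node (.leaf (11, 2)) (.leaf (1, 87))) (.node (.leaf (25, 118)) (.leaf (25, 123)))) (.node (.node (.leaf (0, 0)) (.leaf (14, 107))) (.leaf (0, 0)))))) (.node (.node (.node (.node (.node (.leaf (0, 0)) (.leaf (27, 104))) (.node (.leaf (13, 48)) (.leaf (21, 61)))) (.node (.node (.leaf (12, 25)) (.leaf (7, 125))) (.node (.leaf (0, 0)) (.leaf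 (18, 56))))) (.node (.node (.node (.leaf (0, 0)) (.leaf (6, 84))) (.node (.leaf (2, 48)) (.leaf (22, 78)))) (.node (.node (.leaf (0, 30)) (.leaf (16, 33))) (.leaf (19, 66))))) (.node (.node (.node (.node (.leaf (7, 7)) (.leaf (18, 107))) (.node (.leaf (27, 57)) (.leaf (26, 116)))) (.node (.node (.leaf (24, 84)) (.leaf (4, 98))) (.leaf (0, 15)))) (.node (.node (.node (.leaf (0, 0)) (.leaf (23, 58))) (.node (.leaf (10, 4)) (.leaf (12, 99)))) (.node (.node (.leaf (26, 105)) (.leaf (5, 107))) (.leaf (16, 29)))))))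

def twoVia3 : Janko.Tree (ℕ × ℕ) :=
  (.node (.node (.node (.node (.node (.node (.leaf (0, 0)) (.leaf (26, 64))) (.node (.leaf (9, 49)) (.leaf (14, 42)))) (.node (.node (.leaf (11, 60)) (.leaf (17, 91))) (.node (.leaf (20, 78)) (.leaf (3, 0))))) (.node (.node (.node (.leaf (0, 0)) (.leaf (25, 82))) (.node (.leaf (7, 2)) (.leaf (13, 119)))) (.node (.node (.leaf (26, 27)) (.leaf (12, 116))) (.leaf (24, 82))))) (.node (.node (.node (.node (.leaf (0, 0)) (.leaf (13, 60))) (.node (.leaf (4, 41)) (.leaf (27, 123)))) (.node (.node (.leaf (13, 23)) (.leaf (14, 96))) (.leaf (6, 66)))) (.node (.node (.node (.leaf (1, 46)) (.leaf (2, 119))) (.node (.leaf (0, 0)) (.leaf (17, 123)))) (.node (.node (.leaf (0, 0)) (.leaf (10, 105))) (.leaf (0, 0)))))) (.node (.node (.node (.node (.node (.leaf (0, 0)) (.leaf (6, 75))) (.node (.leaf (2, 39)) (.leaf (23, 62)))) (.node (.node (.leaf (0, 0)) (.leaf (13, 125))) (.node (.leaf (25, 62)) (.leaf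 (19, 56))))) (.node (.node (.node (.leaf (0, 0)) (.leaf (12, 103))) (.node (.leaf (24, 115)) (.leaf (26, 120)))) (.node (.node (.leaf (0, 0)) (.leaf (2, 103))) (.leaf (16, 77))))) (.node (.node (.node (.node (.leaf (21, 25)) (.leaf (3, 80))) (.node (.leaf (6, 43)) (.leaf (12, 70)))) (.node (.node (.leaf (26, 33)) (.leaf (5, 98))) (.leaf (17, 79)))) (.node (.node (.node (.leaf (3, 16)) (.leaf (26, 101))) (.node (.leaf (11, 31)) (.leaf (13, 120)))) (.node (.node (.leaf (5, 34)) (.leaf (17, 107))) (.leaf (21, 125)))))))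

def twoVia4 : Janko.Tree (ℕ × ℕ) :=
  (.node (.node (.node (.node (.node (.node (.leaf (0, 0)) (.leaf (20, 74))) (.node (.leaf (13, 18)) (.leaf (19, 122)))) (.node (.node (.leaf (26, 104)) (.leaf (9, 109))) (.node (.leaf (14, 55)) (.leaf (4, 0))))) (.node (.node (.node (.leaf (0, 0)) (.leaf (26, 82))) (.node (.leaf (20, 100)) (.leaf (23, 60)))) (.node (.node (.leaf (12, 95)) (.leaf (14, 124))) (.leaf (4, 64))))) (.node (.node (.node (.node (.leaf (17, 35)) (.leaf (20, 55))) (.node (.leaf (11, 41)) (.leaf (24, 114)))) (.node (.node (.leaf (23, 85)) (.leaf (4, 96))) (.leaf (0, 60)))) (.node (.node (.node (.leaf (7, 0)) (.leaf (24, 50))) (.node (.leaf (13, 51)) (.leaf (0, 124)))) (.node (.node (.leaf (4, 58)) (.leaf (11, 11))) (.leaf (14, 31)))))) (.node (.node (.node (.node (.node (.leaf (0, 0)) (.leaf (10, 60))) (.node (.leaf (0, 0)) (.leaf (4, 112)))) (.node (.node (.leaf (1, 21)) (.leaf (13, 94))) (.node (.leaf (27,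 43)) (.leaf (20, 24))))) (.node (.node (.node (.leaf (0, 12)) (.leaf (7, 8))) (.node (.leaf (26, 54)) (.leaf (11, 83)))) (.node (.node (.leaf (19, 98)) (.leaf (14, 103))) (.leaf (9, 2))))) (.node (.node (.node (.node (.leaf (24, 31)) (.leaf (26, 127))) (.node (.leaf (12, 104)) (.leaf (14, 77)))) (.node (.node (.leaf (20, 37)) (.leaf (6, 116))) (.leaf (19, 106)))) (.node (.node (.node (.leaf (0, 0)) (.leaf (5, 89))) (.node (.leaf (0, 0)) (.leaf (18, 111)))) (.node (.node (.leaf (0, 0)) (.leaf (9, 73))) (.leaf (3, 71)))))))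

def twoVia5 : Janko.Tree (ℕ × ℕ) :=
  (.node (.node (.node (.node (.node (.node (.leaf (0, 0)) (.leaf (27, 73))) (.node (.leaf (21, 86)) (.leaf (3, 110)))) (.node (.node (.leaf (12, 2)) (.leaf (13, 49))) (.node (.leaf (10, 6)) (.leaf (5, 0))))) (.node (.node (.node (.leaf (0, 0)) (.leaf (10, 123))) (.node (.leaf (14, 109)) (.leaf (25, 126)))) (.node (.node (.leaf (0, 0)) (.leaf (19, 114))) (.leaf (11, 64))))) (.node (.node (.node (.node (.leaf (0, 0)) (.leaf (24, 121))) (.node (.leaf (0, 0)) (.leaf (9, 48)))) (.node (.node (.leaf (4, 23)) (.leaf (11, 98))) (.leaf (16, 78)))) (.node (.node (.node (.leaf (0, 0)) (.leaf (25, 122))) (.node (.leaf (8, 10)) (.leaf (1, 124)))) (.node (.node (.leaf (10, 0)) (.leaf (6, 105))) (.leaf (21, 93)))))) (.node (.node (.node (.node (.node (.leaf (0, 0)) (.leaf (1, 76))) (.node (.leaf (19, 112)) (.leaf (11, 112)))) (.node (.node (.leaf (21, 19)) (.leaf (24, 97))) (.node (.leaf (26, 79))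 (.leaf (21, 112))))) (.node (.node (.node (.leaf (0, 0)) (.leaf (8, 85))) (.node (.leaf (11, 48)) (.leaf (6, 121)))) (.node (.node (.leaf (9, 30)) (.leaf (25, 86))) (.leaf (7, 16))))) (.node (.node (.node (.node (.leaf (25, 37)) (.leaf (16, 80))) (.node (.leaf (1, 44)) (.leaf (2, 117)))) (.node (.node (.leaf (6, 25)) (.leaf (7, 69))) (.leaf (23, 118)))) (.node (.node (.node (.leaf (0, 0)) (.leaf (12, 89))) (.node (.leaf (18, 12)) (.leaf (22, 119)))) (.node (.node (.leaf (0, 11)) (.leaf (16, 103))) (.leaf (19, 91)))))))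

def twoVia6 : Janko.Tree (ℕ × ℕ) :=
  (.node (.node (.node (.node (.node (.node (.leaf (0, 0)) (.leaf (10, 39))) (.node (.leaf (24, 49)) (.leaf (26, 124)))) (.node (.node (.leaf (13, 21)) (.leaf (19, 107))) (.node (.leaf (5, 55)) (.leaf (6, 0))))) (.node (.node (.node (.leaf (0, 0)) (.leaf (1, 83))) (.node (.leaf (4, 46)) (.leaf (27, 117)))) (.node (.node (.leaf (2, 28)) (.leaf (3, 101))) (.leaf (27, 108))))) (.node (.node (.node (.node (.leaf (23, 34)) (.leaf (4, 78))) (.node (.leaf (10, 64)) (.leaf (14, 48)))) (.node (.node (.leaf (0, 0)) (.leaf (27, 96))) (.leaf (20, 79)))) (.node (.node (.node (.leaf (26, 61)) (.leaf (27, 122))) (.node (.leaf (0, 0)) (.leaf (13, 123)))) (.node (.node (.leaf (12, 32)) (.leaf (10, 61))) (.leaf (23, 99)))))) (.node (.node (.node (.node (.node (.leaf (0, 0)) (.leaf (13, 76))) (.node (.leaf (20, 42)) (.leaf (6, 112)))) (.node (.node (.leaf (0, 0)) (.leaf (4, 94))) (.node (.leaf (12, 37))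 (.leaf (22, 124))))) (.node (.node (.node (.leaf (2, 47)) (.leaf (24, 103))) (.node (.leaf (6, 48)) (.leaf (9, 79)))) (.node (.node (.leaf (25, 98)) (.leaf (5, 103))) (.leaf (1, 67))))) (.node (.node (.node (.node (.leaf (25, 105)) (.leaf (24, 80))) (.node (.leaf (21, 43)) (.leaf (24, 119)))) (.node (.node (.leaf (11, 4)) (.leaf (1, 99))) (.leaf (25, 112)))) (.node (.node (.node (.leaf (0, 0)) (.leaf (0, 27))) (.node (.leaf (9, 53)) (.leaf (25, 119)))) (.node (.node (.leaf (14, 67)) (.leaf (21, 74))) (.leaf (27, 107)))))))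

def twoVia7 : Janko.Tree (ℕ × ℕ) :=
  (.node (.node (.node (.node (.node (.node (.leaf (11, 0)) (.leaf (7, 55))) (.node (.leaf (10, 55)) (.leaf (5, 110)))) (.node (.node (.leaf (2, 21)) (.leaf (18, 92))) (.node (.leaf (12, 55)) (.leaf (7, 0))))) (.node (.node (.node (.leaf (0, 0)) (.leaf (21, 116))) (.node (.leaf (25, 47)) (.leaf (21, 119)))) (.node (.node (.leaf (23, 24)) (.leaf (26, 96))) (.leaf (11, 62))))) (.node (.node (.node (.node (.leaf (4, 5)) (.leaf (27, 100))) (.node (.leaf (13, 72)) (.leaf (21, 89)))) (.node (.node (.leaf (27, 103)) (.leaf (12, 120))) (.leaf (23, 119)))) (.node (.node (.node (.leaf (0, 0)) (.leaf (21, 117))) (.node (.leaf (2, 51)) (.leaf (3, 124)))) (.node (.node (.leaf (11, 54)) (.leaf (13, 100))) (.leaf (4, 69)))))) (.node (.node (.node (.node (.node (.leaf (2, 3)) (.leaf (22, 126))) (.node (.leaf (24, 113)) (.leaf (12, 109)))) (.node (.node (.leaf (26, 73)) (.leaf (20, 116))) (.node (.leaf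 (7, 58)) (.leaf (23, 30))))) (.node (.node (.node (.leaf (24, 58)) (.leaf (4, 85))) (.node (.leaf (0, 10)) (.leaf (1, 122)))) (.node (.node (.leaf (11, 89)) (.leaf (17, 103))) (.leaf (19, 31))))) (.node (.node (.node (.node (.leaf (6, 7)) (.leaf (8, 41))) (.node (.leaf (0, 0)) (.leaf (25, 90)))) (.node (.node (.leaf (0, 0)) (.leaf (19, 70))) (.leaf (8, 2)))) (.node (.node (.node (.leaf (0, 0)) (.leaf (13, 121))) (.node (.leaf (25, 96)) (.leaf (11, 99)))) (.node (.node (.leaf (20, 105)) (.leaf (23, 93))) (.leaf (6, 71)))))))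

def twoVia8 : Janko.Tree (ℕ × ℕ) :=
  (.node (.node (.node (.node (.node (.node (.leaf (0, 0)) (.leaf (8, 43))) (.node (.leaf (11, 37)) (.leaf (26, 118)))) (.node (.node (.leaf (24, 71)) (.leaf (15, 116))) (.node (.leaf (11, 34)) (.leaf (8, 0))))) (.node (.node (.node (.leaf (0, 0)) (.leaf (23, 94))) (.node (.leaf (26, 48)) (.leaf (12, 102)))) (.node (.node (.leaf (0, 0)) (.leaf (25, 101))) (.leaf (17, 81))))) (.node (.node (.node (.node (.leaf (0, 0)) (.leaf (27, 78))) (.node (.leaf (13, 47)) (.leaf (3, 115)))) (.node (.node (.leaf (11, 20)) (.leaf (15, 95))) (.leaf (7, 3)))) (.node (.node (.node (.leaf (0, 0)) (.leaf (12, 101))) (.node (.leaf (9, 51)) (.leaf (14, 32)))) (.node (.node (.leaf (13, 5)) (.leaf (13, 106))) (.leaf (23, 74)))))) (.node (.node (.node (.node (.node (.leaf (0, 0)) (.leaf (4, 76))) (.node (.leaf (12, 127)) (.leaf (15, 123)))) (.node (.node (.leaf (0, 0)) (.leaf (17, 94))) (.node (.leaf (8, 3))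 (.leaf (24, 26))))) (.node (.node (.node (.leaf (10, 12)) (.leaf (5, 85))) (.node (.leaf (17, 92)) (.leaf (19, 59)))) (.node (.node (.leaf (27, 31)) (.leaf (11, 44))) (.leaf (22, 35))))) (.node (.node (.node (.node (.leaf (0, 0)) (.leaf (7, 47))) (.node (.leaf (25, 76)) (.leaf (16, 117)))) (.node (.node (.leaf (20, 89)) (.leaf (24, 92))) (.leaf (12, 21)))) (.node (.node (.node (.leaf (17, 75)) (.leaf (18, 72))) (.node (.leaf (5, 53)) (.leaf (12, 126)))) (.node (.node (.leaf (24, 67)) (.leaf (4, 108))) (.leaf (0, 17)))))))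

def twoVia9 : Janko.Tree (ℕ × ℕ) :=
  (.node (.node (.node (.node (.node (.node (.leaf (0, 0)) (.leaf (24, 104))) (.node (.leaf (6, 37)) (.leaf (12, 124)))) (.node (.node (.leaf (26, 75)) (.leaf (5, 92))) (.node (.leaf (15, 112)) (.leaf (9, 0))))) (.node (.node (.node (.leaf (3, 10)) (.leaf (4, 83))) (.node (.leaf (12, 86)) (.leaf (13, 126)))) (.node (.node (.leaf (27, 95)) (.leaf (27, 101))) (.leaf (2, 65))))) (.node (.node (.node (.node (.leaf (0, 0)) (.leaf (0, 21))) (.node (.leaf (23, 110)) (.leaf (26, 123)))) (.node (.node (.leaf (17, 86)) (.leaf (2, 97))) (.leaf (5, 60)))) (.node (.node (.node (.leaf (0, 0)) (.leaf (15, 40))) (.node (.leaf (0, 0)) (.leaf (27, 111)))) (.node (.node (.leaf (2, 33)) (.leaf (24, 117))) (.leaf (26, 71)))))) (.node (.node (.node (.node (.node (.leaf (0, 0)) (.leaf (27, 72))) (.node (.leaf (17, 111)) (.leaf (21, 124)))) (.node (.node (.leaf (17, 25)) (.leaf (12, 77))) (.node (.leaf (24,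 89)) (.leaf (25, 38))))) (.node (.node (.node (.leaf (5, 12)) (.leaf (21, 85))) (.node (.leaf (13, 127)) (.leaf (24, 118)))) (.node (.node (.leaf (12, 49)) (.leaf (1, 104))) (.leaf (25, 116))))) (.node (.node (.node (.node (.leaf (1, 8)) (.leaf (18, 125))) (.node (.leaf (25, 60)) (.leaf (6, 119)))) (.node (.node (.leaf (3, 26)) (.leaf (19, 63))) (.leaf (9, 15)))) (.node (.node (.node (.leaf (0, 0)) (.leaf (14, 90))) (.node (.leaf (12, 53)) (.leaf (0, 110)))) (.node (.node (.leaf (4, 35)) (.leaf (25, 108))) (.leaf (16, 47)))))))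

def twoVia10 : Janko.Tree (ℕ × ℕ) :=
  (.node (.node (.node (.node (.node (.node (.leaf (0, 0)) (.leaf (4, 74))) (.node (.leaf (0, 8)) (.leaf (17, 52)))) (.node (.node (.leaf (27, 36)) (.leaf (27, 92))) (.node (.leaf (18, 46)) (.leaf (10, 0))))) (.node (.node (.node (.leaf (0, 0)) (.leaf (25, 83))) (.node (.leaf (14, 72)) (.leaf (21, 121)))) (.node (.node (.leaf (0, 0)) (.leaf (0, 102))) (.leaf (22, 68))))) (.node (.node (.node (.node (.leaf (11, 1)) (.leaf (17, 62))) (.node (.leaf (25, 79)) (.leaf (23, 115)))) (.node (.node (.leaf (8, 24)) (.leaf (22, 103))) (.leaf (12, 60)))) (.node (.node (.node (.leaf (13, 25)) (.leaf (19, 120))) (.node (.leaf (25, 114)) (.leaf (27, 124)))) (.node (.node (.leaf (0, 0)) (.leaf (25, 72))) (.leaf (11, 66)))))) (.node (.node (.node (.node (.node (.leaf (0, 0)) (.leaf (27, 76))) (.node (.leaf (18, 90)) (.leaf (3, 113)))) (.node (.node (.leaf (12, 51)) (.leaf (13, 91))) (.node (.leaf (10,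 5)) (.leaf (26, 58))))) (.node (.node (.node (.leaf (0, 0)) (.leaf (0, 86))) (.node (.leaf (3, 49)) (.leaf (22, 122)))) (.node (.node (.leaf (16, 49)) (.leaf (8, 104))) (.leaf (27, 116))))) (.node (.node (.node (.node (.leaf (0, 0)) (.leaf (23, 125))) (.node (.leaf (17, 48)) (.leaf (12, 125)))) (.node (.node (.leaf (0, 0)) (.leaf (16, 99))) (.leaf (15, 83)))) (.node (.node (.node (.leaf (24, 75)) (.leaf (25, 117))) (.node (.leaf (11, 103)) (.leaf (17, 84)))) (.node (.node (.leaf (27, 105)) (.leaf (6, 108))) (.leaf (21, 76)))))))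

def twoVia11 : Janko.Tree (ℕ × ℕ) :=
  (.node (.node (.node (.node (.node (.node (.leaf (0, 0)) (.leaf (5, 74))) (.node (.leaf (1, 85)) (.leaf (21, 126)))) (.node (.node (.leaf (6, 19)) (.leaf (12, 91))) (.node (.leaf (24, 88)) (.leaf (11, 26))))) (.node (.node (.node (.leaf (0, 0)) (.leaf (24, 83))) (.node (.leaf (21, 20)) (.leaf (9, 120)))) (.node (.node (.leaf (0, 0)) (.leaf (15, 84))) (.leaf (10, 65))))) (.node (.node (.node (.node (.leaf (0, 0)) (.leaf (2, 79))) (.node (.leaf (5, 42)) (.leaf (6, 115)))) (.node (.node (.leaf (22, 85)) (.leaf (26, 95))) (.leaf (8, 106)))) (.node (.node (.node (.leaf (2, 15)) (.leaf (24, 56))) (.node (.leaf (27, 115)) (.leaf (12, 68)))) (.node (.node (.leaf (26, 25)) (.leaf (27, 61))) (.leaf (14, 18)))))) (.node (.node (.node (.node (.node (.leaf (0, 0)) (.leaf (12, 115))) (.node (.leaf (3, 40)) (.leaf (26, 109)))) (.node (.node (.leaf (0, 0)) (.leaf (2, 95))) (.node (.leaf (25, 58))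 (.leaf (27, 32))))) (.node (.node (.node (.leaf (0, 13)) (.leaf (15, 103))) (.node (.leaf (0, 0)) (.leaf (16, 122)))) (.node (.node (.leaf (21, 95)) (.leaf (22, 92))) (.leaf (17, 71))))) (.node (.node (.node (.node (.leaf (0, 0)) (.leaf (26, 108))) (.node (.leaf (9, 9)) (.leaf (17, 122)))) (.node (.node (.leaf (0, 0)) (.leaf (27, 99))) (.leaf (21, 80)))) (.node (.node (.node (.leaf (4, 17)) (.leaf (27, 126))) (.node (.leaf (16, 61)) (.leaf (21, 99)))) (.node (.node (.leaf (6, 35)) (.leaf (7, 92))) (.leaf (22, 106)))))))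

def twoVia12 : Janko.Tree (ℕ × ℕ) :=
  (.node (.node (.node (.node (.node (.node (.leaf (0, 0)) (.leaf (27, 75))) (.node (.leaf (21, 108)) (.leaf (3, 111)))) (.node (.node (.leaf (0, 3)) (.leaf (1, 93))) (.node (.leaf (25, 32)) (.leaf (11, 0))))) (.node (.node (.node (.leaf (24, 13)) (.leaf (0, 115))) (.node (.leaf (22, 100)) (.leaf (4, 120)))) (.node (.node (.leaf (14, 71)) (.leaf (21, 98))) (.leaf (5, 65))))) (.node (.node (.node (.node (.leaf (8, 20)) (.leaf (23, 122))) (.node (.leaf (14, 101)) (.leaf (12, 98)))) (.node (.node (.leaf (25, 85)) (.leaf (25, 97))) (.leaf (13, 54)))) (.node (.node (.node (.leaf (0, 0)) (.leaf (4, 88))) (.node (.leaf (10, 98)) (.leaf (15, 94)))) (.node (.node (.leaf (0, 0)) (.leaf (26, 106))) (.leaf (21, 107)))))) (.node (.node (.node (.node (.node (.leaf (0, 0)) (.leaf (13, 117))) (.node (.leaf (26, 111)) (.leaf (23, 113)))) (.node (.node (.leaf (21, 84)) (.leaf (24, 86))) (.leaf (6,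 58)))) (.node (.node (.node (.leaf (17, 43)) (.leaf (2, 86))) (.node (.leaf (10, 52)) (.leaf (24, 122)))) (.node (.node (.leaf (3, 31)) (.leaf (25, 75))) (.leaf (12, 63))))) (.node (.node (.node (.node (.leaf (0, 0)) (.leaf (5, 81))) (.node (.leaf (13, 66)) (.leaf (18, 62)))) (.node (.node (.leaf (9, 0)) (.leaf (12, 85))) (.leaf (3, 63)))) (.node (.node (.node (.leaf (0, 0)) (.leaf (26, 119))) (.node (.leaf (2, 54)) (.leaf (3, 127)))) (.node (.node (.leaf (0, 0)) (.leaf (17, 114))) (.leaf (25, 106)))))))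

def twoVia13 : Janko.Tree (ℕ × ℕ) :=
  (.node (.node (.node (.node (.node (.node (.leaf (0, 0)) (.leaf (0, 75))) (.node (.leaf (22, 91)) (.leaf (26, 50)))) (.node (.node (.leaf (0, 0)) (.leaf (21, 91))) (.node (.leaf (11, 56)) (.leaf (12, 0))))) (.node (.node (.node (.leaf (12, 56)) (.leaf (14, 25))) (.node (.leaf (26, 100)) (.leaf (27, 121)))) (.node (.node (.leaf (0, 0)) (.leaf (3, 102))) (.leaf (27, 65))))) (.node (.node (.node (.node (.leaf (24, 37)) (.leaf (4, 79))) (.node (.leaf (12, 8)) (.leaf (1, 116)))) (.node (.node (.leaf (5, 24)) (.leaf (21, 97))) (.leaf (8, 65)))) (.node (.node (.node (.leaf (0, 0)) (.leaf (16, 124))) (.node (.leaf (15, 111)) (.leaf (2, 125)))) (.node (.node (.leaf (27, 85)) (.leaf (10, 92))) (.leaf (3, 70)))))) (.node (.node (.node (.node (.node (.leaf (0, 0)) (.leaf (20, 115))) (.node (.leaf (0, 0)) (.leaf (6, 113)))) (.node (.node (.leaf (3, 22)) (.leaf (26, 97))) (.leaf (12, 71)))) (.node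 (.node (.node (.leaf (21, 48)) (.leaf (24, 95))) (.node (.leaf (26, 98)) (.leaf (12, 121)))) (.node (.node (.leaf (25, 67)) (.leaf (5, 104))) (.leaf (17, 125))))) (.node (.node (.node (.node (.leaf (0, 0)) (.leaf (26, 81))) (.node (.leaf (21, 115)) (.leaf (14, 118)))) (.node (.node (.leaf (0, 0)) (.leaf (17, 106))) (.leaf (22, 64)))) (.node (.node (.node (.leaf (0, 0)) (.leaf (7, 111))) (.node (.leaf (0, 0)) (.leaf (22, 127)))) (.node (.node (.leaf (1, 36)) (.leaf (21, 113))) (.leaf (11, 74)))))))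

def twoVia14 : Janko.Tree (ℕ × ℕ) :=
  (.node (.node (.node (.node (.node (.node (.leaf (0, 0)) (.leaf (13, 35))) (.node (.leaf (25, 65)) (.leaf (5, 124)))) (.node (.node (.leaf (2, 58)) (.leaf (24, 108))) (.node (.leaf (6, 56)) (.leaf (13, 0))))) (.node (.node (.node (.leaf (17, 56)) (.leaf (21, 49))) (.node (.leaf (5, 47)) (.leaf (21, 120)))) (.node (.node (.leaf (14, 29)) (.leaf (26, 84))) (.leaf (0, 16))))) (.node (.node (.node (.node (.leaf (26, 37)) (.leaf (27, 62))) (.node (.leaf (13, 44)) (.leaf (18, 83)))) (.node (.node (.leaf (0, 0)) (.leaf (11, 52))) (.leaf (24, 66)))) (.node (.node (.node (.leaf (0, 0)) (.leaf (6, 88))) (.node (.leaf (0, 0)) (.leaf (24, 81)))) (.node (.node (.leaf (11, 32)) (.leaf (14, 116))) (.leaf (26, 107)))))) (.node (.node (.node (.node (.node (.leaf (0, 0)) (.leaf (3, 77))) (.node (.leaf (0, 0)) (.leaf (12, 123)))) (.node (.node (.leaf (0, 0)) (.leaf (25, 102))) (.leaf (17, 115))))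 (.node (.node (.node (.leaf (9, 4)) (.leaf (25, 103))) (.node (.leaf (0, 125)) (.leaf (15, 115)))) (.node (.node (.leaf (27, 49)) (.leaf (17, 105))) (.leaf (2, 68))))) (.node (.node (.node (.node (.leaf (0, 0)) (.leaf (9, 64))) (.node (.leaf (3, 45)) (.leaf (15, 118)))) (.node (.node (.leaf (1, 27)) (.leaf (2, 100))) (.leaf (25, 91)))) (.node (.node (.node (.leaf (11, 14)) (.leaf (17, 95))) (.node (.leaf (22, 115)) (.leaf (11, 127)))) (.node (.node (.leaf (13, 86)) (.leaf (3, 109))) (.leaf (21, 72)))))))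

def twoVia15 : Janko.Tree (ℕ × ℕ) :=
  (.node (.node (.node (.node (.node (.node (.leaf (1, 2)) (.leaf (20, 104))) (.node (.leaf (11, 42)) (.leaf (6, 111)))) (.node (.node (.leaf (0, 0)) (.leaf (19, 93))) (.node (.leaf (7, 12)) (.leaf (15, 57))))) (.node (.node (.node (.leaf (0, 0)) (.leaf (3, 84))) (.node (.leaf (21, 58)) (.leaf (0, 94)))) (.node (.node (.leaf (4, 29)) (.leaf (27, 97))) (.leaf (17, 59))))) (.node (.node (.node (.node (.leaf (11, 12)) (.leaf (27, 112))) (.node (.leaf (2, 44)) (.leaf (24, 105)))) (.node (.node (.leaf (11, 47)) (.leaf (17, 116))) (.leaf (26, 39)))) (.node (.node (.node (.leaf (27, 81)) (.leaf (0, 89))) (.node (.leaf (23, 96)) (.leaf (19, 125)))) (.node (.node (.leaf (0, 0)) (.leaf (18, 36))) (.leaf (5, 70)))))) (.node (.node (.node (.node (.node (.leaf (3, 4)) (.leaf (26, 121))) (.node (.leaf (12, 79)) (.leaf (15, 109)))) (.node (.node (.leaf (27, 84)) (.leaf (6, 95))) (.leaf (21, 122))))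 (.node (.node (.node (.leaf (4, 56)) (.leaf (20, 86))) (.node (.leaf (1, 50)) (.leaf (21, 114)))) (.node (.node (.leaf (6, 31)) (.leaf (11, 55))) (.leaf (24, 125))))) (.node (.node (.node (.node (.leaf (8, 1)) (.leaf (1, 82))) (.node (.leaf (0, 0)) (.leaf (5, 118)))) (.node (.node (.leaf (0, 0)) (.leaf (24, 120))) (.leaf (6, 80)))) (.node (.node (.node (.leaf (7, 18)) (.leaf (2, 91))) (.node (.leaf (25, 54)) (.leaf (17, 127)))) (.node (.node (.leaf (0, 0)) (.leaf (22, 109))) (.leaf (12, 57)))))))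

/-- a table -/
def twoVia : Janko.Tree (ℕ × ℕ) := (.node (.node (.node (.node twoVia0 twoVia8) (.node twoVia4 twoVia12)) (.node (.node twoVia2 twoVia10) (.node twoVia6 twoVia14))) (.node (.node (.node twoVia1 twoVia9) (.node twoVia5 twoVia13)) (.node (.node twoVia3 twoVia11) (.node twoVia7 twoVia15))))

def twoOrd0 : Janko.Tree (ℕ) :=
  (.node (.node (.node (.leaf 64) (.leaf 127)) (.node (.leaf 40) (.leaf 38))) (.node (.node (.leaf 58) (.leaf 113)) (.node (.leaf 14) (.leaf 112))))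

def twoOrd1 : Janko.Tree (ℕ) :=
  (.node (.node (.node (.leaf 50) (.leaf 41)) (.node (.leaf 21) (.leaf 118))) (.node (.node (.leaf 94) (.leaf 18)) (.node (.leaf 99) (.leaf 82))))

def twoOrd2 : Janko.Tree (ℕ) :=
  (.node (.node (.node (.leaf 121) (.leaf 60)) (.node (.leaf 126) (.leaf 86))) (.node (.node (.leaf 98) (.leaf 34)) (.node (.leaf 93) (.leaf 78))))

def twoOrd3 : Janko.Tree (ℕ) :=
  (.node (.node (.node (.leaf 7) (.leaf 69)) (.node (.leaf 2) (.leaf 96))) (.node (.node (.leaf 9) (.leaf 45)) (.node (.leaf 79) (.leaf 31))))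

def twoOrd4 : Janko.Tree (ℕ) :=
  (.node (.node (.node (.leaf 117) (.leaf 100)) (.node (.leaf 23) (.leaf 104))) (.node (.node (.leaf 44) (.leaf 110)) (.node (.leaf 28) (.leaf 84))))

def twoOrd5 : Janko.Tree (ℕ) :=
  (.node (.node (.node (.leaf 75) (.leaf 4)) (.node (.leaf 26) (.leaf 66))) (.node (.node (.leaf 70) (.leaf 81)) (.node (.leaf 32) (.leaf 11))))

def twoOrd6 : Janko.Tree (ℕ) :=
  (.node (.node (.node (.leaf 25) (.leaf 22)) (.node (.leaf 51) (.leaf 123))) (.node (.node (.leaf 125) (.leaf 85)) (.node (.leaf 30) (.leaf 27))))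

def twoOrd7 : Janko.Tree (ℕ) :=
  (.node (.node (.node (.leaf 52) (.leaf 56)) (.node (.leaf 5) (.leaf 37))) (.node (.node (.leaf 42) (.leaf 89)) (.node (.leaf 46) (.leaf 106))))

def twoOrd8 : Janko.Tree (ℕ) :=
  (.node (.node (.node (.leaf 119) (.leaf 10)) (.node (.leaf 29) (.leaf 48))) (.node (.node (.leaf 36) (.leaf 1)) (.node (.leaf 74) (.leaf 92))))

def twoOrd9 : Janko.Tree (ℕ) :=
  (.node (.node (.node (.leaf 17) (.leaf 33)) (.node (.leaf 47) (.leaf 116))) (.node (.node (.leaf 109) (.leaf 102)) (.node (.leaf 59) (.leaf 61))))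

def twoOrd10 : Janko.Tree (ℕ) :=
  (.node (.node (.node (.leaf 0) (.leaf 15)) (.node (.leaf 83) (.leaf 97))) (.node (.node (.leaf 124) (.leaf 20)) (.node (.leaf 24) (.leaf 55))))

def twoOrd11 : Janko.Tree (ℕ) :=
  (.node (.node (.node (.leaf 120) (.leaf 111)) (.node (.leaf 13) (.leaf 12))) (.node (.node (.leaf 65) (.leaf 67)) (.node (.leaf 101) (.leaf 95))))

def twoOrd12 : Janko.Tree (ℕ) :=
  (.node (.node (.node (.leaf 88) (.leaf 77)) (.node (.leaf 8) (.leaf 107))) (.node (.node (.leaf 105) (.leaf 43)) (.node (.leaf 6) (.leaf 49))))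

def twoOrd13 : Janko.Tree (ℕ) :=
  (.node (.node (.node (.leaf 3) (.leaf 35)) (.node (.leaf 80) (.leaf 39))) (.node (.node (.leaf 115) (.leaf 63)) (.node (.leaf 114) (.leaf 54))))

def twoOrd14 : Janko.Tree (ℕ) :=
  (.node (.node (.node (.leaf 87) (.leaf 19)) (.node (.leaf 16) (.leaf 57))) (.node (.node (.leaf 103) (.leaf 72)) (.node (.leaf 122) (.leaf 91))))

def twoOrd15 : Janko.Tree (ℕ) :=
  (.node (.node (.node (.leaf 73) (.leaf 90)) (.node (.leaf 76) (.leaf 68))) (.node (.node (.leaf 53) (.leaf 71)) (.node (.leaf 108) (.leaf 62))))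

/-- a table -/
def twoOrd : Janko.Tree (ℕ) := (.node (.node (.node (.node twoOrd0 twoOrd8) (.node twoOrd4 twoOrd12)) (.node (.node twoOrd2 twoOrd10) (.node twoOrd6 twoOrd14))) (.node (.node (.node twoOrd1 twoOrd9) (.node twoOrd5 twoOrd13)) (.node (.node twoOrd3 twoOrd11) (.node twoOrd7 twoOrd15))))

/-- relators -/
def twoRels : List (List ℕ) :=
  [[0, 0, 5],
    [1, 1],
    [2, 2],
    [3, 3],
    [4, 4],
    [5, 5],
    [6, 6],
    [1, 0, 2, 4, 1, 0, 0, 0],
    [2, 0, 5, 6, 2, 0, 0, 0],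
    [3, 0, 6, 3, 0, 0, 0],
    [4, 0, 5, 6, 4, 0, 0, 0],
    [5, 0, 5, 0, 0, 0],
    [6, 0, 6, 0, 0, 0],
    [2, 1, 6, 2, 1],
    [3, 1, 4, 6, 3, 1],
    [4, 1, 4, 1],
    [5, 1, 6, 5, 1],
    [6, 1, 6, 1],
    [3, 2, 5, 3, 2],
    [4, 2, 6, 4, 2],
    [5, 2, 5, 2],
    [6, 2, 6, 2],
    [4, 3, 4, 3],
    [5, 3, 5, 3],
    [6, 3, 6, 3],
    [5, 4, 5, 4],
    [6, 4, 6, 4],
    [6, 5, 6, 5]]

/-- the certificate -/
def twoCert : CentralLocal.Cert :=
  { act := actB baseB twoGens, one := oneB, N := 128, k := 7, q := 0, rels := twoRels, P := 14,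
    elt := twoElt, next := twoNext, word := twoWord, par := twoPar, L := twoL, kind := twoKind, rank := twoRank,
    via := twoVia, pv := [896, 897, 898, 899, 900, 901, 902, 903, 904, 905, 906, 908, 909, 910] }

theorem two_edges0 : ((List.range 128).all fun i => twoCert.edgeCheck (Nat.add 0 i)) = true := by decide +kernel

theorem two_edges : ∀ i < 128, twoCert.edgeCheck i = true := by
  intro i hi
  exact (by have := List.all_eq_true.1 two_edges0 (i - 0) (List.mem_range.2 (by omega)); rwa [show Nat.add 0 (i - 0) = i from Nat.add_sub_cancel' (by omega)] at this)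

theorem two_tree0 : ((List.range 128).all fun i => twoCert.treeCheck (Nat.add 0 i)) = true := by decide +kernel

theorem two_tree : ∀ i < 128, twoCert.treeCheck i = true := by
  intro i hi
  exact (by have := List.all_eq_true.1 two_tree0 (i - 0) (List.mem_range.2 (by omega)); rwa [show Nat.add 0 (i - 0) = i from Nat.add_sub_cancel' (by omega)] at this)

theorem two_vars0 : ((List.range 600).all fun i => twoCert.varCheck (Nat.add 0 i)) = true := by decide +kernel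

theorem two_vars1 : ((List.range 324).all fun i => twoCert.varCheck (Nat.add 600 i)) = true := by decide +kernel

theorem two_vars : ∀ i < 924, twoCert.varCheck i = true := by
  intro i hi
  exact (if h600 : i < 600 then (by have := List.all_eq_true.1 two_vars0 (i - 0) (List.mem_range.2 (by omega)); rwa [show Nat.add 0 (i - 0) = i from Nat.add_sub_cancel' (by omega)] at this) else (by have := List.all_eq_true.1 two_vars1 (i - 600) (List.mem_range.2 (by omega)); rwa [show Nat.add 600 (i - 600) = i from Nat.add_sub_cancel' (by omega)] at this))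

theorem two_ord0 : ((List.range 128).all fun i => twoCert.ordCheck twoOrd (Nat.add 0 i)) = true := by decide +kernel

theorem two_ord : ∀ i < 128, twoCert.ordCheck twoOrd i = true := by
  intro i hi
  exact (by have := List.all_eq_true.1 two_ord0 (i - 0) (List.mem_range.2 (by omega)); rwa [show Nat.add 0 (i - 0) = i from Nat.add_sub_cancel' (by omega)] at this)

theorem two_rels : (twoCert.rels.all fun w => twoCert.relCheck w) = true := by decide +kernel

theorem two_valid : twoCert.Valid where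
  npos := Nat.succ_pos _
  kpos := Nat.succ_pos _
  edges := two_edges
  tree := two_tree
  rels := List.all_eq_true.1 two_rels
  vars := two_vars

/-- the lattice -/
def twoLat : CentralBound.Lat :=
  { basis := [[4, -6, 1, -6, 0, 0, 0, 2, 0, 0, -4, 0, -2, 6],
      [-4, 6, 0, 4, 0, 0, 0, -2, 1, 0, 3, 0, 0, -4],
      [-10, 17, 0, 13, 0, 0, 0, -6, 0, 1, 10, 0, 3, -14],
      [4, -10, 0, -8, 0, 1, 0, 4, 0, 0, -6, 0, -2, 8],
      [-14, 24, 0, 20, 0, 0, 0, -8, 0, 0, 14, 1, 4, -20],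
      [-8, 14, 0, 12, 0, 0, 1, -4, 0, 0, 8, 0, 2, -12],
      [8, -12, 0, -10, 1, 0, 0, 4, 0, 0, -8, 0, -2, 10]],
    compl := [[1, 0, 0, 0, 0, 0, 0, 0, 0, 0, 0, 0, 0, 0], [0, 1, 0, 0, 0, 0, 0, 0, 0, 0, 0, 0, 0, 0], [-2, -1, 0, 0, 0, 0, 0, 1, 0, 0, 0, 0, 0, 0], [0, 0, 0, 1, 0, 0, 0, 0, 0, 0, 0, 0, 0, 0], [0, -1, 0, -1, 0, 0, 0, 0, 0, 0, 0, 0, 0, 1], [-2, 2, 0, 2, 0, 0, 0, 0, 0, 0, 1, 0, 0, -2], [-4, 7, 0, 6, 0, 0, 0, -2, 0, 0, 4, 0, 1, -6]],
    counts := [[2, 0, 0, 0, 0, 1, 0], [0, 2, 0, 0, 0, 0, 0], [0, 0, 1, 0, 1, -2, 0], [0, 0, 0, 2, 0, 0, 0], [0, 0, 0, 0, 1, 0, 1], [0, 0, 0, 0, 0, -1, -1], [0, 0, 0, 0, 0, 0, -1]],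
    piv := [0, 1, 2, 3, 4, 5, 6],
    coord := [([0, 0, 0, 0, 0, 0, 0], [1, 0, 0, 0, 0, 0, 0]),
      ([0, 0, 0, 0, 0, 0, 0], [0, 1, 0, 0, 0, 0, 0]),
      ([1, 0, 0, 0, 0, 0, 0], [0, 0, 2, 0, -2, -4, 2]),
      ([0, 0, 0, 0, 0, 0, 0], [0, 0, 0, 1, 0, 0, 0]),
      ([0, 0, 0, 0, 0, 0, 1], [0, 0, 0, 0, 2, 0, 2]),
      ([0, 0, 0, 1, 0, 0, 0], [0, 0, 0, 0, 0, -2, 2]),
      ([0, 0, 0, 0, 0, 1, 0], [0, 0, 0, 0, 0, 0, -2]),
      ([0, 0, 0, 0, 0, 0, 0], [2, 1, 1, 0, 0, 0, 0]),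
      ([0, 1, 0, 0, 0, 0, 0], [2, 0, 2, 0, -2, -3, 0]),
      ([0, 0, 1, 0, 0, 0, 0], [2, 0, 0, 1, 0, 2, -3]),
      ([0, 0, 0, 0, 0, 0, 0], [2, 0, 0, 0, 2, 1, 0]),
      ([0, 0, 0, 0, 1, 0, 0], [2, 0, 0, 0, 0, 2, -4]),
      ([0, 0, 0, 0, 0, 0, 0], [0, 1, 2, 0, -2, -4, 1]),
      ([0, 0, 0, 0, 0, 0, 0], [0, 1, 0, 1, 1, 0, 0])],
    gens := [],
    ord := [],
    red := [([], ([(-45, 1), (28, 2), (61, 0)], [(30, (0, 43)), (29, (0, 19)), (43, (0, 36)), (-28, (0, 22)), (35, (0, 23)), (-20, (0, 46)), (-48, (0, 25)), (16, (0, 7))]), [-544, 639, -1811, -538, 1445, -348, 952]),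
      ([], ([(-4, 2), (56, 1), (4, 0)], [(-13, (0, 43)), (-6, (0, 19)), (-60, (0, 36)), (19, (0, 23)), (11, (0, 46)), (-12, (0, 25)), (-60, (0, 7))]), [225, -263, 730, 214, -591, 148, -395]),
      ([], ([(41, 2), (34, 1), (33, 0)], [(22, (0, 43)), (-60, (0, 19)), (53, (0, 36)), (-20, (0, 22)), (-52, (0, 23)), (-41, (0, 46)), (-60, (0, 25)), (-44, (0, 7))]), [75, -49, 48, -22, -117, 65, -137]),
      ([], ([(14, 2), (-4, 1), (-36, 0)], [(9, (0, 36)), (-37, (0, 19)), (-4, (0, 22)), (-54, (0, 23)), (-36, (0, 43)), (-3, (0, 46)), (-20, (0, 25)), (28, (0, 7))]), [392, -452, 1248, 362, -1009, 252, -676]),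
      ([], ([(-26, 2), (44, 1), (60, 0)], [(-38, (0, 23)), (13, (0, 19)), (-4, (0, 22)), (24, (0, 43)), (21, (0, 36)), (4, (0, 46)), (-16, (0, 25)), (48, (0, 7))]), [-674, 801, -2255, -673, 1780, -425, 1159]),
      ([], ([(62, 0)], [(-17, (0, 46)), (58, (0, 19)), (-40, (0, 43)), (23, (0, 23)), (52, (0, 22)), (-61, (0, 36)), (-28, (0, 25)), (-12, (0, 7))]), [-393, 466, -1322, -406, 1026, -235, 668]),
      ([], ([(-9, 0)], [(36, (0, 19)), (-54, (0, 43)), (33, (0, 23)), (56, (0, 22)), (-2, (0, 36)), (-1, (0, 46)), (36, (0, 25)), (52, (0, 7))]), [334, -408, 1163, 353, -902, 210, -571])],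
    kill := [] }

/-- conjugate commuting pairs -/
def twoSpecs : List Spec :=
  [(([2, 1, 5], [4, 5], [2, 1, 5], [1, 2, 5]), (0x2b410cf3b871603944b7444a466beda6814409cf2f76413c94593e0545c90701c5be2a2b1aa0e1a3d95d1ebd02091d8a972c357c9d52bca10ed7abd8a23d070d5183e15b5c68721281908aa6a3e16c66780490c82863adc49c0dbaa12105007481047f16822521c035347d6016d2a67233780037812c412af539618af943b11dedb18938265305a4a0cdc0f18852fa67009667437178de442e9a4d84155b0d82e446c2978f12a9515c6047341d23b3080db44b4cae568704a40194506c38c5ee1888c03e2d48bb99673218151698590594cf322bf1ce7e56355fe975d8a01ef4498b146170a004666b2fbf5750164b64ca63321098e85510e998204b278f0750c1a13e366b130f40a24b460ac25c2dc64232e42cfe8a03c3c910e0cc0d06b5131b6203c541d9009b7408418e61fb4942c65f91c9b12, 0xce110d061ccc70f20982e178a644abc0b2ac806e28aec84568325148ce80379be4c2c38900cb50989c0e963308f20b2a821ce8435314d0f77aaba1498501d47c6b6b0aca4cf828184c7a8824e0e35309b47eff1c8114aa2430910ab301b95d88127904e4231133428714896d550d541f6245343b41d00f53965c708248dc0abf168c9c8c4062d4e65c280cd626f25a68c6f8769ed06d92e872170351b2470d10ab22080d0e95168fb778a6023187838609030351ec7046a3c2489223c9142e583307a3b1e258ee7c21a39161f592e9f8a6773ccfe7e4e2e1ba6c7f278022a3a3f44e19012bcae8c2f8e910bd03b61b8103c0da18b7560b1b4d5228853e6634be4c84a6bbd12a4e8104da6ea10424143432a5d7d0e61bc02e2f24169f4474eb2972c026b6d6c094d8a153110db48bceb3b2488cad,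 [434, 85, 168, 231])),
    (([2, 1, 5], [1, 6], [2, 1, 5], [1, 2, 4]), (0x414ac20079354cd64c33de10123adc3270221d206a05c890f48c701a8de8e6918066a730c417c147e1fcecba129200a1b5c141d0a3112142a8b770201a406c945a0795684958aa1c8bdc2b3130dc60dc233a927070244882685113cc87e01aca1ef4630f9c8ff18955c4b02f3cd86a86fbdc98a422b68228d003e0e50d671d568c0213b5f20b6a0d850944e8387899442ba105a033798abd1d8e1a2671d075909b3e1cd76350613a0c321e8fd96914918c3e9c371491eca5597502184a8595f1185a0906842a2940ec14b1613eb52cb9834d85f92cb62166279f66515225ea1750b54c5047ea01e41e2bbd84e7b299b004ef1608d8e7704ac4870a729a4265f16bb0207d612f0cd0e25409fd0c623752e0a74a28687848219af0969a1c9271548ac522e66b6d34c978c016c0173870b86d35b8df4eb, 0x318d0f25e8a14824338d03091641f624488089a100a5c0948eef288053aa6571089abc5911417091e37d3c2e003283ee50396866b9012d5a2fb57a3844cc072a9b6580cc30949b0bbdd12d98528c1e533c9c018851caed1a23588acc0a02bbc5182a40bb1fee783024b8a1682f86cb434a49aed537b5026b07a434c4ac7230c97002e9492e7442035290b1097cd698649dcf01b38be150fc700789c930b069c46432998da46773005883203f5b01c1c3b545024129429047c9cc083e01be864c4440a4a0c13b125e6f6182ccdc052aa40b65e21c456c631f9c9b4e6611fa1cad2b09c2aea83b2d57031aa7d8adc3d2e8f69545a1da68a67269001d7a9f16ecd690405e3b0913c229920b3dd6fe1d38ca9103a9110c06741660a6c261a9c2f018b59522d87a59ba7f4e0806ede30a3dd2c75f8f410a7,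 [397, 85, 169, 232, 240, 248])),
    (([0, 3, 2], [0, 4], [4, 0, 2], [2, 4, 5]), (0x28516a5758d8fc3c71c21650a63841243065820a8f62e0dd509160444d294708b2040b7fc2c0ac67140144ab34369542a3d3a5d85a072d18a59032a438d767ad4d62d3127562d43c3d43055039021d0552330083f7887932417f3651ab677b41f0246da60c6953fa184abf3bb3850df4b1f114f30a9e4e4761f004b00f583b624a6240895a0c8334dee466f145704324b28bc5d5723983040535936c82dbecdea043934dafd49a782c136488dcc314e200ea673da5d9a7042908048809158d46525a061e8c7a0ac9efc1498120ac29430a65030be469011ea0c73101d13834ba102096ea71a9303e175e9b989093627dc0e42215d5e27131c5b0be1739d3464781f48eee6e374701d2fb0dd4bc194344274228bdaae80192876d10c8cdca1447b08008981bc812b35cbe836d25da8e0e73069990811, 0x285f45032b34445a79420810a02a6d988c07bd4a8ee79b0d006043028acbd4cc01a463560398e2f5f8b144e587895cc1c191e42a3c85bbdee3d5825c542b5dba984356e2283ad44d02030be6dac8e2ca81a48f68883bc1c241130491afb5a0d0862403930169524b01b4e206425aaa31ca3d3a5c763a5bcfd2428220cb033b624841f1f9ac77448c58aba392bd70f83fc15f85d09a39826488ab4206c41ad8de0129128cc765bc345cae39b9d54d359aa0ea20022a46c7042909023f6c9a5f2eb3a008d0305cb5cae5e13a4520ff43b91c0a51d1a9a1012c96d2c5830939044633869269f16a603e3b4a1b988ce6429ca70c0c93ca2297f4388e550b08cf1040f0cdb0f6313a0beb11c0dd6abc3d278424b22b1850dd049342ed1221f556143e1ac01065238c069c7a22c1b0267b7de2c90d9b54c11,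 [278, 19, 174, 234, 244]))]

theorem two_gens : twoGens.all (elemOK 275 baseX) = true ∧ twoSpecs.all (specOK 275 baseX baseB twoCert twoGens) = true := by decide +kernel

theorem two_lat : CentralBound.latOK twoCert (twoSpecs.map extOf) (2 ^ 7) twoLat = true := by decide +kernel

end Cfsg.Agent.Lie.McLaughlinMult
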