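import Cfsg.Agent.Lib.Lie.McLaughlinMult.Table

/-!
The action of some elements on the cosets (generated).
-/

set_option autoImplicit false
set_option maxRecDepth 100000
set_option maxHeartbeats 0
set_option Elab.async false

namespace Cfsg.Agent.Lie.McLaughlinMult

open Cfsg.Agent.Lie PermCover McLaughlinOut

/-- an element -/
def threeV608 : ℕ := 0x2a5a6e45422d88aa71a7914eb500144c5b3e31d066a5e880d6fc7b8f01e5f3fa7e221117a5ce00819bba0f0a0fc1924948812d84e74736c1ae050b79ac7e0609548ca4682d20e17a878dc5d870c186864a9f4e2b205058b4155b0d182f0048f536bc1b3e532ab84b35d29324940a6f268c0dd0102b061228f58bd202136f9d146ed0ebb1fcbb7f93cdabe5841458ad252d6241787c2c8cef67add02c91a808a866528a462687d931b0ae3b89da4320a340d858629c910015fabd7264348adfa122386cca7556121040e29138ecf3201ccaaa23c2e07c2a53be0a2c81d090cedc11ad07e2226b5c324421b688b0459965303710a699c877d27070e54615d12392e3185acb80214c23b0d258845e73188509d841e5ec1c421e8830c6a8ba1a7b6ca014c635d019a8e26ec08dec001981d40702331e200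

theorem three_v608 : ((List.range 275).all fun k => Nat.beq (PermNine.pg threeV608 k) (imgW threeGens (threeCert.wd 608) k)) = true := by decide +kernel

def threeMv6080 : Janko.Tree (ℕ) :=
  (.node (.node (.node (.node (.node (.node (.node (.node (.node (.leaf 608) (.leaf 12399193)) (.leaf 16917110)) (.node (.leaf 12173467) (.leaf 5001687))) (.node (.node (.leaf 13283963) (.leaf 9887797)) (.node (.leaf 4456761) (.leaf 11346474)))) (.node (.node (.node (.node (.leaf 6222229) (.leaf 9884174)) (.leaf 16208227)) (.node (.leaf 1441995) (.leaf 3510988))) (.node (.node (.leaf 17260860) (.leaf 10363292)) (.node (.leaf 16351877) (.leaf 1393227))))) (.node (.node (.node (.node (.node (.leaf 5238796) (.leaf 14893120)) (.leaf 13496633)) (.node (.leaf 7061716) (.leaf 9929142))) (.node (.node (.leaf 17186944) (.leaf 4579965)) (.node (.leaf 5927326) (.leaf 14668390)))) (.node (.node (.node (.leaf 7970992) (.leaf 3903548)) (.node (.leaf 5767203) (.leaf 7311685))) (.node (.node (.leaf 4157922) (.leaf 3326217)) (.node (.leaf 14881215) (.leaf 2814172)))))) (.node (.node (.node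 (.node (.node (.node (.leaf 967102) (.leaf 925794)) (.leaf 5968335)) (.node (.leaf 3875160) (.leaf 16052716))) (.node (.node (.leaf 17154574) (.leaf 10813686)) (.node (.leaf 6107215) (.leaf 12280437)))) (.node (.node (.node (.node (.leaf 16228680) (.leaf 16413155)) (.leaf 10924692)) (.node (.leaf 13500497) (.leaf 3805215))) (.node (.node (.leaf 10072682) (.leaf 15634454)) (.node (.leaf 13685089) (.leaf 9327131))))) (.node (.node (.node (.node (.node (.leaf 9474211) (.leaf 213303)) (.leaf 14872668)) (.node (.leaf 15778306) (.leaf 6242679))) (.node (.node (.leaf 11239587) (.leaf 8515703)) (.node (.leaf 6140512) (.leaf 3342574)))) (.node (.node (.node (.leaf 557225) (.leaf 4866225)) (.node (.leaf 909485) (.leaf 18285167))) (.node (.node (.leaf 15740992) (.leaf 9150852)) (.node (.leaf 5313134) (.leaf 1446000))))))) (.node (.node (.node (.node (.node (.node (.node (.leaf 15536523) (.leaf 10731634)) (.leaf 4075807)) (.node (.leaf 655896) (.leaf 11444569))) (.node (.node (.leaf 2986598) (.leaf 11530686)) (.node (.leaf 14291582) (.leaf 14557284)))) (.node (.node (.node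 (.node (.leaf 7610465) (.leaf 462979)) (.leaf 15905098)) (.node (.leaf 10326589) (.leaf 586188))) (.node (.node (.leaf 17981782) (.leaf 17273407)) (.node (.leaf 15618462) (.leaf 8991010))))) (.node (.node (.node (.node (.node (.leaf 10183265) (.leaf 14233951)) (.leaf 15761572)) (.node (.leaf 11543186) (.leaf 13238561))) (.node (.node (.leaf 18317644) (.leaf 2007549)) (.node (.leaf 2621612) (.leaf 13090870)))) (.node (.node (.node (.leaf 2834675) (.leaf 6992502)) (.node (.leaf 3764817) (.leaf 2613861))) (.node (.node (.leaf 9089333) (.leaf 7725087)) (.node (.leaf 4079697) (.leaf 2330660)))))) (.node (.node (.node (.node (.node (.node (.leaf 9200245) (.leaf 5951816)) (.leaf 9347164)) (.node (.leaf 12075397) (.leaf 15208976))) (.node (.node (.leaf 5107787) (.leaf 17621187)) (.node (.leaf 18100577) (.leaf 13217855)))) (.node (.node (.node (.node (.leaf 7000686) (.leaf 10043499)) (.leaf 15897051)) (.node (.leaf 15839522) (.leaf 1822770))) (.node (.node (.leaf 3150224) (.leaf 11928206)) (.node (.leaf 9498869) (.leaf 13648362))))) (.node (.node (.node (.node (.node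 (.leaf 14348926) (.leaf 11821531)) (.leaf 4563240)) (.node (.leaf 13492670) (.leaf 3220048))) (.node (.node (.leaf 11608322) (.leaf 5775875)) (.node (.leaf 1261942) (.leaf 15597782)))) (.node (.node (.node (.leaf 10330577) (.leaf 9453872)) (.node (.leaf 9368125) (.leaf 18083913))) (.node (.node (.leaf 6877673) (.leaf 3420749)) (.node (.leaf 5136524) (.leaf 7029243)))))))) (.node (.node (.node (.node (.node (.node (.node (.node (.leaf 7811447) (.leaf 53630)) (.leaf 7749860)) (.node (.leaf 10842775) (.leaf 4489661))) (.node (.node (.leaf 13045766) (.leaf 2969757)) (.node (.leaf 3891392) (.leaf 10792984)))) (.node (.node (.node (.node (.leaf 3944913) (.leaf 16794274)) (.leaf 14713031)) (.node (.leaf 13762914) (.leaf 16253183))) (.node (.node (.leaf 10514604) (.leaf 8167860)) (.node (.leaf 4239810) (.leaf 13717814))))) (.node (.node (.node (.node (.node (.leaf 10760267) (.leaf 123370)) (.leaf 13586888)) (.node (.leaf 13267217) (.leaf 3575872))) (.node (.node (.leaf 7705062) (.leaf 2879655)) (.node (.leaf 1216613) (.leaf 6496745)))) (.node (.node (.node (.leaf 15847441)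 (.leaf 8716341)) (.node (.leaf 4878431) (.leaf 14221535))) (.node (.node (.leaf 6168677) (.leaf 12820841)) (.node (.leaf 6615637) (.leaf 6250662)))))) (.node (.node (.node (.node (.node (.node (.leaf 7578279) (.leaf 2925268)) (.leaf 13000956)) (.node (.leaf 3694646) (.leaf 11350270))) (.node (.node (.leaf 9433399) (.leaf 12444043)) (.node (.leaf 13950997) (.leaf 2163195)))) (.node (.node (.node (.node (.leaf 13144740) (.leaf 10711530)) (.leaf 11264718)) (.node (.leaf 14860542) (.leaf 802906))) (.node (.node (.leaf 8527939) (.leaf 7635213)) (.node (.leaf 3130004) (.leaf 9691196))))) (.node (.node (.node (.node (.node (.leaf 10920243) (.leaf 5067468)) (.leaf 10785247)) (.node (.leaf 4526634) (.leaf 12567074))) (.node (.node (.leaf 2949169) (.leaf 237806)) (.node (.leaf 6599002) (.leaf 9683512)))) (.node (.node (.node (.leaf 1818801) (.leaf 10244194)) (.node (.leaf 17362954) (.leaf 11665725))) (.node (.node (.leaf 12472349) (.leaf 5820420)) (.node (.leaf 14123089) (.leaf 6689350))))))) (.node (.node (.node (.node (.node (.node (.node (.leaf 12214987) (.leaf 8593487))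 (.leaf 2895948)) (.node (.leaf 6918580) (.leaf 3916164))) (.node (.node (.leaf 5399109) (.leaf 1253431)) (.node (.leaf 17633731) (.leaf 5812677)))) (.node (.node (.node (.node (.leaf 11117160) (.leaf 5329244)) (.leaf 15040637)) (.node (.leaf 8262204) (.leaf 4571750))) (.node (.node (.leaf 6255243) (.leaf 4649477)) (.node (.leaf 16220821) (.leaf 12669007))))) (.node (.node (.node (.node (.node (.leaf 5476897) (.leaf 422188)) (.leaf 10006633)) (.node (.leaf 2355252) (.leaf 2134486))) (.node (.node (.leaf 15065772) (.leaf 10166938)) (.node (.leaf 9544247) (.leaf 5833175)))) (.node (.node (.node (.leaf 15433912) (.leaf 5636527)) (.node (.leaf 8745616) (.leaf 10952977))) (.node (.node (.leaf 9581143) (.leaf 13976102)) (.node (.leaf 127578) (.leaf 16048408)))))) (.node (.node (.node (.node (.node (.node (.leaf 6447442) (.leaf 16405059)) (.leaf 4350074)) (.node (.leaf 4645239) (.leaf 11735568))) (.node (.node (.leaf 15560861) (.leaf 16449686)) (.node (.leaf 4841683) (.leaf 12276404)))) (.node (.node (.node (.node (.leaf 10068351) (.leaf 18043270)) (.leaf 11379334))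 (.node (.leaf 12951586) (.leaf 16650350))) (.node (.node (.leaf 7315998) (.leaf 6713867)) (.node (.leaf 2773103) (.leaf 8974740))))) (.node (.node (.node (.node (.node (.leaf 8134810) (.leaf 17760889)) (.leaf 15151306)) (.node (.leaf 16102052) (.leaf 8966458))) (.node (.node (.leaf 8479090) (.leaf 11104666)) (.node (.leaf 5222513) (.leaf 15728949)))) (.node (.node (.node (.leaf 4633097) (.leaf 17142070)) (.node (.leaf 9073187) (.leaf 3858889))) (.node (.node (.leaf 9838701) (.leaf 6340658)) (.node (.leaf 7913998) (.leaf 5345548)))))))))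

def threeMv6081 : Janko.Tree (ℕ) :=
  (.node (.node (.node (.node (.node (.node (.node (.node (.node (.leaf 16543886) (.leaf 13623489)) (.leaf 733643)) (.node (.leaf 12022129) (.leaf 17072687))) (.node (.node (.leaf 7918174) (.leaf 6475820)) (.node (.leaf 11759623) (.leaf 15225183)))) (.node (.node (.node (.node (.leaf 5353829) (.leaf 4194314)) (.leaf 9797651)) (.node (.leaf 8397114) (.leaf 15958046))) (.node (.node (.leaf 16785760) (.leaf 15303022)) (.node (.leaf 7246504) (.leaf 8171842))))) (.node (.node (.node (.node (.node (.leaf 3277124) (.leaf 3379269)) (.leaf 4399128)) (.node (.leaf 16282231) (.leaf 17625325))) (.node (.node (.leaf 12619834) (.leaf 1757429)) (.node (.leaf 3313863) (.leaf 14074123)))) (.node (.node (.node (.leaf 9035782) (.leaf 6508615)) (.node (.leaf 10056115) (.leaf 5661036))) (.node (.node (.leaf 684640) (.leaf 14631532)) (.node (.leaf 6328631) (.leaf 3228136)))))) (.node (.node (.node (.node (.node (.node (.leaf 5157074) (.leaf 2555955)) (.leaf 8680055)) (.node (.leaf 13926485) (.leaf 11837936))) (.node (.node (.leaf 2056838) (.leaf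 10969186)) (.node (.leaf 6668983) (.leaf 2499138)))) (.node (.node (.node (.node (.leaf 14340256) (.leaf 15712916)) (.leaf 5546085)) (.node (.leaf 9458376) (.leaf 10412722))) (.node (.node (.leaf 14094521) (.leaf 11690631)) (.node (.leaf 6754502) (.leaf 16683518))))) (.node (.node (.node (.node (.node (.leaf 14582228) (.leaf 8176201)) (.leaf 6189225)) (.node (.leaf 1081907) (.leaf 4366464))) (.node (.node (.leaf 9175142) (.leaf 8524086)) (.node (.leaf 618705) (.leaf 5652666)))) (.node (.node (.node (.leaf 17027354) (.leaf 8638994)) (.node (.leaf 15933652) (.leaf 3023115))) (.node (.node (.leaf 10359407) (.leaf 15945875)) (.node (.leaf 13607532) (.leaf 7368754))))))) (.node (.node (.node (.node (.node (.node (.node (.leaf 15458880) (.leaf 7098638)) (.leaf 9232582)) (.node (.leaf 9343340) (.leaf 8761561))) (.node (.node (.leaf 2626167) (.leaf 8491158)) (.node (.leaf 14176693) (.leaf 1090028)))) (.node (.node (.node (.node (.leaf 12849267) (.leaf 14815750)) (.leaf 4469440)) (.node (.leaf 14876882) (.leaf 17809995))) (.node (.node (.leaf 18080056) (.leaf 17978058))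 (.node (.leaf 1131119) (.leaf 13688990))))) (.node (.node (.node (.node (.node (.leaf 5972351) (.leaf 14328127)) (.leaf 13435542)) (.node (.leaf 8143222) (.leaf 14897483))) (.node (.node (.leaf 8446240) (.leaf 15085722)) (.node (.leaf 8466765) (.leaf 12103945)))) (.node (.node (.node (.leaf 7377612) (.leaf 4358775)) (.node (.leaf 6967847) (.leaf 11387143))) (.node (.node (.leaf 12042777) (.leaf 11161727)) (.node (.leaf 3760448) (.leaf 9769599)))))) (.node (.node (.node (.node (.node (.node (.leaf 5702020) (.leaf 12779944)) (.leaf 7832169)) (.node (.leaf 1495142) (.leaf 1405211))) (.node (.node (.leaf 13775569) (.leaf 10883782)) (.node (.leaf 4780559) (.leaf 4915214)))) (.node (.node (.node (.node (.leaf 10302089) (.leaf 13340840)) (.leaf 2392116)) (.node (.leaf 4067652) (.leaf 4497962))) (.node (.node (.leaf 2417319) (.leaf 5198049)) (.node (.leaf 12116151) (.leaf 5369962))))) (.node (.node (.node (.node (.node (.leaf 8188374) (.leaf 5386821)) (.leaf 9310930)) (.node (.leaf 12337381) (.leaf 3391714))) (.node (.node (.leaf 15155860) (.leaf 15851777)) (.node (.leaf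 16269325) (.leaf 5771922)))) (.node (.node (.node (.leaf 18255978) (.leaf 14704774)) (.node (.leaf 4809108) (.leaf 11329607))) (.node (.node (.leaf 17162529) (.leaf 12456488)) (.node (.leaf 1204640) (.leaf 14344609)))))))) (.node (.node (.node (.node (.node (.node (.node (.node (.leaf 4182741) (.leaf 11248002)) (.leaf 15855865)) (.node (.leaf 6046198) (.leaf 16834886))) (.node (.node (.leaf 4166226) (.leaf 15987139)) (.node (.leaf 2093620) (.leaf 1843835)))) (.node (.node (.node (.node (.leaf 10150170) (.leaf 16392247)) (.leaf 13468264)) (.node (.leaf 5816523) (.leaf 3830275))) (.node (.node (.leaf 5599432) (.leaf 5185592)) (.node (.leaf 13480474) (.leaf 16134655))))) (.node (.node (.node (.node (.node (.leaf 17915917) (.leaf 4382777)) (.leaf 13156360)) (.node (.leaf 16060618) (.leaf 15557257))) (.node (.node (.leaf 8913493) (.leaf 13070760)) (.node (.leaf 14938562) (.leaf 14753811)))) (.node (.node (.node (.leaf 6722170) (.leaf 7107160)) (.node (.leaf 14361001) (.leaf 6103478))) (.node (.node (.leaf 17908414) (.leaf 1151115)) (.node (.leaf 12841601) (.leaf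 4948301)))))) (.node (.node (.node (.node (.node (.node (.leaf 11616287) (.leaf 4591739)) (.leaf 664111)) (.node (.leaf 9773105) (.leaf 9986666))) (.node (.node (.leaf 16106146) (.leaf 6127890)) (.node (.leaf 2662434) (.leaf 1929500)))) (.node (.node (.node (.node (.leaf 12480796) (.leaf 13643991)) (.leaf 958469)) (.node (.leaf 8659575) (.leaf 16015445))) (.node (.node (.leaf 246003) (.leaf 15520401)) (.node (.leaf 3399851) (.leaf 12005683))))) (.node (.node (.node (.node (.node (.leaf 6775349) (.leaf 11506349)) (.leaf 8216985)) (.node (.leaf 1573000) (.leaf 7422168))) (.node (.node (.leaf 10125397) (.leaf 8208511)) (.node (.leaf 17862876) (.leaf 8499712)))) (.node (.node (.node (.leaf 9732403) (.leaf 9212088)) (.node (.leaf 5595405) (.leaf 6684997))) (.node (.node (.leaf 7495815) (.leaf 17346711)) (.node (.leaf 13124000) (.leaf 17289397))))))) (.node (.node (.node (.node (.node (.node (.node (.leaf 9863746) (.leaf 14946988)) (.leaf 8721089)) (.node (.leaf 12410909) (.leaf 7102799))) (.node (.node (.leaf 1171790) (.leaf 217121)) (.node (.leaf 14037658) (.leaf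 512715)))) (.node (.node (.node (.node (.leaf 14950905) (.leaf 5472978)) (.leaf 12312591)) (.node (.leaf 2965613) (.leaf 13832281))) (.node (.node (.leaf 17383560) (.leaf 13320602)) (.node (.leaf 12886113) (.leaf 7418474))))) (.node (.node (.node (.node (.node (.leaf 14561405) (.leaf 3371640)) (.leaf 15532439)) (.node (.leaf 1470986) (.leaf 15794499))) (.node (.node (.leaf 3711097) (.leaf 4997306)) (.node (.leaf 10351109) (.leaf 8700269)))) (.node (.node (.node (.leaf 14086484) (.leaf 7856568)) (.node (.leaf 6681124) (.leaf 2683374))) (.node (.node (.leaf 17265283) (.leaf 8704662)) (.node (.leaf 11526796) (.leaf 12436155)))))) (.node (.node (.node (.node (.node (.node (.leaf 5235222) (.leaf 10223849)) (.leaf 4931997)) (.node (.leaf 3731892) (.leaf 15008072))) (.node (.node (.leaf 14926126) (.leaf 10268746)) (.node (.leaf 11874636) (.leaf 4411560)))) (.node (.node (.node (.node (.leaf 5030374) (.leaf 8393393)) (.leaf 17285737)) (.node (.leaf 479486) (.leaf 8737113))) (.node (.node (.leaf 17367528) (.leaf 14607004)) (.node (.leaf 3072365) (.leaf 2269828))))) (.node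 (.node (.node (.node (.node (.leaf 2998798) (.leaf 16945224)) (.leaf 1876689)) (.node (.leaf 17461268) (.leaf 10408239))) (.node (.node (.leaf 9306176) (.leaf 4862055)) (.node (.leaf 16970232) (.leaf 5800598)))) (.node (.node (.node (.leaf 6815800) (.leaf 5649094)) (.node (.leaf 9650469) (.leaf 15274258))) (.node (.node (.leaf 7430222) (.leaf 16912663)) (.node (.leaf 2765294) (.leaf 1585597)))))))))

def threeMv6082 : Janko.Tree (ℕ) :=
  (.node (.node (.node (.node (.node (.node (.node (.node (.node (.leaf 4985545) (.leaf 3539075)) (.leaf 1753414)) (.node (.leaf 3994238) (.leaf 6889643))) (.node (.node (.leaf 1864348) (.leaf 2171441)) (.node (.leaf 446646) (.leaf 2744426)))) (.node (.node (.node (.node (.leaf 6852756) (.leaf 14250627)) (.leaf 13054488)) (.node (.leaf 7336557) (.leaf 11416229))) (.node (.node (.leaf 4300977) (.leaf 7655883)) (.node (.leaf 14434696) (.leaf 16585342))))) (.node (.node (.node (.node (.node (.leaf 4833616) (.leaf 610377)) (.leaf 8470697)) (.node (.leaf 1970440) (.leaf 15798588))) (.node (.node (.leaf 1491222) (.leaf 15454627)) (.node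 (.leaf 15159503) (.leaf 8204343)))) (.node (.node (.node (.leaf 7467696) (.leaf 3641847)) (.node (.leaf 14975427) (.leaf 2040168))) (.node (.node (.leaf 16121915) (.leaf 5882394)) (.node (.leaf 12001650) (.leaf 13230624)))))) (.node (.node (.node (.node (.node (.node (.leaf 17424788) (.leaf 3236562)) (.leaf 6738622)) (.node (.leaf 10936778) (.leaf 3719642))) (.node (.node (.leaf 1229518) (.leaf 14811176)) (.node (.leaf 4608477) (.leaf 3260660)))) (.node (.node (.node (.node (.leaf 2945375) (.leaf 14438459)) (.leaf 9708247)) (.node (.leaf 10432943) (.leaf 8249662))) (.node (.node (.leaf 7573825) (.leaf 5161173)) (.node (.leaf 10285330) (.leaf 6893837))))) (.node (.node (.node (.node (.node (.leaf 8085612) (.leaf 14156271)) (.leaf 8671482)) (.node (.leaf 5886370) (.leaf 11702956))) (.node (.node (.leaf 8110286) (.leaf 15143474)) (.node (.leaf 18104995) (.leaf 10613145)))) (.node (.node (.node (.leaf 1237429) (.leaf 8159756)) (.node (.leaf 17035508) (.leaf 15405385))) (.node (.node (.leaf 15241727) (.leaf 7643142)) (.node (.leaf 13451562) (.leaf 4952348)))))))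 (.node (.node (.node (.node (.node (.node (.node (.leaf 3654134) (.leaf 3666441)) (.leaf 11194991)) (.node (.leaf 9548247) (.leaf 13738411))) (.node (.node (.leaf 2400414) (.leaf 16245045)) (.node (.leaf 11788541) (.leaf 6860909)))) (.node (.node (.node (.node (.leaf 2633787) (.leaf 332085)) (.leaf 12390667)) (.node (.leaf 5759477) (.leaf 13771295))) (.node (.node (.leaf 16974119) (.leaf 754286)) (.node (.leaf 7615027) (.leaf 1266382))))) (.node (.node (.node (.node (.node (.leaf 8589779) (.leaf 1142979)) (.leaf 1360257)) (.node (.leaf 13369545) (.leaf 5431390))) (.node (.node (.leaf 10809981) (.leaf 11149977)) (.node (.leaf 15724939) (.leaf 3101266)))) (.node (.node (.node (.leaf 1737054) (.leaf 1073373)) (.node (.leaf 4768144) (.leaf 12607669))) (.node (.node (.leaf 6111895) (.leaf 8253999)) (.node (.leaf 17748554) (.leaf 15122929)))))) (.node (.node (.node (.node (.node (.node (.leaf 14901857) (.leaf 2465999)) (.leaf 2474321)) (.node (.leaf 10252792) (.leaf 15176074))) (.node (.node (.leaf 16978444) (.leaf 5115933)) (.node (.leaf 9568821) (.leaf 13148326))))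 (.node (.node (.node (.node (.leaf 1102530) (.leaf 15802541)) (.leaf 8712473)) (.node (.leaf 5644998) (.leaf 840096))) (.node (.node (.leaf 8859799) (.leaf 10855050)) (.node (.leaf 18051357) (.leaf 6005115))))) (.node (.node (.node (.node (.node (.leaf 11596083) (.leaf 13259329)) (.leaf 6435372)) (.node (.leaf 15819189) (.leaf 12902666))) (.node (.node (.leaf 729360) (.leaf 1884556)) (.node (.leaf 15319078) (.leaf 15606424)))) (.node (.node (.node (.leaf 1774153) (.leaf 14282836)) (.node (.leaf 348223) (.leaf 10756786))) (.node (.node (.leaf 16884231) (.leaf 7762459)) (.node (.leaf 7807402) (.leaf 9658693)))))))) (.node (.node (.node (.node (.node (.node (.node (.node (.leaf 8462840) (.leaf 12689781)) (.leaf 717397)) (.node (.leaf 12599375) (.leaf 16826664))) (.node (.node (.leaf 9101550) (.leaf 9511414)) (.node (.leaf 3928328) (.leaf 14618709)))) (.node (.node (.node (.node (.leaf 8786274) (.leaf 8200431)) (.leaf 16224570)) (.node (.leaf 4477457) (.leaf 16986754))) (.node (.node (.leaf 5505305) (.leaf 14905600)) (.node (.leaf 13242513) (.leaf 16769121)))))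 (.node (.node (.node (.node (.node (.leaf 14430576) (.leaf 18092349)) (.leaf 14312113)) (.node (.leaf 1343534) (.leaf 8548637))) (.node (.node (.leaf 4141222) (.leaf 11964843)) (.node (.leaf 5993154) (.leaf 5890684)))) (.node (.node (.node (.leaf 9077402) (.leaf 4436364)) (.node (.leaf 1618435) (.leaf 299031))) (.node (.node (.leaf 17678778) (.leaf 11932095)) (.node (.leaf 2429028) (.leaf 7979200)))))) (.node (.node (.node (.node (.node (.node (.leaf 1536269) (.leaf 17232000)) (.leaf 16863360)) (.node (.leaf 14688283) (.leaf 6910163))) (.node (.node (.leaf 5058950) (.leaf 12386518)) (.node (.leaf 5722349) (.leaf 11068052)))) (.node (.node (.node (.node (.leaf 16421585) (.leaf 11633215)) (.leaf 5046317)) (.node (.leaf 1351774) (.leaf 4018291))) (.node (.node (.leaf 6512729) (.leaf 6099318)) (.node (.leaf 7676625) (.leaf 11723370))))) (.node (.node (.node (.node (.node (.leaf 2617965) (.leaf 3089095)) (.leaf 11121081)) (.node (.leaf 16658471) (.leaf 12255574))) (.node (.node (.leaf 18153528) (.leaf 14413964)) (.node (.leaf 2510867) (.leaf 9945726)))) (.node (.node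 (.node (.leaf 86034) (.leaf 12898543)) (.node (.leaf 5321125) (.leaf 9977913))) (.node (.node (.leaf 4940121) (.leaf 10535084)) (.node (.leaf 11849796) (.leaf 709290))))))) (.node (.node (.node (.node (.node (.node (.node (.leaf 9040026) (.leaf 14864744)) (.leaf 3285133)) (.node (.leaf 5493387) (.leaf 17998504))) (.node (.node (.leaf 5919124) (.leaf 3744343)) (.node (.leaf 15368400) (.leaf 443010)))) (.node (.node (.node (.node (.leaf 11071709) (.leaf 16179801)) (.leaf 18248315)) (.node (.leaf 16699920) (.leaf 10399821))) (.node (.node (.leaf 5423232) (.leaf 323908)) (.node (.leaf 3272777) (.leaf 1483397))))) (.node (.node (.node (.node (.node (.leaf 14422722) (.leaf 2073119)) (.leaf 9117742)) (.node (.leaf 7713366) (.leaf 8798635))) (.node (.node (.leaf 1901046) (.leaf 1794441)) (.node (.leaf 9330785) (.leaf 4870465)))) (.node (.node (.node (.leaf 1778357) (.leaf 15384628)) (.node (.leaf 15565388) (.leaf 9277919))) (.node (.node (.leaf 6291558) (.leaf 1708412)) (.node (.leaf 11370572) (.leaf 7463244)))))) (.node (.node (.node (.node (.node (.node (.leaf 8979109)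 (.leaf 10838733)) (.leaf 15307209)) (.node (.leaf 2560612) (.leaf 17015291))) (.node (.node (.leaf 11493999) (.leaf 5894459)) (.node (.leaf 9687429) (.leaf 9384142)))) (.node (.node (.node (.node (.leaf 5750972) (.leaf 3580284)) (.leaf 2740500)) (.node (.leaf 14131615) (.leaf 4235925))) (.node (.node (.leaf 17486139) (.leaf 16216294)) (.node (.leaf 6845128) (.leaf 15573284))))) (.node (.node (.node (.node (.node (.leaf 14135325) (.leaf 32921)) (.leaf 7372850)) (.node (.leaf 9519328) (.leaf 8827227))) (.node (.node (.leaf 3203348) (.leaf 2900264)) (.node (.leaf 13484733) (.leaf 8897173)))) (.node (.node (.node (.leaf 12681471) (.leaf 5382506)) (.node (.leaf 1597846) (.leaf 6259053))) (.node (.node (.leaf 9171662) (.leaf 3117089)) (.node (.leaf 1576985) (.leaf 12775660)))))))))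

def threeMv6083 : Janko.Tree (ℕ) :=
  (.node (.node (.node (.node (.node (.node (.node (.node (.node (.leaf 10850653) (.leaf 17203671)) (.leaf 1286788)) (.node (.leaf 12247652) (.leaf 9167415))) (.node (.node (.leaf 9916733) (.leaf 12734823)) (.node (.leaf 10342453) (.leaf 14692403)))) (.node (.node (.node (.node (.leaf 889364) (.leaf 14475485)) (.leaf 14319899)) (.node (.leaf 10580038) (.leaf 12493350))) (.node (.node (.leaf 6419030) (.leaf 16865)) (.node (.leaf 3682639) (.leaf 2478760))))) (.node (.node (.node (.node (.node (.leaf 8941894) (.leaf 5153376)) (.leaf 14635302)) (.node (.leaf 14844211) (.leaf 7815270))) (.node (.node (.leaf 10940985) (.leaf 11919988)) (.node (.leaf 17031760) (.leaf 17158872)))) (.node (.node (.node (.leaf 14372973) (.leaf 2281559)) (.node (.leaf 13611263) (.leaf 1339471))) (.node (.node (.leaf 9159307) (.leaf 7024766)) (.node (.leaf 16199724) (.leaf 2371955)))))) (.node (.node (.node (.node (.node (.node (.leaf 721374) (.leaf 8077858)) (.leaf 13852967)) (.node (.leaf 13537887) (.leaf 934208))) (.node (.node (.leaf 8007936) (.leaf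 12153493)) (.node (.leaf 13906115) (.leaf 11296946)))) (.node (.node (.node (.node (.leaf 6091238) (.leaf 14487790)) (.leaf 8695815)) (.node (.leaf 14045819) (.leaf 13074755))) (.node (.node (.leaf 10240693) (.leaf 3588479)) (.node (.leaf 14836161) (.leaf 11669756))))) (.node (.node (.node (.node (.node (.leaf 4677651) (.leaf 16539812)) (.leaf 14402214)) (.node (.leaf 16314699) (.leaf 13357257))) (.node (.node (.leaf 12185699) (.leaf 18161672)) (.node (.leaf 14790886) (.leaf 6398595)))) (.node (.node (.node (.leaf 3452957) (.leaf 17740437)) (.node (.leaf 10093190) (.leaf 13152560))) (.node (.node (.leaf 10911865) (.leaf 8687838)) (.node (.leaf 639631) (.leaf 14520936))))))) (.node (.node (.node (.node (.node (.node (.node (.leaf 13890070) (.leaf 16617893)) (.leaf 2495116)) (.node (.leaf 4980816) (.leaf 15024321))) (.node (.node (.leaf 16011340) (.leaf 17604663)) (.node (.leaf 11792816) (.leaf 6271301)))) (.node (.node (.node (.node (.leaf 4714574) (.leaf 9818710)) (.leaf 9482577)) (.node (.leaf 2568297) (.leaf 8532637))) (.node (.node (.leaf 12509590) (.leaf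 1991158)) (.node (.leaf 15639191) (.leaf 3518715))))) (.node (.node (.node (.node (.node (.leaf 15872625) (.leaf 4943901)) (.leaf 14565632)) (.node (.leaf 11043148) (.leaf 17948750))) (.node (.node (.leaf 16868025) (.leaf 9069074)) (.node (.leaf 5865988) (.leaf 17449345)))) (.node (.node (.node (.leaf 15544818) (.leaf 16998782)) (.node (.leaf 8900672) (.leaf 5607789))) (.node (.node (.leaf 8856031) (.leaf 14660204)) (.node (.leaf 16265402) (.leaf 12968165)))))) (.node (.node (.node (.node (.node (.node (.leaf 10870922) (.leaf 11997543)) (.leaf 10052150)) (.node (.leaf 1663239) (.leaf 17834120))) (.node (.node (.leaf 459014) (.leaf 16310913)) (.node (.leaf 15700672) (.leaf 16953364)))) (.node (.node (.node (.node (.leaf 13050214) (.leaf 13726404)) (.leaf 1888542)) (.node (.leaf 12533984) (.leaf 811147))) (.node (.node (.leaf 8151545) (.leaf 7520672)) (.node (.leaf 4907541) (.leaf 13115476))))) (.node (.node (.node (.node (.node (.leaf 3064322) (.leaf 10490442)) (.leaf 14053569)) (.node (.leaf 12124853) (.leaf 10797624))) (.node (.node (.leaf 11333966) (.leaf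 9859708)) (.node (.leaf 14840409) (.leaf 504373)))) (.node (.node (.node (.leaf 1200673) (.leaf 16044747)) (.node (.leaf 11776000) (.leaf 4890628))) (.node (.node (.leaf 2175704) (.leaf 2482281)) (.node (.leaf 5292590) (.leaf 6832484)))))))) (.node (.node (.node (.node (.node (.node (.node (.node (.leaf 11846232) (.leaf 929950)) (.leaf 7533207)) (.node (.leaf 7672336) (.leaf 9646476))) (.node (.node (.leaf 8520118) (.leaf 9625655)) (.node (.leaf 11575510) (.leaf 2187767)))) (.node (.node (.node (.node (.leaf 7897688) (.leaf 16331466)) (.leaf 10277517)) (.node (.leaf 14226079) (.leaf 8155454))) (.node (.node (.leaf 8213179) (.leaf 11301064)) (.node (.leaf 16904227) (.leaf 4927687))))) (.node (.node (.node (.node (.node (.leaf 7328175) (.leaf 5214812)) (.leaf 16138908)) (.node (.leaf 14820033) (.leaf 15790307))) (.node (.node (.leaf 11977424) (.leaf 10907840)) (.node (.leaf 12091503) (.leaf 7602786)))) (.node (.node (.node (.leaf 15745178) (.leaf 11780483)) (.node (.leaf 14099111) (.leaf 762529))) (.node (.node (.leaf 6320806) (.leaf 4653256)) (.node (.leaf 4588028)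 (.leaf 11972836)))))) (.node (.node (.node (.node (.node (.node (.leaf 3961034) (.leaf 6427259)) (.leaf 12816617)) (.node (.leaf 9339228) (.leaf 12980407))) (.node (.node (.leaf 16408911) (.leaf 10146267)) (.node (.leaf 13021464) (.leaf 942235)))) (.node (.node (.node (.node (.leaf 17219879) (.leaf 13038096)) (.leaf 10420469)) (.node (.leaf 6136160) (.leaf 12013851))) (.node (.node (.leaf 16642444) (.leaf 7606906)) (.node (.leaf 10949295) (.leaf 15864389))))) (.node (.node (.node (.node (.node (.leaf 8958166) (.leaf 11129067)) (.leaf 6037859)) (.node (.leaf 10895680) (.leaf 352419))) (.node (.node (.leaf 8290767) (.leaf 8503528)) (.node (.leaf 6517141) (.leaf 5947925)))) (.node (.node (.node (.leaf 9998870) (.leaf 16515591)) (.node (.leaf 9555992) (.leaf 15991429))) (.node (.node (.leaf 4752062) (.leaf 16966004)) (.node (.leaf 385471) (.leaf 8848086))))))) (.node (.node (.node (.node (.node (.node (.node (.leaf 11714776) (.leaf 6770746)) (.leaf 2183173)) (.node (.leaf 11661759) (.leaf 2687523))) (.node (.node (.leaf 7406024) (.leaf 4030922)) (.node (.leaf 17629660)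 (.leaf 6927045)))) (.node (.node (.node (.node (.leaf 12112443) (.leaf 18141205)) (.leaf 5288411)) (.node (.leaf 2293884) (.leaf 13111435))) (.node (.node (.leaf 221548) (.leaf 11342154)) (.node (.leaf 549570) (.leaf 15937553))))) (.node (.node (.node (.node (.node (.leaf 18289055) (.leaf 8724764)) (.leaf 680246)) (.node (.leaf 9761114) (.leaf 11587712))) (.node (.node (.leaf 6226050) (.leaf 8852101)) (.node (.leaf 1831097) (.leaf 2113734)))) (.node (.node (.node (.leaf 4317222) (.leaf 475480)) (.node (.leaf 5448355) (.leaf 10449261))) (.node (.node (.leaf 3424721) (.leaf 3367313)) (.node (.leaf 3477723) (.leaf 16212614)))))) (.node (.node (.node (.node (.node (.node (.leaf 13271654) (.leaf 3825720)) (.leaf 12497186)) (.node (.leaf 9981973) (.leaf 11923839))) (.node (.node (.leaf 17699016) (.leaf 15298875)) (.node (.leaf 6942887) (.leaf 3821834)))) (.node (.node (.node (.node (.leaf 9629953) (.leaf 13574460)) (.leaf 17133979)) (.node (.leaf 2593313) (.leaf 9912537))) (.node (.node (.leaf 11674312) (.leaf 4788627)) (.node (.leaf 7295440) (.leaf 12366294)))))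 (.node (.node (.node (.node (.node (.leaf 4038901) (.leaf 7921921)) (.leaf 4813409)) (.node (.leaf 14491839) (.leaf 2339018))) (.node (.node (.leaf 4989624) (.leaf 7197354)) (.node (.leaf 12615762) (.leaf 4522431)))) (.node (.node (.node (.leaf 7324321) (.leaf 4612235)) (.node (.leaf 6644250) (.leaf 4886977))) (.node (.node (.leaf 4485365) (.leaf 3920359)) (.node (.leaf 10064081) (.leaf 319755)))))))))

def threeMv6084 : Janko.Tree (ℕ) :=
  (.node (.node (.node (.node (.node (.node (.node (.node (.node (.leaf 9273683) (.leaf 7967012)) (.leaf 17576295)) (.node (.leaf 13181579) (.leaf 9851118))) (.node (.node (.leaf 14979268) (.leaf 2769017)) (.node (.leaf 17592620) (.leaf 6013266)))) (.node (.node (.node (.node (.leaf 17195692) (.leaf 1925840)) (.leaf 13087157)) (.node (.leaf 12943932) (.leaf 3678381))) (.node (.node (.leaf 13943470) (.leaf 4263996)) (.node (.leaf 1413375) (.leaf 13201651))))) (.node (.node (.node (.node (.node (.leaf 13390270) (.leaf 17317906)) (.leaf 3465587)) (.node (.leaf 2486426) (.leaf 6996251))) (.node (.node (.leaf 13836851) (.leaf 4006420))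 (.node (.leaf 5054707) (.leaf 2220632)))) (.node (.node (.node (.leaf 5734913) (.leaf 5190346)) (.node (.leaf 3969046) (.leaf 2347081))) (.node (.node (.leaf 1012373) (.leaf 7942611)) (.node (.leaf 10096984) (.leaf 3199256)))))) (.node (.node (.node (.node (.node (.node (.leaf 21129) (.leaf 13136234)) (.leaf 8766107)) (.node (.leaf 2851535) (.leaf 7958718))) (.node (.node (.leaf 17391855) (.leaf 11645653)) (.node (.leaf 1733194) (.leaf 17437270)))) (.node (.node (.node (.node (.leaf 11649245) (.leaf 16805893)) (.leaf 9715779)) (.node (.leaf 5824627) (.leaf 6132225))) (.node (.node (.leaf 2224698) (.leaf 11813154)) (.node (.leaf 14303279) (.leaf 6463741))))) (.node (.node (.node (.node (.node (.leaf 9081067) (.leaf 533029)) (.leaf 8303077)) (.node (.leaf 692403) (.leaf 7143895))) (.node (.node (.leaf 17416611) (.leaf 10203353)) (.node (.leaf 9405005) (.leaf 11825728)))) (.node (.node (.node (.leaf 4743376) (.leaf 12452418)) (.node (.leaf 11551259) (.leaf 8364583))) (.node (.node (.leaf 9867899) (.leaf 10887698)) (.node (.leaf 11883109) (.leaf 16486796)))))))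 (.node (.node (.node (.node (.node (.node (.node (.leaf 7426364) (.leaf 8692327)) (.leaf 15028236)) (.node (.leaf 15187996) (.leaf 9351589))) (.node (.node (.leaf 17609024) (.leaf 581902)) (.node (.leaf 3182788) (.leaf 8241207)))) (.node (.node (.node (.node (.leaf 8536222) (.leaf 3211356)) (.leaf 2650362)) (.node (.leaf 7287157) (.leaf 13246792))) (.node (.node (.leaf 1319634) (.leaf 9134175)) (.node (.leaf 11866787) (.leaf 2244997))))) (.node (.node (.node (.node (.node (.leaf 7590183) (.leaf 4493818)) (.leaf 3850241)) (.node (.leaf 17240189) (.leaf 13254673))) (.node (.node (.leaf 2404900) (.leaf 1892972)) (.node (.leaf 6840742) (.leaf 15774276)))) (.node (.node (.node (.leaf 414424) (.leaf 18191036)) (.node (.leaf 4452975) (.leaf 15913074))) (.node (.node (.leaf 17473808) (.leaf 11362777)) (.node (.leaf 17822365) (.leaf 12763326)))))) (.node (.node (.node (.node (.node (.node (.leaf 2756695) (.leaf 6947404)) (.leaf 6275322)) (.node (.leaf 12767309) (.leaf 4595799))) (.node (.node (.leaf 14065666) (.leaf 2433150)) (.node (.leaf 2019803) (.leaf 9441906))))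 (.node (.node (.node (.node (.leaf 848508) (.leaf 12431793)) (.leaf 2838934)) (.node (.leaf 13472224) (.leaf 6430841))) (.node (.node (.leaf 11272218) (.leaf 11137288)) (.node (.leaf 15909226) (.leaf 15859778))))) (.node (.node (.node (.node (.node (.leaf 6660688) (.leaf 12304413)) (.leaf 7291572)) (.node (.leaf 2011640) (.leaf 6066497))) (.node (.node (.leaf 6181233) (.leaf 11076207)) (.node (.leaf 7226002) (.leaf 7594530)))) (.node (.node (.node (.leaf 16781512) (.leaf 3907992)) (.node (.leaf 3883351) (.leaf 4514456))) (.node (.node (.leaf 8876507) (.leaf 758055)) (.node (.leaf 17871313) (.leaf 1388632)))))))) (.node (.node (.node (.node (.node (.node (.node (.node (.leaf 1421795) (.leaf 16724372)) (.leaf 2154644)) (.node (.leaf 242338) (.leaf 4734))) (.node (.node (.leaf 14180354) (.leaf 10567715)) (.node (.leaf 14242242) (.leaf 8442289)))) (.node (.node (.node (.node (.leaf 6205667) (.leaf 4153511)) (.leaf 11604299)) (.node (.leaf 18149924) (.leaf 13861108))) (.node (.node (.leaf 10281513) (.leaf 17965306)) (.node (.leaf 9622191) (.leaf 9162943))))) (.node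 (.node (.node (.node (.node (.leaf 11014452) (.leaf 14541367)) (.leaf 9355618)) (.node (.leaf 4305272) (.leaf 2801743))) (.node (.node (.leaf 1499636) (.leaf 15528253)) (.node (.leaf 1438155) (.leaf 9830651)))) (.node (.node (.node (.leaf 8667593) (.leaf 8507690)) (.node (.leaf 8347952) (.leaf 16695530))) (.node (.node (.leaf 11018740) (.leaf 4923654)) (.node (.leaf 12759181) (.leaf 2470216)))))) (.node (.node (.node (.node (.node (.node (.leaf 7565353) (.leaf 11112627)) (.leaf 15245557)) (.node (.leaf 17019377) (.leaf 12927636))) (.node (.node (.leaf 6656452) (.leaf 6636040)) (.node (.leaf 3564091) (.leaf 6074513)))) (.node (.node (.node (.node (.leaf 15663529) (.leaf 13848790)) (.leaf 8065113)) (.node (.leaf 14127669) (.leaf 13443379))) (.node (.node (.leaf 16347307) (.leaf 14852480)) (.node (.leaf 9126204) (.leaf 18166348))))) (.node (.node (.node (.node (.node (.leaf 6807783) (.leaf 7991331)) (.leaf 11448617)) (.node (.leaf 6697015) (.leaf 983585))) (.node (.node (.leaf 7176505) (.leaf 5792236)) (.node (.leaf 3670148) (.leaf 10231946)))) (.node (.node (.node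 (.leaf 17772829) (.leaf 7434450)) (.node (.leaf 13365369) (.leaf 13902530))) (.node (.node (.leaf 4968973) (.leaf 10010932)) (.node (.leaf 11743563) (.leaf 7020983))))))) (.node (.node (.node (.node (.node (.node (.node (.leaf 9937218) (.leaf 11383332)) (.leaf 11153515)) (.node (.leaf 4297021) (.leaf 10547389))) (.node (.node (.leaf 5898251) (.leaf 6975786)) (.node (.leaf 1810735) (.leaf 7905807)))) (.node (.node (.node (.node (.leaf 13935244) (.leaf 12624467)) (.leaf 18207305)) (.node (.leaf 16367742) (.leaf 4145558))) (.node (.node (.leaf 5149168) (.leaf 9380222)) (.node (.leaf 7504411) (.leaf 3956843))))) (.node (.node (.node (.node (.node (.leaf 3567816) (.leaf 13328742)) (.leaf 8380589)) (.node (.leaf 11219189) (.leaf 13042366))) (.node (.node (.leaf 9593150) (.leaf 13066964)) (.node (.leaf 16753363) (.leaf 6337237)))) (.node (.node (.node (.leaf 5714551) (.leaf 1024021)) (.node (.leaf 1667230) (.leaf 5005907))) (.node (.node (.leaf 10899540) (.leaf 8987281)) (.node (.leaf 4694046) (.leaf 4747764)))))) (.node (.node (.node (.node (.node (.node (.leaf 12165772)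 (.leaf 3154158)) (.leaf 8864034)) (.node (.leaf 7561291) (.leaf 13877850))) (.node (.node (.leaf 15765669) (.leaf 10960965)) (.node (.leaf 9695843) (.leaf 6001300)))) (.node (.node (.node (.node (.leaf 9412647) (.leaf 17666123)) (.leaf 4505606)) (.node (.leaf 11886947) (.leaf 13189618))) (.node (.node (.leaf 7254402) (.leaf 10445102)) (.node (.leaf 14708969) (.leaf 540890))))) (.node (.node (.node (.node (.node (.leaf 14995593) (.leaf 4362246)) (.leaf 17690697)) (.node (.leaf 9409093) (.leaf 2523425))) (.node (.node (.leaf 9896518) (.leaf 10764595)) (.node (.leaf 10248239) (.leaf 14442515)))) (.node (.node (.node (.leaf 3133826) (.leaf 16654447)) (.node (.leaf 4857973) (.leaf 5755269))) (.node (.node (.leaf 438970) (.leaf 10424335)) (.node (.leaf 17276928) (.leaf 16277648)))))))))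

def threeMv6085 : Janko.Tree (ℕ) :=
  (.node (.node (.node (.node (.node (.node (.node (.node (.node (.leaf 4117193) (.leaf 1384479)) (.leaf 2871517)) (.node (.leaf 3551237) (.leaf 5435477))) (.node (.node (.leaf 3530899) (.leaf 17420346)) (.node (.leaf 9703797) (.leaf 18076123)))) (.node (.node (.node (.node (.leaf 16318701) (.leaf 6607058)) (.leaf 16765061)) (.node (.leaf 1933364) (.leaf 10932878))) (.node (.node (.leaf 11522212) (.leaf 643528)) (.node (.leaf 2159192) (.leaf 13062440))))) (.node (.node (.node (.node (.node (.leaf 4403647) (.leaf 5628607)) (.leaf 7668429)) (.node (.leaf 15679566) (.leaf 13009613))) (.node (.node (.leaf 9617438) (.leaf 6094889)) (.node (.leaf 13545549) (.leaf 10322224)))) (.node (.node (.node (.leaf 12308694) (.leaf 561476)) (.node (.leaf 2990170) (.leaf 17117205))) (.node (.node (.leaf 12882103) (.leaf 16490871)) (.node (.leaf 9994525) (.leaf 16511494)))))) (.node (.node (.node (.node (.node (.node (.leaf 4174298) (.leaf 16761182)) (.leaf 4956466)) (.node (.leaf 8622320) (.leaf 7270936))) (.node (.node (.leaf 11756107) (.leaf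 6750250)) (.node (.leaf 16703893) (.leaf 10817794)))) (.node (.node (.node (.node (.leaf 15172062) (.leaf 12722797)) (.leaf 8675531)) (.node (.leaf 1163625) (.leaf 12636725))) (.node (.node (.leaf 13578420) (.leaf 17883428)) (.node (.leaf 13447304) (.leaf 16810000))))) (.node (.node (.node (.node (.node (.leaf 4911475) (.leaf 15704579)) (.leaf 11141261)) (.node (.leaf 7074287) (.leaf 16204457))) (.node (.node (.leaf 8888759) (.leaf 1605654)) (.node (.leaf 12521500) (.leaf 2048270)))) (.node (.node (.node (.leaf 16261532) (.leaf 11751721)) (.node (.leaf 8626523) (.leaf 10457729))) (.node (.node (.leaf 8298898) (.leaf 16478900)) (.node (.leaf 3801352) (.leaf 10904074))))))) (.node (.node (.node (.node (.node (.node (.node (.leaf 5665391) (.leaf 1720982)) (.leaf 8540239)) (.node (.leaf 1741092) (.leaf 17224159))) (.node (.node (.leaf 17752124) (.leaf 10637381)) (.node (.leaf 672055) (.leaf 143440)))) (.node (.node (.node (.node (.leaf 14602693) (.leaf 16003354)) (.leaf 12603546)) (.node (.leaf 2605173) (.leaf 16879698))) (.node (.node (.leaf 15360413) (.leaf 594032))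 (.node (.leaf 14299611) (.leaf 5325017))))) (.node (.node (.node (.node (.node (.leaf 6537923) (.leaf 3007051)) (.leaf 2302246)) (.node (.leaf 4509844) (.leaf 7848200))) (.node (.node (.leaf 373194) (.leaf 3506680)) (.node (.leaf 6922819) (.leaf 10371448)))) (.node (.node (.node (.leaf 4481203) (.leaf 1208908)) (.node (.leaf 9064529) (.leaf 5997074))) (.node (.node (.leaf 9371979) (.leaf 17838286)) (.node (.leaf 13127748) (.leaf 5403286)))))) (.node (.node (.node (.node (.node (.node (.leaf 16929034) (.leaf 16040134)) (.leaf 11190599)) (.node (.leaf 11268673) (.leaf 8138765))) (.node (.node (.leaf 819384) (.leaf 6177050)) (.node (.leaf 12189764) (.leaf 15507567)))) (.node (.node (.node (.node (.leaf 3846240) (.leaf 14467406)) (.leaf 4268184)) (.node (.leaf 2921099) (.leaf 3383499))) (.node (.node (.leaf 3256762) (.leaf 11227336)) (.node (.leaf 14627235) (.leaf 14909639))))) (.node (.node (.node (.node (.node (.leaf 7459002) (.leaf 6029644)) (.leaf 14496267)) (.node (.leaf 8925574) (.leaf 864419))) (.node (.node (.leaf 11293362) (.leaf 14447231)) (.node (.leaf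 15020651) (.leaf 3187175)))) (.node (.node (.node (.leaf 9142624) (.leaf 15102049)) (.node (.leaf 17805673) (.leaf 17719365))) (.node (.node (.leaf 1225242) (.leaf 13672747)) (.node (.leaf 6935043) (.leaf 2261362)))))))) (.node (.node (.node (.node (.node (.node (.node (.node (.leaf 3842400) (.leaf 17510502)) (.leaf 10846299)) (.node (.leaf 1659440) (.leaf 7524483))) (.node (.node (.leaf 6283494) (.leaf 450572)) (.node (.leaf 14254189) (.leaf 8884344)))) (.node (.node (.node (.node (.leaf 303411) (.leaf 17912462)) (.leaf 9462299)) (.node (.leaf 14397848) (.leaf 13308566))) (.node (.node (.leaf 14639381) (.leaf 2068617)) (.node (.leaf 17343168) (.leaf 11166237))))) (.node (.node (.node (.node (.node (.leaf 6123616) (.leaf 2961921)) (.leaf 16273834)) (.node (.leaf 15622646) (.leaf 14701007))) (.node (.node (.leaf 1601736) (.leaf 15036640)) (.node (.leaf 2441424) (.leaf 3354875)))) (.node (.node (.node (.leaf 8909267) (.leaf 16077242)) (.node (.leaf 4518313) (.leaf 14336057))) (.node (.node (.leaf 2519739) (.leaf 1032581)) (.node (.leaf 2716289) (.leaf 10993796))))))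 (.node (.node (.node (.node (.node (.node (.leaf 3736096) (.leaf 17125778)) (.leaf 3411974)) (.node (.leaf 6677132) (.leaf 10707346))) (.node (.node (.leaf 791192) (.leaf 11424429)) (.node (.leaf 16290365) (.leaf 1196721)))) (.node (.node (.node (.node (.leaf 15000274) (.leaf 2064515)) (.leaf 6611182)) (.node (.leaf 9502762) (.leaf 12378354))) (.node (.node (.leaf 7016580) (.leaf 4854431)) (.node (.leaf 14463351) (.leaf 12083461))))) (.node (.node (.node (.node (.node (.leaf 3522799) (.leaf 16941782)) (.leaf 17076226)) (.node (.leaf 6500725) (.leaf 2273564))) (.node (.node (.leaf 13017485) (.leaf 13550002)) (.node (.leaf 13402767) (.leaf 2937307)))) (.node (.node (.node (.leaf 8994939) (.leaf 14549433)) (.node (.leaf 11182124) (.leaf 6299675))) (.node (.node (.leaf 7127503) (.leaf 16719979)) (.node (.leaf 12357817) (.leaf 8340042))))))) (.node (.node (.node (.node (.node (.node (.node (.leaf 9007616) (.leaf 5911076)) (.leaf 2106070)) (.node (.leaf 11280661) (.leaf 4801147))) (.node (.node (.leaf 15003781) (.leaf 13197657)) (.node (.leaf 11510010) (.leaf 7413790))))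 (.node (.node (.node (.node (.leaf 6799460) (.leaf 14418008)) (.leaf 7934009)) (.node (.leaf 17178634) (.leaf 15581307))) (.node (.node (.leaf 6529728) (.leaf 10289754)) (.node (.leaf 16609551) (.leaf 10867307))))) (.node (.node (.node (.node (.node (.leaf 1290850) (.leaf 13410717)) (.leaf 393840)) (.node (.leaf 17207908) (.leaf 10387591))) (.node (.node (.leaf 13804126) (.leaf 15524519)) (.node (.leaf 1957998) (.leaf 2675249)))) (.node (.node (.node (.leaf 16634023) (.leaf 16167616)) (.node (.leaf 8769593) (.leaf 16716023))) (.node (.node (.leaf 9970023) (.leaf 3264684)) (.node (.leaf 5349538) (.leaf 7139766)))))) (.node (.node (.node (.node (.node (.node (.leaf 3698829) (.leaf 4874312)) (.leaf 11653617)) (.node (.leaf 14119060) (.leaf 16502872))) (.node (.node (.leaf 13304350) (.leaf 18325521)) (.node (.leaf 13705537) (.leaf 14721305)))) (.node (.node (.node (.node (.leaf 6836667) (.leaf 9634137)) (.leaf 307926)) (.node (.leaf 5415152) (.leaf 7692764))) (.node (.node (.leaf 4231641) (.leaf 5538305)) (.node (.leaf 5042251) (.leaf 8835605))))) (.node (.node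 (.node (.node (.node (.leaf 18321861) (.leaf 14697089)) (.leaf 4104280)) (.node (.leaf 12132913) (.leaf 467173))) (.node (.node (.leaf 7192849) (.leaf 6164778)) (.node (.leaf 65755) (.leaf 6365250)))) (.node (.node (.node (.leaf 12853329) (.leaf 11727567)) (.node (.leaf 11677970) (.leaf 5132678))) (.node (.node (.leaf 13635809) (.leaf 807406)) (.node (.leaf 15437913) (.leaf 7741653)))))))))

def threeMv6086 : Janko.Tree (ℕ) :=
  (.node (.node (.node (.node (.node (.node (.node (.node (.node (.leaf 10383654) (.leaf 11952299)) (.leaf 16237211)) (.node (.leaf 3571925) (.leaf 5550356))) (.node (.node (.leaf 12026028) (.leaf 10306161)) (.node (.leaf 9843327) (.leaf 3936823)))) (.node (.node (.node (.node (.leaf 4706819) (.leaf 3953191)) (.leaf 10539551)) (.node (.leaf 8982979) (.leaf 4084406))) (.node (.node (.leaf 15577526) (.leaf 1769565)) (.node (.leaf 3773007) (.leaf 15335933))))) (.node (.node (.node (.node (.node (.leaf 8556697) (.leaf 18047008)) (.leaf 3793485)) (.node (.leaf 9478327) (.leaf 17478194))) (.node (.node (.leaf 7852313) (.leaf 1781787)) (.node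 (.leaf 17281664) (.leaf 8810756)))) (.node (.node (.node (.leaf 10023540) (.leaf 12087327)) (.node (.leaf 2003613) (.leaf 1765489))) (.node (.node (.leaf 15675452) (.leaf 10047969)) (.node (.leaf 14930107) (.leaf 12501212)))))) (.node (.node (.node (.node (.node (.node (.leaf 15073837) (.leaf 10601089)) (.leaf 9470001)) (.node (.leaf 3457429) (.leaf 13795828))) (.node (.node (.leaf 3973406) (.leaf 3686542)) (.node (.leaf 8733132) (.leaf 17555889)))) (.node (.node (.node (.node (.leaf 3408346) (.leaf 8794159)) (.leaf 12739260)) (.node (.leaf 204911) (.leaf 3207315))) (.node (.node (.leaf 13554327) (.leaf 1106153)) (.node (.leaf 8802951) (.leaf 3645980))))) (.node (.node (.node (.node (.node (.leaf 6492690) (.leaf 2884124)) (.leaf 9130629)) (.node (.leaf 16830716) (.leaf 12361734))) (.node (.node (.leaf 18182719) (.leaf 15651413)) (.node (.leaf 12878258) (.leaf 8839653)))) (.node (.node (.node (.leaf 2679056) (.leaf 9322918)) (.node (.leaf 3911784) (.leaf 4739710))) (.node (.node (.leaf 6266940) (.leaf 16523379)) (.node (.leaf 4215172) (.leaf 8405540))))))) (.node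 (.node (.node (.node (.node (.node (.node (.leaf 938646) (.leaf 7389819)) (.leaf 782860)) (.node (.leaf 16593362) (.leaf 4546991))) (.node (.node (.leaf 12177754) (.leaf 13750701)) (.node (.leaf 2503250) (.leaf 7479508)))) (.node (.node (.node (.node (.leaf 5439643) (.leaf 529027)) (.leaf 1703952)) (.node (.leaf 5452432) (.leaf 17539288))) (.node (.node (.leaf 950788) (.leaf 15061531)) (.node (.leaf 11706993) (.leaf 11124915))))) (.node (.node (.node (.node (.node (.leaf 1630511) (.leaf 11313204)) (.leaf 8602187)) (.node (.leaf 10670496) (.leaf 13263455))) (.node (.node (.leaf 11538516) (.leaf 13746578)) (.node (.leaf 6652295) (.leaf 13619483)))) (.node (.node (.node (.leaf 2031796) (.leaf 5341214)) (.node (.leaf 16416929) (.leaf 12272325))) (.node (.node (.leaf 1994836) (.leaf 2208194)) (.node (.leaf 7401695) (.leaf 13005303)))))) (.node (.node (.node (.node (.node (.node (.leaf 16932937) (.leaf 7438555)) (.leaf 15888565)) (.node (.leaf 5513221) (.leaf 10027622))) (.node (.node (.leaf 10084472) (.leaf 14770632)) (.node (.leaf 16896259) (.leaf 18239837)))) (.node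 (.node (.node (.node (.leaf 8757580) (.leaf 14168141)) (.leaf 14258565)) (.node (.leaf 13808260) (.leaf 7090663))) (.node (.node (.leaf 10829895) (.leaf 3334209)) (.node (.leaf 9085593) (.leaf 9990797))))) (.node (.node (.node (.node (.node (.leaf 7230073) (.leaf 13345340)) (.leaf 16597146)) (.node (.leaf 2785960) (.leaf 1270434))) (.node (.node (.leaf 11731158) (.leaf 13099308)) (.node (.leaf 14970916) (.leaf 6218101)))) (.node (.node (.node (.leaf 6246901) (.leaf 8614426)) (.node (.leaf 11002060) (.leaf 14573659))) (.node (.node (.leaf 6869281) (.leaf 8512160)) (.node (.leaf 11358836) (.leaf 856422)))))))) (.node (.node (.node (.node (.node (.node (.node (.node (.leaf 12648899) (.leaf 8327649)) (.leaf 10928457)) (.node (.leaf 18137227) (.leaf 12427424))) (.node (.node (.leaf 13799485) (.leaf 917847)) (.node (.leaf 6086995) (.leaf 16535653)))) (.node (.node (.node (.node (.leaf 6811828) (.leaf 11686555)) (.leaf 15221442)) (.node (.leaf 13455677) (.leaf 13722002))) (.node (.node (.leaf 12960132) (.leaf 201312)) (.node (.leaf 5026200) (.leaf 13361201))))) (.node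 (.node (.node (.node (.node (.leaf 2216286) (.leaf 18145502)) (.leaf 1061245)) (.node (.leaf 11489295) (.leaf 696719))) (.node (.node (.leaf 10228163) (.leaf 10616910)) (.node (.leaf 5464076) (.leaf 13930933)))) (.node (.node (.node (.leaf 15901208) (.leaf 18112696)) (.node (.leaf 16183379) (.leaf 676108))) (.node (.node (.leaf 16036360) (.leaf 12812841)) (.node (.leaf 6865402) (.leaf 17535543)))))) (.node (.node (.node (.node (.node (.node (.leaf 7623212) (.leaf 2670873)) (.leaf 2753055)) (.node (.leaf 9724276) (.leaf 5358203))) (.node (.node (.leaf 2253493) (.leaf 1409564)) (.node (.leaf 17736338) (.leaf 15397096)))) (.node (.node (.node (.node (.leaf 647579) (.leaf 18178591)) (.leaf 6390223)) (.node (.leaf 11870571) (.leaf 13030081))) (.node (.node (.leaf 6590572) (.leaf 13214185)) (.node (.leaf 15167945) (.leaf 17150315))))) (.node (.node (.node (.node (.node (.leaf 13615596) (.leaf 1544744)) (.leaf 12714522)) (.node (.leaf 6586805) (.leaf 17060211))) (.node (.node (.leaf 1696335) (.leaf 10313966)) (.node (.leaf 17518697) (.leaf 5562814)))) (.node (.node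 (.node (.leaf 17920015) (.leaf 12206248)) (.node (.leaf 1643209) (.leaf 4186442))) (.node (.node (.leaf 17404248) (.leaf 12702172)) (.node (.leaf 16372243) (.leaf 12832813))))))) (.node (.node (.node (.node (.node (.node (.node (.leaf 15290759) (.leaf 13603307)) (.leaf 12292623)) (.node (.leaf 1458864) (.leaf 16097463))) (.node (.node (.leaf 3895774) (.leaf 10211797)) (.node (.leaf 11132952) (.leaf 16892490)))) (.node (.node (.node (.node (.leaf 5009661) (.leaf 7844052)) (.leaf 10437033)) (.node (.leaf 11432360) (.leaf 168513))) (.node (.node (.leaf 1044708) (.leaf 12182157)) (.node (.leaf 15495302) (.leaf 16056446))))) (.node (.node (.node (.node (.node (.leaf 14528819) (.leaf 8749672)) (.leaf 10141824)) (.node (.leaf 11026441) (.leaf 10473682))) (.node (.node (.leaf 10117407) (.leaf 2015415)) (.node (.leaf 7946345) (.leaf 9249048)))) (.node (.node (.node (.leaf 14193018) (.leaf 4325714)) (.node (.leaf 3105103) (.leaf 9941161))) (.node (.node (.leaf 4710453) (.leaf 1626827)) (.node (.leaf 6082637) (.leaf 16818469)))))) (.node (.node (.node (.node (.node (.node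 (.leaf 7053662) (.leaf 508275)) (.leaf 14717395)) (.node (.leaf 12755240) (.leaf 5201993))) (.node (.node (.leaf 17412669) (.leaf 16425455)) (.node (.leaf 16670849) (.leaf 17215638)))) (.node (.node (.node (.node (.leaf 10989585) (.leaf 11637449)) (.leaf 5456402)) (.node (.leaf 14545077) (.leaf 12017963))) (.node (.node (.leaf 2490893) (.leaf 16888193)) (.node (.leaf 14676439) (.leaf 7057817))))) (.node (.node (.node (.node (.node (.leaf 7954983) (.leaf 5632506)) (.leaf 12747123)) (.node (.leaf 11223256) (.leaf 7962677))) (.node (.node (.leaf 11251731) (.leaf 10666615)) (.node (.leaf 17170632) (.leaf 2289919)))) (.node (.node (.node (.leaf 3055999) (.leaf 8376599)) (.node (.leaf 1069467) (.leaf 5296460))) (.node (.node (.leaf 3739877) (.leaf 774292)) (.node (.leaf 8421631) (.leaf 5534422)))))))))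

def threeMv6087 : Janko.Tree (ℕ) :=
  (.node (.node (.node (.node (.node (.node (.node (.node (.node (.leaf 4428312) (.leaf 7086492)) (.leaf 1147537)) (.node (.leaf 15692430) (.leaf 6546022))) (.node (.node (.leaf 11059264) (.leaf 17973507)) (.node (.leaf 2351153) (.leaf 13120114)))) (.node (.node (.node (.node (.leaf 9785565) (.leaf 7033417)) (.leaf 164415)) (.node (.leaf 6160782) (.leaf 7737990))) (.node (.node (.leaf 9105624) (.leaf 2142619)) (.node (.leaf 17100833) (.leaf 9224876))))) (.node (.node (.node (.node (.node (.leaf 13423135) (.leaf 17338805)) (.leaf 16089594)) (.node (.leaf 14016855) (.leaf 11259960))) (.node (.node (.leaf 3854812) (.leaf 12964316)) (.node (.leaf 8265781) (.leaf 11178626)))) (.node (.node (.node (.leaf 12157107) (.leaf 14381723)) (.node (.leaf 7065988) (.leaf 15196211))) (.node (.node (.leaf 5706362) (.leaf 12914741)) (.node (.leaf 14512379) (.leaf 11894815)))))) (.node (.node (.node (.node (.node (.node (.leaf 6938698) (.leaf 17777246)) (.leaf 6009277)) (.node (.leaf 2695870) (.leaf 2322601))) (.node (.node (.leaf 7889414) (.leaf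 8081680)) (.node (.leaf 5177454) (.leaf 17547517)))) (.node (.node (.node (.node (.leaf 18243659) (.leaf 8618028)) (.leaf 4136969)) (.node (.leaf 12836998) (.leaf 9494790))) (.node (.node (.leaf 18031010) (.leaf 766563)) (.node (.leaf 7164457) (.leaf 12804729))))) (.node (.node (.node (.node (.node (.leaf 229627) (.leaf 15114802)) (.leaf 9204055)) (.node (.leaf 13525308) (.leaf 14008998))) (.node (.node (.leaf 2314768) (.leaf 10002591)) (.node (.leaf 18001943) (.leaf 4669913)))) (.node (.node (.node (.leaf 8606200) (.leaf 12992553)) (.node (.leaf 9490826) (.leaf 10833994))) (.node (.node (.leaf 8024537) (.leaf 5693767)) (.node (.leaf 3178598) (.leaf 12665460))))))) (.node (.node (.node (.node (.node (.node (.node (.leaf 12611644) (.leaf 209259)) (.leaf 4210698)) (.node (.leaf 13173256) (.leaf 2089231))) (.node (.node (.leaf 15352214) (.leaf 12316917)) (.node (.leaf 17481879) (.leaf 7131231)))) (.node (.node (.node (.node (.leaf 16626010) (.leaf 7393910)) (.leaf 3174523)) (.node (.leaf 17236114) (.leaf 17953485))) (.node (.node (.leaf 17113799) (.leaf 15921602))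 (.node (.leaf 5182097) (.leaf 905766))))) (.node (.node (.node (.node (.node (.leaf 258723) (.leaf 7500416)) (.leaf 2830859)) (.node (.leaf 15401348) (.leaf 16441397))) (.node (.node (.leaf 7639589) (.leaf 17936708)) (.node (.leaf 15450344) (.leaf 4124696)))) (.node (.node (.node (.leaf 13476399) (.leaf 15044836)) (.node (.leaf 2036238) (.leaf 13701359))) (.node (.node (.leaf 14316143) (.leaf 12333232)) (.node (.leaf 340531) (.leaf 5874131)))))) (.node (.node (.node (.node (.node (.node (.leaf 1094360) (.leaf 9261377)) (.leaf 11915508)) (.node (.leaf 9466296) (.leaf 2437234))) (.node (.node (.leaf 3723972) (.leaf 5828744)) (.node (.leaf 4059671) (.leaf 7839853)))) (.node (.node (.node (.node (.leaf 8237706) (.leaf 12100112)) (.leaf 13640392)) (.node (.leaf 1744903) (.leaf 2023493))) (.node (.node (.leaf 7901606) (.leaf 7688805)) (.node (.leaf 49542) (.leaf 6930846))))) (.node (.node (.node (.node (.node (.leaf 13754592) (.leaf 10060170)) (.leaf 2318767)) (.node (.leaf 16195932) (.leaf 10338525))) (.node (.node (.leaf 9855589) (.leaf 6906381)) (.node (.leaf 3596968)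 (.leaf 1532479)))) (.node (.node (.node (.leaf 17248672) (.leaf 4055072)) (.node (.leaf 13562041) (.leaf 5173473))) (.node (.node (.leaf 16482876) (.leaf 17490219)) (.node (.leaf 2658547) (.leaf 12468564)))))))) (.node (.node (.node (.node (.node (.node (.node (.node (.leaf 15216686) (.leaf 17371848)) (.leaf 16712123)) (.node (.leaf 17445388) (.leaf 12955831))) (.node (.node (.leaf 3445369) (.leaf 5231288)) (.node (.leaf 3170827) (.leaf 283167)))) (.node (.node (.node (.node (.leaf 6394479) (.leaf 17842562)) (.leaf 13398144)) (.node (.leaf 6791488) (.leaf 1417363))) (.node (.node (.leaf 6631972) (.leaf 11186499)) (.node (.leaf 10510851) (.leaf 3981787))))) (.node (.node (.node (.node (.node (.leaf 15782027) (.leaf 17006628)) (.leaf 10686550)) (.node (.leaf 15147611) (.leaf 1651416))) (.node (.node (.leaf 369099) (.leaf 15253985)) (.node (.leaf 4772282) (.leaf 16691730)))) (.node (.node (.node (.leaf 16756797) (.leaf 15602021)) (.node (.leaf 17764867) (.leaf 12988811))) (.node (.node (.leaf 2310597) (.leaf 590418)) (.node (.leaf 18215457) (.leaf 18129475))))))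 (.node (.node (.node (.node (.node (.node (.leaf 991844) (.leaf 4702872)) (.leaf 17941173)) (.node (.leaf 7332245) (.leaf 16306584))) (.node (.node (.leaf 12067456) (.leaf 10604832)) (.node (.leaf 15389072) (.leaf 12234903)))) (.node (.node (.node (.node (.leaf 12923282) (.leaf 16364100)) (.leaf 13857439)) (.node (.leaf 5677549) (.leaf 1524070))) (.node (.node (.leaf 11317538) (.leaf 1474742)) (.node (.leaf 5956242) (.leaf 18223712))))) (.node (.node (.node (.node (.node (.leaf 16323186) (.leaf 18039053)) (.leaf 13415107)) (.node (.leaf 10318550) (.leaf 17330771))) (.node (.node (.leaf 9060373) (.leaf 8274110)) (.node (.leaf 16285853) (.leaf 17043651)))) (.node (.node (.node (.leaf 12706270) (.leaf 14799463)) (.node (.leaf 17310164) (.leaf 11899022))) (.node (.node (.leaf 11338110) (.leaf 3620892)) (.node (.leaf 11452488) (.leaf 2654650))))))) (.node (.node (.node (.node (.node (.node (.node (.leaf 8044797) (.leaf 6623441)) (.leaf 7778375)) (.node (.leaf 17731738) (.leaf 16458094))) (.node (.node (.leaf 1937519) (.leaf 2957984)) (.node (.leaf 5410900) (.leaf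 3015123)))) (.node (.node (.node (.node (.leaf 62121) (.leaf 16732886)) (.leaf 9662754)) (.node (.leaf 15757991) (.leaf 4034837))) (.node (.node (.leaf 4247720) (.leaf 12485241)) (.node (.leaf 3396290) (.leaf 2973988))))) (.node (.node (.node (.node (.node (.leaf 8286556) (.leaf 13918240)) (.leaf 5070953)) (.node (.leaf 4289189) (.leaf 17875003))) (.node (.node (.leaf 11083822) (.leaf 4014572)) (.node (.leaf 7041734) (.leaf 12423879)))) (.node (.node (.node (.leaf 13324319) (.leaf 2932971)) (.node (.leaf 12591204) (.leaf 16147052))) (.node (.node (.leaf 9335118) (.leaf 7975173)) (.node (.leaf 8417637) (.leaf 5419077)))))) (.node (.node (.node (.node (.node (.node (.leaf 11481764) (.leaf 16707951)) (.leaf 7995681)) (.node (.leaf 3584517) (.leaf 3252346))) (.node (.node (.leaf 9667055) (.leaf 10973782)) (.node (.leaf 11305488) (.leaf 14111385)))) (.node (.node (.node (.node (.leaf 4108805) (.leaf 16032472)) (.leaf 12742961)) (.node (.leaf 16126368) (.leaf 9425137))) (.node (.node (.leaf 9376231) (.leaf 7118878)) (.node (.leaf 4022633) (.leaf 7872567))))) (.node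 (.node (.node (.node (.node (.leaf 10773064) (.leaf 12222805)) (.leaf 1847422)) (.node (.leaf 10695100) (.leaf 5869769))) (.node (.node (.leaf 17879433) (.leaf 389615)) (.node (.leaf 7217661) (.leaf 704946)))) (.node (.node (.node (.leaf 10592843) (.leaf 7651996)) (.node (.leaf 15466768) (.leaf 434539))) (.node (.node (.leaf 7160113) (.leaf 17395841)) (.node (.leaf 9789491) (.leaf 8782118)))))))))

def threeMv6088 : Janko.Tree (ℕ) :=
  (.node (.node (.node (.node (.node (.node (.node (.node (.node (.leaf 6783457) (.leaf 2240628)) (.leaf 5849487)) (.node (.leaf 9757269) (.leaf 5391005))) (.node (.node (.leaf 3121327) (.leaf 12238968)) (.node (.leaf 7012933) (.leaf 5591194)))) (.node (.node (.node (.node (.leaf 8258) (.leaf 13824240)) (.leaf 9720501)) (.node (.leaf 4386848) (.leaf 11718822))) (.node (.node (.leaf 13709446) (.leaf 6746742)) (.node (.leaf 11747408) (.leaf 18067978))))) (.node (.node (.node (.node (.node (.leaf 9486505) (.leaf 9240883)) (.leaf 6078996)) (.node (.leaf 10207948) (.leaf 13140154))) (.node (.node (.leaf 7557591) (.leaf 11473478)) (.node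 (.leaf 6971806) (.leaf 13132010)))) (.node (.node (.node (.leaf 3035213) (.leaf 3834384)) (.node (.leaf 635377) (.leaf 10981610))) (.node (.node (.leaf 3703305) (.leaf 15998998)) (.node (.leaf 10527367) (.leaf 14454959)))))) (.node (.node (.node (.node (.node (.node (.leaf 13828288) (.leaf 1364565)) (.leaf 5300659)) (.node (.leaf 90336) (.leaf 12783888))) (.node (.node (.leaf 3338597) (.leaf 13713452)) (.node (.leaf 9138832) (.leaf 11403766)))) (.node (.node (.node (.node (.leaf 10658191) (.leaf 3301613)) (.leaf 18006227)) (.node (.leaf 13971752) (.leaf 14516654))) (.node (.node (.leaf 9093302) (.leaf 6758582)) (.node (.leaf 2081482) (.leaf 15979209))))) (.node (.node (.node (.node (.node (.leaf 7152188) (.leaf 4313749)) (.leaf 7278919)) (.node (.leaf 6733847) (.leaf 7631034))) (.node (.node (.leaf 12869718) (.leaf 5554669)) (.node (.leaf 14934468) (.leaf 11878813)))) (.node (.node (.node (.leaf 3027302) (.leaf 11600315)) (.node (.leaf 6349516) (.leaf 12161082))) (.node (.node (.leaf 3486424) (.leaf 4534495)) (.node (.leaf 15548779) (.leaf 8028341))))))) (.node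 (.node (.node (.node (.node (.node (.node (.leaf 4616733) (.leaf 8102119)) (.leaf 4121029)) (.node (.leaf 7881265) (.leaf 8426027))) (.node (.node (.leaf 5488732) (.leaf 615054)) (.node (.leaf 1003966) (.leaf 8360014)))) (.node (.node (.node (.node (.leaf 7238080) (.leaf 16961884)) (.leaf 13869741)) (.node (.leaf 3138059) (.leaf 2916998))) (.node (.node (.leaf 14987472) (.leaf 6885865)) (.node (.leaf 6914471) (.leaf 573718))))) (.node (.node (.node (.node (.node (.leaf 688786) (.leaf 10584092)) (.leaf 2798261)) (.node (.leaf 4882529) (.leaf 8098083))) (.node (.node (.leaf 8258015) (.leaf 1086154)) (.node (.leaf 13221991) (.leaf 15270179)))) (.node (.node (.node (.leaf 1372325) (.leaf 7795047)) (.node (.leaf 15823121) (.leaf 17601022))) (.node (.node (.leaf 7884829) (.leaf 10481875)) (.node (.leaf 8581257) (.leaf 10416322)))))) (.node (.node (.node (.node (.node (.node (.leaf 5571286) (.leaf 7786634)) (.leaf 8814817)) (.node (.leaf 7483935) (.leaf 8016056))) (.node (.node (.leaf 10805446) (.leaf 1114270)) (.node (.leaf 11231265) (.leaf 16327302)))) (.node (.node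 (.node (.node (.leaf 2211910) (.leaf 11805219)) (.leaf 11624676)) (.node (.leaf 17596697) (.leaf 6533723))) (.node (.node (.leaf 14807354) (.leaf 9392855)) (.node (.leaf 2236501) (.leaf 16155284))))) (.node (.node (.node (.node (.node (.leaf 18120990) (.leaf 17305962)) (.leaf 12354106)) (.node (.leaf 2277502) (.leaf 6459584))) (.node (.node (.leaf 14278997) (.leaf 2531922)) (.node (.leaf 524553) (.leaf 3059989)))) (.node (.node (.node (.leaf 1159614) (.leaf 1798201)) (.node (.leaf 3535553) (.leaf 2445633))) (.node (.node (.leaf 2298134) (.leaf 6296071)) (.node (.leaf 17387571) (.leaf 15671619)))))))) (.node (.node (.node (.node (.node (.node (.node (.node (.leaf 2249080) (.leaf 6467588)) (.leaf 8012051)) (.node (.leaf 4293206) (.leaf 14164525))) (.node (.node (.leaf 15364451) (.leaf 8184009)) (.node (.leaf 8352118) (.leaf 2703545)))) (.node (.node (.node (.node (.leaf 8090319) (.leaf 17887709)) (.leaf 836040)) (.node (.leaf 2843332) (.leaf 10088729))) (.node (.node (.leaf 7340109) (.leaf 11284629)) (.node (.leaf 1065402) (.leaf 860216))))) (.node (.node (.node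 (.node (.node (.leaf 11514030) (.leaf 18186698)) (.leaf 12329119)) (.node (.leaf 4817417) (.leaf 770436))) (.node (.node (.leaf 2720146) (.leaf 1134848)) (.node (.leaf 7553087) (.leaf 2777286)))) (.node (.node (.node (.leaf 8929567) (.leaf 3330741)) (.node (.leaf 13025429) (.leaf 18010764))) (.node (.node (.leaf 8123068) (.leaf 2707771)) (.node (.leaf 12243161) (.leaf 3244294)))))) (.node (.node (.node (.node (.node (.node (.leaf 12517538) (.leaf 9109880)) (.leaf 11321936)) (.node (.leaf 3768568) (.leaf 13811929))) (.node (.node (.leaf 15892686) (.leaf 1098440)) (.node (.leaf 6848994) (.leaf 18305463)))) (.node (.node (.node (.node (.leaf 17244205) (.leaf 4973022)) (.leaf 15089744)) (.node (.leaf 9670865) (.leaf 6594968))) (.node (.node (.leaf 12194060) (.leaf 4722747)) (.node (.leaf 7541444) (.leaf 536613))))) (.node (.node (.node (.node (.node (.leaf 884961) (.leaf 11497665)) (.leaf 11547010)) (.node (.leaf 11936120) (.leaf 17756431))) (.node (.node (.leaf 4829599) (.leaf 7598339)) (.node (.leaf 5443896) (.leaf 659813)))) (.node (.node (.node (.leaf 8049253)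 (.leaf 14684359)) (.node (.leaf 14962870) (.leaf 4460975))) (.node (.node (.leaf 5206382) (.leaf 15569559)) (.node (.leaf 4936233) (.leaf 4473237))))))) (.node (.node (.node (.node (.node (.node (.node (.leaf 9879744) (.leaf 12546776)) (.leaf 4636946)) (.node (.leaf 5841546) (.leaf 8311021))) (.node (.node (.leaf 12571229) (.leaf 1192419)) (.node (.leaf 6521014) (.leaf 2732208)))) (.node (.node (.node (.node (.leaf 4276320) (.leaf 10674860)) (.leaf 2929227)) (.node (.leaf 1155625) (.leaf 10780969))) (.node (.node (.leaf 4448630) (.leaf 455025)) (.node (.leaf 4735036) (.leaf 4149328))))) (.node (.node (.node (.node (.node (.leaf 3616993) (.leaf 4538699)) (.leaf 18072249)) (.node (.leaf 880673) (.leaf 15417461))) (.node (.node (.leaf 16613993) (.leaf 17588823)) (.node (.leaf 955014) (.leaf 11559280)))) (.node (.node (.node (.leaf 6345421) (.leaf 16589221)) (.node (.leaf 11464825) (.leaf 9188000))) (.node (.node (.leaf 4169822) (.leaf 6471745)) (.node (.leaf 18276655) (.leaf 13279829)))))) (.node (.node (.node (.node (.node (.node (.leaf 4444876) (.leaf 9904173))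 (.leaf 7586429)) (.node (.leaf 13488793) (.leaf 6566190))) (.node (.node (.leaf 13373647) (.leaf 4051632)) (.node (.leaf 17769060) (.leaf 17354789)))) (.node (.node (.node (.node (.leaf 16400609) (.leaf 8741548)) (.leaf 1815104)) (.node (.leaf 7070067) (.leaf 10862737))) (.node (.node (.leaf 995671) (.leaf 17146571)) (.node (.leaf 1122729) (.leaf 3863028))))) (.node (.node (.node (.node (.node (.leaf 15094040) (.leaf 17711616)) (.leaf 15647145)) (.node (.leaf 12169889) (.leaf 7782429))) (.node (.node (.leaf 1790070) (.leaf 11502234)) (.node (.leaf 6438948) (.leaf 11591931)))) (.node (.node (.node (.leaf 2461999) (.leaf 3502127)) (.node (.leaf 14537110) (.leaf 13333037))) (.node (.node (.leaf 8819018) (.leaf 9736514)) (.node (.leaf 3166360) (.leaf 3011101)))))))))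

def threeMv6089 : Janko.Tree (ℕ) :=
  (.node (.node (.node (.node (.node (.node (.node (.node (.node (.leaf 15983039) (.leaf 11580116)) (.leaf 9396643)) (.node (.leaf 14197208) (.leaf 2232680))) (.node (.node (.leaf 2576841) (.leaf 15974890)) (.node (.leaf 3449399) (.leaf 13430866)))) (.node (.node (.node (.node (.leaf 4628520) (.leaf 11858594)) (.leaf 14217843)) (.node (.leaf 12419721) (.leaf 13914367))) (.node (.node (.leaf 7307756) (.leaf 11571742)) (.node (.leaf 12263523) (.leaf 12251634))))) (.node (.node (.node (.node (.node (.leaf 4665867) (.leaf 13464259)) (.leaf 11391625)) (.node (.leaf 15474973) (.leaf 18329764))) (.node (.node (.leaf 749725) (.leaf 5615639)) (.node (.leaf 14794981) (.leaf 5218386)))) (.node (.node (.node (.leaf 14598344) (.leaf 17429105)) (.node (.leaf 5804067) (.leaf 11215538))) (.node (.node (.leaf 14029302) (.leaf 6820063)) (.node (.leaf 737948) (.leaf 8036794)))))) (.node (.node (.node (.node (.node (.node (.leaf 15843385) (.leaf 17199605)) (.leaf 12218496)) (.node (.leaf 15347992) (.leaf 11518643))) (.node (.node (.leaf 6955240)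 (.leaf 17334789)) (.node (.leaf 1167916) (.leaf 15413278)))) (.node (.node (.node (.node (.leaf 13938909) (.leaf 5583089)) (.leaf 9949909)) (.node (.leaf 13730431) (.leaf 6152757))) (.node (.node (.leaf 6148230) (.leaf 18264390)) (.node (.leaf 1954232) (.leaf 17129620))))) (.node (.node (.node (.node (.node (.leaf 823521) (.leaf 9449530)) (.leaf 18272935)) (.node (.leaf 4559122) (.leaf 16171266))) (.node (.node (.leaf 7987381) (.leaf 5787890)) (.node (.leaf 893048) (.leaf 1118776)))) (.node (.node (.node (.leaf 8319422) (.leaf 10523208)) (.node (.leaf 9421192) (.leaf 7172756))) (.node (.node (.leaf 5165416) (.leaf 3224148)) (.node (.leaf 16474768) (.leaf 14766485))))))) (.node (.node (.node (.node (.node (.node (.node (.leaf 8663148) (.leaf 5861464)) (.leaf 7549126)) (.node (.leaf 17068695) (.leaf 2892323))) (.node (.node (.leaf 2343104) (.leaf 17858633)) (.node (.leaf 17088774) (.leaf 15233456)))) (.node (.node (.node (.node (.leaf 9892386) (.leaf 2265515)) (.leaf 5017615)) (.node (.leaf 7155740) (.leaf 14758106))) (.node (.node (.leaf 12096105) (.leaf 6156950))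 (.node (.leaf 5914683) (.leaf 15286371))))) (.node (.node (.node (.node (.node (.leaf 11211202) (.leaf 12120587)) (.leaf 13959654)) (.node (.leaf 7754270) (.leaf 16982245))) (.node (.node (.leaf 3248336) (.leaf 14848484)) (.node (.leaf 10891903) (.leaf 8335941)))) (.node (.node (.node (.leaf 14917968) (.leaf 15430138)) (.node (.leaf 13791572) (.leaf 17092785))) (.node (.node (.leaf 6303863) (.leaf 12259351)) (.node (.leaf 3269125) (.leaf 16797953)))))) (.node (.node (.node (.node (.node (.node (.leaf 17379337) (.leaf 8225291)) (.leaf 12558810)) (.node (.leaf 9282085) (.leaf 10469884))) (.node (.node (.leaf 17641674) (.leaf 135759)) (.node (.leaf 6119847) (.leaf 18268873)))) (.node (.node (.node (.node (.leaf 17096977) (.leaf 4727459)) (.leaf 18338477)) (.node (.leaf 16379920) (.leaf 8683722))) (.node (.node (.leaf 4354307) (.leaf 2846763)) (.node (.leaf 8950082) (.leaf 13787436))))) (.node (.node (.node (.node (.node (.leaf 3986109) (.leaf 2138389)) (.leaf 13541567)) (.node (.leaf 13292195) (.leaf 9572558))) (.node (.node (.leaf 6062600) (.leaf 9535897)) (.node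 (.leaf 3784795) (.leaf 14078278)))) (.node (.node (.node (.leaf 11354642) (.leaf 16188113)) (.node (.leaf 15995189) (.leaf 12529755))) (.node (.node (.leaf 16248836) (.leaf 10633842)) (.node (.leaf 13529655) (.leaf 6197836)))))))) (.node (.node (.node (.node (.node (.node (.node (.node (.leaf 16556174) (.leaf 13034112)) (.leaf 14733621)) (.node (.leaf 17928192) (.leaf 16240705))) (.node (.node (.leaf 16343268) (.leaf 10588514)) (.node (.leaf 17440987) (.leaf 1897057)))) (.node (.node (.node (.node (.leaf 4894805) (.leaf 4407544)) (.leaf 2130511)) (.node (.leaf 8483322) (.leaf 13734554))) (.node (.node (.leaf 1692034) (.leaf 1302534)) (.node (.leaf 2044296) (.leaf 11808813))))) (.node (.node (.node (.node (.node (.leaf 2359465) (.leaf 7827494)) (.leaf 1053186)) (.node (.leaf 10858645) (.leaf 10564032))) (.node (.node (.leaf 2548339) (.leaf 2597040)) (.node (.leaf 10215561) (.leaf 3813462)))) (.node (.node (.node (.leaf 14578154) (.leaf 15372891)) (.node (.leaf 9027915) (.leaf 3043557))) (.node (.node (.leaf 16437841) (.leaf 4837901)) (.node (.leaf 17891707) (.leaf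 8634760)))))) (.node (.node (.node (.node (.node (.node (.leaf 7357109) (.leaf 9777177)) (.leaf 1638401)) (.node (.leaf 9605733) (.leaf 17064215))) (.node (.node (.leaf 18174203) (.leaf 106732)) (.node (.leaf 6902011) (.leaf 13947267)))) (.node (.node (.node (.node (.leaf 365265) (.leaf 5427492)) (.leaf 16175749)) (.node (.leaf 7491848) (.leaf 2552096))) (.node (.node (.leaf 14652061) (.leaf 7893035)) (.node (.leaf 12792523) (.leaf 13742160))))) (.node (.node (.node (.node (.node (.leaf 9003048) (.leaf 4431969)) (.leaf 5837359)) (.node (.leaf 3650048) (.leaf 15471156))) (.node (.node (.leaf 14868679) (.leaf 18235577)) (.node (.leaf 10629561) (.leaf 5279762)))) (.node (.node (.node (.leaf 12874127) (.leaf 11583989)) (.node (.leaf 234088) (.leaf 6549803))) (.node (.node (.leaf 9793540) (.leaf 10130057)) (.node (.leaf 15266186) (.leaf 1019909))))))) (.node (.node (.node (.node (.node (.node (.node (.leaf 13910724) (.leaf 5673043)) (.leaf 5317164)) (.node (.leaf 17543534) (.leaf 11710626))) (.node (.node (.leaf 520460) (.leaf 13513125)) (.node (.leaf 328065) (.leaf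 16191764)))) (.node (.node (.node (.node (.leaf 1859732) (.leaf 7282970)) (.leaf 15515669)) (.node (.leaf 274476) (.leaf 9900701))) (.node (.node (.leaf 17727538) (.leaf 4227306)) (.node (.leaf 6406275) (.leaf 15962129))))) (.node (.node (.node (.node (.node (.leaf 16675401) (.leaf 2199799)) (.leaf 12595786)) (.node (.leaf 12345987) (.leaf 16085087))) (.node (.node (.leaf 2367693) (.leaf 11244181)) (.node (.leaf 10035828) (.leaf 6415032)))) (.node (.node (.node (.leaf 11256434) (.leaf 6279522)) (.node (.leaf 3019412) (.leaf 14643350))) (.node (.node (.leaf 1294742) (.leaf 10801239)) (.node (.leaf 471168) (.leaf 13296030)))))) (.node (.node (.node (.node (.node (.node (.leaf 5623951) (.leaf 14484020)) (.leaf 16552457)) (.node (.leaf 10195378) (.leaf 3715237))) (.node (.node (.leaf 1786194) (.leaf 2748457)) (.node (.leaf 12034299) (.leaf 913864)))) (.node (.node (.node (.node (.leaf 5743049) (.leaf 6455995)) (.leaf 4370877)) (.node (.leaf 10187377) (.leaf 569624))) (.node (.node (.leaf 3887379) (.leaf 12796128)) (.node (.leaf 3441068) (.leaf 10559950))))) (.node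 (.node (.node (.node (.node (.leaf 16921042) (.leaf 5710470)) (.leaf 7721299)) (.node (.leaf 430367) (.leaf 10105147))) (.node (.node (.leaf 8053001) (.leaf 6488656)) (.node (.leaf 17571925) (.leaf 5063313)))) (.node (.node (.node (.leaf 1503893) (.leaf 18096543)) (.node (.leaf 3658203) (.leaf 13631540))) (.node (.node (.leaf 6873412) (.leaf 12644879)) (.node (.leaf 4731556) (.leaf 9192051)))))))))

def threeMv60810 : Janko.Tree (ℕ) :=
  (.node (.node (.node (.node (.node (.node (.node (.node (.node (.leaf 10486451) (.leaf 8163449)) (.leaf 10625619)) (.node (.leaf 5845549) (.leaf 17657864))) (.node (.node (.leaf 4419708) (.leaf 1126542)) (.node (.leaf 3461285) (.leaf 6824317)))) (.node (.node (.node (.node (.leaf 17961101) (.leaf 7929887)) (.leaf 1851887)) (.node (.leaf 5145157) (.leaf 3998255))) (.node (.node (.leaf 7471680) (.leaf 10019492)) (.node (.leaf 6672812) (.leaf 1761399))))) (.node (.node (.node (.node (.node (.leaf 9973880) (.leaf 147793)) (.leaf 1942050)) (.node (.leaf 13566435) (.leaf 9810525))) (.node (.node (.leaf 17002620) (.leaf 5960213)) (.node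 (.leaf 381592) (.leaf 6578835)))) (.node (.node (.node (.leaf 3924281) (.leaf 11612853)) (.node (.leaf 12730916) (.leaf 3625024))) (.node (.node (.leaf 15966381) (.leaf 9642666)) (.node (.leaf 17301566) (.leaf 16151041)))))) (.node (.node (.node (.node (.node (.node (.leaf 11108651) (.leaf 4063325)) (.leaf 14459022)) (.node (.leaf 3707030) (.leaf 7700592))) (.node (.node (.leaf 7766499) (.leaf 2097577)) (.node (.leaf 10154325) (.leaf 1466386)))) (.node (.node (.node (.node (.leaf 5104031) (.leaf 3490002)) (.leaf 4502198)) (.node (.leaf 6311982) (.leaf 7209336))) (.node (.node (.leaf 7868982) (.leaf 1184469)) (.node (.leaf 9011219) (.leaf 713269))))) (.node (.node (.node (.node (.node (.leaf 1839121) (.leaf 7180957)) (.leaf 2728628)) (.node (.leaf 15589555) (.leaf 7168634))) (.node (.node (.leaf 6726279) (.leaf 16113851)) (.node (.leaf 4198527) (.leaf 1016517)))) (.node (.node (.node (.leaf 3633301) (.leaf 12202197)) (.node (.leaf 14357170) (.leaf 16924805))) (.node (.node (.leaf 14664065) (.leaf 8962608)) (.node (.leaf 10257004) (.leaf 9097273))))))) (.node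 (.node (.node (.node (.node (.node (.node (.leaf 7409973) (.leaf 11428142)) (.leaf 12198249)) (.node (.leaf 2589384) (.leaf 799424))) (.node (.node (.leaf 14913970) (.leaf 4792634)) (.node (.leaf 3797489) (.leaf 15499418)))) (.node (.node (.node (.node (.leaf 12231317) (.leaf 15261798)) (.leaf 15770168)) (.node (.leaf 6627686) (.leaf 9847483))) (.node (.node (.leaf 14745750) (.leaf 4002220)) (.node (.leaf 4088517) (.leaf 4600451))))) (.node (.node (.node (.node (.node (.leaf 10703253) (.leaf 6017441)) (.leaf 17023097)) (.node (.leaf 725476) (.leaf 4092016))) (.node (.node (.leaf 12542269) (.leaf 14672456)) (.node (.leaf 5227022) (.leaf 8094123)))) (.node (.node (.node (.leaf 152143) (.leaf 1036472)) (.node (.leaf 16298458) (.leaf 14958839))) (.node (.node (.leaf 1908756) (.leaf 2408679)) (.node (.leaf 6640272) (.leaf 10752233)))))) (.node (.node (.node (.node (.node (.node (.leaf 14389805) (.leaf 6898213)) (.leaf 8823383)) (.node (.leaf 11174237) (.leaf 10552008))) (.node (.node (.leaf 9417096) (.leaf 2285609)) (.node (.leaf 17105472) (.leaf 6307944)))) (.node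 (.node (.node (.node (.leaf 6033896) (.leaf 2904138)) (.leaf 2629890)) (.node (.leaf 3215967) (.leaf 57753))) (.node (.node (.leaf 315996) (.leaf 8221329)) (.node (.leaf 922249) (.leaf 12055013))))) (.node (.node (.node (.node (.node (.leaf 16388349) (.leaf 6238858)) (.leaf 16740410)) (.node (.leaf 4575433) (.leaf 4329814))) (.node (.node (.leaf 2364105) (.leaf 9265347)) (.node (.leaf 6619706) (.leaf 4620886)))) (.node (.node (.node (.leaf 9195923) (.leaf 14237902)) (.node (.leaf 3309862) (.leaf 14590645))) (.node (.node (.leaf 11960849) (.leaf 18157667)) (.node (.leaf 17850811) (.leaf 13570430)))))))) (.node (.node (.node (.node (.node (.node (.node (.node (.leaf 12901) (.leaf 13955323)) (.leaf 16339663)) (.node (.leaf 17252435) (.leaf 15643037))) (.node (.node (.leaf 13898035) (.leaf 14275248)) (.node (.leaf 15249477) (.leaf 15609881)))) (.node (.node (.node (.node (.leaf 18027162) (.leaf 13627901)) (.leaf 6324416)) (.node (.leaf 10776663) (.leaf 18108701))) (.node (.node (.leaf 11080279) (.leaf 553100)) (.node (.leaf 13299781) (.leaf 1946061))))) (.node (.node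 (.node (.node (.node (.leaf 13996500) (.leaf 5521574)) (.leaf 14782468)) (.node (.leaf 8372484) (.leaf 5718202))) (.node (.node (.leaf 10543493) (.leaf 12693522)) (.node (.leaf 5902385) (.leaf 13316799)))) (.node (.node (.node (.leaf 8938158) (.leaf 45163)) (.node (.leaf 18088089) (.leaf 15204718))) (.node (.node (.leaf 11985476) (.leaf 10170865)) (.node (.leaf 5050950) (.leaf 6263114)))))) (.node (.node (.node (.node (.node (.node (.leaf 7950515) (.leaf 2121892)) (.leaf 14983849)) (.node (.leaf 3084995) (.leaf 398000))) (.node (.node (.leaf 5460620) (.leaf 5079188)) (.node (.leaf 12857613) (.leaf 6054428)))) (.node (.node (.node (.node (.leaf 18231470) (.leaf 1581390)) (.leaf 15491325)) (.node (.leaf 8278136) (.leaf 17506312))) (.node (.node (.leaf 11039271) (.leaf 17989818)) (.node (.leaf 6382215) (.leaf 16019846))))) (.node (.node (.node (.node (.node (.leaf 7258505) (.leaf 2326947)) (.leaf 8433948)) (.node (.leaf 10367508) (.leaf 6570397))) (.node (.node (.leaf 11309618) (.leaf 3097049)) (.node (.leaf 13504591) (.leaf 5140900)))) (.node (.node (.node (.leaf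 6664405) (.leaf 10531117)) (.node (.leaf 18125503) (.leaf 6050029))) (.node (.node (.leaf 3637811) (.leaf 14213339)) (.node (.leaf 4993374) (.leaf 6762817))))))) (.node (.node (.node (.node (.node (.node (.node (.leaf 4026598) (.leaf 1454628)) (.leaf 14524554)) (.node (.leaf 18301510) (.leaf 5124668))) (.node (.node (.leaf 8229582) (.leaf 17191603)) (.node (.leaf 4256078) (.leaf 4346276)))) (.node (.node (.node (.node (.leaf 2941245) (.leaf 12059266)) (.leaf 14172459)) (.node (.leaf 9740322) (.leaf 13160601))) (.node (.node (.leaf 5517580) (.leaf 11772194)) (.node (.leaf 6525645) (.leaf 2822330))))) (.node (.node (.node (.node (.node (.leaf 17432935) (.leaf 16159364)) (.leaf 11989116)) (.node (.leaf 9183313) (.leaf 14569820))) (.node (.node (.leaf 16814664) (.leaf 18280609)) (.node (.leaf 8892539) (.leaf 12447971)))) (.node (.node (.node (.leaf 15708566) (.leaf 987358)) (.node (.leaf 13873743) (.leaf 8413651))) (.node (.node (.leaf 15356086) (.leaf 6361335)) (.node (.leaf 17649812) (.leaf 9429391)))))) (.node (.node (.node (.node (.node (.node (.leaf 10879411)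 (.leaf 16601569)) (.leaf 18260357)) (.node (.leaf 17051874) (.leaf 4100411))) (.node (.node (.leaf 17121717) (.leaf 14025393)) (.node (.leaf 9298015) (.leaf 13185685)))) (.node (.node (.node (.node (.leaf 15446358) (.leaf 2421384)) (.leaf 17564173)) (.node (.leaf 17653959) (.leaf 17797191))) (.node (.node (.leaf 13963447) (.leaf 15184263)) (.node (.leaf 10375256) (.leaf 7790627))))) (.node (.node (.node (.node (.node (.leaf 10874965) (.leaf 2126392)) (.leaf 13988159)) (.node (.leaf 3940637) (.leaf 8643059))) (.node (.node (.leaf 9539695) (.leaf 9966097)) (.node (.leaf 16568421) (.leaf 6480221)))) (.node (.node (.node (.leaf 14000844) (.leaf 10440963)) (.node (.leaf 15942092) (.leaf 4543058))) (.node (.node (.leaf 10334450) (.leaf 4161936)) (.node (.leaf 7348381) (.leaf 16646498)))))))))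

def threeMv60811 : Janko.Tree (ℕ) :=
  (.node (.node (.node (.node (.node (.node (.node (.node (.node (.leaf 1507820) (.leaf 8552696)) (.leaf 4624736)) (.node (.leaf 2306508) (.leaf 3776841))) (.node (.node (.leaf 14143798) (.leaf 1966233)) (.node (.leaf 13336626) (.leaf 5795958)))) (.node (.node (.node (.node (.leaf 17498364) (.leaf 11367116)) (.leaf 3866756)) (.node (.leaf 12661123) (.leaf 16908937))) (.node (.node (.leaf 3543563) (.leaf 2859650)) (.node (.leaf 7385190) (.leaf 2257130))))) (.node (.node (.node (.node (.node (.leaf 5587427) (.leaf 9577136)) (.leaf 13521325)) (.node (.leaf 5276036) (.leaf 598234))) (.node (.node (.leaf 1327373) (.leaf 3281308)) (.node (.leaf 4796694) (.leaf 15479242)))) (.node (.node (.node (.leaf 4424242) (.leaf 17137824)) (.node (.leaf 5378762) (.leaf 9765390))) (.node (.node (.leaf 11198958) (.leaf 8385173)) (.node (.leaf 15032762) (.leaf 11063307)))))) (.node (.node (.node (.node (.node (.node (.leaf 2109887) (.leaf 1515720)) (.leaf 9957394)) (.node (.leaf 5480489) (.leaf 13984407))) (.node (.node (.leaf 10502464) (.leaf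 3318146)) (.node (.leaf 13385755) (.leaf 6201722)))) (.node (.node (.node (.node (.leaf 5857853) (.leaf 13381704)) (.leaf 1257559)) (.node (.leaf 14295688) (.leaf 4374915))) (.node (.node (.leaf 9400826) (.leaf 12288144)) (.node (.leaf 14013082) (.leaf 8000075))))) (.node (.node (.node (.node (.node (.leaf 1315537) (.leaf 15876739)) (.leaf 1511773)) (.node (.leaf 4133195) (.leaf 1949736))) (.node (.node (.leaf 2585036) (.leaf 10453122)) (.node (.leaf 8790278) (.leaf 6709760)))) (.node (.node (.node (.leaf 13598730) (.leaf 7680424)) (.node (.leaf 12726286) (.leaf 11956921))) (.node (.node (.leaf 8020352) (.leaf 7877277)) (.node (.leaf 7450709) (.leaf 16990468))))))) (.node (.node (.node (.node (.node (.node (.node (.leaf 176530) (.leaf 11145633)) (.leaf 16572645)) (.node (.leaf 16839029) (.leaf 7036970))) (.node (.node (.leaf 5333683) (.leaf 14324235)) (.node (.leaf 1827155) (.leaf 8409769)))) (.node (.node (.node (.node (.leaf 13656153) (.leaf 10031537)) (.leaf 9613363)) (.node (.leaf 12341360) (.leaf 14160005))) (.node (.node (.leaf 14553345) (.leaf 8729058))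 (.node (.leaf 17826413) (.leaf 6693065))))) (.node (.node (.node (.node (.node (.leaf 11412079) (.leaf 15237530)) (.leaf 8147512)) (.node (.leaf 12128331) (.leaf 10789561))) (.node (.node (.leaf 1646793) (.leaf 8630287)) (.node (.leaf 6042214) (.leaf 12935242)))) (.node (.node (.node (.leaf 1749313) (.leaf 7663858)) (.node (.leaf 8544813) (.leaf 14139647))) (.node (.node (.leaf 5747064) (.leaf 11096665)) (.node (.leaf 2642155) (.leaf 15720840)))))) (.node (.node (.node (.node (.node (.node (.leaf 13844515) (.leaf 7455029)) (.leaf 18297454)) (.node (.leaf 1728559) (.leaf 3240435))) (.node (.node (.leaf 5906696) (.leaf 6287854)) (.node (.leaf 6730381) (.leaf 1000147)))) (.node (.node (.node (.node (.leaf 14377636) (.leaf 7926178)) (.leaf 3162337)) (.node (.leaf 17612844) (.leaf 2982022))) (.node (.node (.leaf 14471851) (.leaf 17904156)) (.node (.leaf 10379570) (.leaf 3662007))))) (.node (.node (.node (.node (.node (.leaf 12939775) (.leaf 2609652)) (.leaf 5808309)) (.node (.leaf 3141846) (.leaf 1528115))) (.node (.node (.leaf 17166726) (.leaf 4960430)) (.node (.leaf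 12415168) (.leaf 16851324)))) (.node (.node (.node (.leaf 10080871) (.leaf 2638221)) (.node (.leaf 7475211) (.leaf 14508367))) (.node (.node (.leaf 335923) (.leaf 3547726)) (.node (.leaf 16748933) (.leaf 10957235)))))))) (.node (.node (.node (.node (.node (.node (.node (.node (.leaf 2736444) (.leaf 14115067)) (.leaf 131533)) (.node (.leaf 12800014) (.leaf 1245564))) (.node (.node (.leaf 196991) (.leaf 1478930)) (.node (.leaf 5394710) (.leaf 14049816)))) (.node (.node (.node (.node (.leaf 9560353) (.leaf 9285903)) (.leaf 13758692)) (.node (.leaf 9016001) (.leaf 16232540))) (.node (.node (.leaf 12771672) (.leaf 11485303)) (.node (.leaf 15733293) (.leaf 10158402))))) (.node (.node (.node (.node (.node (.leaf 15667795) (.leaf 11461170)) (.leaf 4603981)) (.node (.leaf 14069848) (.leaf 287124))) (.node (.node (.leaf 16142379) (.leaf 15425967)) (.node (.leaf 14410402) (.leaf 2761094)))) (.node (.node (.node (.leaf 6767032) (.leaf 1335304)) (.node (.leaf 14610633) (.leaf 36864))) (.node (.node (.leaf 11289118) (.leaf 9236695)) (.node (.leaf 16638037) (.leaf 2908240))))))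 (.node (.node (.node (.node (.node (.node (.leaf 7799360) (.leaf 10346795)) (.leaf 4584078)) (.node (.leaf 9154663) (.leaf 13885479))) (.node (.node (.leaf 192979) (.leaf 3125402)) (.node (.leaf 8954469) (.leaf 622679)))) (.node (.node (.node (.node (.leaf 3469924) (.leaf 4284444)) (.leaf 15081949)) (.node (.leaf 2085244) (.leaf 14004917))) (.node (.node (.leaf 667750) (.leaf 5878102)) (.node (.leaf 12140657) (.leaf 6582467))))) (.node (.node (.node (.node (.node (.leaf 10642011) (.leaf 14737597)) (.leaf 11169950)) (.node (.leaf 6172692) (.leaf 172130))) (.node (.node (.leaf 11157800) (.leaf 16560730)) (.node (.leaf 6541963) (.leaf 6386053)))) (.node (.node (.node (.leaf 13169154) (.leaf 3900079)) (.node (.leaf 8904944) (.leaf 4440700))) (.node (.node (.leaf 14286963) (.leaf 11374699)) (.node (.leaf 4919758) (.leaf 10113679))))))) (.node (.node (.node (.node (.node (.node (.node (.leaf 1278020) (.leaf 17531079)) (.leaf 11628711)) (.node (.leaf 7049316) (.leaf 2076745))) (.node (.node (.leaf 3428559) (.leaf 14184933)) (.node (.leaf 16499338) (.leaf 9814392))))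 (.node (.node (.node (.node (.leaf 10404001) (.leaf 9044055)) (.leaf 7647679)) (.node (.leaf 3592522) (.leaf 16130634))) (.node (.node (.leaf 3047490) (.leaf 5091331)) (.node (.leaf 17785213) (.leaf 15257654))))) (.node (.node (.node (.node (.node (.leaf 15482922) (.leaf 29282)) (.leaf 18334261)) (.node (.leaf 9256989) (.leaf 13349585))) (.node (.node (.leaf 6333048) (.leaf 5988907)) (.node (.leaf 16462373) (.leaf 16900525)))) (.node (.node (.node (.leaf 13107688) (.leaf 3780688)) (.node (.leaf 8654976) (.leaf 18022880))) (.node (.node (.leaf 15048774) (.leaf 496146)) (.node (.leaf 2646118) (.leaf 6193311)))))) (.node (.node (.node (.node (.node (.node (.leaf 14786602) (.leaf 6963299)) (.leaf 483780)) (.node (.leaf 9515515) (.leaf 10355307))) (.node (.node (.leaf 16744909) (.leaf 15626371)) (.node (.leaf 1049233) (.leaf 6787663)))) (.node (.node (.node (.node (.leaf 17814141) (.leaf 1376470)) (.leaf 1487152)) (.node (.leaf 1462600) (.leaf 356559))) (.node (.node (.leaf 3989566) (.leaf 10162842)) (.node (.leaf 17326677) (.leaf 16093715))))) (.node (.node (.node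 (.node (.node (.leaf 6988348) (.leaf 3031744)) (.leaf 11436175)) (.node (.leaf 1298493) (.leaf 7204914))) (.node (.node (.leaf 4821199) (.leaf 15053315)) (.node (.leaf 12107954) (.leaf 6504742)))) (.node (.node (.node (.leaf 9359521) (.leaf 1434093)) (.node (.leaf 17682539) (.leaf 10264695))) (.node (.node (.leaf 14774882) (.leaf 11395220)) (.node (.leaf 250272) (.leaf 5980537)))))))))

def threeMv60812 : Janko.Tree (ℕ) :=
  (.node (.node (.node (.node (.node (.node (.node (.node (.node (.leaf 12460627) (.leaf 8569042)) (.leaf 10645875)) (.node (.leaf 16162972) (.leaf 1450109))) (.node (.node (.leaf 16470109) (.leaf 15585756)) (.node (.leaf 360963) (.leaf 9638101)))) (.node (.node (.node (.node (.leaf 8475244) (.leaf 14647331)) (.leaf 1835177)) (.node (.leaf 10678618) (.leaf 12685697))) (.node (.node (.leaf 111161) (.leaf 5374157)) (.node (.leaf 418331) (.leaf 4338392))))) (.node (.node (.node (.node (.node (.leaf 2457774) (.leaf 13652628)) (.leaf 13394159)) (.node (.leaf 2535879) (.leaf 5267978))) (.node (.node (.leaf 16027994) (.leaf 17801748)) (.node (.leaf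 1008210) (.leaf 11469457)))) (.node (.node (.node (.leaf 1622337) (.leaf 6214179)) (.node (.leaf 8126597) (.leaf 8032281))) (.node (.node (.leaf 2052651) (.leaf 15192746)) (.node (.leaf 15463032) (.leaf 11940350)))))) (.node (.node (.node (.node (.node (.node (.leaf 15421883) (.leaf 13533401)) (.leaf 14426679)) (.node (.leaf 14102756) (.leaf 12554593))) (.node (.node (.leaf 1221231) (.leaf 10719562)) (.node (.leaf 17674523) (.leaf 1613893)))) (.node (.node (.node (.node (.leaf 8450054) (.leaf 18198823)) (.leaf 10465843)) (.node (.leaf 6779366) (.leaf 9876079))) (.node (.node (.leaf 1725127) (.leaf 12697723)) (.node (.leaf 14364871) (.leaf 10723492))))) (.node (.node (.node (.node (.node (.leaf 11440505) (.leaf 5619829)) (.leaf 5468709)) (.node (.leaf 9220486) (.leaf 18342156))) (.node (.node (.leaf 5739157) (.leaf 17523388)) (.node (.leaf 13967923) (.leaf 5603570)))) (.node (.node (.node (.leaf 700834) (.leaf 3613273)) (.node (.leaf 13095297) (.leaf 15098255))) (.node (.node (.leaf 5931726) (.leaf 3375157)) (.node (.leaf 14021043) (.leaf 7361084))))))) (.node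 (.node (.node (.node (.node (.node (.node (.leaf 11555300) (.leaf 10506965)) (.leaf 12657193)) (.node (.leaf 1347719) (.leaf 1540244))) (.node (.node (.leaf 5284416) (.leaf 2564103)) (.node (.leaf 11841730) (.leaf 426033)))) (.node (.node (.node (.node (.leaf 2855603) (.leaf 1904688)) (.leaf 8040767)) (.node (.leaf 17297495) (.leaf 5259732))) (.node (.node (.leaf 18063786) (.leaf 16937626)) (.node (.leaf 16302284) (.leaf 8454551))))) (.node (.node (.node (.node (.node (.leaf 4222999) (.leaf 17494639)) (.leaf 7836135)) (.node (.leaf 13664883) (.leaf 16842939))) (.node (.node (.leaf 14107333) (.leaf 7627477)) (.node (.leaf 8196430) (.leaf 11206701)))) (.node (.node (.node (.leaf 5247457) (.leaf 11681843)) (.node (.leaf 1716242) (.leaf 6373418))) (.node (.node (.leaf 2978450) (.leaf 14406046)) (.node (.leaf 5698104) (.leaf 1552426)))))) (.node (.node (.node (.node (.node (.node (.leaf 11006269) (.leaf 16662973)) (.leaf 10133937)) (.node (.leaf 18116629) (.leaf 6959421))) (.node (.node (.leaf 10039596) (.leaf 3080527)) (.node (.leaf 5558307) (.leaf 17895844))))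 (.node (.node (.node (.node (.leaf 9871919) (.leaf 8179874)) (.leaf 815144)) (.node (.leaf 12464146) (.leaf 12976739))) (.node (.node (.leaf 15831569) (.leaf 3404061)) (.node (.leaf 1880412) (.leaf 12578905))))) (.node (.node (.node (.node (.node (.leaf 8245885) (.leaf 17743963)) (.leaf 1921194)) (.node (.leaf 18252391) (.leaf 8282401))) (.node (.node (.leaf 16855706) (.leaf 11968715)) (.node (.leaf 7114771) (.leaf 7094547)))) (.node (.node (.node (.leaf 6718070) (.leaf 741594)) (.node (.leaf 2544300) (.leaf 14742014))) (.node (.node (.leaf 868887) (.leaf 16728572)) (.node (.leaf 8307346) (.leaf 10396279)))))))) (.node (.node (.node (.node (.node (.node (.node (.node (.leaf 4718971) (.leaf 402116)) (.leaf 12911074)) (.node (.leaf 15442092) (.leaf 78164))) (.node (.node (.leaf 11891156) (.leaf 12948070)) (.node (.leaf 3416371) (.leaf 1057362)))) (.node (.node (.node (.node (.leaf 15069245) (.leaf 5964439)) (.leaf 14271014)) (.node (.leaf 15380910) (.leaf 15815054))) (.node (.node (.leaf 1249938) (.leaf 2666849)) (.node (.leaf 15164000) (.leaf 14229663))))) (.node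 (.node (.node (.node (.node (.leaf 12997241) (.leaf 11477444)) (.leaf 13595188)) (.node (.leaf 17580718) (.leaf 5362075))) (.node (.node (.leaf 3195371) (.leaf 4378809)) (.node (.leaf 16294135) (.leaf 7303337)))) (.node (.node (.node (.leaf 11092248) (.leaf 139775)) (.node (.leaf 2453586) (.leaf 7266969))) (.node (.node (.leaf 7344184) (.leaf 17830348)) (.node (.leaf 15106181) (.leaf 9920807)))))) (.node (.node (.node (.node (.node (.node (.leaf 10555784) (.leaf 626876)) (.leaf 1655401)) (.node (.leaf 294947) (.leaf 17047696))) (.node (.node (.leaf 7123502) (.leaf 8192128)) (.node (.leaf 15594102) (.leaf 4551253)))) (.node (.node (.node (.node (.leaf 15810778) (.leaf 18202721)) (.leaf 979508)) (.node (.leaf 5681815) (.leaf 9531752))) (.node (.node (.leaf 11326152) (.leaf 16773775)) (.node (.leaf 13766925) (.leaf 7938417))))) (.node (.node (.node (.node (.node (.leaf 17560245) (.leaf 10691237)) (.leaf 11567766)) (.node (.leaf 6058422) (.leaf 18059327))) (.node (.node (.leaf 10199182) (.leaf 6422780)) (.node (.leaf 15343905) (.leaf 18170053)))) (.node (.node (.node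 (.leaf 9269809) (.leaf 8294456)) (.node (.leaf 2867378) (.leaf 9032058))) (.node (.node (.leaf 8315050) (.leaf 18018466)) (.node (.leaf 516572) (.leaf 6828681))))))) (.node (.node (.node (.node (.node (.node (.node (.leaf 8073525) (.leaf 7758222)) (.leaf 16445706)) (.node (.leaf 745887) (.leaf 2724481))) (.node (.node (.leaf 17993846) (.leaf 13677063)) (.node (.leaf 14245908) (.leaf 4661934)))) (.node (.node (.node (.node (.leaf 9961719) (.leaf 1986835)) (.leaf 9114138)) (.node (.leaf 16666677) (.leaf 9826568))) (.node (.node (.leaf 7184933) (.leaf 2539577)) (.node (.leaf 2028032) (.leaf 10261020))))) (.node (.node (.node (.node (.node (.leaf 4640838) (.leaf 7234214)) (.leaf 7352611)) (.node (.leaf 5853336) (.leaf 1368249))) (.node (.node (.leaf 8773905) (.leaf 971176)) (.node (.leaf 114745) (.leaf 10698894)))) (.node (.node (.node (.leaf 2826507) (.leaf 4010605)) (.node (.leaf 17781188) (.leaf 14385533))) (.node (.node (.leaf 17175071) (.leaf 17793341)) (.node (.leaf 12751195) (.leaf 14057550)))))) (.node (.node (.node (.node (.node (.node (.leaf 3145916) (.leaf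 13865464)) (.leaf 16678983)) (.node (.leaf 9908640) (.leaf 15753408))) (.node (.node (.leaf 6402751) (.leaf 8495826)) (.node (.leaf 15868241) (.leaf 4775981)))) (.node (.node (.node (.node (.leaf 405593) (.leaf 4567057)) (.leaf 9363885)) (.node (.leaf 17084480) (.leaf 18211516))) (.node (.node (.leaf 10076641) (.leaf 13894187)) (.node (.leaf 17703016) (.leaf 14393566))))) (.node (.node (.node (.node (.node (.leaf 5366069) (.leaf 7717102)) (.leaf 13517186)) (.node (.leaf 1028671) (.leaf 4251675))) (.node (.node (.leaf 8933910) (.leaf 3691020)) (.node (.leaf 7442556) (.leaf 17375826)))) (.node (.node (.node (.leaf 11862508) (.leaf 1561072)) (.node (.leaf 13312337) (.leaf 2384355))) (.node (.node (.leaf 2818734) (.leaf 9048483)) (.node (.leaf 15327643) (.leaf 13459572)))))))))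

def threeMv60813 : Janko.Tree (ℕ) :=
  (.node (.node (.node (.node (.node (.node (.node (.node (.node (.leaf 13287899) (.leaf 14368931)) (.leaf 10735806)) (.node (.leaf 17502504) (.leaf 13668586))) (.node (.node (.leaf 2151058) (.leaf 9523736)) (.node (.leaf 16507595) (.leaf 10621536)))) (.node (.node (.node (.node (.leaf 12632514) (.leaf 17359205)) (.leaf 5095664)) (.node (.leaf 3232251) (.leaf 15282256))) (.node (.node (.leaf 7213412) (.leaf 15311373)) (.node (.leaf 13165126) (.leaf 7082193))))) (.node (.node (.node (.node (.node (.leaf 5497140) (.leaf 1331724)) (.leaf 4759894)) (.node (.leaf 12919054) (.leaf 9601091))) (.node (.node (.leaf 311902) (.leaf 5939626)) (.node (.leaf 7512176) (.leaf 5689516)))) (.node (.node (.node (.leaf 14942677) (.leaf 11739853)) (.node (.leaf 10821862) (.leaf 491834))) (.node (.node (.leaf 3756140) (.leaf 9744941)) (.node (.leaf 1569212) (.leaf 963222)))))) (.node (.node (.node (.node (.node (.node (.leaf 18293215) (.leaf 10662350)) (.leaf 12226905)) (.node (.leaf 15409669) (.leaf 6803860))) (.node (.node (.leaf 5021739) (.leaf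 8610056)) (.node (.leaf 12513855) (.leaf 15118936)))) (.node (.node (.node (.node (.leaf 12587734) (.leaf 2810246)) (.leaf 12562754)) (.node (.leaf 5014030) (.leaf 10121652))) (.node (.node (.leaf 2863403) (.leaf 17900199)) (.node (.leaf 4850140) (.leaf 5087901))))) (.node (.node (.node (.node (.node (.leaf 9302670) (.leaf 3158538)) (.leaf 13509289)) (.node (.leaf 11911248) (.leaf 11641515))) (.node (.node (.leaf 8577034) (.leaf 873123)) (.node (.leaf 7221429) (.leaf 7487839)))) (.node (.node (.node (.leaf 6316157) (.leaf 4698114)) (.node (.leaf 794705) (.leaf 4682280))) (.node (.node (.leaf 7045714) (.leaf 5726498)) (.node (.leaf 15110336) (.leaf 3605095))))))) (.node (.node (.node (.node (.node (.node (.node (.leaf 1872074) (.leaf 11903088)) (.leaf 6353143)) (.node (.leaf 15884928) (.leaf 9023504))) (.node (.node (.leaf 565409) (.leaf 17256772)) (.node (.leaf 17707377) (.leaf 13275798)))) (.node (.node (.node (.node (.leaf 14479393) (.leaf 6378041)) (.leaf 13439121)) (.node (.leaf 10108996) (.leaf 11694364))) (.node (.node (.leaf 17723918) (.leaf 4899525))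 (.node (.leaf 15925546) (.leaf 7619286))))) (.node (.node (.node (.node (.node (.leaf 10191162) (.leaf 10273283)) (.leaf 103098)) (.node (.leaf 8061447) (.leaf 3358887))) (.node (.node (.leaf 8572958) (.leaf 3473881)) (.node (.leaf 5243600) (.leaf 3527055)))) (.node (.node (.node (.leaf 606804) (.leaf 18346590)) (.node (.leaf 7299164) (.leaf 831618))) (.node (.node (.leaf 9585350) (.leaf 13590957)) (.node (.leaf 5263586) (.leaf 7364863)))))) (.node (.node (.node (.node (.node (.node (.leaf 14503971) (.leaf 10498163)) (.leaf 9437383)) (.node (.leaf 13205911) (.leaf 12890255))) (.node (.node (.leaf 6025700) (.leaf 17350927)) (.node (.leaf 5574986) (.leaf 602384)))) (.node (.node (.node (.node (.leaf 17109238) (.leaf 10293518)) (.leaf 7516443)) (.node (.leaf 15970851) (.leaf 11796699))) (.node (.node (.leaf 11657627) (.leaf 16605186)) (.node (.leaf 16790228) (.leaf 15131061))))) (.node (.node (.node (.node (.node (.leaf 1806810) (.leaf 15200275)) (.leaf 12824795)) (.node (.leaf 5783699) (.leaf 1307269))) (.node (.node (.leaf 15393021) (.leaf 4207214)) (.node (.leaf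 11010213) (.leaf 14954935)))) (.node (.node (.node (.leaf 15655002) (.leaf 16687654)) (.node (.leaf 12402850) (.leaf 1978398))) (.node (.node (.leaf 278969) (.leaf 13251043)) (.node (.leaf 12148794) (.leaf 5976260)))))))) (.node (.node (.node (.node (.node (.node (.node (.node (.leaf 8565278) (.leaf 15512271)) (.leaf 18219379)) (.node (.leaf 5669211) (.leaf 4395704))) (.node (.node (.leaf 10649934) (.leaf 4260185)) (.node (.leaf 5112267) (.leaf 5075372)))) (.node (.node (.node (.node (.leaf 3498698) (.leaf 16064972)) (.leaf 6554229)) (.node (.leaf 6980068) (.leaf 897699))) (.node (.node (.leaf 15139343) (.leaf 3076540)) (.node (.leaf 155696) (.leaf 8753742))))) (.node (.node (.node (.node (.node (.leaf 180372) (.leaf 16957773)) (.leaf 254635)) (.node (.leaf 14450796) (.leaf 1593348))) (.node (.node (.leaf 17269063) (.leaf 2527835)) (.node (.leaf 5611636) (.leaf 17453517)))) (.node (.node (.node (.leaf 2789563) (.leaf 5128501)) (.node (.leaf 3092795) (.leaf 2060611))) (.node (.node (.leaf 17470139) (.leaf 2449928)) (.node (.leaf 7983458) (.leaf 9245287))))))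 (.node (.node (.node (.node (.node (.node (.leaf 17686948) (.leaf 94329)) (.leaf 8708408)) (.node (.leaf 17314260) (.leaf 3514863))) (.node (.node (.leaf 3932407) (.leaf 12324941)) (.node (.leaf 8647062) (.leaf 11801151)))) (.node (.node (.node (.node (.leaf 1429793) (.leaf 6230144)) (.leaf 12574903)) (.node (.leaf 12300806) (.leaf 9679423))) (.node (.node (.leaf 6648349) (.leaf 15229557)) (.node (.leaf 5193911) (.leaf 12845448))))) (.node (.node (.node (.node (.node (.leaf 8807101) (.leaf 14824095)) (.leaf 5407095)) (.node (.leaf 2515168) (.leaf 5763751))) (.node (.node (.leaf 3002849) (.leaf 7770763)) (.node (.leaf 487537) (.leaf 12394497)))) (.node (.node (.node (.leaf 2781275) (.leaf 3838135)) (.node (.leaf 2191536) (.leaf 14623040))) (.node (.node (.leaf 7135513) (.leaf 11817471)) (.node (.leaf 262691) (.leaf 3113293))))))) (.node (.node (.node (.node (.node (.node (.node (.leaf 17228380) (.leaf 828082)) (.leaf 2711899)) (.node (.leaf 14209097) (.leaf 11981155))) (.node (.node (.leaf 9674999) (.leaf 14762484)) (.node (.leaf 17293542) (.leaf 2388162))))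 (.node (.node (.node (.node (.leaf 7274998) (.leaf 13193470)) (.leaf 11829397)) (.node (.leaf 8917269) (.leaf 4657566))) (.node (.node (.leaf 344654) (.leaf 7803420)) (.node (.leaf 6443632) (.leaf 4321606))))) (.node (.node (.node (.node (.node (.leaf 2793572) (.leaf 17551704)) (.leaf 1425675)) (.node (.leaf 11235895) (.leaf 18133286))) (.node (.node (.leaf 14856549) (.leaf 17056223)) (.node (.leaf 14725417) (.leaf 3752087)))) (.node (.node (.node (.leaf 10985653) (.leaf 12931591)) (.node (.leaf 3817859) (.leaf 10519252))) (.node (.node (.leaf 14586420) (.leaf 13226262)) (.node (.leaf 12350144) (.leaf 15749338)))))) (.node (.node (.node (.node (.node (.node (.leaf 7864914) (.leaf 15737425)) (.leaf 16994863)) (.node (.leaf 10101248) (.leaf 8946091))) (.node (.node (.leaf 10236259) (.leaf 4046864)) (.node (.leaf 10297884) (.leaf 7320220)))) (.node (.node (.node (.node (.leaf 13013709) (.leaf 3948914)) (.leaf 12550767)) (.node (.leaf 12062743) (.leaf 11563632))) (.node (.node (.leaf 16359511) (.leaf 13353671)) (.node (.leaf 8106712) (.leaf 13680725))))) (.node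 (.node (.node (.node (.node (.leaf 8831662) (.leaf 16433247)) (.leaf 4674174)) (.node (.leaf 5255243) (.leaf 3297410))) (.node (.node (.leaf 15487117) (.leaf 8356551)) (.node (.leaf 15126973) (.leaf 13418539)))) (.node (.node (.node (.leaf 11047502) (.leaf 17514721)) (.node (.leaf 4690481) (.leaf 14262721))) (.node (.node (.leaf 9953421) (.leaf 17670731)) (.node (.leaf 12009964) (.leaf 5509274)))))))))

def threeMv60814 : Janko.Tree (ℕ) :=
  (.node (.node (.node (.node (.node (.node (.node (.node (.node (.leaf 2507175) (.leaf 7528480)) (.leaf 409943)) (.node (.leaf 877037) (.leaf 1233029))) (.node (.node (.leaf 8921478) (.leaf 9216440)) (.node (.leaf 3051770) (.leaf 6603469)))) (.node (.node (.node (.node (.leaf 17695034) (.leaf 12439650)) (.leaf 5501221)) (.node (.leaf 14062104) (.leaf 16069158))) (.node (.node (.leaf 17637493) (.leaf 5169219)) (.node (.leaf 11022586) (.leaf 16375942))))) (.node (.node (.node (.node (.node (.leaf 12489223) (.leaf 3109380)) (.leaf 17932479)) (.node (.leaf 4342155) (.leaf 17986172))) (.node (.node (.leaf 1282086) (.leaf 10609052))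 (.node (.leaf 2167397) (.leaf 12788125)))) (.node (.node (.node (.leaf 9122228) (.leaf 6369444)) (.node (.leaf 17408389) (.leaf 12673087))) (.node (.node (.leaf 10138037) (.leaf 13660490)) (.node (.leaf 1917489) (.leaf 6983704)))))) (.node (.node (.node (.node (.node (.node (.leaf 16859643) (.leaf 10596991)) (.leaf 5984305)) (.node (.leaf 9056704) (.leaf 9228848))) (.node (.node (.leaf 3190877) (.leaf 13582809)) (.node (.leaf 1077765) (.leaf 188695)))) (.node (.node (.node (.node (.leaf 12046721) (.leaf 2376007)) (.leaf 11768327)) (.node (.leaf 13177073) (.leaf 7250129))) (.node (.node (.leaf 1671528) (.leaf 1138825)) (.node (.leaf 4465149) (.leaf 10945071))))) (.node (.node (.node (.node (.node (.leaf 1519964) (.leaf 499980)) (.leaf 11276446)) (.node (.leaf 5038742) (.leaf 7819272))) (.node (.node (.leaf 8401081) (.leaf 3322444)) (.node (.leaf 10977483) (.leaf 11948569)))) (.node (.node (.node (.leaf 2994319) (.leaf 16257103)) (.node (.leaf 7709137) (.leaf 12210354))) (.node (.node (.leaf 5083170) (.leaf 4845926)) (.node (.leaf 17465637) (.leaf 119090)))))))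 (.node (.node (.node (.node (.node (.node (.node (.leaf 1396903) (.leaf 16777890)) (.leaf 15552941)) (.node (.leaf 16871566) (.leaf 3560070))) (.node (.node (.leaf 852028) (.leaf 12972369)) (.node (.leaf 17584334) (.leaf 2228767)))) (.node (.node (.node (.node (.leaf 14749717) (.leaf 11051692)) (.leaf 13209754)) (.node (.leaf 13779091) (.leaf 11407561))) (.node (.node (.leaf 16802494) (.leaf 17944930)) (.node (.leaf 12653095) (.leaf 1274157))))) (.node (.node (.node (.node (.node (.leaf 18313895) (.leaf 1380816)) (.leaf 10494051)) (.node (.leaf 13234221) (.leaf 16531477))) (.node (.node (.leaf 18035401) (.leaf 13079053)) (.node (.leaf 778925) (.leaf 14152190)))) (.node (.node (.node (.leaf 9609589) (.leaf 15503555)) (.node (.leaf 651742) (.leaf 14090703))) (.node (.node (.leaf 6484376) (.leaf 11456884)) (.node (.leaf 12525806) (.leaf 4784274)))))) (.node (.node (.node (.node (.node (.node (.leaf 10477633) (.leaf 8368149)) (.leaf 9805848)) (.node (.leaf 12136535) (.leaf 13783578))) (.node (.node (.leaf 12829207) (.leaf 7660132)) (.node (.leaf 271057) (.leaf 9801838))))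 (.node (.node (.node (.node (.leaf 14778507) (.leaf 15377044)) (.leaf 41524)) (.node (.leaf 8114235) (.leaf 3289097))) (.node (.node (.leaf 1212499) (.leaf 12628362)) (.node (.leaf 1311407) (.leaf 3436883))))) (.node (.node (.node (.node (.node (.leaf 16429509) (.leaf 98474)) (.leaf 15540877)) (.node (.leaf 15695904) (.leaf 5566870))) (.node (.node (.leaf 11784758) (.leaf 2581135)) (.node (.leaf 9552466) (.leaf 6701642)))) (.node (.node (.node (.leaf 9318412) (.leaf 2204266)) (.node (.leaf 4804883) (.leaf 17182783))) (.node (.node (.leaf 16822645) (.leaf 14082422)) (.node (.leaf 10998445) (.leaf 1175989)))))))) (.node (.node (.node (.node (.node (.node (.node (.node (.leaf 3609117) (.leaf 1548890)) (.leaf 17818035)) (.node (.leaf 11035305) (.leaf 15011932))) (.node (.node (.leaf 9527383) (.leaf 15016146)) (.node (.leaf 8343871) (.leaf 7860587)))) (.node (.node (.node (.node (.leaf 4096574) (.leaf 12505225)) (.leaf 1998988)) (.node (.leaf 12145317) (.leaf 2876065))) (.node (.node (.leaf 14205358) (.leaf 5485247)) (.node (.leaf 12808569) (.leaf 13820124))))) (.node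 (.node (.node (.node (.node (.leaf 13103120) (.leaf 6742374)) (.leaf 8331779)) (.node (.leaf 10768793) (.leaf 1855744))) (.node (.node (.leaf 4530424) (.leaf 3482321)) (.node (.leaf 1241474) (.leaf 4825135)))) (.node (.node (.node (.leaf 15954348) (.leaf 5099538)) (.node (.leaf 12906638) (.leaf 3387579))) (.node (.node (.leaf 1679603) (.leaf 2380344)) (.node (.leaf 5657162) (.leaf 1564720)))))) (.node (.node (.node (.node (.node (.node (.leaf 15212843) (.leaf 5640343)) (.leaf 6144693)) (.node (.leaf 7262348) (.leaf 1040474))) (.node (.node (.leaf 5685326) (.leaf 1556966)) (.node (.leaf 14655983) (.leaf 4178327)))) (.node (.node (.node (.node (.leaf 9749094) (.leaf 14332593)) (.leaf 14802993)) (.node (.leaf 12709988) (.leaf 16466366))) (.node (.node (.leaf 10219824) (.leaf 7397571)) (.node (.leaf 6705403) (.leaf 17457205))))) (.node (.node (.node (.node (.node (.leaf 17715234) (.leaf 6857195)) (.leaf 5337308)) (.node (.leaf 5578881) (.leaf 6410355))) (.node (.node (.leaf 15323669) (.leaf 9752644)) (.node (.leaf 7200868) (.leaf 2412743)))) (.node (.node (.node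 (.leaf 17855010) (.leaf 16081129)) (.node (.leaf 15295074) (.leaf 3346876))) (.node (.node (.leaf 25201) (.leaf 10748350)) (.node (.leaf 14500122) (.leaf 12284319))))))) (.node (.node (.node (.node (.node (.node (.node (.leaf 14533269) (.leaf 16630227)) (.leaf 8130855)) (.node (.leaf 12370175) (.leaf 16736338))) (.node (.node (.leaf 3748413) (.leaf 6185404)) (.node (.leaf 160013) (.leaf 12382740)))) (.node (.node (.node (.node (.leaf 18309376) (.leaf 11055739)) (.leaf 15950410)) (.node (.leaf 6021827) (.leaf 12677619))) (.node (.node (.leaf 4272784) (.leaf 14041738)) (.node (.leaf 1635016) (.leaf 14266756))))) (.node (.node (.node (.node (.node (.leaf 1700538) (.leaf 13693115)) (.leaf 9146684)) (.node (.leaf 17400485) (.leaf 5120486))) (.node (.node (.leaf 946371) (.leaf 14201540)) (.node (.leaf 1589393) (.leaf 10916012)))) (.node (.node (.node (.leaf 16875836) (.leaf 4391507)) (.node (.leaf 578170) (.leaf 14889671))) (.node (.node (.leaf 14991837) (.leaf 14729375)) (.node (.leaf 1323732) (.leaf 1802548)))))) (.node (.node (.node (.node (.node (.node (.leaf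 14828100) (.leaf 7188481)) (.leaf 7077901)) (.node (.leaf 6357687) (.leaf 16949701))) (.node (.node (.leaf 4043072) (.leaf 10739741)) (.node (.leaf 4112632) (.leaf 10727866)))) (.node (.node (.node (.node (.leaf 15786693) (.leaf 15717031)) (.leaf 70354)) (.node (.leaf 10428828) (.leaf 14147766))) (.node (.node (.leaf 10178568) (.leaf 12866128)) (.node (.leaf 12038220) (.leaf 8430142))))) (.node (.node (.node (.node (.node (.leaf 16396537) (.leaf 12476450)) (.leaf 12079176)) (.node (.leaf 17957550) (.leaf 1983174))) (.node (.node (.leaf 9294006) (.leaf 9781400)) (.node (.leaf 15057279) (.leaf 975242)))) (.node (.node (.node (.leaf 9925106) (.leaf 10571814)) (.node (.leaf 8598088) (.leaf 6115622))) (.node (.node (.leaf 14594642) (.leaf 17969669)) (.node (.leaf 7684576) (.leaf 18227601)))))))))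

def threeMv60815 : Janko.Tree (ℕ) :=
  (.node (.node (.node (.node (.node (.node (.node (.node (.node (.leaf 15917650) (.leaf 9933351)) (.leaf 9052457)) (.node (.leaf 3363275) (.leaf 12894853))) (.node (.node (.leaf 16564241) (.leaf 12030144)) (.node (.leaf 2806354) (.leaf 1609780)))) (.node (.node (.node (.node (.leaf 11764072) (.leaf 7008537)) (.leaf 4190817)) (.node (.leaf 5251458) (.leaf 14967222))) (.node (.node (.leaf 17527375) (.leaf 17040011)) (.node (.leaf 3977867) (.leaf 15180244))))) (.node (.node (.node (.node (.node (.leaf 5309034) (.leaf 11030767)) (.leaf 10391910)) (.node (.leaf 16581204) (.leaf 15835538))) (.node (.node (.leaf 6070784) (.leaf 10682964)) (.node (.leaf 17080629) (.leaf 2335160)))) (.node (.node (.node (.leaf 15614174) (.leaf 6234598)) (.node (.leaf 11088459) (.leaf 786929))) (.node (.node (.leaf 13881821) (.leaf 3789404)) (.node (.leaf 11833352) (.leaf 8233150)))))) (.node (.node (.node (.node (.node (.node (.leaf 10015066) (.leaf 16519444)) (.leaf 4129307)) (.node (.leaf 4964892) (.leaf 15278103))) (.node (.node (.leaf 10965253)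 (.leaf 15315224)) (.node (.leaf 17866965) (.leaf 2912571)))) (.node (.node (.node (.node (.leaf 1712847) (.leaf 15880671)) (.leaf 15806695)) (.node (.leaf 3600413) (.leaf 4072015))) (.node (.node (.leaf 82471) (.leaf 7148078)) (.node (.leaf 3727737) (.leaf 16110015))))) (.node (.node (.node (.node (.node (.leaf 4415703) (.leaf 13840869)) (.leaf 5210579)) (.node (.leaf 13427268) (.leaf 8872246))) (.node (.node (.leaf 3293582) (.leaf 1868012)) (.node (.leaf 2146958) (.leaf 1688257)))) (.node (.node (.node (.leaf 9019892) (.leaf 1179983)) (.node (.leaf 8118421) (.leaf 12640890))) (.node (.node (.leaf 11202779) (.leaf 7110809)) (.node (.leaf 7774899) (.leaf 16576601))))))) (.node (.node (.node (.node (.node (.node (.node (.leaf 16335388) (.leaf 9208127)) (.leaf 16547952)) (.node (.leaf 4764329) (.leaf 12407009))) (.node (.node (.leaf 9564430) (.leaf 8270476)) (.node (.leaf 14614777) (.leaf 2888405)))) (.node (.node (.node (.node (.leaf 291541) (.leaf 16453735)) (.leaf 844059)) (.node (.leaf 9589111) (.leaf 10653833))) (.node (.node (.leaf 9834813) (.leaf 10461696))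 (.node (.leaf 6951445) (.leaf 13816262))))) (.node (.node (.node (.node (.node (.leaf 73816) (.leaf 6451758)) (.leaf 9597617)) (.node (.leaf 12538000) (.leaf 15331795))) (.node (.node (.leaf 13697359) (.leaf 4202965)) (.node (.leaf 17924168) (.leaf 7909582)))) (.node (.node (.node (.leaf 2179315) (.leaf 13992188)) (.node (.leaf 18014925) (.leaf 10576445))) (.node (.node (.leaf 7536995) (.leaf 2572700)) (.node (.leaf 8458381) (.leaf 16355415)))))) (.node (.node (.node (.node (.node (.node (.leaf 1110137) (.leaf 3305638)) (.leaf 2425187)) (.node (.leaf 3039695) (.leaf 16073354))) (.node (.node (.leaf 630845) (.leaf 1187934)) (.node (.leaf 9290006) (.leaf 11944142)))) (.node (.node (.node (.node (.leaf 11620639) (.leaf 16847113)) (.leaf 6881410)) (.node (.leaf 225882) (.leaf 1974567))) (.node (.node (.leaf 13557950) (.leaf 12321108)) (.node (.leaf 2953464) (.leaf 1356022))))) (.node (.node (.node (.node (.node (.leaf 14921816) (.leaf 9507026)) (.leaf 5272265)) (.node (.leaf 1675817) (.leaf 9179400))) (.node (.node (.leaf 8868098) (.leaf 14307821)) (.node (.leaf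 12050658) (.leaf 901645)))) (.node (.node (.node (.leaf 8880598) (.leaf 5923067)) (.node (.leaf 6795854) (.leaf 11907270))) (.node (.node (.leaf 2195700) (.leaf 17846296)) (.node (.leaf 184831) (.leaf 3871300)))))))) (.node (.node (.node (.node (.node (.node (.node (.node (.leaf 4903177) (.leaf 15929380)) (.leaf 3555333)) (.node (.leaf 16024236) (.leaf 17322415))) (.node (.node (.leaf 3879200) (.leaf 4755901)) (.node (.leaf 17617432) (.leaf 4219052)))) (.node (.node (.node (.node (.leaf 6574772) (.leaf 5935692)) (.leaf 15688325)) (.node (.leaf 5730977) (.leaf 4334291))) (.node (.node (.leaf 10744096) (.leaf 545342)) (.node (.leaf 18194861) (.leaf 8056895))))) (.node (.node (.node (.node (.node (.leaf 7696444) (.leaf 1913088)) (.leaf 5530224)) (.node (.leaf 13979743) (.leaf 7745928))) (.node (.node (.leaf 14188963) (.leaf 15134868)) (.node (.leaf 16622139) (.leaf 7447187)))) (.node (.node (.node (.leaf 7004532) (.leaf 5542247)) (.node (.leaf 14352588) (.leaf 11534908))) (.node (.node (.leaf 16007271) (.leaf 8585927)) (.node (.leaf 16118007) (.leaf 17011255))))))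 (.node (.node (.node (.node (.node (.node (.leaf 17662466) (.leaf 15630667)) (.leaf 8778327)) (.node (.leaf 12718650) (.leaf 18055287))) (.node (.node (.leaf 7569592) (.leaf 10174593)) (.node (.leaf 8651144) (.leaf 5525788)))) (.node (.node (.node (.node (.leaf 17211849) (.leaf 12861468)) (.leaf 13058296)) (.node (.leaf 7581761) (.leaf 17567804))) (.node (.node (.leaf 16494796) (.leaf 9445837)) (.node (.leaf 7729252) (.leaf 17645790))))) (.node (.node (.node (.node (.node (.leaf 12984609) (.leaf 1962304)) (.leaf 14033006)) (.node (.leaf 3629758) (.leaf 2691372))) (.node (.node (.leaf 2601330) (.leaf 11399834)) (.node (.leaf 5779772) (.leaf 6558120)))) (.node (.node (.node (.leaf 9388268) (.leaf 3494542)) (.node (.leaf 13378056) (.leaf 12374670))) (.node (.node (.leaf 11993775) (.leaf 4309195)) (.node (.leaf 8561079) (.leaf 3964965))))))) (.node (.node (.node (.node (.node (.node (.node (.leaf 3674252) (.leaf 9253319)) (.leaf 7381222)) (.node (.leaf 7508454) (.leaf 9654786))) (.node (.node (.leaf 15078032) (.leaf 7545252)) (.node (.leaf 16527604) (.leaf 11698830))))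 (.node (.node (.node (.node (.leaf 3432949) (.leaf 10309720)) (.leaf 1684118)) (.node (.leaf 13922598) (.leaf 14832095))) (.node (.node (.leaf 2699636) (.leaf 9315028)) (.node (.leaf 8069251) (.leaf 377077))))) (.node (.node (.node (.node (.node (.leaf 5943717) (.leaf 15659625)) (.leaf 9728112)) (.node (.leaf 7823395) (.leaf 3809614))) (.node (.node (.leaf 11420259) (.leaf 6562208)) (.node (.leaf 12583637) (.leaf 8323215)))) (.node (.node (.node (.leaf 12071134) (.leaf 2118002)) (.node (.leaf 6209619) (.leaf 14680239))) (.node (.node (.leaf 15684148) (.leaf 8438366)) (.node (.leaf 4555117) (.leaf 8999581)))))) (.node (.node (.node (.node (.node (.node (.leaf 16384666) (.leaf 3350548)) (.leaf 4280589)) (.node (.leaf 10715273) (.leaf 1401188))) (.node (.node (.leaf 15826944) (.leaf 14885065)) (.node (.leaf 11853936) (.leaf 8004211)))) (.node (.node (.node (.node (.leaf 2101950) (.leaf 10825831)) (.leaf 9711810)) (.node (.leaf 4686381) (.leaf 3068191))) (.node (.node (.leaf 8388835) (.leaf 4244111)) (.node (.leaf 9822628) (.leaf 13083044))))) (.node (.node (.node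 (.node (.node (.leaf 12268208) (.leaf 8487033)) (.leaf 8843367)) (.node (.leaf 7242316) (.leaf 8970678))) (.node (.node (.leaf 266595) (.leaf 11100503)) (.node (.leaf 5304336) (.leaf 2396627)))) (.node (.node (.node (.leaf 12296502) (.leaf 17788956)) (.node (.leaf 9699468) (.leaf 4976656))) (.node (.node (.leaf 7733345) (.leaf 13406601)) (.node (.leaf 15340197) (.leaf 5034181)))))))))

/-- a table -/
def threeMv608 : Janko.Tree (ℕ) := (.node (.node (.node (.node threeMv6080 threeMv6088) (.node threeMv6084 threeMv60812)) (.node (.node threeMv6082 threeMv60810) (.node threeMv6086 threeMv60814))) (.node (.node (.node threeMv6081 threeMv6089) (.node threeMv6085 threeMv60813)) (.node (.node threeMv6083 threeMv60811) (.node threeMv6087 threeMv60815))))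

theorem three_mv6080 : ((List.range 640).all fun i => movesOK baseB threeCert threeGens threeT 4480 threeV608 threeMv608 (Nat.add 0 i)) = true := by decide +kernel

theorem three_mv6081 : ((List.range 640).all fun i => movesOK baseB threeCert threeGens threeT 4480 threeV608 threeMv608 (Nat.add 640 i)) = true := by decide +kernel

theorem three_mv6082 : ((List.range 640).all fun i => movesOK baseB threeCert threeGens threeT 4480 threeV608 threeMv608 (Nat.add 1280 i)) = true := by decide +kernel

theorem three_mv6083 : ((List.range 640).all fun i => movesOK baseB threeCert threeGens threeT 4480 threeV608 threeMv608 (Nat.add 1920 i)) = true := by decide +kernel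

theorem three_mv6084 : ((List.range 640).all fun i => movesOK baseB threeCert threeGens threeT 4480 threeV608 threeMv608 (Nat.add 2560 i)) = true := by decide +kernel

theorem three_mv6085 : ((List.range 640).all fun i => movesOK baseB threeCert threeGens threeT 4480 threeV608 threeMv608 (Nat.add 3200 i)) = true := by decide +kernel

theorem three_mv6086 : ((List.range 640).all fun i => movesOK baseB threeCert threeGens threeT 4480 threeV608 threeMv608 (Nat.add 3840 i)) = true := by decide +kernel

theorem three_mv608 : ∀ i < 4480, movesOK baseB threeCert threeGens threeT 4480 threeV608 threeMv608 i = true := by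
  intro i hi
  exact (if h1920 : i < 1920 then (if h640 : i < 640 then (by have := List.all_eq_true.1 three_mv6080 (i - 0) (List.mem_range.2 (by omega)); rwa [show Nat.add 0 (i - 0) = i from Nat.add_sub_cancel' (by omega)] at this) else (if h1280 : i < 1280 then (by have := List.all_eq_true.1 three_mv6081 (i - 640) (List.mem_range.2 (by omega)); rwa [show Nat.add 640 (i - 640) = i from Nat.add_sub_cancel' (by omega)] at this) else (by have := List.all_eq_true.1 three_mv6082 (i - 1280) (List.mem_range.2 (by omega)); rwa [show Nat.add 1280 (i - 1280) = i from Nat.add_sub_cancel' (by omega)] at this))) else (if h3200 : i < 3200 then (if h2560 : i < 2560 then (by have := List.all_eq_true.1 three_mv6083 (i - 1920) (List.mem_range.2 (by omega)); rwa [show Nat.add 1920 (i - 1920) = i from Nat.add_sub_cancel' (by omega)] at this) else (by have := List.all_eq_true.1 three_mv6084 (i - 2560) (List.mem_range.2 (by omega)); rwa [show Nat.add 2560 (i - 2560) = i from Nat.add_sub_cancel' (by omega)] at this)) else (if h3840 : i < 3840 then (by have := List.all_eq_true.1 three_mv6085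 (i - 3200) (List.mem_range.2 (by omega)); rwa [show Nat.add 3200 (i - 3200) = i from Nat.add_sub_cancel' (by omega)] at this) else (by have := List.all_eq_true.1 three_mv6086 (i - 3840) (List.mem_range.2 (by omega)); rwa [show Nat.add 3840 (i - 3840) = i from Nat.add_sub_cancel' (by omega)] at this))))

/-- an element -/
def threeV723 : ℕ := 0x24500d14e445f29d063f5ecf32481ce8765327906c9158cc14bc820f0ea532d93024141c8791cd6863b9666917811aeb657965846e71005e4fc5f945908a78a492a7a212c9aab03435134f77abacc0025589d7ac076179420f070d0cadd3995e00e04099140a40e8188d054cbc08ad21d045870609bfa24bb209de022c37928123f6e1adde8935441da323ca88accd1323552901b36db41869a7e1eff3eb31cc1b52a09510e202dc34f4570d41a3b81bee1ab46f9c9370b2d13e0ec4811c58e8b17210861575188c2945391cfe306828d0a9314364a84b0cac43808721342d092aa58da4863094a44460ba4be5d5c8a8f0371eb9e10ca7d0c5b0e5550851e1f670905ab84408c52be1c1616a671f089308c2e384fcde3321df0200b939747c65b3cf605362b52e70284298a0b563a0066308219c600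

theorem three_v723 : ((List.range 275).all fun k => Nat.beq (PermNine.pg threeV723 k) (imgW threeGens (threeCert.wd 723) k)) = true := by decide +kernel

def threeMv7230 : Janko.Tree (ℕ) :=
  (.node (.node (.node (.node (.node (.node (.node (.node (.node (.leaf 723) (.leaf 15138948)) (.leaf 16364147)) (.node (.leaf 9888059) (.leaf 11395093))) (.node (.node (.leaf 3568235) (.leaf 9814535)) (.node (.leaf 8528462) (.leaf 11940105)))) (.node (.node (.node (.node (.leaf 9400393) (.leaf 17347083)) (.leaf 6398299)) (.node (.leaf 7868486) (.leaf 9802418))) (.node (.node (.leaf 16028071) (.leaf 8454537)) (.node (.leaf 15733417) (.leaf 9233041))))) (.node (.node (.node (.node (.node (.leaf 1204299) (.leaf 15057215)) (.leaf 9207990)) (.node (.leaf 13542069) (.leaf 15385235))) (.node (.node (.leaf 5026219) (.leaf 1819005)) (.node (.leaf 1798539) (.leaf 17957107)))) (.node (.node (.node (.leaf 12346030) (.leaf 15798573)) (.node (.leaf 7729586) (.leaf 10793427))) (.node (.node (.leaf 10842832) (.leaf 12439946)) (.node (.leaf 15102068) (.leaf 14672498)))))) (.node (.node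 (.node (.node (.node (.node (.leaf 6496769) (.leaf 4706386)) (.leaf 5300519)) (.node (.leaf 11194615) (.leaf 459452))) (.node (.node (.leaf 9773447) (.leaf 5747132)) (.node (.leaf 10657794) (.leaf 14942807)))) (.node (.node (.node (.node (.leaf 18255997) (.leaf 15188425)) (.leaf 3912120)) (.node (.leaf 3010912) (.leaf 12603616))) (.node (.node (.leaf 4039360) (.leaf 10272825)) (.node (.leaf 18301209) (.leaf 17969613))))) (.node (.node (.node (.node (.node (.leaf 7602785) (.leaf 1667623)) (.leaf 3400022)) (.node (.leaf 12247198) (.leaf 7368842))) (.node (.node (.leaf 8126464) (.leaf 2490711)) (.node (.leaf 3064146) (.leaf 4616318)))) (.node (.node (.node (.leaf 18231393) (.leaf 9654598)) (.node (.leaf 4764101) (.leaf 3788948))) (.node (.node (.leaf 14930014) (.leaf 10379370)) (.node (.leaf 13713667) (.leaf 13037580))))))) (.node (.node (.node (.node (.node (.node (.node (.leaf 8417712) (.leaf 172543)) (.leaf 14688497)) (.node (.leaf 2285596) (.leaf 12959918))) (.node (.node (.leaf 5222877) (.leaf 7561336)) (.node (.leaf 7930249) (.leaf 6934598)))) (.node (.node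 (.node (.node (.leaf 541212) (.leaf 221185)) (.leaf 17941171)) (.node (.leaf 5374021) (.leaf 9371975))) (.node (.node (.leaf 1733174) (.leaf 16478826)) (.node (.leaf 5317251) (.leaf 3498709))))) (.node (.node (.node (.node (.node (.leaf 852610) (.leaf 1335582)) (.leaf 11423997)) (.node (.leaf 8691946) (.leaf 1429905))) (.node (.node (.leaf 11919983) (.leaf 2818495)) (.node (.leaf 7430588) (.leaf 15717019)))) (.node (.node (.node (.leaf 9327089) (.leaf 15352008)) (.node (.leaf 6836504) (.leaf 17686675))) (.node (.node (.leaf 7074227) (.leaf 14319897)) (.node (.leaf 10551378) (.leaf 15823040)))))) (.node (.node (.node (.node (.node (.node (.leaf 8110166) (.leaf 9248921)) (.leaf 1142960)) (.node (.leaf 9879786) (.leaf 5206117))) (.node (.node (.leaf 16548347) (.leaf 3571834)) (.node (.leaf 6045973) (.leaf 11661471)))) (.node (.node (.node (.node (.leaf 6328712) (.leaf 4862306)) (.leaf 5825049)) (.node (.leaf 8499263) (.leaf 8462730))) (.node (.node (.leaf 13214175) (.leaf 8823095)) (.node (.leaf 8155602) (.leaf 295085))))) (.node (.node (.node (.node (.node (.leaf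 1192048) (.leaf 7258750)) (.leaf 14115398)) (.node (.leaf 16634495) (.leaf 2601614))) (.node (.node (.leaf 4698380) (.leaf 11010702)) (.node (.leaf 492023) (.leaf 17760557)))) (.node (.node (.node (.leaf 5751461) (.leaf 9015306)) (.node (.leaf 11559133) (.leaf 507951))) (.node (.node (.leaf 17842617) (.leaf 15266097)) (.node (.leaf 16187949) (.leaf 6898114)))))))) (.node (.node (.node (.node (.node (.node (.node (.node (.leaf 15819158) (.leaf 6656260)) (.leaf 4145282)) (.node (.leaf 3551701) (.leaf 3437260))) (.node (.node (.leaf 254451) (.leaf 12718530)) (.node (.leaf 2142220) (.leaf 2982452)))) (.node (.node (.node (.node (.leaf 16318711) (.leaf 3391508)) (.leaf 7815554)) (.node (.leaf 3822062) (.leaf 11182149))) (.node (.node (.leaf 12013569) (.leaf 16343358)) (.node (.leaf 5051000) (.leaf 3940938))))) (.node (.node (.node (.node (.node (.leaf 6271465) (.leaf 712912)) (.leaf 13144700)) (.node (.leaf 7762189) (.leaf 15855686))) (.node (.node (.leaf 10076780) (.leaf 3486179)) (.node (.leaf 16404964) (.leaf 14946464)))) (.node (.node (.node (.leaf 6668806) (.leaf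 11260464)) (.node (.leaf 8274408) (.leaf 1777787))) (.node (.node (.leaf 16712139) (.leaf 434201)) (.node (.leaf 4677822) (.leaf 11768171)))))) (.node (.node (.node (.node (.node (.node (.leaf 4944379) (.leaf 5362275)) (.leaf 17055851)) (.node (.leaf 1835266) (.leaf 8782179))) (.node (.node (.leaf 5357580) (.leaf 1462912)) (.node (.leaf 16544241) (.leaf 9032376)))) (.node (.node (.node (.node (.leaf 10687166) (.leaf 5976710)) (.leaf 2945410)) (.node (.leaf 8438400) (.leaf 12730932))) (.node (.node (.leaf 18215403) (.leaf 7000648)) (.node (.leaf 4120805) (.leaf 15630534))))) (.node (.node (.node (.node (.node (.leaf 8880592) (.leaf 6349331)) (.leaf 14119571)) (.node (.leaf 9683207) (.leaf 11415800))) (.node (.node (.leaf 11928114) (.leaf 193022)) (.node (.leaf 3617428) (.leaf 2359951)))) (.node (.node (.node (.leaf 14975377) (.leaf 4014555)) (.node (.leaf 8204776) (.leaf 12341860))) (.node (.node (.leaf 102681) (.leaf 4383261)) (.node (.leaf 11514193) (.leaf 16671401))))))) (.node (.node (.node (.node (.node (.node (.node (.leaf 7754027) (.leaf 1810765)) (.leaf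 12161143)) (.node (.leaf 5984430) (.leaf 13152381))) (.node (.node (.leaf 5484627) (.leaf 5034023)) (.node (.leaf 3031643) (.leaf 11718933)))) (.node (.node (.node (.node (.leaf 1401485) (.leaf 872468)) (.leaf 14676262)) (.node (.leaf 11202833) (.leaf 2912435))) (.node (.node (.leaf 9466076) (.leaf 11731597)) (.node (.leaf 12550328) (.leaf 16380511))))) (.node (.node (.node (.node (.node (.leaf 962654) (.leaf 7651605)) (.leaf 13869554)) (.node (.leaf 9368144) (.leaf 602405))) (.node (.node (.leaf 9429548) (.leaf 8941807)) (.node (.leaf 1564944) (.leaf 11367046)))) (.node (.node (.node (.leaf 4915854) (.leaf 15536287)) (.node (.leaf 606228) (.leaf 17526837))) (.node (.node (.leaf 8991073) (.leaf 6410361)) (.node (.leaf 6266886) (.leaf 16449761)))))) (.node (.node (.node (.node (.node (.node (.leaf 17248332) (.leaf 1139054)) (.leaf 5145262)) (.node (.leaf 10895783) (.leaf 3248213))) (.node (.node (.leaf 13066338) (.leaf 10944577)) (.node (.leaf 17719369) (.leaf 6840600)))) (.node (.node (.node (.node (.leaf 475244) (.leaf 17470107)) (.leaf 1413269)) (.node (.leaf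 774624) (.leaf 6262910))) (.node (.node (.leaf 2179208) (.leaf 8634774)) (.node (.leaf 917591) (.leaf 14762664))))) (.node (.node (.node (.node (.node (.leaf 1863870) (.leaf 885298)) (.leaf 6132214)) (.node (.leaf 14492119) (.leaf 18247725))) (.node (.node (.leaf 311384) (.leaf 15302812)) (.node (.leaf 11759859) (.leaf 8524467)))) (.node (.node (.node (.leaf 8938121) (.leaf 18252070)) (.node (.leaf 4514368) (.leaf 11612326))) (.node (.node (.leaf 1405125) (.leaf 12796479)) (.node (.leaf 10404183) (.leaf 16658456)))))))))

def threeMv7231 : Janko.Tree (ℕ) :=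
  (.node (.node (.node (.node (.node (.node (.node (.node (.node (.leaf 897393) (.leaf 8004226)) (.leaf 13897795)) (.node (.leaf 6914512) (.leaf 13411023))) (.node (.node (.leaf 14397516) (.leaf 16662889)) (.node (.leaf 2986141) (.leaf 12668979)))) (.node (.node (.node (.node (.leaf 17613492) (.leaf 10485965)) (.leaf 5759266)) (.node (.leaf 9269542) (.leaf 14418439))) (.node (.node (.leaf 5718496) (.leaf 1556686)) (.node (.leaf 10330221) (.leaf 9024035))))) (.node (.node (.node (.node (.node (.leaf 6570095) (.leaf 4563311)) (.leaf 5443893)) (.node (.leaf 1327442) (.leaf 6005391))) (.node (.node (.leaf 3854424) (.leaf 6693220)) (.node (.leaf 18010473) (.leaf 10695146)))) (.node (.node (.node (.leaf 15262358) (.leaf 5456111)) (.node (.leaf 3752140) (.leaf 5743118))) (.node (.node (.leaf 12931770) (.leaf 2634351)) (.node (.leaf 7635107) (.leaf 7582110)))))) (.node (.node (.node (.node (.node (.node (.leaf 3891676) (.leaf 11223641)) (.leaf 520875)) (.node (.leaf 8872013) (.leaf 11997511))) (.node (.node (.leaf 1040779) (.leaf 12198523)) (.node (.leaf 2474429) (.leaf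 8245561)))) (.node (.node (.node (.node (.leaf 4301271) (.leaf 8519754)) (.leaf 9003275)) (.node (.leaf 14598159) (.leaf 18309594))) (.node (.node (.leaf 11850277) (.leaf 8270181)) (.node (.leaf 9179518) (.leaf 11903628))))) (.node (.node (.node (.node (.node (.leaf 1094262) (.leaf 4333981)) (.leaf 709248)) (.node (.leaf 3494358) (.leaf 16957670))) (.node (.node (.leaf 7672104) (.leaf 3687086)) (.node (.leaf 12272117) (.leaf 9826577)))) (.node (.node (.node (.leaf 6488552) (.leaf 18026778)) (.node (.leaf 1782311) (.leaf 13943015))) (.node (.node (.leaf 8921090) (.leaf 12325078)) (.node (.leaf 2044375) (.leaf 1257969))))))) (.node (.node (.node (.node (.node (.node (.node (.leaf 135382) (.leaf 13889990)) (.leaf 1012166)) (.node (.leaf 14647340) (.leaf 7995463))) (.node (.node (.leaf 2650761) (.leaf 8597938)) (.node (.leaf 8594065) (.leaf 6025370)))) (.node (.node (.node (.node (.leaf 17182925) (.leaf 2543787)) (.leaf 17838463)) (.node (.leaf 13664737) (.leaf 9785497))) (.node (.node (.leaf 11723004) (.leaf 14021297)) (.node (.leaf 315692) (.leaf 7856211)))))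 (.node (.node (.node (.node (.node (.leaf 12169707) (.leaf 2781789)) (.leaf 13640031)) (.node (.leaf 16900378) (.leaf 12714281))) (.node (.node (.leaf 14696501) (.leaf 6148693)) (.node (.leaf 7516725) (.leaf 4629195)))) (.node (.node (.node (.leaf 6803745) (.leaf 17936662)) (.node (.leaf 6758581) (.leaf 6615629))) (.node (.node (.leaf 5435899) (.leaf 3777081)) (.node (.leaf 8663646) (.leaf 8626854)))))) (.node (.node (.node (.node (.node (.node (.leaf 12542330) (.leaf 14430819)) (.leaf 5116284)) (.node (.leaf 5079468) (.leaf 16675382))) (.node (.node (.leaf 8036367) (.leaf 10883672)) (.node (.leaf 856138) (.leaf 6161064)))) (.node (.node (.node (.node (.leaf 16073338) (.leaf 13337166)) (.leaf 9322750)) (.node (.leaf 1421973) (.leaf 1490974))) (.node (.node (.leaf 14602661) (.leaf 5304785)) (.node (.leaf 1613842) (.leaf 10699306))))) (.node (.node (.node (.node (.node (.leaf 16281966) (.leaf 17191435)) (.leaf 10973815)) (.node (.leaf 16093209) (.leaf 3621287))) (.node (.node (.leaf 1884671) (.leaf 10993847)) (.node (.leaf 8069451) (.leaf 15454345)))) (.node (.node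 (.node (.leaf 8565235) (.leaf 8471099)) (.node (.leaf 13497021) (.leaf 159955))) (.node (.node (.leaf 3469322) (.leaf 1749195)) (.node (.leaf 4202680) (.leaf 3658333)))))))) (.node (.node (.node (.node (.node (.node (.node (.node (.leaf 11837594) (.leaf 12427418)) (.leaf 10478155)) (.node (.leaf 6472222) (.leaf 9211922))) (.node (.node (.leaf 6099064) (.leaf 933938)) (.node (.leaf 12706074) (.leaf 11981495)))) (.node (.node (.node (.node (.leaf 15008186) (.leaf 6402383)) (.leaf 10711040)) (.node (.leaf 13861391) (.leaf 13701218))) (.node (.node (.leaf 9732446) (.leaf 15581305)) (.node (.leaf 13668460) (.leaf 17355415))))) (.node (.node (.node (.node (.node (.leaf 7643693) (.leaf 17256633)) (.leaf 13566384)) (.node (.leaf 13357319) (.leaf 6307918))) (.node (.node (.leaf 16970222) (.leaf 11518269)) (.node (.leaf 238008) (.leaf 2617733)))) (.node (.node (.node (.leaf 2687184) (.leaf 16167020)) (.node (.leaf 11317846) (.leaf 13525495))) (.node (.node (.leaf 12870250) (.leaf 10461220)) (.node (.leaf 1671816) (.leaf 6091032)))))) (.node (.node (.node (.node (.node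 (.node (.leaf 9433182) (.leaf 10854896)) (.leaf 13689088)) (.node (.leaf 9114062) (.leaf 15344273))) (.node (.node (.leaf 17822159) (.leaf 7938508)) (.node (.leaf 4632823) (.leaf 5710205)))) (.node (.node (.node (.node (.leaf 12103824) (.leaf 10904184)) (.leaf 14524424)) (.node (.leaf 17985771) (.leaf 13963535))) (.node (.node (.leaf 11694132) (.leaf 3625287)) (.node (.leaf 12947721) (.leaf 18133564))))) (.node (.node (.node (.node (.node (.leaf 16896459) (.leaf 6181517)) (.leaf 1507403)) (.node (.leaf 4952569) (.leaf 14094527))) (.node (.node (.leaf 14307575) (.leaf 6341167)) (.node (.leaf 10358966) (.leaf 1147139)))) (.node (.node (.node (.leaf 7631167) (.leaf 13230445)) (.node (.leaf 14258195) (.leaf 4263936))) (.node (.node (.leaf 17641923) (.leaf 6951526)) (.node (.leaf 1896794) (.leaf 3744325))))))) (.node (.node (.node (.node (.node (.node (.node (.leaf 4919740) (.leaf 967221)) (.leaf 15864048)) (.node (.leaf 16617735) (.leaf 8213061))) (.node (.node (.leaf 14139484) (.leaf 467430)) (.node (.leaf 10420408) (.leaf 7840188)))) (.node (.node (.node (.node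 (.leaf 10318219) (.leaf 15917728)) (.leaf 18219238)) (.node (.leaf 10957510) (.leaf 16577003))) (.node (.node (.leaf 15032837) (.leaf 1692266)) (.node (.leaf 7217285) (.leaf 7221887))))) (.node (.node (.node (.node (.node (.leaf 13000948) (.leaf 9986095)) (.leaf 627319)) (.node (.leaf 3756383) (.leaf 5218672))) (.node (.node (.leaf 8413670) (.leaf 2507155)) (.node (.leaf 13578274) (.leaf 13042341)))) (.node (.node (.node (.leaf 15229225) (.leaf 663646)) (.node (.leaf 14061568) (.leaf 1741138))) (.node (.node (.leaf 13885979) (.leaf 11305218)) (.node (.leaf 16687320) (.leaf 15163649)))))) (.node (.node (.node (.node (.node (.node (.leaf 15291077) (.leaf 12841009)) (.leaf 2089540)) (.node (.leaf 15970504) (.leaf 14532709))) (.node (.node (.leaf 15372963) (.leaf 15245576)) (.node (.leaf 6189226) (.leaf 2925201)))) (.node (.node (.node (.node (.leaf 8630470) (.leaf 2203915)) (.leaf 9900697)) (.node (.leaf 10010666) (.leaf 17899794))) (.node (.node (.leaf 16032390) (.leaf 9953363)) (.node (.leaf 6717608) (.leaf 16191670))))) (.node (.node (.node (.node (.node (.leaf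 6230408) (.leaf 17178970)) (.leaf 127102)) (.node (.leaf 14455443) (.leaf 12107776))) (.node (.node (.leaf 16888065) (.leaf 14729771)) (.node (.leaf 6164928) (.leaf 15934155)))) (.node (.node (.node (.leaf 10388062) (.leaf 1282195)) (.node (.leaf 4870787) (.leaf 860526))) (.node (.node (.leaf 5697615) (.leaf 143700)) (.node (.leaf 356835) (.leaf 12095568)))))))))

def threeMv7232 : Janko.Tree (ℕ) :=
  (.node (.node (.node (.node (.node (.node (.node (.node (.node (.leaf 10350798) (.leaf 11887182)) (.leaf 13414698)) (.node (.leaf 7242014) (.leaf 6770925))) (.node (.node (.leaf 2052782) (.leaf 6197724)) (.node (.leaf 3383757) (.leaf 18092253)))) (.node (.node (.node (.node (.leaf 15286932) (.leaf 14712930)) (.leaf 2019483)) (.node (.leaf 15180019) (.leaf 12046756))) (.node (.node (.leaf 344130) (.leaf 14459354)) (.node (.leaf 9171448) (.leaf 10690955))))) (.node (.node (.node (.node (.node (.leaf 16507326) (.leaf 9843258)) (.leaf 11858495)) (.node (.leaf 118938) (.leaf 15172133))) (.node (.node (.leaf 1224762) (.leaf 8945802)) (.node (.leaf 5992919) (.leaf 16470309))))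 (.node (.node (.node (.leaf 12476677) (.leaf 12951770)) (.node (.leaf 4579831) (.leaf 11211077))) (.node (.node (.leaf 4571596) (.leaf 15585595)) (.node (.leaf 7680650) (.leaf 16834837)))))) (.node (.node (.node (.node (.node (.node (.leaf 16769122) (.leaf 14897218)) (.leaf 7393985)) (.node (.leaf 5071525) (.leaf 983586))) (.node (.node (.leaf 9458383) (.leaf 8278196)) (.node (.leaf 2756832) (.leaf 14799129)))) (.node (.node (.node (.node (.leaf 18014241) (.leaf 12784106)) (.leaf 14221903)) (.node (.leaf 14811773) (.leaf 18116969))) (.node (.node (.leaf 14614729) (.leaf 14037436)) (.node (.leaf 13390295) (.leaf 5390968))))) (.node (.node (.node (.node (.node (.leaf 1278446) (.leaf 14745706)) (.leaf 12763499)) (.node (.leaf 7770697) (.leaf 9670821))) (.node (.node (.leaf 14639677) (.leaf 17105150)) (.node (.leaf 15081532) (.leaf 12804392)))) (.node (.node (.node (.leaf 16605479) (.leaf 9994862)) (.node (.leaf 14275091) (.leaf 13320559))) (.node (.node (.leaf 18296995) (.leaf 14791144)) (.node (.leaf 8606355) (.leaf 2306728))))))) (.node (.node (.node (.node (.node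 (.node (.node (.leaf 6721577) (.leaf 2908185)) (.leaf 12861914)) (.node (.leaf 17977966) (.leaf 17846376))) (.node (.node (.leaf 189051) (.leaf 15462486)) (.node (.leaf 5902739) (.leaf 16199918)))) (.node (.node (.node (.node (.leaf 11154025) (.leaf 2425311)) (.leaf 7532988)) (.node (.leaf 705124) (.leaf 13832354))) (.node (.node (.leaf 6505103) (.leaf 4641391)) (.node (.leaf 10035590) (.leaf 8351920))))) (.node (.node (.node (.node (.node (.leaf 16068943) (.leaf 8503302)) (.leaf 13312400)) (.node (.leaf 16519318) (.leaf 17293929))) (.node (.node (.leaf 11509783) (.leaf 7385510)) (.node (.leaf 15016352) (.leaf 4248053)))) (.node (.node (.node (.leaf 7418345) (.leaf 10142392)) (.node (.leaf 8704202) (.leaf 17961256))) (.node (.node (.leaf 18334343) (.leaf 5923489)) (.node (.leaf 13062346) (.leaf 5394582)))))) (.node (.node (.node (.node (.node (.node (.leaf 12083268) (.leaf 14270700)) (.leaf 15848025)) (.node (.leaf 8389282) (.leaf 4543128))) (.node (.node (.leaf 262493) (.leaf 16232471)) (.node (.leaf 8745379) (.leaf 2462281)))) (.node (.node (.node (.node (.leaf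 18034925) (.leaf 16421233)) (.leaf 12923552)) (.node (.leaf 7041144) (.leaf 14381532))) (.node (.node (.leaf 4428353) (.leaf 16818681)) (.node (.leaf 17580296) (.leaf 14242309))))) (.node (.node (.node (.node (.node (.leaf 10101363) (.leaf 12378387)) (.leaf 5321035)) (.node (.leaf 11845938) (.leaf 14545455))) (.node (.node (.leaf 9875849) (.leaf 17879205)) (.node (.leaf 3170337) (.leaf 11399787)))) (.node (.node (.node (.leaf 11915593) (.leaf 7749892)) (.node (.leaf 5345835) (.leaf 5611715))) (.node (.node (.leaf 9998659) (.leaf 13394231)) (.node (.leaf 15135325) (.leaf 11289191)))))))) (.node (.node (.node (.node (.node (.node (.node (.node (.leaf 9617461) (.leaf 11100593)) (.leaf 8040727)) (.node (.leaf 8651122) (.leaf 7922177))) (.node (.node (.leaf 15994919) (.leaf 11292683)) (.node (.leaf 16667181) (.leaf 15827219)))) (.node (.node (.node (.node (.leaf 10887626) (.leaf 13439457)) (.leaf 1605960)) (.node (.leaf 6320336) (.leaf 14721570))) (.node (.node (.leaf 16744750) (.leaf 9515317)) (.node (.leaf 9265669) (.leaf 16798244))))) (.node (.node (.node (.node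 (.node (.leaf 6017680) (.leaf 2175013)) (.leaf 15638765)) (.node (.leaf 11710520) (.leaf 4010199))) (.node (.node (.leaf 4800834) (.leaf 17621334)) (.node (.leaf 13705485) (.leaf 4686372)))) (.node (.node (.node (.leaf 4538743) (.leaf 5541907)) (.node (.leaf 5452455) (.leaf 573807))) (.node (.node (.leaf 8405666) (.leaf 7336203)) (.node (.leaf 8012329) (.leaf 9609741)))))) (.node (.node (.node (.node (.node (.node (.leaf 2723929) (.leaf 1974284)) (.leaf 16457777)) (.node (.leaf 17375483) (.leaf 2814529))) (.node (.node (.leaf 16982621) (.leaf 17371519)) (.node (.leaf 6070675) (.leaf 16265850)))) (.node (.node (.node (.node (.leaf 270826) (.leaf 5587431)) (.leaf 15532518)) (.node (.leaf 4739287) (.leaf 1130683))) (.node (.node (.leaf 3175017) (.leaf 9855031)) (.node (.leaf 8307110) (.leaf 16437322))))) (.node (.node (.node (.node (.node (.leaf 12350107) (.leaf 5525797)) (.leaf 6603074)) (.node (.leaf 348213) (.leaf 13492380))) (.node (.node (.leaf 16699996) (.leaf 7520494)) (.node (.leaf 8167658) (.leaf 11452821)))) (.node (.node (.node (.leaf 17555783) (.leaf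 17031483)) (.node (.leaf 1270261) (.leaf 16011358))) (.node (.node (.leaf 3252527) (.leaf 5779762)) (.node (.leaf 7422540) (.leaf 11874647))))))) (.node (.node (.node (.node (.node (.node (.node (.leaf 4169749) (.leaf 4645237)) (.leaf 15708446)) (.node (.leaf 2965643) (.leaf 4280595))) (.node (.node (.leaf 905603) (.leaf 16540068)) (.node (.leaf 2498886) (.leaf 14860953)))) (.node (.node (.node (.node (.leaf 11911878) (.leaf 10744229)) (.leaf 5267792)) (.node (.leaf 9506977) (.leaf 4071512))) (.node (.node (.leaf 4927579) (.leaf 6185468)) (.node (.leaf 90189) (.leaf 4317363))))) (.node (.node (.node (.node (.node (.leaf 3162739) (.leaf 12702218)) (.leaf 9118358)) (.node (.leaf 5890537) (.leaf 8233181))) (.node (.node (.leaf 5775765) (.leaf 14008909)) (.node (.leaf 17481979) (.leaf 10199179)))) (.node (.node (.node (.leaf 9707871) (.leaf 16089244)) (.node (.leaf 9236999) (.leaf 10453492))) (.node (.node (.leaf 3473694) (.leaf 12898921)) (.node (.leaf 12488746) (.leaf 14508576)))))) (.node (.node (.node (.node (.node (.node (.leaf 1376311) (.leaf 17072148)) (.leaf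 17559809)) (.node (.leaf 10064436) (.leaf 8311026))) (.node (.node (.leaf 9044623) (.leaf 13918688)) (.node (.leaf 6430811) (.leaf 12058726)))) (.node (.node (.node (.node (.leaf 7246174) (.leaf 13967595)) (.leaf 8032619)) (.node (.leaf 2093362) (.leaf 13988544))) (.node (.node (.leaf 8052975) (.leaf 10949035)) (.node (.leaf 11944597) (.leaf 16552609))))) (.node (.node (.node (.node (.node (.leaf 151777) (.leaf 15647386)) (.leaf 14434696)) (.node (.leaf 18170073) (.leaf 13717699))) (.node (.node (.leaf 1163744) (.leaf 12624352)) (.node (.leaf 16388679) (.leaf 15671961)))) (.node (.node (.node (.leaf 4997534) (.leaf 15692332)) (.node (.leaf 5337354) (.leaf 16752707))) (.node (.node (.leaf 7373170) (.leaf 14078207)) (.node (.leaf 17998435) (.leaf 1880563)))))))))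

def threeMv7233 : Janko.Tree (ℕ) :=
  (.node (.node (.node (.node (.node (.node (.node (.node (.node (.leaf 10953338) (.leaf 5169259)) (.leaf 4854084)) (.node (.leaf 17395871) (.leaf 6869488))) (.node (.node (.leaf 16597097) (.leaf 13050126)) (.node (.leaf 6500497) (.leaf 14693074)))) (.node (.node (.node (.node (.leaf 9355862) (.leaf 17732160)) (.leaf 8299176)) (.node (.leaf 11219425) (.leaf 14770560))) (.node (.node (.leaf 1958226) (.leaf 7622930)) (.node (.leaf 1843675) (.leaf 2388080))))) (.node (.node (.node (.node (.node (.leaf 13107787) (.leaf 12693951)) (.leaf 5579218)) (.node (.leaf 10244613) (.leaf 14250683))) (.node (.node (.leaf 9068990) (.leaf 12243649)) (.node (.leaf 1708634) (.leaf 16212015)))) (.node (.node (.node (.leaf 6820046) (.leaf 15590100)) (.node (.leaf 5882322) (.leaf 4046970))) (.node (.node (.leaf 1237327) (.leaf 14880991)) (.node (.leaf 4362923) (.leaf 6955124)))))) (.node (.node (.node (.node (.node (.node (.leaf 16306799) (.leaf 3768841)) (.leaf 9806468)) (.node (.leaf 14475586) (.leaf 15294512))) (.node (.node (.leaf 15724837)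 (.leaf 17682958)) (.node (.leaf 12431387) (.leaf 8241614)))) (.node (.node (.node (.node (.leaf 12661019) (.leaf 11551427)) (.leaf 7844539)) (.node (.leaf 8892772) (.leaf 11375081))) (.node (.node (.leaf 2334797) (.leaf 5624484)) (.node (.leaf 4436385) (.leaf 8176283))))) (.node (.node (.node (.node (.node (.leaf 11386969) (.leaf 17289498)) (.leaf 12521563)) (.node (.leaf 1360496) (.leaf 999467))) (.node (.node (.leaf 4837787) (.leaf 569594)) (.node (.leaf 17916470) (.leaf 340481)))) (.node (.node (.node (.leaf 18268255) (.leaf 5660903)) (.node (.leaf 2257089) (.leaf 3817640))) (.node (.node (.leaf 6250613) (.leaf 3322457)) (.node (.leaf 10425048) (.leaf 2117898))))))) (.node (.node (.node (.node (.node (.node (.node (.leaf 9187551) (.leaf 17506423)) (.leaf 16290505)) (.node (.leaf 4206757) (.leaf 5280203))) (.node (.node (.leaf 6582737) (.leaf 10006709)) (.node (.leaf 14226027) (.leaf 15765690)))) (.node (.node (.node (.node (.leaf 7799390) (.leaf 9593432)) (.leaf 16138745)) (.node (.leaf 16039986) (.leaf 6640328))) (.node (.node (.leaf 14422198) (.leaf 15475158))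 (.node (.leaf 7082408) (.leaf 7647674))))) (.node (.node (.node (.node (.node (.leaf 9679168) (.leaf 7270908)) (.leaf 14184476)) (.node (.leaf 9638241) (.leaf 13250645))) (.node (.node (.leaf 991448) (.leaf 5754968)) (.node (.leaf 5615823) (.leaf 8196361)))) (.node (.node (.node (.leaf 15106179) (.leaf 17297709)) (.node (.leaf 10654186) (.leaf 14286899))) (.node (.node (.leaf 901533) (.leaf 2376335)) (.node (.leaf 2396561) (.leaf 3907982)))))) (.node (.node (.node (.node (.node (.node (.leaf 11469232) (.leaf 4182535)) (.leaf 9392612)) (.node (.leaf 9711779) (.leaf 9503167))) (.node (.node (.leaf 1995017) (.leaf 16842922)) (.node (.leaf 15467203) (.leaf 2192036)))) (.node (.node (.node (.node (.leaf 12812869) (.leaf 4522121)) (.leaf 6594566)) (.node (.leaf 1860215) (.leaf 17142061))) (.node (.node (.leaf 7160227) (.leaf 15704661)) (.node (.leaf 15061492) (.leaf 1331573))))) (.node (.node (.node (.node (.node (.leaf 7381091) (.leaf 17219654)) (.leaf 2437724)) (.node (.leaf 14643239) (.leaf 17044091))) (.node (.node (.leaf 4125157) (.leaf 13353447)) (.node (.leaf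 1372556) (.leaf 7803414)))) (.node (.node (.node (.leaf 3461158) (.leaf 16126017)) (.node (.leaf 15954237) (.leaf 10027706))) (.node (.node (.leaf 2744589) (.leaf 15519869)) (.node (.leaf 4907712) (.leaf 3736019)))))))) (.node (.node (.node (.node (.node (.node (.node (.node (.leaf 7811741) (.leaf 8646824)) (.leaf 17826174)) (.node (.leaf 10600491) (.leaf 880687))) (.node (.node (.leaf 4530649) (.leaf 9605265)) (.node (.leaf 6972111) (.leaf 17342601)))) (.node (.node (.node (.node (.leaf 3727793) (.leaf 14889227)) (.leaf 16499243)) (.node (.leaf 5009634) (.leaf 3457615))) (.node (.node (.leaf 10457795) (.leaf 3416170)) (.node (.leaf 14839983) (.leaf 10105073))))) (.node (.node (.node (.node (.node (.leaf 848510) (.leaf 14278761)) (.leaf 6591182)) (.node (.leaf 7876953) (.leaf 12132453))) (.node (.node (.leaf 13509291) (.leaf 1016233)) (.node (.leaf 7286834) (.leaf 4432352)))) (.node (.node (.node (.leaf 17707178) (.leaf 615045)) (.node (.leaf 9413110) (.leaf 3408017))) (.node (.node (.leaf 3186691) (.leaf 5058783)) (.node (.leaf 230021) (.leaf 6926562))))))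 (.node (.node (.node (.node (.node (.node (.leaf 8835117) (.leaf 16974295)) (.leaf 9556565)) (.node (.leaf 11780096) (.leaf 757776))) (.node (.node (.leaf 6456012) (.leaf 4321320)) (.node (.leaf 8491333) (.leaf 14512261)))) (.node (.node (.node (.node (.leaf 13201588) (.leaf 2961740)) (.leaf 5161355)) (.node (.leaf 8900785) (.leaf 2850931))) (.node (.node (.leaf 5914898) (.leaf 13562393)) (.node (.leaf 8732904) (.leaf 10162437))))) (.node (.node (.node (.node (.node (.leaf 13926633) (.leaf 18137164)) (.leaf 10592491)) (.node (.leaf 14864650) (.leaf 12943501))) (.node (.node (.leaf 10301478) (.leaf 9347354)) (.node (.leaf 15487119) (.leaf 16326959)))) (.node (.node (.node (.leaf 2638433) (.leaf 18166354)) (.node (.leaf 4792430) (.leaf 12574891))) (.node (.node (.leaf 418408) (.leaf 12276240)) (.node (.leaf 7139625) (.leaf 5283890))))))) (.node (.node (.node (.node (.node (.node (.node (.leaf 2322518) (.leaf 6824020)) (.leaf 3240243)) (.node (.leaf 16482758) (.leaf 3653690))) (.node (.node (.leaf 7971320) (.leaf 5734917)) (.node (.leaf 6062183) (.leaf 5095789))))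 (.node (.node (.node (.node (.leaf 4858215) (.leaf 1355806)) (.leaf 16323200)) (.node (.leaf 11657499) (.leaf 16130050))) (.node (.node (.leaf 14262683) (.leaf 12518067)) (.node (.leaf 6566371) (.leaf 10961526))))) (.node (.node (.node (.node (.node (.leaf 10412383) (.leaf 12808520)) (.leaf 12042621)) (.node (.leaf 16998908) (.leaf 16830469))) (.node (.node (.leaf 14565627) (.leaf 12743094)) (.node (.leaf 512684) (.leaf 15974641)))) (.node (.node (.node (.leaf 635070) (.leaf 16372260)) (.node (.leaf 17756474) (.leaf 2445677))) (.node (.node (.leaf 15335438) (.leaf 6992244)) (.node (.leaf 13816312) (.leaf 8282366)))))) (.node (.node (.node (.node (.node (.node (.leaf 7459005) (.leaf 12845378)) (.leaf 17543820)) (.node (.leaf 11632862) (.leaf 15655303))) (.node (.node (.leaf 10724054) (.leaf 8917084)) (.node (.leaf 4063703) (.leaf 233782)))) (.node (.node (.node (.node (.leaf 8433761) (.leaf 15794851)) (.leaf 15040973)) (.node (.leaf 13283827) (.leaf 3990040))) (.node (.node (.leaf 770180) (.leaf 13381700)) (.node (.leaf 13361507) (.leaf 17068579))))) (.node (.node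 (.node (.node (.node (.leaf 17432865) (.leaf 10502832)) (.leaf 3326222)) (.node (.leaf 2240908) (.leaf 1081739))) (.node (.node (.leaf 11391431) (.leaf 8130641)) (.node (.leaf 16814464) (.leaf 9486489)))) (.node (.node (.node (.leaf 11481806) (.leaf 14557412)) (.node (.leaf 17162637) (.leaf 5501187))) (.node (.node (.leaf 4305615) (.leaf 16392843)) (.node (.leaf 11092501) (.leaf 5972028)))))))))

def threeMv7234 : Janko.Tree (ℕ) :=
  (.node (.node (.node (.node (.node (.node (.node (.node (.node (.leaf 13447473) (.leaf 7184407)) (.leaf 16584855)) (.node (.leaf 10207782) (.leaf 5968349))) (.node (.node (.leaf 10260939) (.leaf 8569410)) (.node (.leaf 1503575) (.leaf 6562394)))) (.node (.node (.node (.node (.leaf 11567119) (.leaf 6762718)) (.leaf 1053273)) (.node (.leaf 11546964) (.leaf 13828283))) (.node (.node (.leaf 14082239) (.leaf 12288639)) (.node (.leaf 6636077) (.leaf 10489944))))) (.node (.node (.node (.node (.node (.leaf 7004244) (.leaf 8540464)) (.leaf 17240646)) (.node (.leaf 4735534) (.leaf 9019819))) (.node (.node (.leaf 13955402) (.leaf 13070522))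 (.node (.leaf 6168647) (.leaf 13471839)))) (.node (.node (.node (.leaf 12976742) (.leaf 16810410)) (.node (.leaf 10281545) (.leaf 9822571))) (.node (.node (.leaf 1393158) (.leaf 815812)) (.node (.leaf 11170320) (.leaf 11370673)))))) (.node (.node (.node (.node (.node (.node (.leaf 3125671) (.leaf 4891031)) (.leaf 10846822)) (.node (.leaf 10515029) (.leaf 6291883))) (.node (.node (.leaf 9666859) (.leaf 3129833)) (.node (.leaf 8286525) (.leaf 1954498)))) (.node (.node (.node (.node (.leaf 7774901) (.leaf 13148867)) (.leaf 823564)) (.node (.leaf 1057070) (.leaf 5308955))) (.node (.node (.leaf 13090976) (.leaf 9662782)) (.node (.leaf 7618881) (.leaf 16761217))))) (.node (.node (.node (.node (.node (.leaf 9351540) (.leaf 6345083)) (.leaf 3138116)) (.node (.leaf 14066249) (.leaf 753708))) (.node (.node (.leaf 17658541) (.leaf 3850514)) (.node (.leaf 11309639) (.leaf 14103146)))) (.node (.node (.node (.leaf 13210054) (.leaf 8229451)) (.node (.leaf 11842194) (.leaf 9728672))) (.node (.node (.leaf 5845272) (.leaf 13742351)) (.node (.leaf 1548799) (.leaf 3432898)))))))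 (.node (.node (.node (.node (.node (.node (.node (.leaf 13627994) (.leaf 2212090)) (.leaf 6713676)) (.node (.leaf 14266819) (.leaf 14479545))) (.node (.node (.leaf 1265992) (.leaf 16269971)) (.node (.leaf 9933135) (.leaf 782507)))) (.node (.node (.node (.node (.leaf 11993431) (.leaf 13971847)) (.leaf 8368432)) (.node (.leaf 2859620) (.leaf 6541493))) (.node (.node (.leaf 5960296) (.leaf 11596295)) (.node (.leaf 14197319) (.leaf 15868091))))) (.node (.node (.node (.node (.node (.leaf 7110789) (.leaf 13124188)) (.leaf 10436691)) (.node (.leaf 7934495) (.leaf 10638040))) (.node (.node (.leaf 12657106) (.leaf 14033390)) (.node (.leaf 16966167) (.leaf 1044914)))) (.node (.node (.node (.leaf 3809386) (.leaf 16990495)) (.node (.leaf 11075878) (.leaf 14303249))) (.node (.node (.leaf 17175153) (.leaf 258662)) (.node (.leaf 10818052) (.leaf 9560772)))))) (.node (.node (.node (.node (.node (.node (.leaf 17781246) (.leaf 4133044)) (.leaf 4993204)) (.node (.leaf 16351395) (.leaf 3666580))) (.node (.node (.leaf 14164036) (.leaf 13275603)) (.node (.leaf 18186790) (.leaf 5382660))))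 (.node (.node (.node (.node (.leaf 2576467) (.leaf 8557210)) (.leaf 9847506)) (.node (.leaf 13058583) (.leaf 6922893))) (.node (.node (.leaf 3629095) (.leaf 9359974)) (.node (.leaf 438415) (.leaf 1167997))))) (.node (.node (.node (.node (.node (.leaf 13931101) (.leaf 10768733)) (.leaf 13615654)) (.node (.leaf 3547156) (.leaf 14950595))) (.node (.node (.leaf 1839312) (.leaf 3965078)) (.node (.leaf 7225949) (.leaf 15614679)))) (.node (.node (.node (.leaf 15200545) (.leaf 2363398)) (.node (.leaf 12320961) (.leaf 15196858))) (.node (.node (.leaf 2970142) (.leaf 4129093)) (.node (.leaf 16941529) (.leaf 15745279)))))))) (.node (.node (.node (.node (.node (.node (.node (.node (.leaf 6238904) (.leaf 659457)) (.leaf 7147766)) (.node (.leaf 1675397) (.leaf 13750958))) (.node (.node (.leaf 10060008) (.leaf 10567702)) (.node (.leaf 17625529) (.leaf 8258224)))) (.node (.node (.node (.node (.leaf 18293373) (.leaf 13795886)) (.leaf 13848799)) (.node (.leaf 13500753) (.leaf 2884221))) (.node (.node (.leaf 17784920) (.leaf 8843440)) (.node (.leaf 8737198) (.leaf 16720273)))))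 (.node (.node (.node (.node (.node (.leaf 15905272) (.leaf 15397354)) (.leaf 9704054)) (.node (.leaf 15167595) (.leaf 11809315))) (.node (.node (.leaf 2236985) (.leaf 14926418)) (.node (.leaf 6258901) (.leaf 5521860)))) (.node (.node (.node (.leaf 8474894) (.leaf 11043224)) (.node (.leaf 15176123) (.leaf 14238360))) (.node (.node (.leaf 13095529) (.leaf 15278628)) (.node (.leaf 2597391) (.leaf 6885785)))))) (.node (.node (.node (.node (.node (.node (.leaf 831750) (.leaf 3535320)) (.leaf 7873130)) (.node (.leaf 16142410) (.leaf 5038348))) (.node (.node (.leaf 6984133) (.leaf 11379187)) (.node (.leaf 3096606) (.leaf 12419271)))) (.node (.node (.node (.node (.leaf 11276334) (.leaf 15233149)) (.leaf 10408201)) (.node (.leaf 561371) (.leaf 5111827))) (.node (.node (.leaf 5366079) (.leaf 18108978)) (.node (.leaf 12472895) (.leaf 17387630))))) (.node (.node (.node (.node (.node (.leaf 14172875) (.leaf 3514669)) (.leaf 9937204)) (.node (.leaf 6255026) (.leaf 2105409))) (.node (.node (.leaf 15298798) (.leaf 5574956)) (.node (.leaf 4259866) (.leaf 7885348)))) (.node (.node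 (.node (.leaf 2404964) (.leaf 14016761)) (.node (.leaf 4567093) (.leaf 4637342))) (.node (.node (.leaf 8360333) (.leaf 2318700)) (.node (.leaf 360468) (.leaf 6451713))))))) (.node (.node (.node (.node (.node (.node (.node (.leaf 16756851) (.leaf 5149303)) (.leaf 14631401)) (.node (.leaf 2736469) (.leaf 11743886))) (.node (.node (.leaf 1528438) (.leaf 10367208)) (.node (.leaf 14176702) (.leaf 4550862)))) (.node (.node (.node (.node (.leaf 4444297) (.leaf 15036418)) (.leaf 4509740)) (.node (.leaf 10809918) (.leaf 14283429))) (.node (.node (.leaf 5427725) (.leaf 7348606)) (.node (.leaf 16728574) (.leaf 9376103))))) (.node (.node (.node (.node (.node (.leaf 2592817) (.leaf 5341577)) (.leaf 13672746)) (.node (.leaf 9924655) (.leaf 2789774))) (.node (.node (.leaf 14496404) (.leaf 13513147)) (.node (.leaf 1437895) (.leaf 7234151)))) (.node (.node (.node (.leaf 2097262) (.leaf 5927307)) (.node (.leaf 9257009) (.leaf 7852416))) (.node (.node (.leaf 9151083) (.leaf 7483741)) (.node (.leaf 8122803) (.leaf 6279725)))))) (.node (.node (.node (.node (.node (.node (.leaf 9244777)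 (.leaf 3396027)) (.leaf 8864408)) (.node (.leaf 16851288) (.leaf 9527990))) (.node (.node (.leaf 10760888) (.leaf 1622687)) (.node (.leaf 4587900) (.leaf 700750)))) (.node (.node (.node (.node (.leaf 18338321) (.leaf 786683)) (.leaf 5083572)) (.node (.leaf 1601622) (.leaf 15831380))) (.node (.node (.leaf 7967416) (.leaf 18113107)) (.node (.leaf 12988922) (.leaf 1700243))))) (.node (.node (.node (.node (.node (.leaf 12005413) (.leaf 6861358)) (.leaf 6172943)) (.node (.leaf 11714683) (.leaf 7155766))) (.node (.node (.leaf 7356890) (.leaf 7668427)) (.node (.leaf 4251870) (.leaf 14635711)))) (.node (.node (.node (.leaf 2523835) (.leaf 3780975)) (.node (.leaf 17100847) (.leaf 10940771))) (.node (.node (.leaf 11534372) (.leaf 2679371)) (.node (.leaf 3080697) (.leaf 12022078)))))))))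

def threeMv7235 : Janko.Tree (ℕ) :=
  (.node (.node (.node (.node (.node (.node (.node (.node (.node (.leaf 4821195) (.leaf 6742539)) (.leaf 5828619)) (.node (.leaf 4157833) (.leaf 679955))) (.node (.node (.leaf 643751) (.leaf 7696921)) (.node (.leaf 889062) (.leaf 20570)))) (.node (.node (.node (.node (.leaf 9757318) (.leaf 14852587)) (.leaf 14742048)) (.node (.leaf 15552647) (.leaf 11198906))) (.node (.node (.leaf 12451976) (.leaf 6550092)) (.node (.leaf 5140588) (.leaf 1982857))))) (.node (.node (.node (.node (.node (.leaf 4092289) (.leaf 10825877)) (.leaf 8552729)) (.node (.leaf 8925623) (.leaf 17051809))) (.node (.node (.leaf 1823164) (.leaf 15212856)) (.node (.leaf 3600812) (.leaf 7524503)))) (.node (.node (.node (.leaf 13377992) (.leaf 11284504)) (.node (.leaf 6783649) (.leaf 3285220))) (.node (.node (.leaf 11026594) (.leaf 2007601)) (.node (.leaf 15098547) (.leaf 16273678)))))) (.node (.node (.node (.node (.node (.node (.leaf 16847404) (.leaf 2265642)) (.leaf 1540577)) (.node (.leaf 2351215) (.leaf 7577832))) (.node (.node (.leaf 2379811) (.leaf 14570053))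 (.node (.leaf 7536814) (.leaf 16105654)))) (.node (.node (.node (.node (.leaf 3903847) (.leaf 12513963)) (.leaf 3478139)) (.node (.leaf 6939119) (.leaf 13676996))) (.node (.node (.leaf 4985214) (.leaf 9384256)) (.node (.leaf 5259978) (.leaf 5177707))))) (.node (.node (.node (.node (.node (.leaf 17203643) (.leaf 14413842)) (.leaf 4178118)) (.node (.leaf 9752711) (.leaf 778574))) (.node (.node (.leaf 3608780) (.leaf 9749032)) (.node (.leaf 14831744) (.leaf 13583047)))) (.node (.node (.node (.leaf 12652700) (.leaf 4968849)) (.node (.leaf 18059330) (.leaf 7103027))) (.node (.node (.leaf 7725084) (.leaf 1487416)) (.node (.leaf 5001520) (.leaf 4308996))))))) (.node (.node (.node (.node (.node (.node (.node (.leaf 2765527) (.leaf 13365420)) (.leaf 15962424)) (.node (.leaf 6627789) (.leaf 17014926))) (.node (.node (.leaf 4546950) (.leaf 10588558)) (.node (.leaf 12382511) (.leaf 14385559)))) (.node (.node (.node (.node (.leaf 2863680) (.leaf 17568401)) (.leaf 9122139)) (.node (.leaf 12529774) (.leaf 13820470))) (.node (.node (.leaf 12554698) (.leaf 12329461)) (.node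 (.leaf 4043280) (.leaf 5505615))))) (.node (.node (.node (.node (.node (.leaf 7848124) (.leaf 9278038)) (.leaf 15888803)) (.node (.leaf 987736) (.leaf 4846107))) (.node (.node (.leaf 14348768) (.leaf 11985256)) (.node (.leaf 9687140) (.leaf 3055751)))) (.node (.node (.node (.leaf 7733476) (.leaf 16347565)) (.node (.leaf 8807039) (.leaf 12026441))) (.node (.node (.leaf 13910097) (.leaf 4420036)) (.node (.leaf 4694458) (.leaf 6812145)))))) (.node (.node (.node (.node (.node (.node (.leaf 6111270) (.leaf 4100450)) (.leaf 565902)) (.node (.leaf 8446073) (.leaf 12533869))) (.node (.node (.leaf 10256888) (.leaf 11989541)) (.node (.leaf 9449576) (.leaf 14856355)))) (.node (.node (.node (.node (.leaf 16159407) (.leaf 10231894)) (.leaf 6680710)) (.node (.leaf 13939078) (.leaf 483453))) (.node (.node (.leaf 8249841) (.leaf 13881477)) (.node (.leaf 9495146) (.leaf 1647264))))) (.node (.node (.node (.node (.node (.leaf 4964618) (.leaf 4386847)) (.leaf 9818338)) (.node (.leaf 5104324) (.leaf 4460897))) (.node (.node (.leaf 1433663) (.leaf 2564683)) (.node (.leaf 7893361)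 (.leaf 4477231)))) (.node (.node (.node (.leaf 10924125) (.leaf 7024923)) (.node (.leaf 17027619) (.leaf 17711606))) (.node (.node (.leaf 4497798) (.leaf 16556163)) (.node (.leaf 4612467) (.leaf 9027991)))))))) (.node (.node (.node (.node (.node (.node (.node (.node (.leaf 13693245) (.leaf 7463044)) (.leaf 6931070)) (.node (.leaf 9035849) (.leaf 17010699))) (.node (.node (.leaf 6631687) (.leaf 13172865)) (.node (.leaf 14373347) (.leaf 16564740)))) (.node (.node (.node (.node (.leaf 3481730) (.leaf 13263059)) (.leaf 13775312)) (.node (.leaf 3523237) (.leaf 15241640))) (.node (.node (.leaf 9199903) (.leaf 15556928)) (.node (.leaf 8970840) (.leaf 17383459))))) (.node (.node (.node (.node (.node (.leaf 1888545) (.leaf 1446294)) (.leaf 8999454)) (.node (.leaf 14979576) (.leaf 278969))) (.node (.node (.leaf 3539408) (.leaf 2900654)) (.node (.leaf 16310609) (.leaf 14668488)))) (.node (.node (.node (.leaf 8331631) (.leaf 16736490)) (.node (.leaf 471186) (.leaf 13840760))) (.node (.node (.leaf 201273) (.leaf 10113102)) (.node (.leaf 3076815) (.leaf 13783152)))))) (.node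 (.node (.node (.node (.node (.node (.leaf 8483316) (.leaf 17744078)) (.leaf 8200738)) (.node (.leaf 8421689) (.leaf 11362325))) (.node (.node (.leaf 422570) (.leaf 10666438)) (.node (.leaf 9523840) (.leaf 4059800)))) (.node (.node (.node (.node (.leaf 1499515) (.leaf 18104468)) (.leaf 17199801)) (.node (.leaf 13119904) (.leaf 676111))) (.node (.node (.leaf 3428641) (.leaf 15446222)) (.node (.leaf 16592921) (.leaf 5533968))))) (.node (.node (.node (.node (.node (.leaf 7917964) (.leaf 15401050)) (.leaf 17809670)) (.node (.leaf 3051565) (.leaf 4391549))) (.node (.node (.leaf 8761367) (.leaf 15217114)) (.node (.leaf 3215553) (.leaf 11256312)))) (.node (.node (.node (.leaf 6312413) (.leaf 17261161)) (.node (.leaf 12918941) (.leaf 14045216))) (.node (.node (.leaf 6206136) (.leaf 7782731)) (.node (.leaf 18096189) (.leaf 10928477))))))) (.node (.node (.node (.node (.node (.node (.node (.leaf 8978722) (.leaf 13824012)) (.leaf 3719801)) (.node (.leaf 6725741) (.leaf 7692438))) (.node (.node (.leaf 3678326) (.leaf 10023013)) (.node (.leaf 16368248) (.leaf 11444742))))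 (.node (.node (.node (.node (.leaf 9789746) (.leaf 12120739)) (.leaf 3465760)) (.node (.leaf 9552143) (.leaf 11177988))) (.node (.node (.leaf 10784905) (.leaf 11235973)) (.node (.leaf 6459664) (.leaf 15945793))))) (.node (.node (.node (.node (.node (.leaf 8429723) (.leaf 10838638)) (.leaf 2892118)) (.node (.leaf 6382154) (.leaf 10175007))) (.node (.node (.leaf 2839126) (.leaf 4657740)) (.node (.leaf 6648216) (.leaf 17276948)))) (.node (.node (.node (.leaf 12255629) (.leaf 5939309)) (.node (.leaf 13455519) (.leaf 3314349))) (.node (.node (.leaf 5702292) (.leaf 17281191)) (.node (.leaf 3813747) (.leaf 11030853)))))) (.node (.node (.node (.node (.node (.node (.leaf 6213968) (.leaf 10821754)) (.leaf 13013699)) (.node (.leaf 6529024) (.leaf 16782012))) (.node (.node (.leaf 15126902) (.leaf 5378332)) (.node (.leaf 15159567) (.leaf 12591724)))) (.node (.node (.node (.node (.leaf 5566912) (.leaf 7823997)) (.leaf 7020997)) (.node (.leaf 14356599) (.leaf 4141273))) (.node (.node (.leaf 5685508) (.leaf 16614085)) (.node (.leaf 7438543) (.leaf 15249884))))) (.node (.node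 (.node (.node (.node (.leaf 14053468) (.leaf 11268655)) (.leaf 10445236)) (.node (.leaf 5251548) (.leaf 18329646))) (.node (.node (.leaf 17502914) (.leaf 8913605)) (.node (.leaf 5120551) (.leaf 5489246)))) (.node (.node (.node (.leaf 13451891) (.leaf 2290370)) (.node (.leaf 4755913) (.leaf 1352232))) (.node (.node (.leaf 18043580) (.leaf 16789895)) (.node (.leaf 15360562) (.leaf 4833468)))))))))

def threeMv7236 : Janko.Tree (ℕ) :=
  (.node (.node (.node (.node (.node (.node (.node (.node (.node (.leaf 86669) (.leaf 3519028)) (.leaf 946390)) (.node (.leaf 11964731) (.leaf 14815793))) (.node (.node (.leaf 7794858) (.leaf 4747383)) (.node (.leaf 13992201) (.leaf 2154538)))) (.node (.node (.node (.node (.leaf 11682089) (.leaf 12190176)) (.leaf 8532313)) (.node (.leaf 4759563) (.leaf 14028967))) (.node (.node (.leaf 7541370) (.leaf 15077892)) (.node (.leaf 3281272) (.leaf 18342373))))) (.node (.node (.node (.node (.node (.leaf 13906283) (.leaf 1663497)) (.leaf 17002732)) (.node (.leaf 10564049) (.leaf 6369352))) (.node (.node (.leaf 13316275) (.leaf 5800362)) (.node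 (.leaf 16777742) (.leaf 17231971)))) (.node (.node (.node (.leaf 6791301) (.leaf 3100707)) (.node (.leaf 8659185) (.leaf 3330640))) (.node (.node (.leaf 557112) (.leaf 12836912)) (.node (.leaf 9085081) (.leaf 7119228)))))) (.node (.node (.node (.node (.node (.node (.leaf 4403575) (.leaf 9175386)) (.leaf 246176)) (.node (.leaf 9498750) (.leaf 12222866))) (.node (.node (.leaf 5181765) (.leaf 15729320)) (.node (.leaf 16216273) (.leaf 10383475)))) (.node (.node (.node (.node (.leaf 995423) (.leaf 11960712)) (.leaf 17330538)) (.node (.leaf 3899502) (.leaf 12434))) (.node (.node (.leaf 18264648) (.leaf 7114861)) (.node (.leaf 2281611) (.leaf 16015631))))) (.node (.node (.node (.node (.node (.leaf 9777583) (.leaf 5816484)) (.leaf 12751228)) (.node (.leaf 8106645) (.leaf 16441580))) (.node (.node (.leaf 10252326) (.leaf 516257)) (.node (.leaf 12358091) (.leaf 3760380)))) (.node (.node (.node (.leaf 639129) (.leaf 877246)) (.node (.leaf 9142692) (.leaf 5132384))) (.node (.node (.leaf 1876233) (.leaf 4239602)) (.node (.leaf 3670256) (.leaf 15737284))))))) (.node (.node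 (.node (.node (.node (.node (.node (.leaf 4518415) (.leaf 8548463)) (.leaf 11297104)) (.node (.leaf 2277742) (.leaf 17339047))) (.node (.node (.leaf 4358323) (.leaf 6619738)) (.node (.leaf 3825750) (.leaf 7049312)))) (.node (.node (.node (.node (.leaf 3993997) (.leaf 13476251)) (.leaf 15991376)) (.node (.leaf 3592736) (.leaf 12444328))) (.node (.node (.leaf 15626803) (.leaf 5292569)) (.node (.leaf 11128960) (.leaf 14327947))))) (.node (.node (.node (.node (.node (.leaf 13894229) (.leaf 1466574)) (.leaf 12063201)) (.node (.leaf 12386372) (.leaf 8777799))) (.node (.node (.leaf 10870974) (.leaf 14541107)) (.node (.leaf 13132076) (.leaf 12644562)))) (.node (.node (.node (.leaf 1679756) (.leaf 9093566)) (.node (.leaf 10752339) (.leaf 4620295))) (.node (.node (.leaf 16052243) (.leaf 14627351)) (.node (.leaf 17928882) (.leaf 1003815)))))) (.node (.node (.node (.node (.node (.node (.leaf 13181588) (.leaf 6746528)) (.leaf 8818815)) (.node (.leaf 10756619) (.leaf 13136155))) (.node (.node (.leaf 9220571) (.leaf 15442495)) (.node (.leaf 16581120) (.leaf 15548637)))) (.node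 (.node (.node (.node (.leaf 17924207) (.leaf 10998346)) (.leaf 6873097)) (.node (.leaf 17653849) (.leaf 594013))) (.node (.node (.leaf 9895948) (.leaf 668228)) (.node (.leaf 15741528) (.leaf 1892935))))) (.node (.node (.node (.node (.node (.leaf 11898910) (.leaf 12304986)) (.leaf 17494349)) (.node (.leaf 8974888) (.leaf 6434913))) (.node (.node (.leaf 3039579) (.leaf 6959303)) (.node (.leaf 13341294) (.leaf 15413580)))) (.node (.node (.node (.leaf 10613002) (.leaf 6177448)) (.node (.leaf 9535702) (.leaf 14147644))) (.node (.node (.leaf 12423600) (.leaf 14610699)) (.node (.leaf 94674) (.leaf 6709665)))))))) (.node (.node (.node (.node (.node (.node (.node (.node (.leaf 16179710) (.leaf 14135413)) (.leaf 15421926)) (.node (.leaf 11706965) (.leaf 14774468))) (.node (.node (.leaf 147989) (.leaf 10715302)) (.node (.leaf 3309774) (.leaf 12447841)))) (.node (.node (.node (.node (.leaf 9892007) (.leaf 9011309)) (.leaf 5652708)) (.node (.leaf 10215921) (.leaf 13722205))) (.node (.node (.leaf 7414412) (.leaf 8237613)) (.node (.leaf 225576) (.leaf 12698050))))) (.node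 (.node (.node (.node (.node (.leaf 12353671) (.leaf 2929342)) (.leaf 8995196)) (.node (.leaf 2691736) (.leaf 6234242))) (.node (.node (.leaf 1155775) (.leaf 4669550)) (.node (.leaf 5656923) (.leaf 377555)))) (.node (.node (.node (.leaf 8695945) (.leaf 4104510)) (.node (.leaf 1101850) (.leaf 13258779))) (.node (.node (.leaf 13852704) (.leaf 12735088)) (.node (.leaf 17350953) (.leaf 819718)))))) (.node (.node (.node (.node (.node (.node (.leaf 13811769) (.leaf 10310231)) (.leaf 11022576)) (.node (.leaf 13463602) (.leaf 11616402))) (.node (.node (.leaf 10097274) (.leaf 1364233)) (.node (.leaf 5640473) (.leaf 13746525)))) (.node (.node (.node (.node (.leaf 5152779) (.leaf 18178391)) (.leaf 2245131)) (.node (.leaf 3043473) (.leaf 4244114))) (.node (.node (.leaf 9482757) (.leaf 12157423)) (.node (.leaf 4485199) (.leaf 15540886))))) (.node (.node (.node (.node (.node (.leaf 3338722) (.leaf 10236147)) (.leaf 3236451)) (.node (.leaf 14323805) (.leaf 17994014))) (.node (.node (.leaf 17690985) (.leaf 3674609)) (.node (.leaf 17244424) (.leaf 17592684)))) (.node (.node (.node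 (.leaf 6943334) (.leaf 684056)) (.node (.leaf 12792057) (.leaf 8725178))) (.node (.node (.leaf 4989042) (.leaf 1019991)) (.node (.leaf 10068083) (.leaf 7352928))))))) (.node (.node (.node (.node (.node (.node (.node (.leaf 15205009) (.leaf 3350734)) (.leaf 7307745)) (.node (.leaf 2134488) (.leaf 11677964))) (.node (.node (.leaf 3698722) (.leaf 10314397)) (.node (.leaf 9106057) (.leaf 10048193)))) (.node (.node (.node (.node (.leaf 11792834) (.leaf 15901337)) (.leaf 10203668)) (.node (.leaf 2920662) (.leaf 15491584))) (.node (.node (.leaf 6042018) (.leaf 11756120)) (.node (.leaf 12689634) (.leaf 17166374))))) (.node (.node (.node (.node (.node (.leaf 1794307) (.leaf 3871125)) (.leaf 17039630)) (.node (.leaf 11079856) (.leaf 2842902))) (.node (.node (.leaf 3441333) (.leaf 504151)) (.node (.leaf 11112718) (.leaf 14737895)))) (.node (.node (.node (.leaf 9531991) (.leaf 10920541)) (.node (.leaf 12186253) (.leaf 11665722))) (.node (.node (.leaf 14143649) (.leaf 12280415)) (.node (.leaf 4276452) (.leaf 4591706)))))) (.node (.node (.node (.node (.node (.node (.leaf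 14504444) (.leaf 17129554)) (.leaf 13521216)) (.node (.leaf 6423159) (.leaf 10797744))) (.node (.node (.leaf 6074424) (.leaf 8253756)) (.node (.leaf 15512072) (.leaf 2933054)))) (.node (.node (.node (.node (.leaf 11436115) (.leaf 8393197)) (.leaf 2761272)) (.node (.leaf 3404066) (.leaf 17727527))) (.node (.node (.leaf 8581220) (.leaf 17306053)) (.node (.leaf 17134270) (.leaf 11358777))))) (.node (.node (.node (.node (.node (.leaf 10932374) (.leaf 5165461)) (.leaf 7905865)) (.node (.leaf 10719306) (.leaf 2752572))) (.node (.node (.leaf 8585702) (.leaf 15761565)) (.node (.leaf 15425668) (.leaf 12128302)))) (.node (.node (.node (.leaf 16396983) (.leaf 8794208)) (.node (.leaf 4227222) (.leaf 9130346))) (.node (.node (.leaf 2916500) (.leaf 3641482)) (.node (.leaf 914104) (.leaf 14901362)))))))))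

def threeMv7237 : Janko.Tree (ℕ) :=
  (.node (.node (.node (.node (.node (.node (.node (.node (.node (.leaf 10080340) (.leaf 9810056)) (.leaf 15839467)) (.node (.leaf 9441426) (.leaf 12219071))) (.node (.node (.leaf 11334152) (.leaf 5538113)) (.node (.leaf 7471599) (.leaf 17834000)))) (.node (.node (.node (.node (.leaf 17076255) (.leaf 3526869)) (.leaf 15700325)) (.node (.leaf 15434041) (.leaf 14991989))) (.node (.node (.leaf 1134990) (.leaf 5157169)) (.node (.leaf 12112328) (.leaf 1261750))))) (.node (.node (.node (.node (.node (.leaf 16953615) (.leaf 17752605)) (.leaf 9929233)) (.node (.leaf 4690550) (.leaf 725625))) (.node (.node (.leaf 250263) (.leaf 975241)) (.node (.leaf 11137453) (.leaf 5186196)))) (.node (.node (.node (.leaf 3150022) (.leaf 2994445)) (.node (.leaf 17670793) (.leaf 9072992))) (.node (.node (.leaf 12403153) (.leaf 7193169)) (.node (.leaf 8573087) (.leaf 11649602)))))) (.node (.node (.node (.node (.node (.node (.leaf 3203500) (.leaf 14819987)) (.leaf 16384249)) (.node (.leaf 12800124) (.leaf 9408587))) (.node (.node (.leaf 7757870) (.leaf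 15307449)) (.node (.leaf 5190017) (.leaf 16085381)))) (.node (.node (.node (.node (.leaf 8314937) (.leaf 12771674)) (.leaf 9380205)) (.node (.leaf 16892146) (.leaf 2208091))) (.node (.node (.leaf 3272901) (.leaf 9912338)) (.node (.leaf 5677130) (.leaf 6247012))))) (.node (.node (.node (.node (.node (.leaf 9695547) (.leaf 11620993)) (.leaf 9203763)) (.node (.leaf 9314542) (.leaf 14528849))) (.node (.node (.leaf 13648555) (.leaf 7573635)) (.node (.leaf 3662141) (.leaf 15643200)))) (.node (.node (.node (.leaf 12853714) (.leaf 16916774)) (.node (.leaf 16331029) (.leaf 11493590))) (.node (.node (.leaf 9437873) (.leaf 14619084)) (.node (.leaf 1725140) (.leaf 10641611))))))) (.node (.node (.node (.node (.node (.node (.node (.leaf 8688222) (.leaf 12874359)) (.leaf 4751550)) (.node (.leaf 8458426) (.leaf 5255295))) (.node (.node (.leaf 3367519) (.leaf 14885589)) (.node (.leaf 2109837) (.leaf 1712210)))) (.node (.node (.node (.node (.leaf 18129154) (.leaf 11354770)) (.leaf 11108585)) (.node (.leaf 11854153) (.leaf 9253139))) (.node (.node (.leaf 14086730) (.leaf 9720401))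 (.node (.leaf 16285921) (.leaf 12558610))))) (.node (.node (.node (.node (.node (.leaf 10707137) (.leaf 7172803)) (.leaf 9056787)) (.node (.leaf 17871464) (.leaf 49705))) (.node (.node (.leaf 4378637) (.leaf 12177995)) (.node (.leaf 16044449) (.leaf 11059480)))) (.node (.node (.node (.leaf 2658783) (.leaf 9691546)) (.node (.leaf 13324474) (.leaf 14315810))) (.node (.node (.leaf 3829782) (.leaf 11330225)) (.node (.leaf 16208495) (.leaf 4776258)))))) (.node (.node (.node (.node (.node (.node (.leaf 14364791) (.leaf 13767372)) (.leaf 3306140)) (.node (.leaf 6697197) (.leaf 18322026))) (.node (.node (.leaf 9863243) (.leaf 15093958)) (.node (.leaf 16445973) (.leaf 1830924)))) (.node (.node (.node (.node (.leaf 2519426) (.leaf 8982697)) (.leaf 1368597)) (.node (.leaf 16867810) (.leaf 16409278))) (.node (.node (.leaf 1786041) (.leaf 4350364)) (.node (.leaf 12362018) (.leaf 8765509))))) (.node (.node (.node (.node (.node (.leaf 2822766) (.leaf 16568698)) (.leaf 479664)) (.node (.leaf 8884939) (.leaf 13529640))) (.node (.node (.leaf 4165814) (.leaf 7987220)) (.node (.leaf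 7237814) (.leaf 9417010)))) (.node (.node (.node (.leaf 16110037) (.leaf 3842205)) (.node (.leaf 10191431) (.leaf 6083064))) (.node (.node (.leaf 13218357) (.leaf 8385121)) (.node (.leaf 528603) (.leaf 8712386)))))))) (.node (.node (.node (.node (.node (.node (.node (.node (.leaf 16462100) (.leaf 10670212)) (.leaf 5054820)) (.node (.leaf 12865666) (.leaf 8749079))) (.node (.node (.leaf 11640956) (.leaf 8851848)) (.node (.leaf 7700759) (.leaf 18280663)))) (.node (.node (.node (.node (.leaf 12910859) (.leaf 16621579)) (.leaf 745720)) (.node (.leaf 13197498) (.leaf 3695148))) (.node (.node (.leaf 10621609) (.leaf 5099533)) (.node (.leaf 16466449) (.leaf 8679831))))) (.node (.node (.node (.node (.node (.leaf 8986628) (.leaf 4337796)) (.leaf 13586864)) (.node (.leaf 18063921) (.leaf 6476372))) (.node (.node (.leaf 8868527) (.leaf 2777761)) (.node (.leaf 13697243) (.leaf 4399391)))) (.node (.node (.node (.leaf 11448749) (.leaf 11018476)) (.node (.leaf 5460148) (.leaf 5591697))) (.node (.node (.leaf 13546007) (.leaf 14823912)) (.node (.leaf 4457048) (.leaf 12144798))))))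 (.node (.node (.node (.node (.node (.node (.leaf 1745176) (.leaf 18305157)) (.leaf 11014181)) (.node (.leaf 8426136) (.leaf 2551871))) (.node (.node (.leaf 10535043) (.leaf 8151240)) (.node (.leaf 17617099) (.leaf 17416422)))) (.node (.node (.node (.node (.leaf 12468321) (.leaf 12992897)) (.leaf 11821067)) (.node (.leaf 18006207) (.leaf 9867335))) (.node (.node (.leaf 17453333) (.leaf 4850216)) (.node (.leaf 4366457) (.leaf 6336763))))) (.node (.node (.node (.node (.node (.leaf 1323614) (.leaf 11096646)) (.leaf 10584140)) (.node (.leaf 6066282) (.leaf 2248747))) (.node (.node (.leaf 9659001) (.leaf 17649725)) (.node (.leaf 3973566) (.leaf 5201949)))) (.node (.node (.node (.leaf 14131809) (.leaf 9421121)) (.node (.leaf 6316158) (.leaf 6353165))) (.node (.node (.leaf 2470251) (.leaf 16793647)) (.node (.leaf 10346524) (.leaf 17088559))))))) (.node (.node (.node (.node (.node (.node (.node (.leaf 6946945) (.leaf 2031966)) (.leaf 3883075)) (.node (.leaf 13537938) (.leaf 14594647))) (.node (.node (.leaf 7721660) (.leaf 5448202)) (.node (.leaf 2048538) (.leaf 10276925))))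 (.node (.node (.node (.node (.leaf 8639128) (.leaf 532526)) (.leaf 11772474)) (.node (.leaf 7209365) (.leaf 1105984))) (.node (.node (.leaf 12087599) (.leaf 14868782)) (.node (.leaf 1315186) (.leaf 9388509))))) (.node (.node (.node (.node (.node (.leaf 17981749) (.leaf 106578)) (.leaf 10662616)) (.node (.leaf 12051116) (.leaf 115125))) (.node (.node (.leaf 10879649) (.leaf 14844628)) (.node (.leaf 11571247) (.leaf 9166996)))) (.node (.node (.node (.leaf 10875545) (.leaf 18018395)) (.node (.leaf 16986518) (.leaf 11157721))) (.node (.node (.leaf 5705782) (.leaf 13660469)) (.node (.leaf 5636132) (.leaf 14377394)))))) (.node (.node (.node (.node (.node (.node (.leaf 8642833) (.leaf 12677163)) (.leaf 13017212)) (.node (.leaf 6443157) (.leaf 3690775))) (.node (.node (.leaf 10265040) (.leaf 13349575)) (.node (.leaf 4767856) (.leaf 2695394)))) (.node (.node (.node (.node (.leaf 2548341) (.leaf 18260109)) (.leaf 5230630)) (.node (.leaf 15450741) (.leaf 4256319))) (.node (.node (.leaf 8061456) (.leaf 7553176)) (.node (.leaf 3093044) (.leaf 10268854))))) (.node (.node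 (.node (.node (.node (.leaf 15663128) (.leaf 4154057)) (.leaf 15110210)) (.node (.leaf 1589268) (.leaf 3928727))) (.node (.node (.leaf 15155342) (.leaf 2727961)) (.node (.leaf 6385858) (.leaf 9798118)))) (.node (.node (.node (.leaf 5935690) (.leaf 791192)) (.node (.leaf 164180) (.leaf 1110019))) (.node (.node (.leaf 10604586) (.leaf 15778392)) (.node (.leaf 15876293) (.leaf 17440932)))))))))

def threeMv7238 : Janko.Tree (ℕ) :=
  (.node (.node (.node (.node (.node (.node (.node (.node (.node (.leaf 7094583) (.leaf 16101582)) (.leaf 12985048)) (.node (.leaf 3944818) (.leaf 11579629))) (.node (.node (.leaf 14090685) (.leaf 3506493)) (.node (.leaf 16376124) (.leaf 14709440)))) (.node (.node (.node (.node (.leaf 7016577) (.leaf 5583313)) (.leaf 8073660)) (.node (.leaf 1872323) (.leaf 10965491))) (.node (.node (.leaf 4481593) (.leaf 5042194)) (.node (.leaf 8364326) (.leaf 14446846))))) (.node (.node (.node (.node (.node (.leaf 13726028) (.leaf 4674206)) (.leaf 10056255)) (.node (.leaf 16933013) (.leaf 3702909))) (.node (.node (.leaf 13533375) (.leaf 12312721)) (.node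 (.leaf 15237697) (.leaf 10019439)))) (.node (.node (.node (.leaf 10465713) (.leaf 18240004)) (.node (.leaf 1483142) (.leaf 5431509))) (.node (.node (.leaf 6521200) (.leaf 12616237)) (.node (.leaf 10137921) (.leaf 14664295)))))) (.node (.node (.node (.node (.node (.node (.leaf 15004305) (.leaf 7168601)) (.leaf 9851590)) (.node (.leaf 18031011) (.leaf 3224167))) (.node (.node (.leaf 7291033) (.leaf 17588521)) (.node (.leaf 17092702) (.leaf 7262859)))) (.node (.node (.node (.node (.leaf 8728948) (.leaf 10989594)) (.leaf 7164229)) (.node (.leaf 4473040) (.leaf 14717026))) (.node (.node (.leaf 13328666) (.leaf 14041692)) (.node (.leaf 5243261) (.leaf 5628443))))) (.node (.node (.node (.node (.node (.leaf 11600239) (.leaf 2740414)) (.leaf 11489797)) (.node (.leaf 17662207) (.leaf 5599759))) (.node (.node (.leaf 17789152) (.leaf 2535465)) (.node (.leaf 3584614) (.leaf 13738569)))) (.node (.node (.node (.leaf 15364369) (.leaf 2199713)) (.node (.leaf 6303911) (.leaf 5988831))) (.node (.node (.leaf 7508548) (.leaf 10039437)) (.node (.leaf 3834573) (.leaf 11272194)))))))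 (.node (.node (.node (.node (.node (.node (.node (.leaf 5063149) (.leaf 5833352)) (.leaf 11645258)) (.node (.leaf 9286297) (.leaf 17301794))) (.node (.node (.leaf 13595034) (.leaf 9339099)) (.node (.leaf 9318794) (.leaf 11751752)))) (.node (.node (.node (.node (.leaf 1212818) (.leaf 9101572)) (.leaf 17604971)) (.node (.leaf 10674265) (.leaf 10481795))) (.node (.node (.leaf 4936010) (.leaf 11337787)) (.node (.leaf 16277731) (.leaf 1036746))))) (.node (.node (.node (.node (.node (.leaf 7675972) (.leaf 1753649)) (.leaf 17019590)) (.node (.leaf 4882523) (.leaf 155754))) (.node (.node (.leaf 10391643) (.leaf 1380959)) (.node (.leaf 15143526) (.leaf 16978147)))) (.node (.node (.node (.leaf 16904693) (.leaf 5996773)) (.node (.leaf 8655522) (.leaf 17850600))) (.node (.node (.leaf 14467247) (.leaf 3739671)) (.node (.leaf 8516161) (.leaf 10969582)))))) (.node (.node (.node (.node (.node (.node (.leaf 12317312) (.leaf 15696118)) (.leaf 14004823)) (.node (.leaf 15782293) (.leaf 8077535))) (.node (.node (.leaf 6517054) (.leaf 1069472)) (.node (.leaf 15609892) (.leaf 1761853))))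 (.node (.node (.node (.node (.leaf 11542940) (.leaf 6492318)) (.leaf 1470859)) (.node (.leaf 9904459) (.leaf 14905499))) (.node (.node (.leaf 2846766) (.leaf 12009836)) (.node (.leaf 15000242) (.leaf 15605987))))) (.node (.node (.node (.node (.node (.leaf 1532451) (.leaf 9306782)) (.leaf 2539864)) (.node (.leaf 14463422) (.leaf 16433163))) (.node (.node (.leaf 15392962) (.leaf 950667)) (.node (.leaf 8262000) (.leaf 13947204)))) (.node (.node (.node (.leaf 9183289) (.leaf 1024187)) (.node (.leaf 7946933) (.leaf 17498188))) (.node (.node (.leaf 14332232) (.leaf 2228251)) (.node (.leaf 16515403) (.leaf 16679019)))))))) (.node (.node (.node (.node (.node (.node (.node (.node (.leaf 12739126) (.leaf 5796294)) (.leaf 14962870)) (.node (.leaf 6730267) (.leaf 692904))) (.node (.node (.leaf 2126486) (.leaf 5247119)) (.node (.leaf 17608775) (.leaf 7766468)))) (.node (.node (.node (.node (.leaf 10158784) (.leaf 17457596)) (.leaf 11739577)) (.node (.leaf 7835731) (.leaf 7614839))) (.node (.node (.leaf 7451073) (.leaf 14127790)) (.node (.leaf 9290097) (.leaf 8114266)))))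 (.node (.node (.node (.node (.node (.leaf 6664633) (.leaf 13054169)) (.leaf 7090753)) (.node (.leaf 17125726) (.leaf 13386239))) (.node (.node (.leaf 14573799) (.leaf 11133094)) (.node (.leaf 12501150) (.leaf 405563)))) (.node (.node (.node (.leaf 4866307) (.leaf 3604927)) (.node (.leaf 2085116) (.leaf 16716404))) (.node (.node (.leaf 13127797) (.leaf 16785626)) (.node (.leaf 18317643) (.leaf 8171966)))))) (.node (.node (.node (.node (.node (.node (.leaf 12030666) (.leaf 9601672)) (.leaf 17264830)) (.node (.leaf 8015877) (.leaf 16392))) (.node (.node (.leaf 10133797) (.leaf 16294066)) (.node (.leaf 17478249) (.leaf 4977094)))) (.node (.node (.node (.node (.leaf 12587390) (.leaf 11924030)) (.leaf 10428742)) (.node (.leaf 13226116) (.leaf 6124090))) (.node (.node (.leaf 12628085) (.leaf 2666666)) (.node (.leaf 7303509) (.leaf 1814579))))) (.node (.node (.node (.node (.node (.leaf 15597716) (.leaf 9216454)) (.leaf 352935)) (.node (.leaf 16474560) (.leaf 2957561))) (.node (.node (.leaf 17571882) (.leaf 10633731)) (.node (.leaf 16691574) (.leaf 5210188)))) (.node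 (.node (.node (.leaf 2937256) (.leaf 15925376)) (.node (.leaf 2429551) (.leaf 13430885))) (.node (.node (.leaf 7069740) (.leaf 11460853)) (.node (.leaf 7709361) (.leaf 3211660))))))) (.node (.node (.node (.node (.node (.node (.node (.leaf 1683615) (.leaf 4980811)) (.leaf 3560083)) (.node (.leaf 5398575) (.leaf 17224084))) (.node (.node (.leaf 6467832) (.leaf 373259)) (.node (.leaf 13140586) (.leaf 9077066)))) (.node (.node (.node (.node (.leaf 5173285) (.leaf 8303085)) (.leaf 12202532)) (.node (.leaf 1274086) (.leaf 11239500))) (.node (.node (.leaf 4108538) (.leaf 12124641)) (.node (.leaf 7569697) (.leaf 18285087))))) (.node (.node (.node (.node (.node (.leaf 13206004) (.leaf 2732457)) (.leaf 6287649)) (.node (.leaf 8118903) (.leaf 17547378))) (.node (.node (.leaf 17973717) (.leaf 5313159)) (.node (.leaf 1172074) (.leaf 2355762)))) (.node (.node (.node (.leaf 16732503) (.leaf 6754337)) (.node (.leaf 17146583) (.leaf 7099063))) (.node (.node (.leaf 5481005) (.leaf 18100646)) (.node (.leaf 1339882) (.leaf 286748)))))) (.node (.node (.node (.node (.node (.node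 (.leaf 5468165) (.leaf 14205048)) (.leaf 656067)) (.node (.leaf 12141243) (.leaf 18235585))) (.node (.node (.leaf 17420900) (.leaf 13631717)) (.node (.leaf 9405071) (.leaf 1294891)))) (.node (.node (.node (.node (.leaf 1159661) (.leaf 7397527)) (.leaf 11206700)) (.node (.leaf 15208956) (.leaf 15053420))) (.node (.node (.leaf 762335) (.leaf 2953340)) (.node (.leaf 12337496) (.leaf 9736536))))) (.node (.node (.node (.node (.node (.leaf 2871660) (.leaf 4841976)) (.leaf 5787989)) (.node (.leaf 320035) (.leaf 9162842))) (.node (.node (.leaf 13443623) (.leaf 11501838)) (.node (.leaf 16838964) (.leaf 807091)))) (.node (.node (.node (.leaf 16806452) (.leaf 15323407)) (.node (.leaf 16646520) (.leaf 7061779))) (.node (.node (.leaf 2302263) (.leaf 6574326)) (.node (.leaf 10240697) (.leaf 18149839)))))))))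

def threeMv7239 : Janko.Tree (ℕ) :=
  (.node (.node (.node (.node (.node (.node (.node (.node (.node (.leaf 18088029) (.leaf 6893971)) (.leaf 14893356)) (.node (.leaf 12464621) (.leaf 9585111))) (.node (.node (.leaf 7327806) (.leaf 4804773)) (.node (.leaf 2081281) (.leaf 864751)))) (.node (.node (.node (.node (.leaf 12480843) (.leaf 14704656)) (.leaf 13685072)) (.node (.leaf 17412450) (.leaf 10731955))) (.node (.node (.leaf 4370719) (.leaf 5644450)) (.node (.leaf 10297548) (.leaf 12153412))))) (.node (.node (.node (.node (.node (.leaf 18161730) (.leaf 98999)) (.leaf 17404015)) (.node (.leaf 16019861) (.leaf 217286))) (.node (.node (.leaf 3277478) (.leaf 16949548)) (.node (.leaf 9830701) (.leaf 13574208)))) (.node (.node (.node (.leaf 1228839) (.leaf 13836338)) (.node (.leaf 5804553) (.leaf 13398491))) (.node (.node (.leaf 2630209) (.leaf 14254658)) (.node (.leaf 5714183) (.leaf 9462333)))))) (.node (.node (.node (.node (.node (.node (.leaf 2457651) (.leaf 7717462)) (.leaf 14553323)) (.node (.leaf 6996284) (.leaf 4006172))) (.node (.node (.leaf 10608744) (.leaf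 9425033)) (.node (.leaf 3866837) (.leaf 10522858)))) (.node (.node (.node (.node (.leaf 11432279) (.leaf 5911113)) (.leaf 16703968)) (.node (.leaf 7479670) (.leaf 10555976))) (.node (.node (.leaf 553015) (.leaf 13296222)) (.node (.leaf 15884878) (.leaf 18084064))))) (.node (.node (.node (.node (.node (.leaf 3003021) (.leaf 3953221)) (.leaf 1855914)) (.node (.leaf 9478435) (.leaf 1253857))) (.node (.node (.leaf 4374818) (.leaf 32860)) (.node (.leaf 9793670) (.leaf 13046196)))) (.node (.node (.node (.leaf 909547) (.leaf 6217911)) (.node (.leaf 3260475) (.leaf 2384081))) (.node (.node (.leaf 16257716) (.leaf 14439100)) (.node (.leaf 17109293) (.leaf 2158759))))))) (.node (.node (.node (.node (.node (.node (.node (.leaf 8839690) (.leaf 2466322)) (.leaf 13074922)) (.node (.leaf 4797084) (.leaf 3232414))) (.node (.node (.leaf 3797338) (.leaf 18125292)) (.node (.leaf 1552674) (.leaf 11604471)))) (.node (.node (.node (.node (.leaf 5403265) (.leaf 6463986)) (.leaf 4743648)) (.node (.leaf 3133472) (.leaf 7426581))) (.node (.node (.leaf 6377781) (.leaf 15515659)) (.node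 (.leaf 11419924) (.leaf 17408107))))) (.node (.node (.node (.node (.node (.leaf 57657) (.leaf 15958117)) (.leaf 5808492)) (.node (.leaf 13922968) (.leaf 4653549))) (.node (.node (.leaf 14426680) (.leaf 9519353)) (.node (.leaf 13287906) (.leaf 1687988)))) (.node (.node (.node (.leaf 5722610) (.leaf 12595299)) (.node (.leaf 17035928) (.leaf 4464741))) (.node (.node (.leaf 5066849) (.leaf 6779174)) (.node (.leaf 5669306) (.leaf 17424871)))))) (.node (.node (.node (.node (.node (.node (.leaf 3048052) (.leaf 6086934)) (.leaf 5919010)) (.node (.leaf 4825574) (.leaf 2715907))) (.node (.node (.leaf 4284976) (.leaf 10915905)) (.node (.leaf 7704812) (.leaf 1048925)))) (.node (.node (.node (.node (.leaf 1478673) (.leaf 16573111)) (.leaf 14098550)) (.node (.leaf 15225394) (.leaf 12599825))) (.node (.node (.leaf 8057099) (.leaf 500196)) (.node (.leaf 4022624) (.leaf 10814024))))) (.node (.node (.node (.node (.node (.leaf 4096051) (.leaf 9572953)) (.leaf 13333033)) (.node (.leaf 10109410) (.leaf 12210599))) (.node (.node (.leaf 3837988) (.leaf 10014931)) (.node (.leaf 10531431)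 (.leaf 3612694)))) (.node (.node (.node (.leaf 6738608) (.leaf 10735935)) (.node (.leaf 16961927) (.leaf 17896103))) (.node (.node (.leaf 17699251) (.leaf 7213283)) (.node (.leaf 8294469) (.leaf 17989678)))))))) (.node (.node (.node (.node (.node (.node (.node (.node (.leaf 8380749) (.leaf 11407405)) (.leaf 2183644)) (.node (.leaf 3195308) (.leaf 12685912))) (.node (.node (.leaf 2510964) (.leaf 13254989)) (.node (.leaf 11350554) (.leaf 4493398)))) (.node (.node (.node (.node (.leaf 10440922) (.leaf 111105)) (.leaf 14344885)) (.node (.leaf 6832606) (.leaf 11149365))) (.node (.node (.leaf 15405555) (.leaf 733765)) (.node (.leaf 488101) (.leaf 496143))))) (.node (.node (.node (.node (.node (.leaf 4526159) (.leaf 5886272)) (.leaf 5681294)) (.node (.leaf 14701195) (.leaf 4559470))) (.node (.node (.leaf 4448746) (.leaf 16495074)) (.node (.leaf 8769974) (.leaf 15659210)))) (.node (.node (.node (.leaf 8086009) (.leaf 15528407)) (.node (.leaf 15684246) (.leaf 2167177))) (.node (.node (.leaf 18080311) (.leaf 3105073)) (.node (.leaf 13505196) (.leaf 15028281)))))) (.node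 (.node (.node (.node (.node (.node (.leaf 10829961) (.leaf 11804869)) (.leaf 6557835)) (.node (.leaf 1851847) (.leaf 2887939))) (.node (.node (.leaf 7086515) (.leaf 5894824)) (.node (.leaf 10891525) (.leaf 15950009)))) (.node (.node (.node (.node (.leaf 3564026) (.leaf 11383248)) (.leaf 10977504)) (.node (.leaf 2613767) (.leaf 721307))) (.node (.node (.leaf 16175632) (.leaf 2806252)) (.node (.leaf 139510) (.leaf 8786522))))) (.node (.node (.node (.node (.node (.leaf 1921314) (.leaf 9474710)) (.leaf 3502552)) (.node (.leaf 11825447) (.leaf 13877874))) (.node (.node (.leaf 1298575) (.leaf 549064)) (.node (.leaf 9109574) (.leaf 2580753)))) (.node (.node (.node (.leaf 5194269) (.leaf 10326568)) (.node (.leaf 13762887) (.leaf 3531194))) (.node (.node (.leaf 17694875) (.leaf 9146750)) (.node (.leaf 8356353) (.leaf 2073058))))))) (.node (.node (.node (.node (.node (.node (.node (.leaf 586138) (.leaf 14684346)) (.leaf 3748474)) (.node (.leaf 5128662) (.leaf 6553973))) (.node (.node (.leaf 3981401) (.leaf 15560810)) (.node (.leaf 17445572) (.leaf 14913582)))) (.node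 (.node (.node (.node (.leaf 8139017) (.leaf 958663)) (.leaf 1593362)) (.node (.leaf 12939590) (.leaf 13865622))) (.node (.node (.leaf 3084480) (.leaf 1114218)) (.node (.leaf 3858582) (.leaf 17317993))))) (.node (.node (.node (.node (.node (.leaf 9838854) (.leaf 7151856)) (.leaf 4088503)) (.node (.leaf 7405712) (.leaf 15417562))) (.node (.node (.leaf 5509811) (.leaf 12927369)) (.node (.leaf 10088661) (.leaf 13619794)))) (.node (.node (.node (.leaf 8048998) (.leaf 10306155)) (.node (.leaf 11411470) (.leaf 454719))) (.node (.node (.leaf 16134427) (.leaf 6439057)) (.node (.leaf 938708) (.leaf 13554362)))))) (.node (.node (.node (.node (.node (.node (.leaf 14107122) (.leaf 5419027)) (.leaf 7360792)) (.node (.leaf 10510767) (.leaf 1008018))) (.node (.node (.leaf 10789458) (.leaf 13779281)) (.node (.leaf 6787795) (.leaf 6676497)))) (.node (.node (.node (.node (.leaf 17739942) (.leaf 2023469)) (.leaf 12292374)) (.node (.leaf 12435939) (.leaf 4665959))) (.node (.node (.leaf 397731) (.leaf 8208710)) (.node (.leaf 17515208) (.leaf 3035787))))) (.node (.node (.node (.node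 (.node (.leaf 14000796) (.leaf 6361597)) (.leaf 16937033)) (.node (.leaf 3387583) (.leaf 5423124))) (.node (.node (.leaf 11797196) (.leaf 17805704)) (.node (.leaf 3318299) (.leaf 3342794)))) (.node (.node (.node (.leaf 5563022) (.leaf 12878261)) (.node (.leaf 2130313) (.leaf 15130770))) (.node (.node (.leaf 5595542) (.leaf 6414746)) (.node (.leaf 10289215) (.leaf 5407268)))))))))

def threeMv72310 : Janko.Tree (ℕ) :=
  (.node (.node (.node (.node (.node (.node (.node (.node (.node (.leaf 14921746) (.leaf 1495156)) (.leaf 7913740)) (.node (.leaf 1524103) (.leaf 12235360))) (.node (.node (.leaf 4469172) (.leaf 7664237)) (.node (.leaf 3543584) (.leaf 6889474)))) (.node (.node (.node (.node (.leaf 6209990) (.leaf 799166)) (.leaf 9626163)) (.node (.leaf 7688586) (.leaf 9097733))) (.node (.node (.leaf 8622236) (.leaf 6652399)) (.node (.leaf 8904704) (.leaf 5947727))))) (.node (.node (.node (.node (.node (.leaf 5022072) (.leaf 17932739)) (.leaf 8192334)) (.node (.leaf 9642516) (.leaf 18174093))) (.node (.node (.leaf 1728797) (.leaf 9764971)) (.node (.leaf 5607500)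 (.leaf 12001435)))) (.node (.node (.node (.leaf 7975104) (.leaf 6406823)) (.node (.leaf 1233237) (.leaf 2482744))) (.node (.node (.leaf 16236884) (.leaf 13156987)) (.node (.leaf 7332416) (.leaf 8667703)))))) (.node (.node (.node (.node (.node (.node (.leaf 6513153) (.leaf 17920411)) (.leaf 11891189)) (.node (.leaf 9872061) (.leaf 15319501))) (.node (.node (.leaf 1397332) (.leaf 737644)) (.node (.leaf 17310019) (.leaf 7008522)))) (.node (.node (.node (.node (.leaf 15679600) (.leaf 1032431)) (.leaf 205266)) (.node (.leaf 1060925) (.leaf 14209672))) (.node (.node (.leaf 11862630) (.leaf 14606907)) (.node (.leaf 14049773) (.leaf 2904154))))) (.node (.node (.node (.node (.node (.leaf 11505916) (.leaf 17138001)) (.leaf 5013825)) (.node (.leaf 8802793) (.leaf 1409670))) (.node (.node (.leaf 6979921) (.leaf 8757612)) (.node (.leaf 7504388) (.leaf 8409649)))) (.node (.node (.node (.leaf 4903152) (.leaf 18145940)) (.node (.leaf 4346508) (.leaf 1474952))) (.node (.node (.leaf 17461400) (.leaf 4784245)) (.node (.leaf 17535244) (.leaf 7684682))))))) (.node (.node (.node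 (.node (.node (.node (.node (.leaf 12636831) (.leaf 13025649)) (.leaf 10416176)) (.node (.leaf 10506795) (.leaf 14291515))) (.node (.node (.leaf 2269269) (.leaf 12816718)) (.node (.leaf 13459471) (.leaf 12722731)))) (.node (.node (.node (.node (.leaf 13029624) (.leaf 1659335)) (.leaf 15544711)) (.node (.leaf 2682883) (.leaf 13804118))) (.node (.node (.leaf 14070209) (.leaf 2527404)) (.node (.leaf 15429940) (.leaf 9957941))))) (.node (.node (.node (.node (.node (.leaf 1597616) (.leaf 12780012)) (.leaf 2478214)) (.node (.leaf 8716657) (.leaf 15073451))) (.node (.node (.leaf 9970084) (.leaf 6909973)) (.node (.leaf 7012675) (.leaf 14168515)))) (.node (.node (.node (.leaf 8327732) (.leaf 299158)) (.node (.leaf 18002302) (.leaf 7639408))) (.node (.node (.leaf 14967240) (.leaf 12890293)) (.node (.leaf 10539278) (.leaf 8560657)))))) (.node (.node (.node (.node (.node (.node (.leaf 11764421) (.leaf 14623421)) (.leaf 2949500)) (.node (.leaf 17490249) (.leaf 4583959))) (.node (.node (.leaf 18121253) (.leaf 7586328)) (.node (.leaf 13222394) (.leaf 2068987)))) (.node (.node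 (.node (.node (.leaf 11034729) (.leaf 122934)) (.leaf 4084023)) (.node (.leaf 1905133) (.leaf 2040132))) (.node (.node (.leaf 4018205) (.leaf 17150006)) (.node (.leaf 4723000) (.leaf 1221190))))) (.node (.node (.node (.node (.node (.leaf 6049975) (.leaf 4067840)) (.leaf 6393922)) (.node (.leaf 1245472) (.leaf 17875338))) (.node (.node (.leaf 12968588) (.leaf 17048207)) (.node (.leaf 4484) (.leaf 618637)))) (.node (.node (.node (.leaf 15065422) (.leaf 10396309)) (.node (.leaf 8224985) (.leaf 8815253))) (.node (.node (.leaf 8376922) (.leaf 16535935)) (.node (.leaf 6705294) (.leaf 7319873)))))))) (.node (.node (.node (.node (.node (.node (.node (.node (.leaf 14353091) (.leaf 17428791)) (.leaf 13034117)) (.node (.leaf 7565921) (.leaf 10617529))) (.node (.node (.leaf 1303219) (.leaf 13791512)) (.node (.leaf 3961152) (.leaf 11784441)))) (.node (.node (.node (.node (.leaf 61840) (.leaf 14758584)) (.leaf 15786353)) (.node (.leaf 8855750) (.leaf 6607341))) (.node (.node (.leaf 12882645) (.leaf 15085694)) (.node (.leaf 1126812) (.leaf 2867819))))) (.node (.node (.node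 (.node (.node (.leaf 274701) (.leaf 14795368)) (.leaf 17449065)) (.node (.leaf 9629849) (.leaf 2707916))) (.node (.node (.leaf 6734408) (.leaf 647381)) (.node (.leaf 11829866) (.leaf 5005843)))) (.node (.node (.node (.leaf 2662637) (.leaf 12165178)) (.node (.leaf 4342071) (.leaf 5235363))) (.node (.node (.leaf 12239309) (.leaf 8216795)) (.node (.leaf 16523443) (.leaf 9539720)))))) (.node (.node (.node (.node (.node (.node (.leaf 11653333) (.leaf 10125621)) (.leaf 17887795)) (.node (.leaf 12018315) (.leaf 2793949))) (.node (.node (.leaf 7266441) (.leaf 8164035)) (.node (.leaf 6152650) (.leaf 1987164)))) (.node (.node (.node (.node (.leaf 15675907) (.leaf 17817686)) (.leaf 7999850)) (.node (.leaf 10433238) (.leaf 12411505))) (.node (.node (.leaf 15720674) (.leaf 2171033)) (.node (.leaf 6201967) (.leaf 1990722))))) (.node (.node (.node (.node (.node (.leaf 13857443) (.leaf 16876246)) (.leaf 8372382)) (.node (.leaf 5730949) (.leaf 749928))) (.node (.node (.leaf 17768509) (.leaf 364746)) (.node (.leaf 12415493) (.leaf 14766220)))) (.node (.node (.node (.leaf 14123595)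 (.leaf 17084563)) (.node (.leaf 16994553) (.leaf 13484586))) (.node (.node (.leaf 14233983) (.leaf 283309)) (.node (.leaf 9052413) (.leaf 17080720))))))) (.node (.node (.node (.node (.node (.node (.node (.leaf 16334964) (.leaf 12149341)) (.leaf 7282885)) (.node (.leaf 14217764) (.leaf 14389910))) (.node (.node (.leaf 11522143) (.leaf 13083254)) (.node (.leaf 17334333) (.leaf 5415150)))) (.node (.node (.node (.node (.leaf 8143420) (.leaf 17883438)) (.leaf 7860278)) (.node (.leaf 5530305) (.leaf 7180572))) (.node (.node (.leaf 7053405) (.leaf 11813191)) (.node (.leaf 4288981) (.leaf 14393881))))) (.node (.node (.node (.node (.node (.leaf 10072148) (.leaf 10748622)) (.leaf 8614092)) (.node (.leaf 16400667) (.leaf 17793437))) (.node (.node (.leaf 15999173) (.leaf 14213651)) (.node (.leaf 6300274) (.leaf 18157696)))) (.node (.node (.node (.leaf 17117501) (.leaf 18207024)) (.node (.leaf 14336209) (.leaf 2875693))) (.node (.node (.leaf 2056571) (.leaf 1929516)) (.node (.leaf 4878757) (.leaf 9195680)))))) (.node (.node (.node (.node (.node (.node (.leaf 4219291) (.leaf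 8479074)) (.leaf 17367399)) (.node (.leaf 4555126) (.leaf 2568765))) (.node (.node (.leaf 6193743) (.leaf 74147)) (.node (.leaf 696388) (.leaf 5198529)))) (.node (.node (.node (.node (.leaf 1286655) (.leaf 14876828)) (.leaf 5980647)) (.node (.leaf 2609294) (.leaf 12296615))) (.node (.node (.leaf 3645983) (.leaf 12034706)) (.node (.leaf 12071394) (.leaf 4727207))))) (.node (.node (.node (.node (.node (.leaf 2035802) (.leaf 3027260)) (.leaf 3949186)) (.node (.leaf 8827391) (.leaf 7323909))) (.node (.node (.leaf 16650292) (.leaf 9921022)) (.node (.leaf 14180716) (.leaf 14680359)))) (.node (.node (.node (.leaf 4395159) (.leaf 15688386)) (.node (.leaf 3633709) (.leaf 8347656))) (.node (.node (.leaf 9740856) (.leaf 9065138)) (.node (.leaf 4136982) (.leaf 17211538)))))))))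

def threeMv72311 : Janko.Tree (ℕ) :=
  (.node (.node (.node (.node (.node (.node (.node (.node (.node (.leaf 10170578) (.leaf 10764573)) (.leaf 15327592)) (.node (.leaf 1572917) (.leaf 10519013))) (.node (.node (.leaf 3141792) (.leaf 1515694)) (.node (.leaf 14971603) (.leaf 12570624)))) (.node (.node (.node (.node (.leaf 10449506) (.leaf 8102282)) (.leaf 15860303)) (.node (.leaf 4948254) (.leaf 13480012))) (.node (.node (.leaf 1200140) (.leaf 12091743)) (.node (.leaf 13734520) (.leaf 12267580))))) (.node (.node (.node (.node (.node (.leaf 9982396) (.leaf 8466963)) (.leaf 14516286)) (.node (.leaf 184463) (.leaf 17473973))) (.node (.node (.leaf 8187998) (.leaf 16065100)) (.node (.leaf 12365989) (.leaf 8024534)))) (.node (.node (.node (.leaf 2293823) (.leaf 13160534)) (.node (.leaf 4899200) (.leaf 1319134))) (.node (.node (.leaf 7955117) (.leaf 11174216)) (.node (.leaf 11166225) (.leaf 10031591)))))) (.node (.node (.node (.node (.node (.node (.leaf 9331181) (.leaf 7344785)) (.leaf 17326635)) (.node (.leaf 9040260) (.leaf 12054612))) (.node (.node (.leaf 16826383)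 (.leaf 4829751)) (.node (.leaf 11673791) (.leaf 17208001)))) (.node (.node (.node (.node (.leaf 1450549) (.leaf 15118949)) (.leaf 6242861)) (.node (.leaf 1090173) (.leaf 6906571))) (.node (.node (.leaf 8180333) (.leaf 6685308)) (.node (.leaf 3334701) (.leaf 168327))))) (.node (.node (.node (.node (.node (.leaf 3154540) (.leaf 6800025)) (.leaf 11186362)) (.node (.leaf 8044788) (.leaf 8184533))) (.node (.node (.leaf 14659922) (.leaf 3007072)) (.node (.leaf 1638414) (.leaf 4780200)))) (.node (.node (.node (.leaf 15810884) (.leaf 6578673)) (.node (.leaf 15569282) (.leaf 8847505))) (.node (.node (.leaf 4296888) (.leaf 17777053)) (.node (.leaf 4604202) (.leaf 3358817))))))) (.node (.node (.node (.node (.node (.node (.node (.leaf 176671) (.leaf 3444780)) (.leaf 7791246)) (.node (.leaf 10801786) (.leaf 17121549))) (.node (.node (.leaf 6918325) (.leaf 7659855)) (.node (.leaf 7066172) (.leaf 10908359)))) (.node (.node (.node (.node (.leaf 3707537) (.leaf 10179134)) (.leaf 9613499)) (.node (.leaf 9941131) (.leaf 1544387))) (.node (.node (.leaf 6545872) (.leaf 6107484))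 (.node (.leaf 12390573) (.leaf 5963901))))) (.node (.node (.node (.node (.node (.leaf 3109435) (.leaf 11575673)) (.leaf 12583457)) (.node (.leaf 11727520) (.leaf 7901900))) (.node (.node (.leaf 17531119) (.leaf 2515329)) (.node (.leaf 15774356) (.leaf 332083)))) (.node (.node (.node (.leaf 7983781) (.leaf 13299816)) (.node (.leaf 14954822) (.leaf 954919))) (.node (.node (.leaf 13787688) (.leaf 11477287)) (.node (.leaf 14025154) (.leaf 16118013)))))) (.node (.node (.node (.node (.node (.node (.leaf 10363378) (.leaf 5738800)) (.leaf 13308496)) (.node (.leaf 3793564) (.leaf 14733711))) (.node (.node (.leaf 12259755) (.leaf 15049368)) (.node (.leaf 2150934) (.leaf 16061109)))) (.node (.node (.node (.node (.leaf 14483500) (.leaf 16532123)) (.leaf 12509192)) (.node (.leaf 10355378) (.leaf 7311691))) (.node (.node (.leaf 672108) (.leaf 14410220)) (.node (.leaf 10899539) (.leaf 16298102))))) (.node (.node (.node (.node (.node (.leaf 13996192) (.leaf 13807701)) (.leaf 12640554)) (.node (.leaf 4710670) (.leaf 13558132))) (.node (.node (.leaf 10121426) (.leaf 17564082))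 (.node (.leaf 17891332) (.leaf 11530741)))) (.node (.node (.node (.leaf 8859950) (.leaf 16883900)) (.node (.leaf 3580596) (.leaf 17511023))) (.node (.node (.leaf 12829024) (.leaf 28724)) (.node (.leaf 9294299) (.leaf 5492908)))))))) (.node (.node (.node (.node (.node (.node (.node (.node (.leaf 8020645) (.leaf 3379443)) (.leaf 8090112)) (.node (.leaf 14111181) (.leaf 13103476))) (.node (.node (.leaf 4886794) (.leaf 10596938)) (.node (.leaf 14585983) (.leaf 11686201)))) (.node (.node (.node (.node (.leaf 8671507) (.leaf 2449515)) (.leaf 16003202)) (.node (.leaf 5619969) (.leaf 7831720))) (.node (.node (.leaf 14499886) (.leaf 8933551)) (.node (.leaf 12767947) (.leaf 131643))))) (.node (.node (.node (.node (.node (.leaf 6033857) (.leaf 12726708)) (.leaf 7340400)) (.node (.leaf 14155871) (.leaf 545194))) (.node (.node (.leaf 2798081) (.leaf 17674337)) (.node (.leaf 6058060) (.leaf 6509047)))) (.node (.node (.node (.leaf 7942579) (.leaf 3637815)) (.node (.leaf 18194465) (.leaf 5873956))) (.node (.node (.leaf 9060665) (.leaf 16859723)) (.node (.leaf 7737723) (.leaf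 4595875)))))) (.node (.node (.node (.node (.node (.node (.leaf 10576251) (.leaf 9945344)) (.leaf 4079647)) (.node (.leaf 414395) (.leaf 11321489))) (.node (.node (.leaf 14938130) (.leaf 18075657)) (.node (.leaf 10863057) (.leaf 1941840)))) (.node (.node (.node (.node (.leaf 6644059) (.leaf 7496160)) (.leaf 2064707)) (.node (.leaf 11428246) (.leaf 14590041))) (.node (.node (.leaf 14012683) (.leaf 7467524)) (.node (.leaf 12906720) (.leaf 9978089))))) (.node (.node (.node (.node (.node (.leaf 7250199) (.leaf 5951625)) (.leaf 2253184)) (.node (.leaf 1695755) (.leaf 13914687))) (.node (.node (.leaf 9302146) (.leaf 13291899)) (.node (.leaf 14189200) (.leaf 12886485)))) (.node (.node (.node (.leaf 8774251) (.leaf 4501706)) (.node (.leaf 16855497) (.leaf 14192653))) (.node (.node (.leaf 381018) (.leaf 7549055)) (.node (.leaf 3723531) (.leaf 3490288))))))) (.node (.node (.node (.node (.node (.node (.node (.leaf 14577708) (.leaf 14909890)) (.leaf 10084747)) (.node (.leaf 13730497) (.leaf 6844538))) (.node (.node (.leaf 8605) (.leaf 6226161)) (.node (.leaf 3015363) (.leaf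 12173559)))) (.node (.node (.node (.node (.leaf 10625552) (.leaf 10834345)) (.leaf 11952229)) (.node (.leaf 1617963) (.leaf 6374026))) (.node (.node (.leaf 3068069) (.leaf 2974421)) (.node (.leaf 3969389) (.leaf 11227676))))) (.node (.node (.node (.node (.node (.leaf 4506153) (.leaf 2011762)) (.leaf 16928911)) (.node (.leaf 213131) (.leaf 9310395))) (.node (.node (.leaf 3191258) (.leaf 2896500)) (.node (.leaf 13550141) (.leaf 2941613)))) (.node (.node (.node (.leaf 10166485) (.leaf 2978057)) (.node (.leaf 2331172) (.leaf 11325609))) (.node (.node (.leaf 18072200) (.leaf 2801687)) (.node (.leaf 15311533) (.leaf 7037509)))))) (.node (.node (.node (.node (.node (.node (.leaf 3072090) (.leaf 12398650)) (.leaf 446865)) (.node (.leaf 6533140) (.leaf 5353972))) (.node (.node (.leaf 5324978) (.leaf 2532032)) (.node (.leaf 3453445) (.leaf 15184215)))) (.node (.node (.node (.node (.leaf 7557438) (.leaf 9007268)) (.leaf 17272901)) (.node (.leaf 17539688) (.leaf 5665388))) (.node (.node (.leaf 765961) (.leaf 8720712)) (.node (.leaf 4599935) (.leaf 1122885))))) (.node (.node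 (.node (.node (.node (.leaf 6324924) (.leaf 827897)) (.leaf 3301982)) (.node (.leaf 12485138) (.leaf 2453537))) (.node (.node (.leaf 13193655) (.leaf 8954252)) (.node (.leaf 8065055) (.leaf 6426820)))) (.node (.node (.node (.leaf 8265759) (.leaf 9511216)) (.node (.leaf 12251476) (.leaf 17392160))) (.node (.node (.leaf 11247874) (.leaf 3801565)) (.node (.leaf 12620221) (.leaf 4960534)))))))))

def threeMv72312 : Janko.Tree (ℕ) :=
  (.node (.node (.node (.node (.node (.node (.node (.node (.node (.leaf 8962134) (.leaf 1917096)) (.leaf 11006134)) (.node (.leaf 2409021) (.leaf 2810098))) (.node (.node (.leaf 17363318) (.leaf 13611336)) (.node (.leaf 10547602) (.leaf 8507944)))) (.node (.node (.node (.node (.leaf 16150548) (.leaf 4719005)) (.leaf 1417355)) (.node (.leaf 13234606) (.leaf 13681247))) (.node (.node (.leaf 3977288) (.leaf 11584040)) (.node (.leaf 4211390) (.leaf 11456768))))) (.node (.node (.node (.node (.node (.leaf 8831373) (.leaf 3715289)) (.leaf 13267104)) (.node (.leaf 12227186) (.leaf 8966726))) (.node (.node (.leaf 14549465) (.leaf 1867899)) (.node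 (.leaf 13652083) (.leaf 11538543)))) (.node (.node (.node (.leaf 15937749) (.leaf 3895806)) (.node (.leaf 10781217) (.leaf 4313317))) (.node (.node (.leaf 8134719) (.leaf 11526584)) (.node (.leaf 741703) (.leaf 17584362)))))) (.node (.node (.node (.node (.node (.node (.leaf 8340053) (.leaf 17813890)) (.leaf 11735069)) (.node (.leaf 3649932) (.leaf 15437995))) (.node (.node (.leaf 13984378) (.leaf 2555965)) (.node (.leaf 17170908) (.leaf 12284408)))) (.node (.node (.node (.node (.leaf 8798457) (.leaf 4002516)) (.leaf 10559697)) (.node (.leaf 5907104) (.leaf 3289649))) (.node (.node (.leaf 4190325) (.leaf 7295684)) (.node (.leaf 14581986) (.leaf 16249353))))) (.node (.node (.node (.node (.node (.leaf 324099) (.leaf 9453724)) (.leaf 13934810)) (.node (.leaf 11629053) (.leaf 3424861))) (.node (.node (.leaf 16454236) (.leaf 16708051)) (.node (.leaf 7475230) (.leaf 12308760)))) (.node (.node (.node (.leaf 17359057) (.leaf 3117308)) (.node (.leaf 15601982) (.leaf 8159301))) (.node (.node (.leaf 6008848) (.leaf 1536454)) (.node (.leaf 9548180) (.leaf 15573623)))))))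 (.node (.node (.node (.node (.node (.node (.node (.leaf 14520973) (.leaf 651511)) (.leaf 17773090)) (.node (.leaf 5464315) (.leaf 1999562))) (.node (.node (.leaf 11956942) (.leaf 18067486)) (.node (.leaf 14487842) (.leaf 10645754)))) (.node (.node (.node (.node (.leaf 16765062) (.leaf 13402658)) (.leaf 10985697)) (.node (.leaf 9761075) (.leaf 9273420))) (.node (.node (.leaf 11817663) (.leaf 1937562)) (.node (.leaf 6480118) (.leaf 13845098))))) (.node (.node (.node (.node (.node (.leaf 15089847) (.leaf 9916583)) (.leaf 10473791)) (.node (.leaf 2420923) (.leaf 2441799))) (.node (.node (.leaf 3588824) (.leaf 9974261)) (.node (.leaf 14782968) (.leaf 536634)))) (.node (.node (.node (.leaf 1950025) (.leaf 925705)) (.node (.leaf 7979494) (.leaf 13111488))) (.node (.node (.leaf 16654921) (.leaf 12194488)) (.node (.leaf 2622161) (.leaf 2654898)))))) (.node (.node (.node (.node (.node (.node (.leaf 426342) (.leaf 1651360)) (.leaf 14229866)) (.node (.leaf 3256821) (.leaf 11047418))) (.node (.node (.leaf 10649803) (.leaf 2674960)) (.node (.leaf 11497493) (.leaf 2605068))))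 (.node (.node (.node (.node (.leaf 13656663) (.leaf 6222022)) (.leaf 6766732)) (.node (.leaf 11866433) (.leaf 4031126))) (.node (.node (.leaf 12300342) (.leaf 12902727)) (.node (.leaf 1425507) (.leaf 11071829))))) (.node (.node (.node (.node (.node (.leaf 15368599) (.leaf 4817408)) (.leaf 5546459)) (.node (.leaf 811496) (.leaf 17158297))) (.node (.node (.leaf 6672833) (.leaf 16081207)) (.node (.leaf 4034582) (.leaf 2990552)))) (.node (.node (.node (.leaf 14786661) (.leaf 16244744)) (.node (.leaf 5550699) (.leaf 2854917))) (.node (.node (.leaf 9675325) (.leaf 4198713)) (.node (.leaf 688792) (.leaf 16695398)))))))) (.node (.node (.node (.node (.node (.node (.node (.node (.leaf 9343625) (.leaf 16077362)) (.leaf 16740689)) (.node (.leaf 12492966) (.leaf 65699))) (.node (.node (.leaf 7655866) (.leaf 14872638)) (.node (.leaf 6483984) (.leaf 15896791)))) (.node (.node (.node (.node (.leaf 1241533) (.leaf 1757854)) (.leaf 5861772)) (.node (.leaf 17965396) (.leaf 3347156))) (.node (.node (.leaf 5075550) (.leaf 921956)) (.node (.leaf 10187216) (.leaf 15892788))))) (.node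 (.node (.node (.node (.node (.leaf 5649093) (.leaf 18039395)) (.leaf 6365222)) (.node (.leaf 1802244) (.leaf 4411988))) (.node (.node (.leaf 7401639) (.leaf 14959264)) (.node (.leaf 1655083) (.leaf 15577350)))) (.node (.node (.node (.leaf 2560399) (.leaf 1643107)) (.node (.leaf 12394540) (.leaf 17764644))) (.node (.node (.leaf 1966506) (.leaf 41322)) (.node (.leaf 15769908) (.leaf 15315366)))))) (.node (.node (.node (.node (.node (.node (.leaf 12857438) (.leaf 5046797)) (.leaf 1097942)) (.node (.leaf 2314392) (.leaf 13242397))) (.node (.node (.leaf 8753829) (.leaf 623187)) (.node (.leaf 7123587) (.leaf 12747062)))) (.node (.node (.node (.node (.leaf 12407423) (.leaf 13238967)) (.leaf 17830067)) (.node (.leaf 13087140) (.leaf 4440234))) (.node (.node (.leaf 1569304) (.leaf 13406210)) (.node (.leaf 1077663) (.leaf 8487094))))) (.node (.node (.node (.node (.node (.leaf 8082049) (.leaf 17576052)) (.leaf 7819528)) (.node (.leaf 17904002) (.leaf 9769399))) (.node (.node (.leaf 9650889) (.leaf 17867117)) (.node (.leaf 3371664) (.leaf 14848395)))) (.node (.node (.node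 (.leaf 17465692) (.leaf 10338319)) (.node (.leaf 5497254) (.leaf 15503606))) (.node (.node (.leaf 15376734) (.leaf 17216125)) (.node (.leaf 5943624) (.leaf 12264016))))))) (.node (.node (.node (.node (.node (.node (.node (.leaf 15921330) (.leaf 3932409)) (.leaf 1196578)) (.node (.leaf 11215517) (.leaf 3375636))) (.node (.node (.leaf 16007712) (.leaf 7410127)) (.node (.leaf 17703594) (.leaf 8335536)))) (.node (.node (.node (.node (.leaf 13116084) (.leaf 9699917)) (.leaf 17154348)) (.node (.leaf 5869685) (.leaf 15220974))) (.node (.node (.leaf 7254109) (.leaf 2216016)) (.node (.leaf 10182680) (.leaf 15622551))))) (.node (.node (.node (.node (.node (.leaf 7143980) (.leaf 18223402)) (.leaf 14749942)) (.node (.leaf 8098453) (.leaf 13435365))) (.node (.node (.leaf 6021198) (.leaf 5263625)) (.node (.leaf 4329990) (.leaf 5087920)))) (.node (.node (.node (.leaf 11403845) (.leaf 7389287)) (.node (.leaf 4608644) (.leaf 16912827))) (.node (.node (.leaf 598529) (.leaf 6750760)) (.node (.leaf 5296227) (.leaf 11608593)))))) (.node (.node (.node (.node (.node (.node (.leaf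 2670634) (.leaf 17285784)) (.leaf 8897176)) (.node (.leaf 9633881) (.leaf 13418831))) (.node (.node (.leaf 3919886) (.leaf 16880171)) (.node (.leaf 6390204) (.leaf 37546)))) (.node (.node (.node (.node (.leaf 15253843) (.leaf 1720484)) (.leaf 11969152)) (.node (.leaf 3784864) (.leaf 3985453))) (.node (.node (.leaf 6119802) (.leaf 9589096)) (.node (.leaf 13979692) (.leaf 13754793))))) (.node (.node (.node (.node (.node (.leaf 1208961) (.leaf 6611171)) (.leaf 1249433)) (.node (.leaf 9543792) (.leaf 9835010))) (.node (.node (.leaf 16822523) (.leaf 4940205)) (.node (.leaf 7197081) (.leaf 4076107)))) (.node (.node (.node (.leaf 1441898) (.leaf 368809)) (.node (.leaf 16314909) (.leaf 7499987))) (.node (.node (.leaf 16491142) (.leaf 9859456)) (.node (.leaf 844251) (.leaf 2343462)))))))))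

def threeMv72313 : Janko.Tree (ℕ) :=
  (.node (.node (.node (.node (.node (.node (.node (.node (.node (.leaf 6902097) (.leaf 2646577)) (.leaf 5136415)) (.node (.leaf 12915147) (.leaf 16908432))) (.node (.node (.leaf 4293140) (.leaf 2494531)) (.node (.leaf 7741650) (.leaf 6283938)))) (.node (.node (.node (.node (.leaf 18141657) (.leaf 6001017)) (.leaf 11972758)) (.node (.leaf 393733) (.leaf 17666079))) (.node (.node (.leaf 7598545) (.leaf 14368902)) (.node (.leaf 5792224) (.leaf 14311816))))) (.node (.node (.node (.node (.node (.leaf 1946193) (.leaf 9961670)) (.leaf 12100031)) (.node (.leaf 16253311) (.leaf 10629641))) (.node (.node (.leaf 16601498) (.leaf 7106771)) (.node (.leaf 10129683) (.leaf 15524348)))) (.node (.node (.node (.leaf 1626212) (.leaf 10739882)) (.node (.leaf 16871482) (.leaf 9224406))) (.node (.node (.leaf 11624672) (.leaf 13369393)) (.node (.leaf 18022833) (.leaf 631171)))))) (.node (.node (.node (.node (.node (.node (.leaf 7127600) (.leaf 10936824)) (.leaf 5554657)) (.node (.leaf 2998637) (.leaf 16629917))) (.node (.node (.leaf 7626882)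 (.leaf 3182750)) (.node (.leaf 15499290) (.leaf 4788746)))) (.node (.node (.node (.node (.leaf 17518903) (.leaf 5857609)) (.leaf 8147260)) (.node (.leaf 389506) (.leaf 16056921))) (.node (.node (.leaf 2416649) (.leaf 9622010)) (.node (.leaf 16925051) (.leaf 5370385))))) (.node (.node (.node (.node (.node (.leaf 16146618) (.leaf 7033222)) (.leaf 5726339)) (.node (.leaf 12578880) (.leaf 11145775))) (.node (.node (.leaf 971193) (.leaf 2101671)) (.node (.leaf 1737136) (.leaf 4231213)))) (.node (.node (.node (.leaf 10154410) (.leaf 14057727)) (.node (.leaf 241734) (.leaf 7590283))) (.node (.node (.leaf 2298544) (.leaf 11977396)) (.node (.leaf 6795919) (.leaf 1765463))))))) (.node (.node (.node (.node (.node (.node (.node (.leaf 6030036) (.leaf 10494552)) (.leaf 7229519)) (.node (.leaf 17437375) (.leaf 3244622))) (.node (.node (.leaf 2413220) (.leaf 5820786)) (.node (.leaf 1389020) (.leaf 12136681)))) (.node (.node (.node (.node (.leaf 9081274) (.leaf 1585708)) (.leaf 3412571)) (.node (.leaf 16560716) (.leaf 9470535))) (.node (.node (.leaf 7315888) (.leaf 18325705))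 (.node (.leaf 5673071) (.leaf 15913039))))) (.node (.node (.node (.node (.node (.leaf 7606825) (.leaf 12526074)) (.leaf 9125992)) (.node (.leaf 3957025) (.leaf 18190870))) (.node (.node (.leaf 942432) (.leaf 7959006)) (.node (.leaf 3448980) (.leaf 3158173)))) (.node (.node (.node (.leaf 9568493) (.leaf 16024201)) (.node (.leaf 11120898) (.leaf 17252473))) (.node (.node (.leaf 17227991) (.leaf 8741415)) (.node (.leaf 8577134) (.leaf 11055314)))))) (.node (.node (.node (.node (.node (.node (.leaf 5517802) (.leaf 1454316)) (.leaf 15479425)) (.node (.leaf 6599273) (.leaf 16163293))) (.node (.node (.leaf 14295535) (.leaf 13079033)) (.node (.leaf 13164600) (.leaf 1458586)))) (.node (.node (.node (.node (.leaf 11935903) (.leaf 16261535)) (.leaf 9577101)) (.node (.leaf 11948417) (.leaf 17485911))) (.node (.node (.leaf 4424105) (.leaf 9158753)) (.node (.leaf 11591945) (.leaf 4051296))))) (.node (.node (.node (.node (.node (.leaf 1933934) (.leaf 16503354)) (.leaf 7807225)) (.node (.leaf 3227705) (.leaf 7925940))) (.node (.node (.leaf 5214535) (.leaf 12546751)) (.node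 (.leaf 1900809) (.leaf 14827649)))) (.node (.node (.node (.leaf 4972854) (.leaf 15192202)) (.node (.leaf 9335056) (.leaf 6332913))) (.node (.node (.leaf 10858593) (.leaf 12505270)) (.node (.leaf 10498487) (.leaf 13468019)))))))) (.node (.node (.node (.node (.node (.node (.node (.node (.leaf 16228451) (.leaf 6688850)) (.leaf 11473373)) (.node (.leaf 17269410) (.leaf 16921299))) (.node (.node (.leaf 4534784) (.leaf 4215271)) (.node (.leaf 1789997) (.leaf 13517316)))) (.node (.node (.node (.node (.leaf 9581249) (.leaf 3772819)) (.leaf 1344042)) (.node (.leaf 11280768) (.leaf 13951004))) (.node (.node (.leaf 6963702) (.leaf 10469835)) (.node (.leaf 5853643) (.leaf 15593970))))) (.node (.node (.node (.node (.node (.leaf 16527539) (.leaf 5955936)) (.leaf 1118733)) (.node (.leaf 11251824) (.leaf 6156509))) (.node (.node (.leaf 3269308) (.leaf 18198590)) (.node (.leaf 5513272) (.leaf 14360816)))) (.node (.node (.node (.leaf 8699916) (.leaf 12497561)) (.node (.leaf 8950458) (.leaf 17953012))) (.node (.node (.leaf 13635755) (.leaf 7881210)) (.node (.leaf 12456205) (.leaf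 45509)))))) (.node (.node (.node (.node (.node (.node (.leaf 7492169) (.leaf 7057440)) (.leaf 2273304)) (.node (.leaf 11116575) (.leaf 16429465))) (.node (.node (.leaf 7888973) (.leaf 10867321)) (.node (.leaf 7078286) (.leaf 10678603)))) (.node (.node (.node (.node (.leaf 18202955) (.leaf 15409526)) (.leaf 1704188)) (.node (.leaf 13189305) (.leaf 16801831))) (.node (.node (.leaf 6418635) (.leaf 17113639)) (.node (.leaf 208906) (.leaf 2502793))))) (.node (.node (.node (.node (.node (.leaf 4162181) (.leaf 2572671)) (.leaf 18055234)) (.node (.leaf 5030223) (.leaf 4923406))) (.node (.node (.leaf 9715799) (.leaf 7828168)) (.node (.leaf 13606998) (.leaf 7204868)))) (.node (.node (.node (.leaf 11124978) (.leaf 17629415)) (.node (.leaf 13423318) (.leaf 7029402))) (.node (.node (.leaf 3510781) (.leaf 15147231)) (.node (.leaf 15270052) (.leaf 13975594))))))) (.node (.node (.node (.node (.node (.node (.node (.leaf 2232326) (.leaf 17633288)) (.leaf 5472844)) (.node (.leaf 15757423) (.leaf 3682414))) (.node (.node (.leaf 14802948) (.leaf 2785708)) (.node (.leaf 10981913)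 (.leaf 17023295)))) (.node (.node (.node (.node (.leaf 6295779) (.leaf 4116734)) (.leaf 11788612)) (.node (.leaf 7176479) (.leaf 5689789))) (.node (.node (.leaf 14340244) (.leaf 2015908)) (.node (.leaf 14934127) (.leaf 12709967))))) (.node (.node (.node (.node (.node (.leaf 3887235) (.leaf 17551918)) (.leaf 12775509)) (.node (.leaf 4731192) (.leaf 14996116))) (.node (.node (.leaf 11088406) (.leaf 14561943)) (.node (.leaf 2326968) (.leaf 6078653)))) (.node (.node (.node (.leaf 716879) (.leaf 12206578)) (.node (.leaf 3915874) (.leaf 11162027))) (.node (.node (.leaf 15122572) (.leaf 11702915)) (.node (.leaf 14754109) (.leaf 13623571)))))) (.node (.node (.node (.node (.node (.node (.leaf 10375305) (.leaf 17678810)) (.leaf 17858669)) (.node (.leaf 9134269) (.leaf 5771962))) (.node (.node (.leaf 14160094) (.leaf 18276897)) (.node (.leaf 6828234) (.leaf 9781353)))) (.node (.node (.node (.node (.leaf 7951056) (.leaf 4235699)) (.leaf 1176009)) (.node (.leaf 1187926) (.leaf 266439))) (.node (.node (.leaf 3121420) (.leaf 9048406)) (.node (.leaf 11587938) (.leaf 16241247)))))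 (.node (.node (.node (.node (.node (.leaf 15843495) (.leaf 16609330)) (.leaf 3362953)) (.node (.leaf 4932277) (.leaf 12894493))) (.node (.node (.leaf 10805398) (.leaf 3420648)) (.node (.leaf 4415507) (.leaf 3879419)))) (.node (.node (.node (.leaf 13099072) (.leaf 10117807)) (.node (.leaf 7434546) (.leaf 463074))) (.node (.node (.leaf 1183923) (.leaf 1827047)) (.node (.leaf 10051737) (.leaf 1609836)))))))))

def threeMv72314 : Janko.Tree (ℕ) :=
  (.node (.node (.node (.node (.node (.node (.node (.node (.node (.leaf 12681937) (.leaf 18272639)) (.leaf 6013243)) (.node (.leaf 2392517) (.leaf 802900))) (.node (.node (.leaf 17863225) (.leaf 5558935)) (.node (.leaf 10342652) (.leaf 7299227)))) (.node (.node (.node (.node (.leaf 893520) (.leaf 4812953)) (.leaf 196825)) (.node (.leaf 4268035) (.leaf 12038497))) (.node (.node (.leaf 15069866) (.leaf 4911487)) (.node (.leaf 7963125) (.leaf 5226924))))) (.node (.node (.node (.node (.node (.leaf 3199371) (.leaf 3019384)) (.leaf 13799827)) (.node (.leaf 15983117) (.leaf 2003014))) (.node (.node (.leaf 12997015) (.leaf 2371969))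 (.node (.leaf 11870466) (.leaf 8909282)))) (.node (.node (.node (.leaf 3805445) (.leaf 6848612)) (.node (.leaf 6852842) (.leaf 4174244))) (.node (.node (.leaf 7446722) (.leaf 3924041)) (.node (.leaf 2769345) (.leaf 53585)))))) (.node (.node (.node (.node (.node (.node (.leaf 15565067) (.leaf 17097256)) (.leaf 5333378)) (.node (.leaf 10727471) (.leaf 12374655))) (.node (.node (.leaf 1978382) (.leaf 5411451)) (.node (.leaf 9261179) (.leaf 14778421)))) (.node (.node (.node (.node (.leaf 12566910) (.leaf 2585068)) (.leaf 10911822)) (.node (.leaf 15114490) (.leaf 12665396))) (.node (.node (.leaf 10223674) (.leaf 1216763)) (.node (.leaf 9138313) (.leaf 16048195))))) (.node (.node (.node (.node (.node (.leaf 9281572) (.leaf 14807460)) (.leaf 10773178)) (.node (.leaf 11244220) (.leaf 17195607))) (.node (.node (.leaf 11882764) (.leaf 12612209)) (.node (.leaf 14651678) (.leaf 3731878)))) (.node (.node (.node (.leaf 840336) (.leaf 5632297)) (.node (.leaf 14987575) (.leaf 2138718))) (.node (.node (.leaf 15482928) (.leaf 6537656)) (.node (.leaf 8396895) (.leaf 1311247)))))))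 (.node (.node (.node (.node (.node (.node (.node (.leaf 2703752) (.leaf 3264827)) (.leaf 1806377)) (.node (.leaf 4874737) (.leaf 13901958))) (.node (.node (.leaf 2027660) (.leaf 16748560)) (.node (.leaf 11346517) (.leaf 7275008)))) (.node (.node (.node (.node (.leaf 12833290) (.leaf 14201266)) (.leaf 5017890)) (.node (.leaf 7189016) (.leaf 16339002))) (.node (.node (.leaf 15872203) (.leaf 7364769)) (.node (.leaf 10293861) (.leaf 10228103))))) (.node (.node (.node (.node (.node (.leaf 8888625) (.leaf 15339936)) (.leaf 16683017)) (.node (.leaf 11800794) (.leaf 1306665))) (.node (.node (.leaf 16183916) (.leaf 6865382)) (.node (.leaf 1180367) (.leaf 430673)))) (.node (.node (.node (.leaf 1716900) (.leaf 2162799)) (.node (.leaf 2588890) (.leaf 16359632))) (.node (.node (.leaf 11301421) (.leaf 17006828)) (.node (.leaf 15634817) (.leaf 12460478)))))) (.node (.node (.node (.node (.node (.node (.leaf 3576421) (.leaf 2625561)) (.leaf 16036290)) (.node (.leaf 2433140) (.leaf 15852038))) (.node (.node (.leaf 12370254) (.leaf 6586560)) (.node (.leaf 15802971) (.leaf 7135562))))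 (.node (.node (.node (.node (.leaf 2400541) (.leaf 18243988)) (.leaf 979367)) (.node (.leaf 15274101) (.leaf 729741))) (.node (.node (.leaf 3596474) (.leaf 14405920)) (.node (.leaf 1970389) (.leaf 7545229))))) (.node (.node (.node (.node (.node (.leaf 7991777) (.leaf 9724052)) (.leaf 8221045)) (.node (.leaf 12538340) (.leaf 3764612))) (.node (.node (.leaf 11231646) (.leaf 15024326)) (.node (.leaf 16945662) (.leaf 17400141)))) (.node (.node (.node (.leaf 13005083) (.leaf 11637382)) (.node (.leaf 2113753) (.leaf 69632))) (.node (.node (.leaf 11485408) (.leaf 3023360)) (.node (.leaf 8094284) (.leaf 16220263)))))))) (.node (.node (.node (.node (.node (.node (.node (.node (.leaf 18313431) (.leaf 8401414)) (.leaf 11907565)) (.node (.leaf 15667804) (.leaf 17797348))) (.node (.node (.leaf 15470909) (.leaf 8007976)) (.node (.leaf 3297583) (.leaf 6807610)))) (.node (.node (.node (.node (.leaf 18211473) (.leaf 17948859)) (.leaf 4956192)) (.node (.leaf 16625668) (.leaf 3710998))) (.node (.node (.leaf 17596441) (.leaf 5840979)) (.node (.leaf 4186578) (.leaf 8495370)))))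 (.node (.node (.node (.node (.node (.leaf 4575829) (.leaf 18227823)) (.leaf 12788060)) (.node (.leaf 13345145) (.leaf 7529066))) (.node (.node (.leaf 15712715) (.leaf 9597316)) (.node (.leaf 17637700) (.leaf 1519655)))) (.node (.node (.node (.leaf 1962679) (.leaf 1511780)) (.node (.leaf 13488415) (.leaf 14151684))) (.node (.node (.leaf 6623934) (.leaf 12182104)) (.node (.leaf 1347995) (.leaf 1028568)))))) (.node (.node (.node (.node (.node (.node (.leaf 2146963) (.leaf 82392)) (.leaf 578110)) (.node (.leaf 2826245) (.leaf 15356181))) (.node (.node (.leaf 7487668) (.leaf 11104815)) (.node (.leaf 5849096) (.leaf 12079162)))) (.node (.node (.node (.node (.leaf 16224788) (.leaf 7045798)) (.leaf 868879)) (.node (.leaf 10146095) (.leaf 10195510))) (.node (.node (.leaf 180899) (.leaf 13591070)) (.node (.leaf 17600805) (.leaf 14983517))))) (.node (.node (.node (.node (.node (.leaf 5275809) (.leaf 14299391)) (.leaf 10703175)) (.node (.leaf 14442502) (.leaf 3113615))) (.node (.node (.leaf 5836936) (.leaf 9089147)) (.node (.leaf 5767876) (.leaf 11190786)))) (.node (.node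 (.node (.leaf 15389232) (.leaf 9364113)) (.node (.leaf 15987405) (.leaf 7909761))) (.node (.node (.leaf 1908942) (.leaf 3846715)) (.node (.leaf 8618277) (.leaf 12116160))))))) (.node (.node (.node (.node (.node (.node (.node (.leaf 10150603) (.leaf 7377169)) (.leaf 7442541)) (.node (.leaf 336575) (.leaf 401548))) (.node (.node (.leaf 15618662) (.leaf 11440282)) (.node (.leaf 12333510) (.leaf 14471848)))) (.node (.node (.node (.node (.leaf 18289309) (.leaf 17945074)) (.leaf 3060011)) (.node (.leaf 13168942) (.leaf 17523121))) (.node (.node (.leaf 17064076) (.leaf 6967717)) (.node (.leaf 7594198) (.leaf 16412983))))) (.node (.node (.node (.node (.node (.leaf 7610722) (.leaf 4055354)) (.leaf 7512179)) (.node (.leaf 9445758) (.leaf 78085))) (.node (.node (.leaf 15966279) (.leaf 3293395)) (.node (.leaf 14073974) (.leaf 15458371)))) (.node (.node (.node (.leaf 14725824) (.leaf 8708715)) (.node (.leaf 15835284) (.leaf 9490574))) (.node (.node (.leaf 16638537) (.leaf 10043444)) (.node (.leaf 5288236) (.leaf 18051248)))))) (.node (.node (.node (.node (.node (.node (.leaf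 8544859) (.leaf 2748435)) (.leaf 929882)) (.node (.leaf 11563237) (.leaf 5866127))) (.node (.node (.leaf 6857046) (.leaf 835853)) (.node (.leaf 2347392) (.leaf 2830606)))) (.node (.node (.node (.node (.leaf 6988083) (.leaf 2224738)) (.leaf 12849707)) (.node (.leaf 4223316) (.leaf 2720304))) (.node (.node (.leaf 11063917) (.leaf 328143)) (.node (.leaf 8590032) (.leaf 8323560))))) (.node (.node (.node (.node (.node (.leaf 10371235) (.leaf 5878451)) (.leaf 11141776)) (.node (.leaf 3354705) (.leaf 17748301))) (.node (.node (.leaf 12972516) (.leaf 13570690)) (.node (.leaf 9396768) (.leaf 17646126)))) (.node (.node (.node (.leaf 10580581) (.leaf 4354597)) (.node (.leaf 13021697) (.leaf 4772455))) (.node (.node (.leaf 16863460) (.leaf 2834484)) (.node (.leaf 3997811) (.leaf 1384749)))))))))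

def threeMv72315 : Janko.Tree (ℕ) :=
  (.node (.node (.node (.node (.node (.node (.node (.node (.node (.leaf 2711894) (.leaf 8610141)) (.leaf 6275139)) (.node (.leaf 9241053) (.leaf 8344047))) (.node (.node (.leaf 16195829) (.leaf 11342324)) (.node (.leaf 15020201) (.leaf 2368183)))) (.node (.node (.node (.node (.leaf 5124236) (.leaf 11313420)) (.leaf 3178918)) (.node (.leaf 15790203) (.leaf 25084))) (.node (.node (.leaf 10850923) (.leaf 1073818)) (.node (.leaf 4407987) (.leaf 11932283))))) (.node (.node (.node (.node (.node (.leaf 15151474) (.leaf 385698)) (.leaf 8442070)) (.node (.leaf 6775222) (.leaf 6144163))) (.node (.node (.leaf 14918203) (.leaf 16773562)) (.node (.leaf 1925762) (.leaf 3166501)))) (.node (.node (.node (.leaf 1634518) (.leaf 9298461)) (.node (.leaf 15508005) (.leaf 15282451))) (.node (.node (.leaf 15257622) (.leaf 4149917)) (.node (.leaf 16486525) (.leaf 8450605)))))) (.node (.node (.node (.node (.node (.node (.leaf 11002408) (.leaf 9744886)) (.leaf 12980596)) (.node (.leaf 13271719) (.leaf 5763426))) (.node (.node (.leaf 5812286) (.leaf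 9966014)) (.node (.leaf 12755311) (.leaf 16122301)))) (.node (.node (.node (.node (.leaf 15929833) (.leaf 3220177)) (.leaf 13603429)) (.node (.leaf 2310630) (.leaf 1913498))) (.node (.node (.leaf 17736247) (.leaf 3936619)) (.node (.leaf 15331437) (.leaf 6447366))))) (.node (.node (.node (.node (.node (.leaf 13304025) (.leaf 13873698)) (.leaf 16724175)) (.node (.leaf 1065082) (.leaf 8958360))) (.node (.node (.leaf 11051385) (.leaf 2196140)) (.node (.leaf 6095218) (.leaf 4661271)))) (.node (.node (.node (.leaf 15347753) (.leaf 16204183)) (.node (.leaf 9646509) (.leaf 13959716))) (.node (.node (.leaf 524661) (.leaf 4681788)) (.node (.leaf 11895179) (.leaf 13771219))))))) (.node (.node (.node (.node (.node (.node (.node (.leaf 11698636) (.leaf 4809295)) (.leaf 3555403)) (.node (.leaf 8319573) (.leaf 13598893))) (.node (.node (.leaf 1151229) (.leaf 7746060)) (.node (.leaf 10002696) (.leaf 4272507)))) (.node (.node (.node (.node (.leaf 3088532) (.leaf 7454970)) (.leaf 4625029)) (.node (.leaf 1630455) (.leaf 6136169))) (.node (.node (.leaf 10248733) (.leaf 9564244))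 (.node (.leaf 9883788) (.leaf 8675597))))) (.node (.node (.node (.node (.node (.leaf 2642581) (.leaf 307661)) (.leaf 303687)) (.node (.leaf 7786549) (.leaf 7897641))) (.node (.node (.leaf 6115406) (.leaf 5239401)) (.node (.leaf 16113711) (.leaf 15815140)))) (.node (.node (.node (.leaf 17723970) (.leaf 610811)) (.node (.leaf 11264117) (.leaf 4714644))) (.node (.node (.leaf 9949383) (.leaf 590131)) (.node (.leaf 450661) (.leaf 8536148)))))) (.node (.node (.node (.node (.node (.node (.leaf 12820964) (.leaf 1774010)) (.leaf 12935254)) (.node (.leaf 4649618) (.leaf 8290790))) (.node (.node (.leaf 5476771) (.leaf 8601685)) (.node (.leaf 13426714) (.leaf 2077198)))) (.node (.node (.node (.node (.leaf 13177304) (.leaf 12673699)) (.leaf 17236159)) (.node (.leaf 17187233) (.leaf 8810761))) (.node (.node (.leaf 5898626) (.leaf 7778663)) (.node (.leaf 11464861) (.leaf 12632553))))) (.node (.node (.node (.node (.node (.leaf 4194587) (.leaf 18153995)) (.leaf 1769788)) (.node (.leaf 795265) (.leaf 16588970))) (.node (.node (.leaf 1560735) (.leaf 2122417)) (.node (.leaf 6525584)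 (.leaf 10777203)))) (.node (.node (.node (.leaf 4325954) (.leaf 16425637)) (.node (.leaf 1847804) (.leaf 1581189))) (.node (.node (.leaf 17801352) (.leaf 11879099)) (.node (.leaf 17715413) (.leaf 12956298)))))))) (.node (.node (.node (.node (.node (.node (.node (.node (.leaf 15941972) (.leaf 7131761)) (.leaf 5108155)) (.node (.leaf 17322392) (.leaf 18346447))) (.node (.node (.leaf 15753309) (.leaf 16097832)) (.node (.leaf 17854879) (.leaf 11084169)))) (.node (.node (.node (.node (.leaf 3862545) (.leaf 6038003)) (.leaf 4894836)) (.node (.leaf 6975926) (.leaf 11669639))) (.node (.node (.leaf 12649081) (.leaf 13279550)) (.node (.leaf 8511749) (.leaf 10572283))))) (.node (.node (.node (.node (.node (.leaf 13373632) (.leaf 10400089)) (.leaf 10334320)) (.node (.leaf 14245910) (.leaf 11690615))) (.node (.node (.leaf 13246733) (.leaf 12824725)) (.node (.leaf 6877471) (.leaf 10526773)))) (.node (.node (.node (.leaf 10285538) (.leaf 14836133)) (.node (.leaf 3207724) (.leaf 15909100))) (.node (.node (.leaf 17060216) (.leaf 14450895)) (.node (.leaf 11038920) (.leaf 10322264))))))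 (.node (.node (.node (.node (.node (.node (.leaf 10543310) (.leaf 15045192)) (.leaf 17912534)) (.node (.leaf 8876538) (.leaf 9191706))) (.node (.node (.leaf 2486561) (.leaf 6816030)) (.node (.leaf 8683780) (.leaf 291350)))) (.node (.node (.node (.node (.leaf 14537073) (.leaf 3874920)) (.leaf 2220158)) (.node (.leaf 5783711) (.leaf 13758774))) (.node (.node (.leaf 12759642) (.leaf 6701675)) (.node (.leaf 7201489) (.leaf 12964328))))) (.node (.node (.node (.node (.node (.leaf 14655614) (.leaf 11776630)) (.leaf 9990329)) (.node (.leaf 8028351) (.leaf 7278808))) (.node (.node (.leaf 15880356) (.leaf 16155090)) (.node (.leaf 12067236) (.leaf 8790310)))) (.node (.node (.node (.leaf 5091722) (.leaf 2339276)) (.node (.leaf 5603371) (.leaf 2699504))) (.node (.node (.leaf 16355729) (.leaf 13644067)) (.node (.leaf 16416868) (.leaf 4452800))))))) (.node (.node (.node (.node (.node (.node (.node (.leaf 10211367) (.leaf 2060859)) (.leaf 6140385)) (.node (.leaf 2879962) (.leaf 8929595))) (.node (.node (.leaf 5272194) (.leaf 4489670)) (.node (.leaf 10219559) (.leaf 4026676))))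 (.node (.node (.node (.node (.leaf 11834042) (.leaf 3146306)) (.leaf 12075724)) (.node (.leaf 12214833) (.leaf 14401727))) (.node (.node (.leaf 9228712) (.leaf 6103175)) (.node (.leaf 581773) (.leaf 6660625))))) (.node (.node (.node (.node (.node (.leaf 15651372) (.leaf 5350066)) (.leaf 11747438)) (.node (.leaf 9908725) (.leaf 9155002))) (.node (.node (.leaf 16642371) (.leaf 409825)) (.node (.leaf 12562834) (.leaf 1290817)))) (.node (.node (.node (.leaf 7864965) (.leaf 11555310)) (.node (.leaf 12607520) (.leaf 16302401))) (.node (.node (.leaf 2260993) (.leaf 442862)) (.node (.leaf 13008947) (.leaf 16511246)))))) (.node (.node (.node (.node (.node (.node (.leaf 5931651) (.leaf 15806531)) (.leaf 1577483)) (.node (.leaf 2773432) (.leaf 17313937))) (.node (.node (.leaf 5693498) (.leaf 5570600)) (.node (.leaf 6881439) (.leaf 15749177)))) (.node (.node (.node (.node (.leaf 5329138) (.leaf 15978534)) (.leaf 18047675)) (.node (.leaf 7712857) (.leaf 17379552))) (.node (.node (.leaf 18182838) (.leaf 12231067)) (.node (.leaf 4112703) (.leaf 5386537))))) (.node (.node (.node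 (.node (.node (.leaf 10093014) (.leaf 6127737)) (.leaf 15381193)) (.node (.leaf 5439963) (.leaf 2187904))) (.node (.node (.leaf 6357699) (.leaf 15495423)) (.node (.leaf 13185583) (.leaf 11067664)))) (.node (.node (.node (.leaf 15012278) (.leaf 17908142)) (.node (.leaf 6054191) (.leaf 4702821))) (.node (.node (.leaf 13709685) (.leaf 10682427)) (.node (.leaf 1086140) (.leaf 16171372)))))))))

/-- a table -/
def threeMv723 : Janko.Tree (ℕ) := (.node (.node (.node (.node threeMv7230 threeMv7238) (.node threeMv7234 threeMv72312)) (.node (.node threeMv7232 threeMv72310) (.node threeMv7236 threeMv72314))) (.node (.node (.node threeMv7231 threeMv7239) (.node threeMv7235 threeMv72313)) (.node (.node threeMv7233 threeMv72311) (.node threeMv7237 threeMv72315))))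

theorem three_mv7230 : ((List.range 640).all fun i => movesOK baseB threeCert threeGens threeT 4480 threeV723 threeMv723 (Nat.add 0 i)) = true := by decide +kernel

theorem three_mv7231 : ((List.range 640).all fun i => movesOK baseB threeCert threeGens threeT 4480 threeV723 threeMv723 (Nat.add 640 i)) = true := by decide +kernel

theorem three_mv7232 : ((List.range 640).all fun i => movesOK baseB threeCert threeGens threeT 4480 threeV723 threeMv723 (Nat.add 1280 i)) = true := by decide +kernel

theorem three_mv7233 : ((List.range 640).all fun i => movesOK baseB threeCert threeGens threeT 4480 threeV723 threeMv723 (Nat.add 1920 i)) = true := by decide +kernel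

theorem three_mv7234 : ((List.range 640).all fun i => movesOK baseB threeCert threeGens threeT 4480 threeV723 threeMv723 (Nat.add 2560 i)) = true := by decide +kernel

theorem three_mv7235 : ((List.range 640).all fun i => movesOK baseB threeCert threeGens threeT 4480 threeV723 threeMv723 (Nat.add 3200 i)) = true := by decide +kernel

theorem three_mv7236 : ((List.range 640).all fun i => movesOK baseB threeCert threeGens threeT 4480 threeV723 threeMv723 (Nat.add 3840 i)) = true := by decide +kernel

theorem three_mv723 : ∀ i < 4480, movesOK baseB threeCert threeGens threeT 4480 threeV723 threeMv723 i = true := by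
  intro i hi
  exact (if h1920 : i < 1920 then (if h640 : i < 640 then (by have := List.all_eq_true.1 three_mv7230 (i - 0) (List.mem_range.2 (by omega)); rwa [show Nat.add 0 (i - 0) = i from Nat.add_sub_cancel' (by omega)] at this) else (if h1280 : i < 1280 then (by have := List.all_eq_true.1 three_mv7231 (i - 640) (List.mem_range.2 (by omega)); rwa [show Nat.add 640 (i - 640) = i from Nat.add_sub_cancel' (by omega)] at this) else (by have := List.all_eq_true.1 three_mv7232 (i - 1280) (List.mem_range.2 (by omega)); rwa [show Nat.add 1280 (i - 1280) = i from Nat.add_sub_cancel' (by omega)] at this))) else (if h3200 : i < 3200 then (if h2560 : i < 2560 then (by have := List.all_eq_true.1 three_mv7233 (i - 1920) (List.mem_range.2 (by omega)); rwa [show Nat.add 1920 (i - 1920) = i from Nat.add_sub_cancel' (by omega)] at this) else (by have := List.all_eq_true.1 three_mv7234 (i - 2560) (List.mem_range.2 (by omega)); rwa [show Nat.add 2560 (i - 2560) = i from Nat.add_sub_cancel' (by omega)] at this)) else (if h3840 : i < 3840 then (by have := List.all_eq_true.1 three_mv7235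 (i - 3200) (List.mem_range.2 (by omega)); rwa [show Nat.add 3200 (i - 3200) = i from Nat.add_sub_cancel' (by omega)] at this) else (by have := List.all_eq_true.1 three_mv7236 (i - 3840) (List.mem_range.2 (by omega)); rwa [show Nat.add 3840 (i - 3840) = i from Nat.add_sub_cancel' (by omega)] at this))))

/-- an element -/
def threeV728 : ℕ := 0x315eaeb7825192e075224fcdc76844665d3baee02a45e9459093680d01e22824216c040f9994c0b0e3b9a6fd1c98db4ad5b965ca9a3db8c04a26a1d164f601918c87a6b82930a98386dce405c87540a362214e2ec040f83c15668dd688106915750518bfcdaf968c451a9d1f8d890cc79c1932072b10dbf0a6aa39f41358431a4c31d359826955931d0a748a30588b10248de284e3c484658733950952a82470bf610eca0b33f970ce707108d0c19081d9b218709ca1a0c4ba7d9e6a638ad1e0e171692c75858857c061491def092dbc89aaa58a6c344b4124094c01809dcce4123f8c0571aba4c2442c2d4c4fb400a9f03c299ba20ca41b74bca55e17e042f279f45a883631864520b3bc4a546c0f482fc57c49142650a1c2ede3c13996f4801a15d035c049087c87a78f26b00925b614029cd5800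

theorem three_v728 : ((List.range 275).all fun k => Nat.beq (PermNine.pg threeV728 k) (imgW threeGens (threeCert.wd 728) k)) = true := by decide +kernel

def threeMv7280 : Janko.Tree (ℕ) :=
  (.node (.node (.node (.node (.node (.node (.node (.node (.node (.leaf 728) (.leaf 12927652)) (.leaf 11288730)) (.node (.leaf 582005) (.leaf 2744357))) (.node (.node (.leaf 6865080) (.leaf 16269337)) (.node (.leaf 12169830) (.leaf 17043937)))) (.node (.node (.node (.node (.leaf 1388572) (.leaf 15897049)) (.leaf 1769875)) (.node (.leaf 872983) (.leaf 3990170))) (.node (.node (.leaf 16065104) (.leaf 11825777)) (.node (.leaf 12509718) (.leaf 4506143))))) (.node (.node (.node (.node (.node (.leaf 8614299) (.leaf 7528973)) (.leaf 10584761)) (.node (.leaf 397464) (.leaf 16097641))) (.node (.node (.leaf 13136236) (.leaf 11083981)) (.node (.leaf 4759552) (.leaf 15098351)))) (.node (.node (.node (.leaf 4002235) (.leaf 3883583)) (.node (.leaf 13341002) (.leaf 7659838))) (.node (.node (.leaf 15069675) (.leaf 8900727)) (.node (.leaf 13521042) (.leaf 10334791)))))) (.node (.node (.node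 (.node (.node (.node (.leaf 12980450) (.leaf 15487692)) (.leaf 4112988)) (.node (.leaf 5267705) (.leaf 14057524))) (.node (.node (.leaf 13656628) (.leaf 455264)) (.node (.leaf 12443818) (.leaf 5255740)))) (.node (.node (.node (.node (.leaf 18104774) (.leaf 13808137)) (.leaf 7676143)) (.node (.leaf 4157938) (.leaf 16781368))) (.node (.node (.leaf 12288476) (.leaf 7684393)) (.node (.leaf 9797803) (.leaf 8273984))))) (.node (.node (.node (.node (.node (.leaf 13513010) (.leaf 13828527)) (.leaf 13365964)) (.node (.leaf 13685019) (.leaf 16572629))) (.node (.node (.leaf 13906426) (.leaf 5963923)) (.node (.leaf 2785522) (.leaf 15094365)))) (.node (.node (.node (.leaf 6140534) (.leaf 13443487)) (.node (.leaf 3424879) (.leaf 11202761))) (.node (.node (.leaf 17326772) (.leaf 18145659)) (.node (.leaf 7840259) (.leaf 17035508))))))) (.node (.node (.node (.node (.node (.node (.node (.leaf 9101555) (.leaf 6734121)) (.leaf 11178117)) (.node (.leaf 983278) (.leaf 9081411))) (.node (.node (.leaf 1978611) (.leaf 10989940)) (.node (.leaf 6389895) (.leaf 13566053)))) (.node (.node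 (.node (.node (.leaf 1343716) (.leaf 15847887)) (.leaf 3629569)) (.node (.leaf 15946368) (.leaf 14443211))) (.node (.node (.leaf 11264543) (.leaf 5866001)) (.node (.leaf 8970577) (.leaf 11129199))))) (.node (.node (.node (.node (.node (.leaf 12898485) (.leaf 11080164)) (.leaf 16236683)) (.node (.leaf 15462577) (.leaf 14004257))) (.node (.node (.leaf 15032623) (.leaf 25232)) (.node (.leaf 1126498) (.leaf 14651400)))) (.node (.node (.node (.leaf 4878376) (.leaf 6521153)) (.node (.leaf 5566607) (.leaf 16437589))) (.node (.node (.leaf 11071614) (.leaf 12350021)) (.node (.leaf 3875431) (.leaf 8979106)))))) (.node (.node (.node (.node (.node (.node (.leaf 1007815) (.leaf 14025388)) (.leaf 3142344)) (.node (.leaf 1515897) (.leaf 16020160))) (.node (.node (.leaf 16548403) (.leaf 16875936)) (.node (.leaf 14430347) (.leaf 6345202)))) (.node (.node (.node (.node (.leaf 10391967) (.leaf 8016425)) (.leaf 8389264)) (.node (.leaf 13750341) (.leaf 4096262))) (.node (.node (.leaf 245964) (.leaf 16085461)) (.node (.leaf 11133056) (.leaf 12251396))))) (.node (.node (.node (.node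 (.node (.leaf 3694968) (.leaf 13836995)) (.leaf 3735911)) (.node (.leaf 3731698) (.leaf 2601221))) (.node (.node (.leaf 3154220) (.leaf 9068707)) (.node (.leaf 491929) (.leaf 15962410)))) (.node (.node (.node (.leaf 6787443) (.leaf 6615381)) (.node (.leaf 848199) (.leaf 4391447))) (.node (.node (.leaf 16786021) (.leaf 14672538)) (.node (.leaf 14434949) (.leaf 1954344)))))))) (.node (.node (.node (.node (.node (.node (.node (.node (.leaf 577855) (.leaf 17892038)) (.leaf 8331861)) (.node (.leaf 1241307) (.leaf 16032325))) (.node (.node (.leaf 14000175) (.leaf 14811194)) (.node (.leaf 15208712) (.leaf 6586681)))) (.node (.node (.node (.node (.leaf 17670279) (.leaf 3621299)) (.leaf 1450034)) (.node (.leaf 14320334) (.leaf 12451933))) (.node (.node (.leaf 7053761) (.leaf 5071451)) (.node (.leaf 16478579) (.leaf 7332285))))) (.node (.node (.node (.node (.node (.leaf 9937592) (.leaf 17019391)) (.leaf 17842303)) (.node (.leaf 12693735) (.leaf 16290062))) (.node (.node (.leaf 10858720) (.leaf 5001854)) (.node (.leaf 1155226) (.leaf 758317)))) (.node (.node (.node (.leaf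 12624430) (.leaf 13754594)) (.node (.leaf 4948188) (.leaf 11812987))) (.node (.node (.leaf 4100348) (.leaf 16601643)) (.node (.leaf 8212597) (.leaf 12591721)))))) (.node (.node (.node (.node (.node (.node (.leaf 17518994) (.leaf 12226790)) (.leaf 7147923)) (.node (.leaf 3449333) (.leaf 98570))) (.node (.node (.leaf 6914519) (.leaf 8831581)) (.node (.leaf 14885292) (.leaf 7356446)))) (.node (.node (.node (.node (.leaf 16621814) (.leaf 6361587)) (.leaf 1548374)) (.node (.leaf 8418004) (.leaf 389391))) (.node (.node (.leaf 319948) (.leaf 8258240)) (.node (.leaf 7713007) (.leaf 7082687))))) (.node (.node (.node (.node (.node (.leaf 5743083) (.leaf 6799533)) (.leaf 7013010)) (.node (.leaf 11297450) (.leaf 8544905))) (.node (.node (.leaf 17547872) (.leaf 13615368)) (.node (.leaf 17756814) (.leaf 8241235)))) (.node (.node (.node (.leaf 10879481) (.leaf 8778403)) (.node (.leaf 1405402) (.leaf 1913496))) (.node (.node (.leaf 2499020) (.leaf 7889191)) (.node (.leaf 799070) (.leaf 6275165))))))) (.node (.node (.node (.node (.node (.node (.node (.leaf 7782881) (.leaf 18084169))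 (.leaf 7000543)) (.node (.leaf 4752010) (.leaf 3407914))) (.node (.node (.leaf 10113342) (.leaf 17138155)) (.node (.leaf 1876226) (.leaf 12066907)))) (.node (.node (.node (.node (.leaf 8962734) (.leaf 8364260)) (.leaf 2760892)) (.node (.leaf 15028338) (.leaf 12948084))) (.node (.node (.leaf 1663241) (.leaf 7942584)) (.node (.leaf 14307799) (.leaf 16380327))))) (.node (.node (.node (.node (.node (.leaf 15315404) (.leaf 7688875)) (.leaf 8146960)) (.node (.leaf 7328357) (.leaf 8835421))) (.node (.node (.leaf 14934048) (.leaf 8503644)) (.node (.leaf 13869755) (.leaf 7164532)))) (.node (.node (.node (.leaf 12993190) (.leaf 16961960)) (.node (.leaf 606491) (.leaf 6758706))) (.node (.node (.leaf 11706736) (.leaf 9531559)) (.node (.leaf 14340370) (.leaf 17096818)))))) (.node (.node (.node (.node (.node (.node (.leaf 6234278) (.leaf 1273957)) (.leaf 11452713)) (.node (.leaf 9814415) (.leaf 3313664))) (.node (.node (.leaf 8946271) (.leaf 1479347)) (.node (.leaf 3240072) (.leaf 11399893)))) (.node (.node (.node (.node (.leaf 270845) (.leaf 15589904)) (.leaf 17055930))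 (.node (.leaf 13550031) (.leaf 17764399))) (.node (.node (.leaf 5845687) (.leaf 18284555)) (.node (.leaf 4137287) (.leaf 18231629))))) (.node (.node (.node (.node (.node (.leaf 16687282) (.leaf 17318529)) (.leaf 13369726)) (.node (.leaf 14250060) (.leaf 10551853))) (.node (.node (.leaf 11714795) (.leaf 14824146)) (.node (.leaf 6332532) (.leaf 909707)))) (.node (.node (.node (.leaf 9211957) (.leaf 15409350)) (.node (.leaf 13918688) (.leaf 8343912))) (.node (.node (.leaf 17813663) (.leaf 147687)) (.node (.leaf 8896700) (.leaf 6922755)))))))))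

def threeMv7281 : Janko.Tree (ℕ) :=
  (.node (.node (.node (.node (.node (.node (.node (.node (.node (.leaf 5570838) (.leaf 1933383)) (.leaf 401895)) (.node (.leaf 15466647) (.leaf 5362311))) (.node (.node (.leaf 4522426) (.leaf 1049060)) (.node (.leaf 3191429) (.leaf 12669434)))) (.node (.node (.node (.node (.leaf 6148385) (.leaf 13467843)) (.leaf 15777877)) (.node (.leaf 3481875) (.leaf 3903870))) (.node (.node (.leaf 10686498) (.leaf 2572380)) (.node (.leaf 12034156) (.leaf 2236788))))) (.node (.node (.node (.node (.node (.leaf 4989251) (.leaf 6832368)) (.leaf 6606868)) (.node (.leaf 5304517) (.leaf 8056842))) (.node (.node (.leaf 14037361) (.leaf 14209330)) (.node (.leaf 8679939) (.leaf 10314200)))) (.node (.node (.node (.leaf 7872985) (.leaf 17986226)) (.node (.leaf 10351079) (.leaf 13570702))) (.node (.node (.leaf 11563427) (.leaf 15045247)) (.node (.leaf 8442395) (.leaf 9072876)))))) (.node (.node (.node (.node (.node (.node (.leaf 7070125) (.leaf 4338346)) (.leaf 11735263)) (.node (.leaf 5816991) (.leaf 10682714))) (.node (.node (.leaf 4457119) (.leaf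 10416565)) (.node (.leaf 15036703) (.leaf 10498427)))) (.node (.node (.node (.node (.leaf 3031300) (.leaf 10629492)) (.leaf 339969)) (.node (.leaf 2421156) (.leaf 921843))) (.node (.node (.leaf 11850023) (.leaf 9445617)) (.node (.leaf 13681038) (.leaf 11919366))))) (.node (.node (.node (.node (.node (.leaf 16220672) (.leaf 6595102)) (.leaf 12181589)) (.node (.leaf 2555989) (.leaf 2253188))) (.node (.node (.leaf 13983879) (.leaf 4763773)) (.node (.leaf 499964) (.leaf 15860305)))) (.node (.node (.node (.leaf 10023077) (.leaf 13451665)) (.node (.leaf 6476228) (.leaf 15065751))) (.node (.node (.leaf 16618090) (.leaf 13963976)) (.node (.leaf 2044306) (.leaf 7790760))))))) (.node (.node (.node (.node (.node (.node (.node (.leaf 13529136) (.leaf 14979463)) (.leaf 5083278)) (.node (.leaf 8032555) (.leaf 13324899))) (.node (.node (.leaf 2671281) (.leaf 17773151)) (.node (.leaf 17130049) (.leaf 12083847)))) (.node (.node (.node (.node (.leaf 8520274) (.leaf 13930952)) (.leaf 11940336)) (.node (.leaf 835673) (.leaf 2257189))) (.node (.node (.leaf 9585104) (.leaf 3817813))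 (.node (.leaf 18219082) (.leaf 663788))))) (.node (.node (.node (.node (.node (.leaf 15356180) (.leaf 11895010)) (.leaf 20841)) (.node (.leaf 15725056) (.leaf 16908719))) (.node (.node (.leaf 5948114) (.leaf 8794150)) (.node (.leaf 6439308) (.leaf 4629174)))) (.node (.node (.node (.leaf 5402753) (.leaf 13619907)) (.node (.leaf 12018337) (.leaf 7102754))) (.node (.node (.leaf 18121382) (.leaf 8663546)) (.node (.leaf 11301515) (.leaf 11505765)))))) (.node (.node (.node (.node (.node (.node (.leaf 1159240) (.leaf 7737523)) (.leaf 3809450)) (.node (.leaf 11973175) (.leaf 7557765))) (.node (.node (.leaf 4538494) (.leaf 10883477)) (.node (.leaf 17801343) (.leaf 16916549)))) (.node (.node (.node (.node (.leaf 8597510) (.leaf 10289445)) (.leaf 16224942)) (.node (.leaf 16667088) (.leaf 15442625))) (.node (.node (.leaf 4517970) (.leaf 17961440)) (.node (.leaf 11518302) (.leaf 12542243))))) (.node (.node (.node (.node (.node (.leaf 5197914) (.leaf 9384142)) (.leaf 4046880)) (.node (.leaf 9257643) (.leaf 16794094))) (.node (.node (.leaf 7999900) (.leaf 11760205)) (.node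 (.leaf 14864946) (.leaf 4431924)))) (.node (.node (.node (.leaf 15081506) (.leaf 6947515)) (.node (.leaf 13414407) (.leaf 4981271))) (.node (.node (.leaf 13381674) (.leaf 14221815)) (.node (.leaf 6176837) (.leaf 15393365)))))))) (.node (.node (.node (.node (.node (.node (.node (.node (.leaf 13406633) (.leaf 9982512)) (.leaf 9523491)) (.node (.leaf 6017532) (.leaf 8184135))) (.node (.node (.leaf 11321886) (.leaf 3100723)) (.node (.leaf 16584785) (.leaf 17523170)))) (.node (.node (.node (.node (.leaf 17187235) (.leaf 14090770)) (.leaf 5709957)) (.node (.leaf 7299650) (.leaf 15459031))) (.node (.node (.leaf 14496050) (.leaf 17334474)) (.node (.leaf 18292805) (.leaf 4485186))))) (.node (.node (.node (.node (.node (.leaf 544916) (.leaf 7757906)) (.leaf 14045904)) (.node (.leaf 16314426) (.leaf 7721012))) (.node (.node (.leaf 18297473) (.leaf 6316264)) (.node (.leaf 7291219) (.leaf 13762668)))) (.node (.node (.node (.leaf 4083918) (.leaf 852589)) (.node (.leaf 8397062) (.leaf 10576361))) (.node (.node (.leaf 3842732) (.leaf 15856108)) (.node (.leaf 4268683) (.leaf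 2834937)))))) (.node (.node (.node (.node (.node (.node (.leaf 12022253) (.leaf 10641847)) (.leaf 7856390)) (.node (.leaf 3707274) (.leaf 1089608))) (.node (.node (.leaf 6996224) (.leaf 5812526)) (.node (.leaf 16834802) (.leaf 14922058)))) (.node (.node (.node (.node (.leaf 12104315) (.leaf 15532168)) (.leaf 8106193)) (.node (.leaf 15040887) (.leaf 11584204))) (.node (.node (.leaf 6819991) (.leaf 17154443)) (.node (.leaf 4567425) (.leaf 3027447))))) (.node (.node (.node (.node (.node (.leaf 5443970) (.leaf 10277577)) (.leaf 1507570)) (.node (.leaf 7258627) (.leaf 14094568))) (.node (.node (.leaf 14364819) (.leaf 13799431)) (.node (.leaf 12411108) (.leaf 6619762)))) (.node (.node (.node (.leaf 9818795) (.leaf 5247080)) (.node (.leaf 7459142) (.leaf 610952))) (.node (.node (.leaf 16883767) (.leaf 5824945)) (.node (.leaf 15585818) (.leaf 18153792))))))) (.node (.node (.node (.node (.node (.node (.node (.leaf 12575061) (.leaf 4128860)) (.leaf 10162753)) (.node (.leaf 15331347) (.leaf 5620226))) (.node (.node (.leaf 11374880) (.leaf 12095853)) (.node (.leaf 13455831)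 (.leaf 4174508)))) (.node (.node (.node (.node (.leaf 11784872) (.leaf 6828437)) (.leaf 5808680)) (.node (.leaf 6643770) (.leaf 15597926))) (.node (.node (.leaf 11902995) (.leaf 16560410)) (.node (.leaf 17555564) (.leaf 7909880))))) (.node (.node (.node (.node (.node (.leaf 2155153) (.leaf 14295444)) (.leaf 13193550)) (.node (.leaf 5398593) (.leaf 6513120))) (.node (.node (.leaf 2622053) (.leaf 2449620)) (.node (.leaf 12611810) (.leaf 6943286)))) (.node (.node (.node (.leaf 2736428) (.leaf 13688958)) (.node (.leaf 15257998) (.leaf 17355061))) (.node (.node (.leaf 7274961) (.leaf 749942)) (.node (.leaf 37422) (.leaf 17793258)))))) (.node (.node (.node (.node (.node (.node (.leaf 2077089) (.leaf 14061684)) (.leaf 10191287)) (.node (.leaf 6087034) (.leaf 5025846))) (.node (.node (.leaf 467542) (.leaf 11276292)) (.node (.leaf 2380155) (.leaf 2536022)))) (.node (.node (.node (.node (.leaf 14152043) (.leaf 934102)) (.leaf 2212392)) (.node (.leaf 14242152) (.leaf 10067974))) (.node (.node (.leaf 10441240) (.leaf 6324520)) (.node (.leaf 1257937) (.leaf 6279885)))))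 (.node (.node (.node (.node (.node (.leaf 7389905) (.leaf 17896053)) (.leaf 344200)) (.node (.leaf 18129409) (.leaf 2712240))) (.node (.node (.leaf 17858782) (.leaf 8077387)) (.node (.leaf 13308200) (.leaf 1650873)))) (.node (.node (.node (.leaf 16859189) (.leaf 6218244)) (.node (.leaf 2626132) (.leaf 7803599))) (.node (.node (.leaf 7663774) (.leaf 6451424)) (.node (.leaf 14070186) (.leaf 15372328)))))))))

def threeMv7282 : Janko.Tree (ℕ) :=
  (.node (.node (.node (.node (.node (.node (.node (.node (.node (.leaf 3322480) (.leaf 13320803)) (.leaf 4550947)) (.node (.leaf 4141542) (.leaf 618711))) (.node (.node (.leaf 15192304) (.leaf 15930062)) (.node (.leaf 10387786) (.leaf 2879947)))) (.node (.node (.node (.node (.leaf 2134557) (.leaf 5857311)) (.leaf 18186650)) (.node (.leaf 14958892) (.leaf 14954942))) (.node (.node (.leaf 827987) (.leaf 10404541)) (.node (.leaf 5009609) (.leaf 6869067))))) (.node (.node (.node (.node (.node (.leaf 12951590) (.leaf 4039379)) (.leaf 4133040)) (.node (.leaf 586010) (.leaf 12321397))) (.node (.node (.leaf 12492960) (.leaf 9474704))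 (.node (.leaf 7950523) (.leaf 16675405)))) (.node (.node (.node (.leaf 12476680) (.leaf 16462006)) (.node (.leaf 4219149) (.leaf 7573874))) (.node (.node (.leaf 3400310) (.leaf 1610213)) (.node (.leaf 7135894) (.leaf 1949955)))))) (.node (.node (.node (.node (.node (.node (.leaf 9245291) (.leaf 13668368)) (.leaf 721614)) (.node (.leaf 2597232) (.leaf 17236006))) (.node (.node (.leaf 13664902) (.leaf 16724253)) (.node (.leaf 2937346) (.leaf 5309007)))) (.node (.node (.node (.node (.leaf 8401073) (.leaf 4911223)) (.leaf 11772519)) (.node (.leaf 5210160) (.leaf 3256715))) (.node (.node (.leaf 11412003) (.leaf 8769549)) (.node (.leaf 13176990) (.leaf 6013416))))) (.node (.node (.node (.node (.node (.leaf 9990405) (.leaf 12939405)) (.leaf 9343322)) (.node (.leaf 12050602) (.leaf 16106065))) (.node (.node (.leaf 13652678) (.leaf 2941170)) (.node (.leaf 12189894) (.leaf 15175837)))) (.node (.node (.node (.leaf 8098170) (.leaf 10547809)) (.node (.leaf 3797707) (.leaf 10109490))) (.node (.node (.leaf 3792978) (.leaf 13279747)) (.node (.leaf 16298015) (.leaf 13857355)))))))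 (.node (.node (.node (.node (.node (.node (.node (.leaf 2629716) (.leaf 15479285)) (.leaf 8966422)) (.node (.leaf 13152659) (.leaf 13357733))) (.node (.node (.leaf 3170483) (.leaf 17285372)) (.node (.leaf 2830999) (.leaf 16200066)))) (.node (.node (.node (.node (.leaf 9691542) (.leaf 5120384)) (.leaf 9368195)) (.node (.leaf 12247228) (.leaf 885216))) (.node (.node (.leaf 381131) (.leaf 4088080)) (.node (.leaf 10088526) (.leaf 12538160))))) (.node (.node (.node (.node (.node (.leaf 12038397) (.leaf 4710899)) (.leaf 13737998)) (.node (.leaf 14799203) (.leaf 12276229))) (.node (.node (.leaf 2982486) (.leaf 14189146)) (.node (.leaf 17105216) (.leaf 11637342)))) (.node (.node (.node (.leaf 3346791) (.leaf 6631748)) (.node (.leaf 6570297) (.leaf 1327811))) (.node (.node (.leaf 11104605) (.leaf 16425390)) (.node (.leaf 15770238) (.leaf 13119931)))))) (.node (.node (.node (.node (.node (.node (.leaf 3371389) (.leaf 16023859)) (.leaf 2900375)) (.node (.leaf 6951365) (.leaf 8856219))) (.node (.node (.leaf 17486338) (.leaf 9154847)) (.node (.leaf 8744998) (.leaf 15679920))))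 (.node (.node (.node (.node (.leaf 3920035) (.leaf 17900179)) (.leaf 13673052)) (.node (.leaf 15937645) (.leaf 1233290))) (.node (.node (.leaf 11030611) (.leaf 7250582)) (.node (.leaf 11686527) (.leaf 10572487))))) (.node (.node (.node (.node (.node (.leaf 6037830) (.leaf 7004593)) (.leaf 3522676)) (.node (.leaf 15835553) (.leaf 5649076))) (.node (.node (.leaf 17908160) (.leaf 168086)) (.node (.leaf 671745) (.leaf 10982070)))) (.node (.node (.node (.leaf 4886777) (.leaf 8909148)) (.node (.leaf 6430895) (.leaf 3211972))) (.node (.node (.leaf 4108693) (.leaf 647850)) (.node (.leaf 11341958) (.leaf 15434372)))))))) (.node (.node (.node (.node (.node (.node (.node (.node (.leaf 18211074) (.leaf 14696789)) (.leaf 10781229)) (.node (.leaf 745557) (.leaf 10100917))) (.node (.node (.leaf 442700) (.leaf 16334959)) (.node (.leaf 8233242) (.leaf 9810458)))) (.node (.node (.node (.node (.leaf 13029783) (.leaf 17424392)) (.leaf 2277672)) (.node (.leaf 15290827) (.leaf 11403561))) (.node (.node (.leaf 3203745) (.leaf 16196263)) (.node (.leaf 13009409) (.leaf 45661))))) (.node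 (.node (.node (.node (.node (.leaf 14991601) (.leaf 3485755)) (.leaf 11153883)) (.node (.leaf 5193863) (.leaf 811153))) (.node (.node (.leaf 17391896) (.leaf 2327171)) (.node (.leaf 11653336) (.leaf 15888705)))) (.node (.node (.node (.leaf 2216531) (.leaf 14835827)) (.node (.leaf 7836194) (.leaf 17277404))) (.node (.node (.leaf 7598409) (.leaf 4378731)) (.node (.leaf 4235939) (.leaf 12042657)))))) (.node (.node (.node (.node (.node (.node (.leaf 7114818) (.leaf 5726287)) (.leaf 6271389)) (.node (.leaf 5186137) (.leaf 5530265))) (.node (.node (.leaf 7143476) (.leaf 6255245)) (.node (.leaf 4202775) (.leaf 5886235)))) (.node (.node (.node (.node (.leaf 9621930) (.leaf 549566)) (.leaf 4821082)) (.node (.leaf 8114843) (.leaf 12312711))) (.node (.node (.leaf 10293857) (.leaf 17264992)) (.node (.leaf 8314925) (.leaf 17227958))))) (.node (.node (.node (.node (.node (.leaf 3822000) (.leaf 5526032)) (.leaf 8872174)) (.node (.leaf 9687147) (.leaf 11948667))) (.node (.node (.leaf 13275859) (.leaf 15090341)) (.node (.leaf 10936479) (.leaf 422506)))) (.node (.node (.node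 (.leaf 14054076) (.leaf 5939771)) (.node (.leaf 7917943) (.leaf 2515607))) (.node (.node (.leaf 598277) (.leaf 7938353)) (.node (.leaf 7422656) (.leaf 11755607))))))) (.node (.node (.node (.node (.node (.node (.node (.leaf 16253518) (.leaf 9888389)) (.leaf 9777292)) (.node (.leaf 3469701) (.leaf 13091316))) (.node (.node (.leaf 14983268) (.leaf 16699562)) (.node (.leaf 12149264) (.leaf 15536262)))) (.node (.node (.node (.node (.leaf 15233369) (.leaf 12402705)) (.leaf 4583804)) (.node (.leaf 12136847) (.leaf 6591038))) (.node (.node (.leaf 11337969) (.leaf 16568852)) (.node (.leaf 8532643) (.leaf 9401034))))) (.node (.node (.node (.node (.node (.leaf 15577100) (.leaf 725303)) (.leaf 9117958)) (.node (.leaf 2302613) (.leaf 1421943))) (.node (.node (.leaf 10940464) (.leaf 3465606)) (.node (.leaf 9494576) (.leaf 2650430)))) (.node (.node (.node (.leaf 9662532) (.leaf 11678368)) (.node (.leaf 446748) (.leaf 7733592))) (.node (.node (.leaf 2851487) (.leaf 16167421)) (.node (.leaf 15012126) (.leaf 5115927)))))) (.node (.node (.node (.node (.node (.node (.leaf 3358971)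 (.leaf 2925139)) (.leaf 12931226)) (.node (.leaf 15921390) (.leaf 2654903))) (.node (.node (.leaf 1118680) (.leaf 5784059)) (.node (.leaf 18063930) (.leaf 12500)))) (.node (.node (.node (.node (.leaf 15184481) (.leaf 16146957)) (.leaf 9560642)) (.node (.leaf 17576067) (.leaf 10015252))) (.node (.node (.leaf 16433168) (.leaf 15909350)) (.node (.leaf 4477448) (.leaf 2502889))))) (.node (.node (.node (.node (.node (.leaf 13164951) (.leaf 979270)) (.leaf 14225979)) (.node (.leaf 14606973) (.leaf 17301899))) (.node (.node (.leaf 4260115) (.leaf 14262563)) (.node (.leaf 6447741) (.leaf 11891104)))) (.node (.node (.node (.leaf 9286111) (.leaf 9572655)) (.node (.leaf 17252404) (.leaf 2544151))) (.node (.node (.leaf 11792984) (.leaf 3547436)) (.node (.leaf 2224314) (.leaf 8811178)))))))))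

def threeMv7283 : Janko.Tree (ℕ) :=
  (.node (.node (.node (.node (.node (.node (.node (.node (.node (.leaf 6967848) (.leaf 3052202)) (.leaf 7168618)) (.node (.leaf 18300982) (.leaf 14131797))) (.node (.node (.leaf 110769) (.leaf 10080730)) (.node (.leaf 3224117) (.leaf 14693058)))) (.node (.node (.node (.node (.leaf 10437045) (.leaf 786768)) (.leaf 14754129)) (.node (.leaf 709007) (.leaf 13353667))) (.node (.node (.leaf 1368442) (.leaf 7238154)) (.node (.leaf 12677780) (.leaf 12935547))))) (.node (.node (.node (.node (.node (.leaf 9347113) (.leaf 1581496)) (.leaf 118795)) (.node (.leaf 13262919) (.leaf 2810571))) (.node (.node (.leaf 6467774) (.leaf 11166322)) (.node (.leaf 7106787) (.leaf 16126574)))) (.node (.node (.node (.leaf 12157495) (.leaf 14110995)) (.node (.leaf 5509839) (.leaf 18071812))) (.node (.node (.leaf 5853460) (.leaf 14717342)) (.node (.leaf 4362498) (.leaf 3293409)))))) (.node (.node (.node (.node (.node (.node (.leaf 7037413) (.leaf 6082823)) (.leaf 17936442)) (.node (.leaf 17666155) (.leaf 4247998))) (.node (.node (.leaf 15143537) (.leaf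 2408905)) (.node (.leaf 8040484) (.leaf 3527261)))) (.node (.node (.node (.node (.leaf 9326649) (.leaf 13939378)) (.leaf 11845650)) (.node (.leaf 4612521) (.leaf 864498))) (.node (.node (.leaf 3166849) (.leaf 14106933)) (.node (.leaf 5541927) (.leaf 1888675))))) (.node (.node (.node (.node (.node (.leaf 10457767) (.leaf 9507255)) (.leaf 11915484)) (.node (.leaf 11878850) (.leaf 1360184))) (.node (.node (.leaf 930207) (.leaf 9249273)) (.node (.leaf 286902) (.leaf 15077628)))) (.node (.node (.node (.leaf 1781767) (.leaf 9781260)) (.node (.leaf 2720148) (.leaf 995363))) (.node (.node (.leaf 14721467) (.leaf 3752500)) (.node (.leaf 2109710) (.leaf 1200490))))))) (.node (.node (.node (.node (.node (.node (.node (.leaf 10261181) (.leaf 7897774)) (.leaf 10461484)) (.node (.leaf 14680635) (.leaf 13594954))) (.node (.node (.leaf 5030580) (.leaf 12562575)) (.node (.leaf 16187931) (.leaf 16757107)))) (.node (.node (.node (.node (.leaf 11252270) (.leaf 5366035)) (.leaf 9941475)) (.node (.leaf 14565517) (.leaf 13873691))) (.node (.node (.leaf 7303685) (.leaf 2142284)) (.node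 (.leaf 14631054) (.leaf 14528578))))) (.node (.node (.node (.node (.node (.leaf 4657504) (.leaf 17244434)) (.leaf 16712276)) (.node (.leaf 172419) (.leaf 4690207))) (.node (.node (.leaf 17534984) (.leaf 5796083)) (.node (.leaf 16523737) (.leaf 11440560)))) (.node (.node (.node (.leaf 2859490) (.leaf 11956637)) (.node (.leaf 5165598) (.leaf 987614))) (.node (.node (.leaf 10613050) (.leaf 9962152)) (.node (.leaf 7770192) (.leaf 5927126)))))) (.node (.node (.node (.node (.node (.node (.leaf 17063959) (.leaf 16773456)) (.leaf 8953867)) (.node (.leaf 12386970) (.leaf 17379496))) (.node (.node (.leaf 11608112) (.leaf 13189451)) (.node (.leaf 5357992) (.leaf 17609291)))) (.node (.node (.node (.node (.leaf 8859720) (.leaf 6435217)) (.leaf 8667297)) (.node (.leaf 15229280) (.leaf 6230128))) (.node (.node (.leaf 7160332) (.leaf 10428981)) (.node (.leaf 5292561) (.leaf 4059147))))) (.node (.node (.node (.node (.node (.leaf 8974594) (.leaf 13201594)) (.leaf 6386196)) (.node (.leaf 5562788) (.leaf 17838277))) (.node (.node (.leaf 15499929) (.leaf 4497614)) (.node (.leaf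 1147436) (.leaf 1352340)))) (.node (.node (.node (.leaf 8749696) (.leaf 17268877)) (.node (.leaf 15872669) (.leaf 15008255))) (.node (.node (.leaf 7508225) (.leaf 9114104)) (.node (.leaf 15061534) (.leaf 3969127)))))))) (.node (.node (.node (.node (.node (.node (.node (.node (.leaf 6144042) (.leaf 11325751)) (.leaf 11559121)) (.node (.leaf 12055059) (.leaf 1618272))) (.node (.node (.leaf 9109571) (.leaf 8790089)) (.node (.leaf 4051390) (.leaf 3834077)))) (.node (.node (.node (.node (.leaf 10359016) (.leaf 1737342)) (.leaf 9769152)) (.node (.leaf 10736189) (.leaf 9105807))) (.node (.node (.leaf 9453638) (.leaf 10519004)) (.node (.leaf 8499307) (.leaf 2469908))))) (.node (.node (.node (.node (.node (.leaf 17826403) (.leaf 4321312)) (.leaf 11665739)) (.node (.leaf 7876975) (.leaf 733503))) (.node (.node (.leaf 1425766) (.leaf 17256699)) (.node (.leaf 1982728) (.leaf 15561369)))) (.node (.node (.node (.leaf 1482997) (.leaf 18313812)) (.node (.leaf 6156453) (.leaf 17977756))) (.node (.node (.leaf 15204704) (.leaf 4641360)) (.node (.leaf 10330733) (.leaf 10645794))))))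 (.node (.node (.node (.node (.node (.node (.leaf 17408322) (.leaf 14287497)) (.leaf 6537514)) (.node (.leaf 3608967) (.leaf 12497423))) (.node (.node (.leaf 12079698) (.leaf 14344300)) (.node (.leaf 12657251) (.leaf 1843697)))) (.node (.node (.node (.node (.leaf 10489987) (.leaf 14275219)) (.leaf 10215664)) (.node (.leaf 5632580) (.leaf 14504517))) (.node (.node (.leaf 14118967) (.leaf 1626603)) (.node (.leaf 438730) (.leaf 8720675))))) (.node (.node (.node (.node (.node (.leaf 2883993) (.leaf 13025854)) (.leaf 10502740)) (.node (.leaf 12173389) (.leaf 14913775))) (.node (.node (.leaf 8491117) (.leaf 14143912)) (.node (.leaf 17994419) (.leaf 15495196)))) (.node (.node (.node (.leaf 2548266) (.leaf 2048715)) (.node (.leaf 7848122) (.leaf 10117401))) (.node (.node (.leaf 6857059) (.leaf 15606229)) (.node (.leaf 12812721) (.leaf 7794746))))))) (.node (.node (.node (.node (.node (.node (.node (.leaf 434863) (.leaf 12271746)) (.leaf 6463984)) (.node (.leaf 16732676) (.leaf 14028852))) (.node (.node (.leaf 18198547) (.leaf 12911083)) (.node (.leaf 9392274) (.leaf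 11006224)))) (.node (.node (.node (.node (.leaf 14619205) (.leaf 10825827)) (.leaf 14455494)) (.node (.leaf 5833373) (.leaf 614572))) (.node (.node (.leaf 6668781) (.leaf 4743554)) (.node (.leaf 12427511) (.leaf 3002443))))) (.node (.node (.node (.node (.node (.leaf 2666721) (.leaf 9175126)) (.leaf 9417259)) (.node (.leaf 5284388) (.leaf 8061085))) (.node (.node (.leaf 6168732) (.leaf 9179329)) (.node (.leaf 12673192) (.leaf 12214468)))) (.node (.node (.node (.leaf 8180110) (.leaf 15802810)) (.node (.leaf 17768766) (.leaf 237625))) (.node (.node (.leaf 15729332) (.leaf 3703423)) (.node (.leaf 17080580) (.leaf 15450457)))))) (.node (.node (.node (.node (.node (.node (.leaf 16527937) (.leaf 3633193)) (.leaf 967287)) (.node (.leaf 18235639) (.leaf 10678651))) (.node (.node (.leaf 16888317) (.leaf 2580692)) (.node (.leaf 8335566) (.leaf 8298773)))) (.node (.node (.node (.node (.leaf 11313443) (.leaf 11108584)) (.leaf 5456036)) (.node (.leaf 13078757) (.leaf 12001700))) (.node (.node (.leaf 3199143) (.leaf 2966023)) (.node (.leaf 5063239) (.leaf 17068506))))) (.node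 (.node (.node (.node (.node (.leaf 6685034) (.leaf 9134728)) (.leaf 6136406)) (.node (.leaf 14712967) (.leaf 10719818))) (.node (.node (.leaf 11305196) (.leaf 8130565)) (.node (.leaf 15626920) (.leaf 5320838)))) (.node (.node (.node (.leaf 11481692) (.leaf 13156486)) (.node (.leaf 4788372) (.leaf 14832155))) (.node (.node (.leaf 6627593) (.leaf 3121424)) (.node (.leaf 9720297) (.leaf 1040849)))))))))

def threeMv7284 : Janko.Tree (ℕ) :=
  (.node (.node (.node (.node (.node (.node (.node (.node (.node (.leaf 17948877) (.leaf 2441793)) (.leaf 9167012)) (.node (.leaf 16028104) (.leaf 9822473))) (.node (.node (.leaf 17928548) (.leaf 12304713)) (.node (.leaf 13787293) (.leaf 16486646)))) (.node (.node (.node (.node (.leaf 8311122) (.leaf 16384184)) (.leaf 6303784)) (.node (.leaf 2269453) (.leaf 12337686))) (.node (.node (.leaf 9429035) (.leaf 9842718)) (.node (.leaf 14561639) (.leaf 17219635))))) (.node (.node (.node (.node (.node (.leaf 15114421) (.leaf 16577011)) (.leaf 7647642)) (.node (.leaf 14303404) (.leaf 11702965))) (.node (.node (.leaf 2306174) (.leaf 17310231))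 (.node (.leaf 16040178) (.leaf 336156)))) (.node (.node (.node (.leaf 16740657) (.leaf 9539694)) (.node (.leaf 3379602) (.leaf 9388079))) (.node (.node (.leaf 15482911) (.leaf 3784898)) (.node (.leaf 6001252) (.leaf 12296723)))))) (.node (.node (.node (.node (.node (.node (.leaf 1958039) (.leaf 10150129)) (.leaf 11550804)) (.node (.leaf 5517964) (.leaf 12013897))) (.node (.node (.leaf 3993860) (.leaf 4686051)) (.node (.leaf 2945201) (.leaf 12837496)))) (.node (.node (.node (.node (.leaf 17502353) (.leaf 5103761)) (.leaf 7041680)) (.node (.leaf 18182622) (.leaf 16519284))) (.node (.node (.leaf 10977863) (.leaf 12456180)) (.node (.leaf 1634742) (.leaf 17711285))))) (.node (.node (.node (.node (.node (.leaf 795273) (.leaf 9904409)) (.leaf 3506730)) (.node (.leaf 5407342) (.leaf 12595854))) (.node (.node (.leaf 10563634) (.leaf 9830897)) (.node (.leaf 6599304) (.leaf 13419130)))) (.node (.node (.node (.leaf 7807632) (.leaf 9040511)) (.node (.leaf 11432537) (.leaf 11862400))) (.node (.node (.leaf 2453960) (.leaf 4244072)) (.node (.leaf 8286316) (.leaf 6894149)))))))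 (.node (.node (.node (.node (.node (.node (.node (.leaf 11137454) (.leaf 741499)) (.leaf 4149971)) (.node (.leaf 17654301) (.leaf 241895))) (.node (.node (.leaf 15696108) (.leaf 10895872)) (.node (.leaf 4595853) (.leaf 3158198)))) (.node (.node (.node (.node (.leaf 4345965) (.leaf 16396651)) (.leaf 10310010)) (.node (.leaf 17748460) (.leaf 3264898))) (.node (.node (.leaf 7578089) (.leaf 5935749)) (.node (.leaf 6119563) (.leaf 6664877))))) (.node (.node (.node (.node (.node (.leaf 1004100) (.leaf 5882108)) (.leaf 5521551)) (.node (.leaf 11952153) (.leaf 13238872))) (.node (.node (.leaf 10301788) (.leaf 12636215)) (.node (.leaf 16154770) (.leaf 4817201)))) (.node (.node (.node (.leaf 14508051) (.leaf 15823076)) (.node (.leaf 11837721) (.leaf 15614202))) (.node (.node (.leaf 1655035) (.leaf 14655606)) (.node (.leaf 9019447) (.leaf 14647549)))))) (.node (.node (.node (.node (.node (.node (.leaf 11255839) (.leaf 2564125)) (.leaf 12726486)) (.node (.leaf 3162572) (.leaf 9437435))) (.node (.node (.leaf 18055813) (.leaf 16540083)) (.node (.leaf 13054394) (.leaf 2138551))))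 (.node (.node (.node (.node (.leaf 12390794) (.leaf 10985754)) (.leaf 12075390)) (.node (.leaf 12829076) (.leaf 11817199))) (.node (.node (.leaf 5468596) (.leaf 11476992)) (.node (.leaf 17715463) (.leaf 9794012))))) (.node (.node (.node (.node (.node (.leaf 16753239) (.leaf 3133872)) (.leaf 17498214)) (.node (.leaf 6746464) (.leaf 15610114))) (.node (.node (.leaf 16499082) (.leaf 11997693)) (.node (.leaf 7225677) (.leaf 4735354)))) (.node (.node (.node (.leaf 16531696) (.leaf 1798457)) (.node (.leaf 15958687) (.leaf 106959))) (.node (.node (.leaf 10432727) (.leaf 17543520)) (.node (.leaf 2519257) (.leaf 635172)))))))) (.node (.node (.node (.node (.node (.node (.node (.node (.leaf 5870092) (.leaf 2969726)) (.leaf 1413187)) (.node (.leaf 12960137) (.leaf 14840150))) (.node (.node (.leaf 14782941) (.leaf 10567727)) (.node (.leaf 4354118) (.leaf 12161652)))) (.node (.node (.node (.node (.leaf 14897286) (.leaf 7110754)) (.leaf 7074072)) (.node (.leaf 3551585) (.leaf 11121326))) (.node (.node (.leaf 4563650) (.leaf 10821645)) (.node (.leaf 16371879) (.leaf 15974923)))))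 (.node (.node (.node (.node (.node (.leaf 11272610) (.leaf 897534)) (.leaf 10203639)) (.node (.leaf 2682988) (.leaf 53258))) (.node (.node (.leaf 10482247) (.leaf 217568)) (.node (.leaf 14815590) (.leaf 9355400)))) (.node (.node (.node (.leaf 11670027) (.leaf 10731863)) (.node (.leaf 10776775) (.leaf 1474671))) (.node (.node (.leaf 15704712) (.leaf 8433988)) (.node (.leaf 16343375) (.leaf 16081573)))))) (.node (.node (.node (.node (.node (.node (.leaf 7852324) (.leaf 17571907)) (.leaf 10773116)) (.node (.leaf 450619) (.leaf 2749027))) (.node (.node (.leaf 13504559) (.leaf 13000978)) (.node (.leaf 11424404) (.leaf 14995912)))) (.node (.node (.node (.node (.leaf 9036066) (.leaf 9752940)) (.leaf 15917470)) (.node (.leaf 14880830) (.leaf 14172372))) (.node (.node (.leaf 5599759) (.leaf 6775010)) (.node (.leaf 15368461) (.leaf 13582656))))) (.node (.node (.node (.node (.node (.leaf 8929572) (.leaf 2892200)) (.leaf 16458244)) (.node (.leaf 18047215) (.leaf 11854507))) (.node (.node (.leaf 5280063) (.leaf 9138205)) (.node (.leaf 5325476) (.leaf 17658500)))) (.node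 (.node (.node (.leaf 8290422) (.leaf 13447765)) (.node (.leaf 2912668) (.leaf 11690015))) (.node (.node (.leaf 8822886) (.leaf 17625160)) (.node (.leaf 3354641) (.leaf 9228747))))))) (.node (.node (.node (.node (.node (.node (.node (.leaf 14594391) (.leaf 11092265)) (.leaf 15630881)) (.node (.leaf 1859753) (.leaf 17957013))) (.node (.node (.leaf 13558143) (.leaf 17916050)) (.node (.leaf 508294) (.leaf 13496878)))) (.node (.node (.node (.node (.leaf 15905088) (.leaf 462871)) (.leaf 6426836)) (.node (.leaf 10793507) (.leaf 12787739))) (.node (.node (.leaf 2560470) (.leaf 6672577)) (.node (.leaf 8773819) (.leaf 7283127))))) (.node (.node (.node (.node (.node (.leaf 17351240) (.leaf 13402765)) (.leaf 1065103)) (.node (.leaf 11874583) (.leaf 4063418))) (.node (.node (.leaf 1208684) (.leaf 5771268)) (.node (.leaf 5550572) (.leaf 4014526)))) (.node (.node (.node (.leaf 5918944) (.leaf 8982977)) (.node (.leaf 15003992) (.leaf 1598012))) (.node (.node (.leaf 12202453) (.leaf 9756965)) (.node (.leaf 3580118) (.leaf 352508)))))) (.node (.node (.node (.node (.node (.node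 (.leaf 3412040) (.leaf 459045)) (.leaf 8864007)) (.node (.leaf 11436549) (.leaf 7405698))) (.node (.node (.leaf 11448795) (.leaf 9715836)) (.node (.leaf 7246352) (.leaf 16957760)))) (.node (.node (.node (.node (.leaf 15515834) (.leaf 6545453)) (.leaf 6369902)) (.node (.leaf 1691814) (.leaf 7184745))) (.node (.node (.leaf 16843326) (.leaf 16790073)) (.node (.leaf 5861627) (.leaf 11710984))))) (.node (.node (.node (.node (.node (.leaf 2126529) (.leaf 6861027)) (.leaf 13975710)) (.node (.leaf 12820751) (.leaf 8568959))) (.node (.node (.leaf 10526751) (.leaf 3568136)) (.node (.leaf 13603477) (.leaf 1970443)))) (.node (.node (.node (.leaf 2769415) (.leaf 7307573)) (.node (.leaf 15827539) (.leaf 12570697))) (.node (.node (.leaf 5275822) (.leaf 9330794)) (.node (.leaf 13979925) (.leaf 15700195)))))))))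

def threeMv7285 : Janko.Tree (ℕ) :=
  (.node (.node (.node (.node (.node (.node (.node (.node (.node (.leaf 10904017) (.leaf 6742589)) (.leaf 12698322)) (.node (.leaf 17637912) (.leaf 1532605))) (.node (.node (.leaf 12832993) (.leaf 11612804)) (.node (.leaf 3850764) (.leaf 6419007)))) (.node (.node (.node (.node (.leaf 1826820) (.leaf 16580928)) (.leaf 9412736)) (.node (.leaf 15643019) (.leaf 17645720))) (.node (.node (.leaf 5480635) (.leaf 7352818)) (.node (.leaf 17805718) (.leaf 15544742))))) (.node (.node (.node (.node (.node (.leaf 13332562) (.leaf 10084454)) (.leaf 2592932)) (.node (.leaf 1249343) (.leaf 5558371))) (.node (.node (.leaf 3985497) (.leaf 12526230)) (.node (.leaf 2310296) (.leaf 7524608)))) (.node (.node (.node (.leaf 3330336) (.leaf 15102469)) (.node (.leaf 15737136) (.leaf 6492303))) (.node (.node (.leaf 5657020) (.leaf 14967295)) (.node (.leaf 11743383) (.leaf 16450015)))))) (.node (.node (.node (.node (.node (.node (.leaf 17588283) (.leaf 4842084)) (.leaf 1802940)) (.node (.leaf 1851696) (.leaf 12587697))) (.node (.node (.leaf 10580033)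 (.leaf 2060335)) (.node (.leaf 4251657) (.leaf 15347909)))) (.node (.node (.node (.node (.leaf 7778963) (.leaf 2261240)) (.leaf 6762697)) (.node (.leaf 4215274) (.leaf 1278635))) (.node (.node (.leaf 8688172) (.leaf 3207487)) (.node (.leaf 13250987) (.leaf 16650895))))) (.node (.node (.node (.node (.node (.leaf 6501074) (.leaf 4223487)) (.leaf 7340284)) (.node (.leaf 11911486) (.leaf 10928227))) (.node (.node (.leaf 13111982) (.leaf 14463433)) (.node (.leaf 3305889) (.leaf 18018873)))) (.node (.node (.node (.leaf 5218928) (.leaf 11927772)) (.node (.leaf 6181391) (.leaf 9015693))) (.node (.node (.leaf 2617666) (.leaf 5615928)) (.node (.leaf 2175086) (.leaf 627003))))))) (.node (.node (.node (.node (.node (.node (.node (.leaf 14746221) (.leaf 4571316)) (.leaf 13770897)) (.node (.leaf 1294928) (.leaf 1553037))) (.node (.node (.leaf 15384815) (.leaf 1429662)) (.node (.leaf 14778863) (.leaf 307858)))) (.node (.node (.node (.node (.leaf 471458) (.leaf 6906479)) (.leaf 15200779)) (.node (.leaf 11186351) (.leaf 11898960))) (.node (.node (.leaf 14066270) (.leaf 7057536))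 (.node (.leaf 5984353) (.leaf 6939188))))) (.node (.node (.node (.node (.node (.leaf 14389538) (.leaf 4481620)) (.leaf 3129934)) (.node (.leaf 16974260) (.leaf 11764410))) (.node (.node (.leaf 1417492) (.leaf 651458)) (.node (.leaf 15147170) (.leaf 5611664)))) (.node (.node (.node (.leaf 6623319) (.leaf 7631040)) (.node (.leaf 3514668) (.leaf 9760872))) (.node (.node (.leaf 14635667) (.leaf 17584636)) (.node (.leaf 7475691) (.leaf 15982881)))))) (.node (.node (.node (.node (.node (.node (.leaf 1556870) (.leaf 14185048)) (.leaf 16355918)) (.node (.leaf 1761821) (.leaf 14086289))) (.node (.node (.leaf 4977251) (.leaf 14918295)) (.node (.leaf 16228378) (.leaf 4198951)))) (.node (.node (.node (.node (.leaf 1179848) (.leaf 17416285)) (.leaf 13881459)) (.node (.leaf 10846549) (.leaf 10175075))) (.node (.node (.leaf 18117329) (.leaf 10223721)) (.node (.leaf 639143) (.leaf 12649120))))) (.node (.node (.node (.node (.node (.leaf 10219994) (.leaf 11575333)) (.leaf 16347752)) (.node (.leaf 5075481) (.leaf 954956))) (.node (.node (.leaf 11698409) (.leaf 11858140)) (.node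 (.leaf 14602400) (.leaf 5235073)))) (.node (.node (.node (.leaf 688162) (.leaf 14516501)) (.node (.leaf 13197842) (.leaf 14733664))) (.node (.node (.leaf 14770474) (.leaf 9290414)) (.node (.leaf 9642297) (.leaf 4124729)))))))) (.node (.node (.node (.node (.node (.node (.node (.node (.leaf 729159) (.leaf 7832202)) (.leaf 11841990)) (.node (.leaf 15245382) (.leaf 17010743))) (.node (.node (.leaf 16453981) (.leaf 123460)) (.node (.leaf 13214401) (.leaf 2646362)))) (.node (.node (.node (.node (.leaf 17453544) (.leaf 6337015)) (.leaf 9076972)) (.node (.leaf 9486653) (.leaf 1728787))) (.node (.node (.leaf 3715763) (.leaf 1937880)) (.node (.leaf 18239802) (.leaf 16683060))))) (.node (.node (.node (.node (.node (.leaf 16150590) (.leaf 13791891)) (.leaf 10944575)) (.node (.leaf 7402031) (.leaf 12464372))) (.node (.node (.leaf 15405148) (.leaf 221837)) (.node (.leaf 12300553) (.leaf 9994341)))) (.node (.node (.node (.leaf 13132480) (.leaf 12132487)) (.node (.leaf 2806354) (.leaf 90759))) (.node (.node (.leaf 5181696) (.leaf 11624490)) (.node (.leaf 11964984) (.leaf 2986416))))))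 (.node (.node (.node (.node (.node (.node (.leaf 10281368) (.leaf 6611457)) (.leaf 16798207)) (.node (.leaf 12976228) (.leaf 12984586))) (.node (.node (.leaf 5144869) (.leaf 946466)) (.node (.leaf 9564625) (.leaf 14659853)))) (.node (.node (.node (.node (.leaf 2916407) (.leaf 3953031)) (.leaf 1044631)) (.node (.leaf 3047748) (.leaf 10285497))) (.node (.node (.leaf 5382727) (.leaf 1409046)) (.node (.leaf 9322812) (.leaf 9986109))))) (.node (.node (.node (.node (.node (.leaf 13725776) (.leaf 200947)) (.leaf 10092642)) (.node (.leaf 14438411) (.leaf 14176535))) (.node (.node (.leaf 2036411) (.leaf 4833338)) (.node (.leaf 2384309) (.leaf 9589275)))) (.node (.node (.node (.leaf 7516298) (.leaf 3281165)) (.node (.leaf 8229497) (.leaf 6935031))) (.node (.node (.leaf 3236410) (.leaf 4805318)) (.node (.leaf 1941610) (.leaf 3846173))))))) (.node (.node (.node (.node (.node (.node (.node (.leaf 16990846) (.leaf 11829466)) (.leaf 6881923)) (.node (.leaf 327797) (.leaf 9667108))) (.node (.node (.leaf 1122784) (.leaf 2158925)) (.node (.leaf 7311997) (.leaf 14479664)))) (.node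 (.node (.node (.node (.leaf 1052810) (.leaf 15798578)) (.leaf 3519099)) (.node (.leaf 2605530) (.leaf 9425142))) (.node (.node (.leaf 5227211) (.leaf 5767226)) (.node (.leaf 262666) (.leaf 16016031))))) (.node (.node (.node (.node (.node (.leaf 16695844) (.leaf 4411522)) (.leaf 8806604)) (.node (.leaf 8683988) (.leaf 15565044))) (.node (.node (.leaf 1683647) (.leaf 1962639)) (.node (.leaf 13435575) (.leaf 17703344)))) (.node (.node (.node (.leaf 15970520) (.leaf 2028012)) (.node (.leaf 250292) (.leaf 3981808))) (.node (.node (.leaf 16400731) (.leaf 7385213)) (.node (.leaf 11350204) (.leaf 12734493)))))) (.node (.node (.node (.node (.node (.node (.leaf 2289949) (.leaf 5497492)) (.leaf 1187957)) (.node (.leaf 16376303) (.leaf 7925878))) (.node (.node (.leaf 16654876) (.leaf 5603630)) (.node (.leaf 13013687) (.leaf 7262260)))) (.node (.node (.node (.node (.leaf 3764901) (.leaf 7946439)) (.leaf 2699563)) (.node (.leaf 2412680) (.leaf 10264632))) (.node (.node (.leaf 11415855) (.leaf 8761388)) (.node (.leaf 3117754) (.leaf 6852840))))) (.node (.node (.node (.node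 (.node (.leaf 7217847) (.leaf 16327143)) (.leaf 807164)) (.node (.leaf 13898005) (.leaf 6377590))) (.node (.node (.leaf 14328281) (.leaf 15241804)) (.node (.leaf 2478144) (.leaf 7176352)))) (.node (.node (.node (.leaf 3662057) (.leaf 4534951)) (.node (.leaf 17752153) (.leaf 860442))) (.node (.node (.leaf 2281929) (.leaf 12755347)) (.node (.leaf 692461) (.leaf 3641715)))))))))

def threeMv7286 : Janko.Tree (ℕ) :=
  (.node (.node (.node (.node (.node (.node (.node (.node (.node (.leaf 18321508) (.leaf 14008951)) (.leaf 364922)) (.node (.leaf 14725545) (.leaf 6660344))) (.node (.node (.leaf 16998410) (.leaf 11547017)) (.node (.leaf 17432908) (.leaf 11378906)))) (.node (.node (.node (.node (.leaf 10805611) (.leaf 8565268)) (.leaf 13840754)) (.node (.leaf 2363681) (.leaf 17854998))) (.node (.node (.leaf 15732998) (.leaf 9003603)) (.node (.leaf 13180964) (.leaf 8524016))))) (.node (.node (.node (.node (.node (.leaf 717405) (.leaf 10670682)) (.leaf 6164577)) (.node (.leaf 7885211) (.leaf 1011746))) (.node (.node (.leaf 5337732) (.leaf 16662892)) (.node (.leaf 13733927)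 (.leaf 13509085)))) (.node (.node (.node (.leaf 5140743) (.leaf 2203975)) (.node (.leaf 17133985) (.leaf 18325963))) (.node (.node (.leaf 7381118) (.leaf 6898277)) (.node (.leaf 4600290) (.leaf 15741518)))))) (.node (.node (.node (.node (.node (.node (.leaf 13541384) (.leaf 1221304)) (.leaf 14373070)) (.node (.leaf 1134678) (.leaf 4681759))) (.node (.node (.leaf 15401447) (.leaf 8319484)) (.node (.leaf 11534795) (.leaf 2437424)))) (.node (.node (.node (.node (.leaf 14021039) (.leaf 10355017)) (.leaf 1589456)) (.node (.leaf 4501523) (.leaf 13082873))) (.node (.node (.leaf 11530892) (.leaf 11047494)) (.node (.leaf 12800223) (.leaf 5374274))))) (.node (.node (.node (.node (.node (.leaf 7364859) (.leaf 6602852)) (.leaf 4825110)) (.node (.leaf 3956987) (.leaf 16441708))) (.node (.node (.leaf 17346597) (.leaf 12448021)) (.node (.leaf 623215) (.leaf 6484680)))) (.node (.node (.node (.leaf 17481910) (.leaf 1606122)) (.node (.leaf 8306848) (.leaf 15274264))) (.node (.node (.leaf 4300967) (.leaf 17273080)) (.node (.leaf 16745012) (.leaf 10633323))))))) (.node (.node (.node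 (.node (.node (.node (.node (.leaf 7892996) (.leaf 18252325)) (.leaf 7033404)) (.node (.leaf 876667) (.leaf 16089754))) (.node (.node (.leaf 6414882) (.leaf 1372474)) (.node (.leaf 15942309) (.leaf 13730179)))) (.node (.node (.node (.node (.leaf 7692319) (.leaf 6979655)) (.leaf 17514832)) (.node (.leaf 10473702) (.leaf 2458118))) (.node (.node (.leaf 5263895) (.leaf 4907484)) (.node (.leaf 11427966) (.leaf 7774915))))) (.node (.node (.node (.node (.node (.leaf 2756684) (.leaf 5763165)) (.leaf 13705594)) (.node (.leaf 6696997) (.leaf 7233901))) (.node (.node (.leaf 4272784) (.leaf 16543982)) (.node (.leaf 4145379) (.leaf 16036337)))) (.node (.node (.node (.leaf 9277615) (.leaf 3216055)) (.node (.leaf 8561008) (.leaf 14807674))) (.node (.node (.leaf 4698579) (.leaf 2679187)) (.node (.leaf 9187559) (.leaf 13795761)))))) (.node (.node (.node (.node (.node (.node (.leaf 17261171) (.leaf 14078000)) (.leaf 4120889)) (.node (.leaf 4472979) (.leaf 14532963))) (.node (.node (.leaf 12632316) (.leaf 9048694)) (.node (.leaf 16691531) (.leaf 3748338)))) (.node (.node (.node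 (.node (.leaf 14639292) (.leaf 1987102)) (.leaf 4964973)) (.node (.leaf 11063802) (.leaf 94557))) (.node (.node (.leaf 7446702) (.leaf 9675317)) (.node (.leaf 9957553) (.leaf 7410241))))) (.node (.node (.node (.node (.node (.leaf 2166902) (.leaf 7155989)) (.leaf 3977291)) (.node (.leaf 557245) (.leaf 14397569))) (.node (.node (.leaf 815782) (.leaf 1536385)) (.node (.leaf 4730942) (.leaf 12902864)))) (.node (.node (.node (.leaf 8348211) (.leaf 6070368)) (.node (.leaf 8012420) (.leaf 17809719))) (.node (.node (.leaf 2093697) (.leaf 17313872)) (.node (.leaf 114963) (.leaf 1867806)))))))) (.node (.node (.node (.node (.node (.node (.node (.node (.leaf 5706076) (.leaf 5575294)) (.leaf 16159057)) (.node (.leaf 2085201) (.leaf 11632888))) (.node (.node (.leaf 15594022) (.leaf 9379849)) (.node (.leaf 13492536) (.leaf 1642795)))) (.node (.node (.node (.node (.leaf 18087967) (.leaf 1540210)) (.leaf 3867067)) (.node (.leaf 12619933) (.leaf 13721765))) (.node (.node (.leaf 9351727) (.leaf 16285932)) (.node (.leaf 4891144) (.leaf 3342698))))) (.node (.node (.node (.node (.node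 (.leaf 9461889) (.leaf 5022023)) (.leaf 8466855)) (.node (.leaf 8155580) (.leaf 6050480))) (.node (.node (.leaf 14160315) (.leaf 8003643)) (.node (.leaf 14233880) (.leaf 1437971)))) (.node (.node (.node (.leaf 15818952) (.leaf 11591804)) (.node (.leaf 6402570) (.leaf 13390260))) (.node (.node (.leaf 4358853) (.leaf 4428030)) (.node (.leaf 8552578) (.leaf 18305606)))))) (.node (.node (.node (.node (.node (.node (.leaf 1212495) (.leaf 9650711)) (.leaf 10854727)) (.node (.leaf 3813904) (.leaf 16277601))) (.node (.node (.leaf 17359541) (.leaf 4022556)) (.node (.leaf 856177) (.leaf 13951136)))) (.node (.node (.node (.node (.leaf 11907329) (.leaf 18178228)) (.leaf 11513863)) (.node (.leaf 16880177) (.leaf 15254124))) (.node (.node (.leaf 12341598) (.leaf 11694232)) (.node (.leaf 1741098) (.leaf 10559747))))) (.node (.node (.node (.node (.node (.leaf 10448947) (.leaf 1217111)) (.leaf 13480618)) (.node (.leaf 16368032) (.leaf 4706957))) (.node (.node (.leaf 3113040) (.leaf 17330367)) (.node (.leaf 1319137) (.leaf 5747219)))) (.node (.node (.node (.leaf 4661652) (.leaf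 6357143)) (.node (.leaf 5943666) (.leaf 10600662))) (.node (.node (.leaf 8704332) (.leaf 8716915)) (.node (.leaf 16420903) (.leaf 13034005))))))) (.node (.node (.node (.node (.node (.node (.node (.leaf 6845059) (.leaf 9949367)) (.leaf 4415777)) (.node (.leaf 3961255) (.leaf 17339064))) (.node (.node (.leaf 11727199) (.leaf 12738673)) (.node (.leaf 7279118) (.leaf 7029180)))) (.node (.node (.node (.node (.leaf 5136723) (.leaf 7811696)) (.leaf 14794977)) (.node (.leaf 8766026) (.leaf 16748970))) (.node (.node (.leaf 17126073) (.leaf 9924790)) (.node (.leaf 8446488) (.leaf 1819265))))) (.node (.node (.node (.node (.node (.leaf 7934184) (.leaf 14520718)) (.leaf 10621559)) (.node (.leaf 1348153) (.leaf 880684))) (.node (.node (.leaf 3723806) (.leaf 5132649)) (.node (.leaf 4829903) (.leaf 74254)))) (.node (.node (.node (.leaf 1695913) (.leaf 5660812)) (.node (.leaf 7078094) (.leaf 4071468))) (.node (.node (.leaf 13107825) (.leaf 2089413)) (.node (.leaf 4862071) (.leaf 12665299)))))) (.node (.node (.node (.node (.node (.node (.leaf 3473624) (.leaf 8708102)) (.leaf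 11284531)) (.node (.leaf 4104405) (.leaf 4469070))) (.node (.node (.leaf 18133295) (.leaf 5923336)) (.node (.leaf 4993643) (.leaf 18166283)))) (.node (.node (.node (.node (.leaf 13553912) (.leaf 15986821)) (.leaf 2002992)) (.node (.leaf 1282400) (.leaf 10850704))) (.node (.node (.leaf 1757823) (.leaf 18124895)) (.node (.leaf 6508598) (.leaf 17874946))))) (.node (.node (.node (.node (.node (.leaf 974944) (.leaf 4812865)) (.leaf 4808887)) (.node (.leaf 11456724) (.leaf 4592073))) (.node (.node (.leaf 13525706) (.leaf 15966563)) (.node (.leaf 18280666) (.leaf 10039984)))) (.node (.node (.node (.leaf 5513506) (.leaf 17613512)) (.node (.leaf 15950522) (.leaf 9282065))) (.node (.node (.leaf 8171923) (.leaf 15217340)) (.node (.leaf 4030875) (.leaf 15343925)))))))))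

def threeMv7287 : Janko.Tree (ℕ) :=
  (.node (.node (.node (.node (.node (.node (.node (.node (.node (.leaf 385237) (.leaf 17101314)) (.leaf 4674)) (.node (.leaf 12210645) (.leaf 13537314))) (.node (.node (.leaf 12513686) (.leaf 13017791)) (.node (.leaf 9626094) (.leaf 3068349)))) (.node (.node (.node (.node (.leaf 12267980) (.leaf 2359723)) (.leaf 9433676)) (.node (.leaf 16364039) (.leaf 6471754))) (.node (.node (.leaf 11489845) (.leaf 5206436)) (.node (.leaf 5693894) (.leaf 1262268))))) (.node (.node (.node (.node (.node (.leaf 8351765) (.leaf 9929269)) (.leaf 4755594)) (.node (.leaf 5259939) (.leaf 2822487))) (.node (.node (.leaf 10420675) (.leaf 12140924)) (.node (.leaf 11096463) (.leaf 4256085)))) (.node (.node (.node (.leaf 9470464) (.leaf 803051)) (.node (.leaf 8987101) (.leaf 5894535))) (.node (.node (.leaf 14909729) (.leaf 11125367)) (.node (.leaf 11980944) (.leaf 7193119)))))) (.node (.node (.node (.node (.node (.node (.leaf 3670486) (.leaf 14820015)) (.leaf 3477900)) (.node (.leaf 18042912) (.leaf 1110370))) (.node (.node (.leaf 1015909) (.leaf 684294))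 (.node (.leaf 6263118) (.leaf 8360038)))) (.node (.node (.node (.node (.leaf 9142608) (.leaf 4972662)) (.leaf 16855762)) (.node (.leaf 14623125) (.leaf 10424586))) (.node (.node (.leaf 10539039) (.leaf 6578275)) (.node (.leaf 2293908) (.leaf 4542547))))) (.node (.node (.node (.node (.node (.leaf 5751455) (.leaf 676546)) (.leaf 9204146)) (.node (.leaf 4714847) (.leaf 17240133))) (.node (.node (.leaf 17682833) (.leaf 3018781)) (.node (.leaf 18026649) (.leaf 15749417)))) (.node (.node (.node (.leaf 18002128) (.leaf 9658582)) (.node (.leaf 7221607) (.leaf 254125))) (.node (.node (.leaf 8610086) (.leaf 7086422)) (.node (.leaf 9396365) (.leaf 11022431))))))) (.node (.node (.node (.node (.node (.node (.node (.leaf 10056303) (.leaf 541273)) (.leaf 4043459)) (.node (.leaf 713098) (.leaf 7606506))) (.node (.node (.leaf 13140399) (.leaf 14541017)) (.node (.leaf 2208451) (.leaf 16474647)))) (.node (.node (.node (.node (.leaf 16322679) (.leaf 16306717)) (.leaf 16261639)) (.node (.leaf 7586288) (.leaf 10187359))) (.node (.node (.leaf 4297431) (.leaf 5148972)) (.node (.leaf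 17871546) (.leaf 17887400))))) (.node (.node (.node (.node (.node (.leaf 5849651) (.leaf 5341602)) (.leaf 13824374)) (.node (.leaf 8237282) (.leaf 49692))) (.node (.node (.leaf 12857375) (.leaf 12644378)) (.node (.leaf 5669422) (.leaf 12722339)))) (.node (.node (.node (.leaf 11280430) (.leaf 15639040)) (.node (.leaf 17973355) (.leaf 135806))) (.node (.node (.leaf 10916435) (.leaf 12546076)) (.node (.leaf 5272125) (.leaf 8135200)))))) (.node (.node (.node (.node (.node (.node (.leaf 12550754) (.leaf 6991894)) (.leaf 5501192)) (.node (.leaf 9711758) (.leaf 12886696))) (.node (.node (.leaf 15990923) (.leaf 7295037)) (.node (.leaf 2376251) (.leaf 16847410)))) (.node (.node (.node (.node (.leaf 3973674) (.leaf 3907797)) (.leaf 3125944)) (.node (.leaf 10256559) (.leaf 4178101))) (.node (.node (.leaf 843870) (.leaf 9945648)) (.node (.leaf 12362261) (.leaf 14487647))))) (.node (.node (.node (.node (.node (.leaf 12702114) (.leaf 17449579)) (.leaf 6005282)) (.node (.leaf 14369347) (.leaf 14315751))) (.node (.node (.leaf 13886004) (.leaf 7975010)) (.node (.leaf 10510356)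 (.leaf 9609664)))) (.node (.node (.node (.leaf 9298072) (.leaf 3289092)) (.node (.leaf 12280295) (.leaf 10043741))) (.node (.node (.leaf 532995) (.leaf 8384780)) (.node (.leaf 6726282) (.leaf 8380573)))))))) (.node (.node (.node (.node (.node (.node (.node (.node (.leaf 16507337) (.leaf 9465902)) (.leaf 2568610)) (.node (.leaf 2658627) (.leaf 11555259))) (.node (.node (.leaf 18096384) (.leaf 6754340)) (.node (.leaf 12382450) (.leaf 7045584)))) (.node (.node (.node (.node (.leaf 6676811) (.leaf 5718697)) (.leaf 17207617)) (.node (.leaf 14766479) (.leaf 5243431))) (.node (.node (.leaf 7455235) (.leaf 17179053)) (.node (.leaf 13811851) (.leaf 14426772))))) (.node (.node (.node (.node (.node (.leaf 16318526) (.leaf 2339299)) (.leaf 6877674)) (.node (.leaf 5345517) (.leaf 18268546))) (.node (.node (.leaf 1114512) (.leaf 8786628)) (.node (.leaf 6115421) (.leaf 18109064)))) (.node (.node (.node (.leaf 16863329) (.leaf 7520573)) (.node (.leaf 16810010) (.leaf 2465981))) (.node (.node (.leaf 3600960) (.leaf 16929365)) (.node (.leaf 5972677) (.leaf 1323224)))))) (.node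 (.node (.node (.node (.node (.node (.leaf 819654) (.leaf 1745471)) (.leaf 8028666)) (.node (.leaf 5837040) (.leaf 17121540))) (.node (.node (.leaf 6128128) (.leaf 8151267)) (.node (.leaf 2687595) (.leaf 9478773)))) (.node (.node (.node (.node (.leaf 16556689) (.leaf 9061016)) (.leaf 17429129)) (.node (.leaf 11657635) (.leaf 7205070))) (.node (.node (.leaf 9269525) (.leaf 1290901)) (.node (.leaf 11170071) (.leaf 10244464))))) (.node (.node (.node (.node (.node (.leaf 14664404) (.leaf 13627605)) (.leaf 12746935)) (.node (.leaf 11231398) (.leaf 14074397))) (.node (.node (.leaf 6160780) (.leaf 6091451)) (.node (.leaf 16941308) (.leaf 4419957)))) (.node (.node (.node (.leaf 10691051) (.leaf 15151676)) (.node (.leaf 1614433) (.leaf 11870420))) (.node (.node (.leaf 11968622) (.leaf 3391971)) (.node (.leaf 7651987) (.leaf 7819798))))))) (.node (.node (.node (.node (.node (.node (.node (.leaf 14446923) (.leaf 3006604)) (.leaf 12120215)) (.node (.leaf 15282334) (.leaf 15766079))) (.node (.node (.leaf 10134196) (.leaf 11309277)) (.node (.leaf 2933169) (.leaf 18059794))))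 (.node (.node (.node (.node (.leaf 12853565) (.leaf 17596781)) (.leaf 1749053)) (.node (.leaf 8581643) (.leaf 6959328))) (.node (.node (.leaf 8393151) (.leaf 9159162)) (.node (.leaf 1995126) (.leaf 5968280))))) (.node (.node (.node (.node (.node (.leaf 18014435) (.leaf 3227803)) (.leaf 16495287)) (.node (.leaf 2396686) (.leaf 594042))) (.node (.node (.leaf 10121928) (.leaf 17912324)) (.node (.leaf 10961087) (.leaf 12706003)))) (.node (.node (.node (.leaf 5537836) (.leaf 17388138)) (.node (.leaf 2826383) (.leaf 4694641))) (.node (.node (.leaf 17531231) (.leaf 16003770)) (.node (.leaf 15995351) (.leaf 13058294)))))) (.node (.node (.node (.node (.node (.node (.leaf 8642716) (.leaf 14512815)) (.leaf 10874937)) (.node (.leaf 13942943) (.leaf 17474017))) (.node (.node (.leaf 7242364) (.leaf 18276825)) (.node (.leaf 3277230) (.leaf 13635827)))) (.node (.node (.node (.node (.leaf 7496074) (.leaf 15688298)) (.leaf 16589213)) (.node (.leaf 3269212) (.leaf 17375432))) (.node (.node (.leaf 958926) (.leaf 14930141)) (.node (.leaf 4854356) (.leaf 15663272))))) (.node (.node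 (.node (.node (.node (.leaf 1659085) (.leaf 7590597)) (.leaf 6795314)) (.node (.leaf 3674445) (.leaf 8798294))) (.node (.node (.leaf 15491759) (.leaf 14381190)) (.node (.leaf 10384022) (.leaf 17396186)))) (.node (.node (.node (.leaf 16826605) (.leaf 4350029)) (.node (.leaf 11616730) (.leaf 8479366))) (.node (.node (.leaf 10604615) (.leaf 14217386)) (.node (.leaf 5681796) (.leaf 9724263)))))))))

def threeMv7288 : Janko.Tree (ℕ) :=
  (.node (.node (.node (.node (.node (.node (.node (.node (.node (.leaf 17678503) (.leaf 7815242)) (.leaf 11207120)) (.node (.leaf 7066316) (.leaf 6562117))) (.node (.node (.leaf 1102417) (.leaf 10506745)) (.node (.leaf 11419906) (.leaf 14270571)))) (.node (.node (.node (.node (.leaf 9441591) (.leaf 11788854)) (.leaf 5427235)) (.node (.leaf 6971937) (.leaf 10535126))) (.node (.node (.leaf 1679677) (.leaf 3613001)) (.node (.leaf 7868724) (.leaf 8470675))))) (.node (.node (.node (.node (.node (.leaf 1269868) (.leaf 5034250)) (.leaf 4984928)) (.node (.leaf 14549556) (.leaf 13767321))) (.node (.node (.leaf 17362962) (.leaf 13959518)) (.node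 (.leaf 13631634) (.leaf 14283003)))) (.node (.node (.node (.leaf 9736738) (.leaf 5316648)) (.node (.leaf 6221830) (.leaf 16966314))) (.node (.node (.leaf 1077717) (.leaf 950825)) (.node (.leaf 15503996) (.leaf 12144884)))))) (.node (.node (.node (.node (.node (.node (.leaf 16093238) (.leaf 3093042)) (.leaf 2347668)) (.node (.leaf 6640192) (.leaf 17203355))) (.node (.node (.leaf 2445663) (.leaf 1831338)) (.node (.leaf 151734) (.leaf 11767900)))) (.node (.node (.node (.node (.leaf 1462869) (.leaf 13295909)) (.leaf 4423983)) (.node (.leaf 10371593) (.leaf 561655))) (.node (.node (.leaf 1905012) (.leaf 17727821)) (.node (.leaf 1192239) (.leaf 11628652))))) (.node (.node (.node (.node (.node (.leaf 962898) (.leaf 12763519)) (.leaf 9499163)) (.node (.leaf 8507588) (.leaf 9593182))) (.node (.node (.leaf 13693639) (.leaf 17072473)) (.node (.leaf 3023417) (.leaf 16060471)))) (.node (.node (.node (.leaf 12419216) (.leaf 631336)) (.node (.leaf 9789879) (.leaf 6328504))) (.node (.node (.leaf 11395632) (.leaf 3895471)) (.node (.leaf 15618429) (.leaf 4444568))))))) (.node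 (.node (.node (.node (.node (.node (.node (.leaf 2871458) (.leaf 18006532)) (.leaf 5890163)) (.node (.leaf 14406283) (.leaf 3502452))) (.node (.node (.leaf 15298754) (.leaf 8888345)) (.node (.leaf 12222592) (.leaf 2949589)))) (.node (.node (.node (.node (.leaf 16465938) (.leaf 8438286)) (.leaf 12583120)) (.node (.leaf 11985443) (.leaf 9024031))) (.node (.node (.leaf 14012992) (.leaf 9363479)) (.node (.leaf 164141) (.leaf 3080913))))) (.node (.node (.node (.node (.node (.leaf 18243773) (.leaf 7905321)) (.leaf 8458676)) (.node (.leaf 4882764) (.leaf 14868526))) (.node (.node (.leaf 5988413) (.leaf 1380941)) (.node (.leaf 16900267) (.leaf 11796821)))) (.node (.node (.node (.leaf 15839401) (.leaf 17297648)) (.node (.leaf 1376945) (.leaf 14950756))) (.node (.node (.leaf 12235056) (.leaf 3244416)) (.node (.leaf 6693148) (.leaf 12198258)))))) (.node (.node (.node (.node (.node (.node (.leaf 13746739) (.leaf 13422931)) (.leaf 10588286)) (.node (.leaf 3944577) (.leaf 5173268))) (.node (.node (.leaf 17059992) (.leaf 13947414)) (.node (.leaf 17850614) (.leaf 12689735))))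 (.node (.node (.node (.node (.leaf 16245309) (.leaf 17945277)) (.leaf 5841191)) (.node (.leaf 11661711) (.leaf 16564580))) (.node (.node (.leaf 6771171) (.leaf 10862879)) (.node (.leaf 3740096) (.leaf 17293675))))) (.node (.node (.node (.node (.node (.leaf 7979534) (.leaf 16994409)) (.leaf 13775401)) (.node (.leaf 2392614) (.leaf 15270346))) (.node (.node (.leaf 12710071) (.leaf 970939)) (.node (.leaf 8634885) (.leaf 1561222)))) (.node (.node (.node (.leaf 5087454) (.leaf 12099857)) (.node (.leaf 3317819) (.leaf 193109))) (.node (.node (.leaf 17170619) (.leaf 9855284)) (.node (.leaf 5411210) (.leaf 7656055)))))))) (.node (.node (.node (.node (.node (.node (.node (.node (.leaf 10695248) (.leaf 1900605)) (.leaf 13988103)) (.node (.leaf 8094087) (.leaf 9191615))) (.node (.node (.leaf 17412542) (.leaf 2662908)) (.node (.leaf 7787069) (.leaf 2007281)))) (.node (.node (.node (.node (.leaf 6058634) (.leaf 2097169)) (.leaf 14598552)) (.node (.leaf 8118640) (.leaf 10035886))) (.node (.node (.leaf 6455616) (.leaf 7024932)) (.node (.leaf 12468314) (.leaf 2015696))))) (.node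 (.node (.node (.node (.node (.leaf 14291200) (.leaf 2019762)) (.leaf 11358601)) (.node (.leaf 7717357) (.leaf 11371173))) (.node (.node (.leaf 17076864) (.leaf 2691402)) (.node (.leaf 9085559) (.leaf 10887601)))) (.node (.node (.node (.leaf 1790110) (.leaf 5378228)) (.node (.leaf 8990793) (.leaf 520608))) (.node (.node (.leaf 13967565) (.leaf 13144348)) (.node (.leaf 17383721) (.leaf 1499819)))))) (.node (.node (.node (.node (.node (.node (.leaf 13209863) (.leaf 12849450)) (.leaf 2228909)) (.node (.leaf 4276543) (.leaf 3596752))) (.node (.node (.leaf 6307913) (.leaf 3691124)) (.node (.leaf 9232986) (.leaf 16867630)))) (.node (.node (.node (.node (.leaf 5959776) (.leaf 11801173)) (.leaf 13095131)) (.node (.leaf 17821803) (.leaf 8475040))) (.node (.node (.leaf 12681667) (.leaf 14537367)) (.node (.leaf 12767677) (.leaf 10707103))))) (.node (.node (.node (.node (.node (.leaf 8540625) (.leaf 9265334)) (.leaf 16191685)) (.node (.leaf 2171385) (.leaf 9404721))) (.node (.node (.leaf 9633888) (.leaf 6782996)) (.node (.leaf 14852493) (.leaf 12718581)))) (.node (.node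 (.node (.leaf 13893989) (.leaf 15925579)) (.node (.leaf 3948964) (.leaf 1171993))) (.node (.node (.leaf 1990696) (.leaf 16670976)) (.node (.leaf 3334548) (.leaf 3055714))))))) (.node (.node (.node (.node (.node (.node (.node (.leaf 7344336) (.leaf 6480189)) (.leaf 8270183)) (.node (.leaf 1032504) (.leaf 17089126))) (.node (.node (.leaf 11010536) (.leaf 1835710)) (.node (.leaf 9261123) (.leaf 2539667)))) (.node (.node (.node (.node (.leaf 14729576) (.leaf 12239481)) (.leaf 7627280)) (.node (.leaf 1544398) (.leaf 8557113))) (.node (.node (.leaf 4284515) (.leaf 1503806)) (.node (.leaf 7618609) (.leaf 8262165))))) (.node (.node (.node (.node (.node (.leaf 2957494) (.leaf 12353644)) (.leaf 13348992)) (.node (.leaf 5451873) (.leaf 4968458))) (.node (.node (.leaf 7995768) (.leaf 512703)) (.node (.leaf 13075134) (.leaf 2576535)))) (.node (.node (.node (.leaf 14205475) (.leaf 12685885)) (.node (.leaf 9511030) (.leaf 15622540))) (.node (.node (.leaf 11182652) (.leaf 12779649)) (.node (.leaf 15049376) (.leaf 10367405)))))) (.node (.node (.node (.node (.node (.node (.leaf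 17940530) (.leaf 16482342)) (.leaf 3719558)) (.node (.leaf 10932783) (.leaf 14774990))) (.node (.node (.leaf 3858712) (.leaf 6029688)) (.node (.leaf 13205967) (.leaf 4305388)))) (.node (.node (.node (.node (.leaf 10699409) (.leaf 131312)) (.leaf 11362920)) (.node (.leaf 15475414) (.leaf 17629199))) (.node (.node (.leaf 9548053) (.leaf 11293093)) (.node (.leaf 1667688) (.leaf 17150079))))) (.node (.node (.node (.node (.node (.leaf 13361871) (.leaf 2183849)) (.leaf 17830050)) (.node (.leaf 2056709) (.leaf 2113684))) (.node (.node (.leaf 6808247) (.leaf 11501965)) (.node (.leaf 1061462) (.leaf 17866791)))) (.node (.node (.node (.leaf 8925491) (.leaf 3940697)) (.node (.leaf 18309703) (.leaf 3887431))) (.node (.node (.leaf 11645002) (.leaf 15540730)) (.node (.leaf 2334758) (.leaf 10842490)))))))))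

def threeMv7289 : Janko.Tree (ℕ) :=
  (.node (.node (.node (.node (.node (.node (.node (.node (.node (.leaf 7377094) (.leaf 409941)) (.leaf 1855712)) (.node (.leaf 7705272) (.leaf 2613493))) (.node (.node (.leaf 7532706) (.leaf 7754452)) (.node (.leaf 14348468) (.leaf 14140111)))) (.node (.node (.node (.node (.leaf 12480545) (.leaf 8044699)) (.leaf 704614)) (.node (.leaf 12005769) (.leaf 10543607))) (.node (.node (.leaf 13304523) (.leaf 1622697)) (.node (.leaf 8065236) (.leaf 16162955))))) (.node (.node (.node (.node (.node (.leaf 5951690) (.leaf 15659405)) (.leaf 4768061)) (.node (.leaf 5157018) (.leaf 1585603))) (.node (.node (.leaf 17404334) (.leaf 4239907)) (.node (.leaf 889138) (.leaf 3175124)))) (.node (.node (.node (.leaf 14877303) (.leaf 4952321)) (.node (.leaf 5804126) (.leaf 6201982))) (.node (.node (.leaf 15388764) (.leaf 3150501)) (.node (.leaf 12559058) (.leaf 2732384)))))) (.node (.node (.node (.node (.node (.node (.leaf 10658104) (.leaf 6042143)) (.leaf 14475526)) (.node (.leaf 13226419) (.leaf 10154350))) (.node (.node (.leaf 11051340) (.leaf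 14688483)) (.node (.leaf 17695062) (.leaf 14545472)))) (.node (.node (.node (.node (.leaf 6930778) (.leaf 5902543)) (.leaf 10248197)) (.node (.leaf 7049920) (.leaf 11932273))) (.node (.node (.leaf 11960429) (.leaf 7561517)) (.node (.leaf 16891963) (.leaf 2273994))))) (.node (.node (.node (.node (.node (.leaf 11571221) (.leaf 18256498)) (.leaf 4190640)) (.node (.leaf 10232469) (.leaf 7180956))) (.node (.node (.leaf 13660640) (.leaf 41574)) (.node (.leaf 15221074) (.leaf 16921215)))) (.node (.node (.node (.leaf 18342003) (.leaf 3404283)) (.node (.leaf 6131869) (.leaf 9093781))) (.node (.node (.leaf 3326032) (.leaf 5169390)) (.node (.leaf 6197325) (.leaf 6488322))))))) (.node (.node (.node (.node (.node (.node (.node (.leaf 3416787) (.leaf 18346675)) (.leaf 13430941)) (.node (.leaf 4796661) (.leaf 4161981))) (.node (.node (.leaf 2962066) (.leaf 16249264)) (.node (.leaf 17195647) (.leaf 9089559)))) (.node (.node (.node (.node (.leaf 4341923) (.leaf 17719607)) (.leaf 12825260)) (.node (.leaf 1917103) (.leaf 8266346))) (.node (.node (.leaf 15528561) (.leaf 2855338))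 (.node (.leaf 6529118) (.leaf 602285))))) (.node (.node (.node (.node (.node (.leaf 14614794) (.leaf 15171631)) (.leaf 315497)) (.node (.leaf 9162943) (.leaf 754206))) (.node (.node (.leaf 18010581) (.leaf 1184187)) (.node (.leaf 6901859) (.leaf 8700133)))) (.node (.node (.node (.leaf 1204837) (.leaf 4653648)) (.node (.leaf 2343067) (.leaf 8327784))) (.node (.node (.leaf 15876369) (.leaf 6955260)) (.node (.leaf 17158216) (.leaf 12165295)))))) (.node (.node (.node (.node (.node (.node (.leaf 5394548) (.leaf 12255734)) (.leaf 17457739)) (.node (.leaf 8933650) (.leaf 3572359))) (.node (.node (.leaf 9998912) (.leaf 8294860)) (.node (.leaf 278962) (.leaf 5800494)))) (.node (.node (.node (.node (.leaf 8999073) (.leaf 3072416)) (.leaf 1593568)) (.node (.leaf 15225254) (.leaf 13398565))) (.node (.node (.leaf 479375) (.leaf 6824156)) (.node (.leaf 1286266) (.leaf 14643374))))) (.node (.node (.node (.node (.node (.leaf 7865011) (.leaf 8900)) (.leaf 2793521)) (.node (.leaf 11886876) (.leaf 7017026))) (.node (.node (.leaf 12010025) (.leaf 14962738)) (.node (.leaf 4649485)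 (.leaf 29390)))) (.node (.node (.node (.leaf 2551858) (.leaf 9171216)) (.node (.leaf 14860674) (.leaf 5100065))) (.node (.node (.leaf 9306635) (.leaf 7094636)) (.node (.leaf 3830079) (.leaf 7131512)))))))) (.node (.node (.node (.node (.node (.node (.node (.node (.leaf 13427329) (.leaf 3531445)) (.leaf 2265754)) (.node (.leaf 7098795) (.leaf 8851592))) (.node (.node (.leaf 10662554) (.leaf 18202791)) (.node (.leaf 13464019) (.leaf 13611293)))) (.node (.node (.node (.node (.leaf 3437153) (.leaf 13599021)) (.leaf 14278704)) (.node (.leaf 17785476) (.leaf 6541435))) (.node (.node (.leaf 13292098) (.leaf 16736664)) (.node (.leaf 487678) (.leaf 6656084))))) (.node (.node (.node (.node (.node (.leaf 782674) (.leaf 4288993)) (.leaf 5067024)) (.node (.leaf 14197117) (.leaf 14467577))) (.node (.node (.leaf 17641523) (.leaf 2511177)) (.node (.leaf 3854976) (.leaf 8782087)))) (.node (.node (.node (.leaf 14033421) (.leaf 18329843)) (.node (.leaf 11059370) (.leaf 13820020))) (.node (.node (.leaf 2232997) (.leaf 8647340)) (.node (.leaf 2802271) (.leaf 3789304)))))) (.node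 (.node (.node (.node (.node (.node (.leaf 10137812) (.leaf 11055549)) (.leaf 7471759)) (.node (.leaf 1639060) (.leaf 17564345))) (.node (.node (.leaf 4858069) (.leaf 7582417)) (.node (.leaf 13287593) (.leaf 369295)))) (.node (.node (.node (.node (.leaf 15761848) (.leaf 10064003)) (.leaf 4280445)) (.node (.leaf 11723072) (.leaf 6193577))) (.node (.node (.leaf 17998284) (.leaf 2863681)) (.node (.leaf 15651408) (.leaf 12231030))))) (.node (.node (.node (.node (.node (.leaf 16208363) (.leaf 13066506)) (.leaf 13718066)) (.node (.leaf 15753384) (.leaf 12345932))) (.node (.node (.leaf 1237664) (.leaf 11248222)) (.node (.leaf 69965) (.leaf 6365561)))) (.node (.node (.node (.leaf 1700493) (.leaf 10867122)) (.node (.leaf 7725261) (.leaf 14749776))) (.node (.node (.leaf 5652904) (.leaf 32949)) (.node (.leaf 6909968) (.leaf 11260547))))))) (.node (.node (.node (.node (.node (.node (.node (.leaf 5579395) (.leaf 14684326)) (.leaf 2187487)) (.node (.leaf 6496831) (.leaf 209058))) (.node (.node (.leaf 3248204) (.leaf 15454748)) (.node (.leaf 13476117) (.leaf 10305849)))) (.node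 (.node (.node (.node (.leaf 17113359) (.leaf 16830893)) (.leaf 16765157)) (.node (.leaf 2765408) (.leaf 11543014))) (.node (.node (.leaf 10953003) (.leaf 3060296)) (.node (.leaf 12894485) (.leaf 13832288))))) (.node (.node (.node (.node (.node (.leaf 13533579) (.leaf 5476898)) (.leaf 5059217)) (.node (.leaf 2527446) (.leaf 11751566))) (.node (.node (.leaf 13123766) (.leaf 7188659)) (.node (.leaf 7614845) (.leaf 9806405)))) (.node (.node (.node (.leaf 1630383) (.leaf 12943660)) (.node (.leaf 57935) (.leaf 17592324))) (.node (.node (.leaf 15167762) (.leaf 6312174)) (.node (.leaf 15020484) (.leaf 16851203)))))) (.node (.node (.node (.node (.node (.node (.leaf 3588691) (.leaf 13472430)) (.leaf 3825832)) (.node (.leaf 7622986) (.leaf 8757729))) (.node (.node (.leaf 4624566) (.leaf 12399241)) (.node (.leaf 9695871) (.leaf 5734620)))) (.node (.node (.node (.node (.leaf 7320075) (.leaf 11141310)) (.leaf 15126840)) (.node (.leaf 14570074) (.leaf 14737523))) (.node (.node (.leaf 4403228) (.leaf 17932678)) (.node (.leaf 9863502) (.leaf 3862598))))) (.node (.node (.node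 (.node (.node (.leaf 11494050) (.leaf 4194540)) (.leaf 14230075)) (.node (.leaf 6582490) (.leaf 6885877))) (.node (.node (.leaf 16609305) (.leaf 6791796)) (.node (.leaf 7823594) (.leaf 5829262)))) (.node (.node (.node (.leaf 10813765) (.leaf 8192436)) (.node (.leaf 5214760) (.leaf 4386925))) (.node (.node (.leaf 13271165) (.leaf 13853299)) (.node (.leaf 7200785) (.leaf 12554369)))))))))

def threeMv72810 : Janko.Tree (ℕ) :=
  (.node (.node (.node (.node (.node (.node (.node (.node (.node (.leaf 10711512) (.leaf 5095713)) (.leaf 16679104)) (.node (.leaf 12395158) (.leaf 4558948))) (.node (.node (.leaf 11346557) (.leaf 3711113)) (.node (.leaf 3870901) (.leaf 4620918)))) (.node (.node (.node (.node (.leaf 8188613) (.leaf 2244920)) (.leaf 6557709)) (.node (.leaf 10346889) (.leaf 2146726))) (.node (.node (.leaf 9605455) (.leaf 7749912)) (.node (.leaf 917526) (.leaf 11100752))))) (.node (.node (.node (.node (.node (.leaf 10900050) (.leaf 7123616)) (.leaf 11145909)) (.node (.leaf 8893101) (.leaf 12112140))) (.node (.node (.leaf 8913484) (.leaf 4944144)) (.node (.leaf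 4510049) (.leaf 9801883)))) (.node (.node (.node (.leaf 13758918) (.leaf 3297937)) (.node (.leaf 2728597) (.leaf 9773600))) (.node (.node (.leaf 3096631) (.leaf 6300145)) (.node (.leaf 15323322) (.leaf 4333815)))))) (.node (.node (.node (.node (.node (.node (.leaf 12652987) (.leaf 1688134)) (.leaf 10625677)) (.node (.leaf 3625165) (.leaf 14471749))) (.node (.node (.leaf 2818138) (.leaf 905295)) (.node (.leaf 12116386) (.leaf 4923681)))) (.node (.node (.node (.node (.leaf 13517321) (.leaf 3756716)) (.leaf 3899496)) (.node (.leaf 9576696) (.leaf 8516081))) (.node (.node (.leaf 2101547) (.leaf 6987934)) (.node (.leaf 1998967) (.leaf 16142343))))) (.node (.node (.node (.node (.node (.leaf 3015278) (.leaf 4673666)) (.leaf 2994398)) (.node (.leaf 2695547) (.leaf 8950323))) (.node (.node (.leaf 17445421) (.leaf 8110151)) (.node (.leaf 13168805) (.leaf 5821061)))) (.node (.node (.node (.leaf 16552194) (.leaf 9974188)) (.node (.leaf 11190915) (.leaf 8323673))) (.node (.node (.leaf 16625864) (.leaf 14610724)) (.node (.leaf 4702324) (.leaf 6095030))))))) (.node (.node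 (.node (.node (.node (.node (.node (.leaf 8085861) (.leaf 9580778)) (.leaf 10969414)) (.node (.leaf 3137589) (.leaf 15868340))) (.node (.node (.leaf 4747726) (.leaf 4845689)) (.node (.leaf 1446497) (.leaf 15684190)))) (.node (.node (.node (.node (.leaf 405728) (.leaf 10269132)) (.leaf 7286826)) (.node (.leaf 16134620) (.leaf 9879922))) (.node (.node (.leaf 13996610) (.leaf 9527424)) (.node (.leaf 16982268) (.leaf 7119482))))) (.node (.node (.node (.node (.node (.leaf 831515) (.leaf 16638172)) (.leaf 2425386)) (.node (.leaf 14393479) (.leaf 7061622))) (.node (.node (.leaf 9183803) (.leaf 9740875)) (.node (.leaf 5914991) (.leaf 6054234)))) (.node (.node (.node (.leaf 5791775) (.leaf 2674911)) (.node (.leaf 8638698) (.leaf 10555591))) (.node (.node (.leaf 7766056) (.leaf 295437)) (.node (.leaf 14336049) (.leaf 16416992)))))) (.node (.node (.node (.node (.node (.node (.leaf 12816709) (.leaf 15884683)) (.leaf 15417805)) (.node (.leaf 17490545) (.leaf 11194812))) (.node (.node (.leaf 1716657) (.leaf 2105345)) (.node (.leaf 8143193) (.leaf 16937244)))) (.node (.node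 (.node (.node (.leaf 15667812) (.leaf 2798285)) (.leaf 17617469)) (.node (.leaf 7500354) (.leaf 10002877))) (.node (.node (.leaf 11472917) (.leaf 10465417)) (.node (.leaf 17211494) (.leaf 12808288))))) (.node (.node (.node (.node (.node (.leaf 17248774) (.leaf 3928218)) (.leaf 913602)) (.node (.leaf 1245204) (.leaf 7090681))) (.node (.node (.leaf 1024322) (.leaf 17051663)) (.node (.leaf 16904217) (.leaf 2847418)))) (.node (.node (.node (.leaf 6443374) (.leaf 4850278)) (.node (.leaf 16633951) (.leaf 10637575))) (.node (.node (.leaf 5353975) (.leaf 139374)) (.node (.leaf 10317983) (.leaf 4325922)))))))) (.node (.node (.node (.node (.node (.node (.node (.node (.leaf 5386516) (.leaf 1573591)) (.leaf 6549723)) (.node (.leaf 5005765) (.leaf 13623470))) (.node (.node (.leaf 16076827) (.leaf 13459492)) (.node (.leaf 15286762) (.leaf 6705804)))) (.node (.node (.node (.node (.leaf 8606183) (.leaf 9359426)) (.leaf 9519627)) (.node (.leaf 6247119) (.leaf 16896112))) (.node (.node (.leaf 5464269) (.leaf 8376989)) (.node (.leaf 2875406) (.leaf 17965639))))) (.node (.node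 (.node (.node (.node (.leaf 5665387) (.leaf 9703439)) (.leaf 6185052)) (.node (.leaf 7008429) (.leaf 13586447))) (.node (.node (.leaf 9638352) (.leaf 17818269)) (.node (.leaf 9056669) (.leaf 10703382)))) (.node (.node (.node (.leaf 13230126) (.leaf 13439670)) (.node (.leaf 6803893) (.leaf 11944405))) (.node (.node (.leaf 2589033) (.leaf 8216947)) (.node (.leaf 1487079) (.leaf 5460108)))))) (.node (.node (.node (.node (.node (.node (.leaf 12063272) (.leaf 1094192)) (.leaf 5714617)) (.node (.leaf 17527500) (.leaf 4091950))) (.node (.node (.leaf 5177989) (.leaf 6926554)) (.node (.leaf 15180441) (.leaf 4292703)))) (.node (.node (.node (.node (.leaf 3064251) (.leaf 13394217)) (.leaf 9294107)) (.node (.leaf 659871) (.leaf 3727369))) (.node (.node (.leaf 1786505) (.leaf 1712822)) (.node (.leaf 12599784) (.leaf 3891825))))) (.node (.node (.node (.node (.node (.leaf 13955335) (.leaf 2715742)) (.leaf 1466930)) (.node (.leaf 7643214) (.leaf 11391274))) (.node (.node (.leaf 3617088) (.leaf 10666403)) (.node (.leaf 11809218) (.leaf 17027267)))) (.node (.node (.node (.leaf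 7930081) (.leaf 11730977)) (.node (.leaf 17699304) (.leaf 16109870))) (.node (.node (.leaf 11026620) (.leaf 14331976)) (.node (.leaf 15569019) (.leaf 5931625))))))) (.node (.node (.node (.node (.node (.node (.node (.leaf 2953678) (.leaf 103065)) (.leaf 11587980)) (.node (.leaf 5759687) (.leaf 4792339))) (.node (.node (.leaf 4170360) (.leaf 12058704)) (.node (.leaf 4075865) (.leaf 565483)))) (.node (.node (.node (.node (.leaf 8007914) (.leaf 14352960)) (.leaf 4866090)) (.node (.leaf 3420199) (.leaf 9240883))) (.node (.node (.leaf 6292157) (.leaf 7983522)) (.node (.leaf 16265498) (.leaf 1020073))))) (.node (.node (.node (.node (.node (.leaf 4264266) (.leaf 16204269)) (.leaf 5722616)) (.node (.leaf 5370510) (.leaf 17953348))) (.node (.node (.leaf 2531715) (.leaf 2297904)) (.node (.leaf 14557217) (.leaf 12792324)))) (.node (.node (.node (.leaf 11805338) (.leaf 6504832)) (.node (.leaf 3272883) (.leaf 7430427))) (.node (.node (.leaf 18215057) (.leaf 10485995)) (.node (.leaf 12660841) (.leaf 3584631)))))) (.node (.node (.node (.node (.node (.node (.leaf 16056341) (.leaf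 9408709)) (.leaf 4894769)) (.node (.leaf 11497907) (.leaf 6226461))) (.node (.node (.leaf 7393515) (.leaf 4665705)) (.node (.leaf 16388325) (.leaf 12607614)))) (.node (.node (.node (.node (.leaf 1364171) (.leaf 10740210)) (.leaf 10871305)) (.node (.leaf 10031576) (.leaf 13386429))) (.node (.node (.leaf 10326309) (.leaf 229705)) (.node (.leaf 1822762) (.leaf 14787133))))) (.node (.node (.node (.node (.node (.leaf 16613533) (.leaf 6074818)) (.leaf 11002290)) (.node (.leaf 8425938) (.leaf 7323700))) (.node (.node (.leaf 7266954) (.leaf 7151944)) (.node (.leaf 8196637) (.leaf 12333400)))) (.node (.node (.node (.leaf 9044367) (.leaf 7545307)) (.node (.leaf 15573467) (.leaf 901268))) (.node (.node (.leaf 8356274) (.leaf 7991889)) (.node (.leaf 8905273) (.leaf 18289164)))))))))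

def threeMv72811 : Janko.Tree (ℕ) :=
  (.node (.node (.node (.node (.node (.node (.node (.node (.node (.leaf 10170491) (.leaf 13283804)) (.leaf 11038818)) (.node (.leaf 11821122) (.leaf 8839728))) (.node (.node (.leaf 10166443) (.leaf 13804209)) (.node (.leaf 11235843) (.leaf 5775501)))) (.node (.node (.node (.node (.leaf 14938772) (.leaf 5677617)) (.leaf 893249)) (.node (.leaf 17969639) (.leaf 6205943))) (.node (.node (.leaf 12956178) (.leaf 13062389)) (.node (.leaf 13247076) (.leaf 14573909))))) (.node (.node (.node (.node (.node (.leaf 6566588) (.leaf 10801377)) (.leaf 14127653)) (.node (.leaf 10948908) (.leaf 16294272))) (.node (.node (.leaf 13185376) (.leaf 10207510)) (.node (.leaf 12366222) (.leaf 9932835)))) (.node (.node (.node (.leaf 8102428) (.leaf 3363144)) (.node (.leaf 12309198) (.leaf 7270595))) (.node (.node (.leaf 12964321) (.leaf 11174517)) (.node (.leaf 10494269) (.leaf 16413111)))))) (.node (.node (.node (.node (.node (.node (.leaf 14627500) (.leaf 2839220)) (.leaf 7553207)) (.node (.leaf 12918952) (.leaf 8725123))) (.node (.node (.leaf 11595835)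 (.leaf 9908642)) (.node (.leaf 12488804) (.leaf 8650811)))) (.node (.node (.node (.node (.leaf 16101986) (.leaf 10956846)) (.leaf 4727241)) (.node (.leaf 14901682) (.leaf 3923999))) (.node (.node (.leaf 15745532) (.leaf 13992410)) (.node (.leaf 868864) (.leaf 12972142))))) (.node (.node (.node (.node (.node (.leaf 16052750) (.leaf 13087409)) (.leaf 16945723)) (.node (.leaf 18067798) (.leaf 8937736))) (.node (.node (.leaf 1331219) (.leaf 13709877)) (.node (.leaf 2351416) (.leaf 2195775)))) (.node (.node (.node (.leaf 17494654) (.leaf 3510785)) (.node (.leaf 6688857) (.leaf 12026198))) (.node (.node (.leaf 12533839) (.leaf 17777026)) (.node (.leaf 2024124) (.leaf 8655522))))))) (.node (.node (.node (.node (.node (.node (.node (.leaf 176245) (.leaf 12358162)) (.leaf 6717505)) (.node (.leaf 8995343) (.leaf 6738065))) (.node (.node (.leaf 4211303) (.leaf 10809996)) (.node (.leaf 15782401) (.leaf 4383409)))) (.node (.node (.node (.node (.leaf 15519922) (.leaf 15188343)) (.leaf 9613975)) (.node (.leaf 10400056) (.leaf 1139292))) (.node (.node (.leaf 17732102) (.leaf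 17539526)) (.node (.leaf 2355540) (.leaf 15757669))))) (.node (.node (.node (.node (.node (.leaf 2040408) (.leaf 15130743)) (.leaf 1028775)) (.node (.leaf 10649811) (.leaf 15327471))) (.node (.node (.leaf 16179791) (.leaf 430213)) (.node (.leaf 17744402) (.leaf 65962)))) (.node (.node (.node (.leaf 1778268) (.leaf 8413617)) (.node (.leaf 7488100) (.leaf 7549354))) (.node (.node (.leaf 12124250) (.leaf 14758111)) (.node (.leaf 569439) (.leaf 10789447)))))) (.node (.node (.node (.node (.node (.node (.leaf 3649611) (.leaf 1073297)) (.leaf 17002886)) (.node (.leaf 16970184) (.leaf 16761178))) (.node (.node (.leaf 2371915) (.leaf 9310420)) (.node (.leaf 14168140) (.leaf 13312353)))) (.node (.node (.node (.node (.leaf 2220370) (.leaf 9122111)) (.leaf 7541440)) (.node (.leaf 553166) (.leaf 14324293))) (.node (.node (.leaf 188426) (.leaf 13591105)) (.node (.leaf 2928761) (.leaf 61761))))) (.node (.node (.node (.node (.node (.leaf 356732) (.leaf 10178734)) (.leaf 4018297)) (.node (.leaf 8942003) (.leaf 5898474))) (.node (.node (.leaf 14974980) (.leaf 11538549)) (.node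 (.leaf 495703) (.leaf 3301432)))) (.node (.node (.node (.leaf 7139500) (.leaf 4448810)) (.node (.leaf 9302391) (.leaf 16232623))) (.node (.node (.leaf 14377120) (.leaf 5042717)) (.node (.leaf 1884586) (.leaf 17162319)))))))) (.node (.node (.node (.node (.node (.node (.node (.node (.leaf 8139366) (.leaf 8483229)) (.leaf 14410170)) (.node (.leaf 17469885) (.leaf 13103316))) (.node (.node (.leaf 12521749) (.leaf 16511228)) (.node (.leaf 17834066) (.leaf 4956324)))) (.node (.node (.node (.node (.leaf 4719116) (.leaf 12194333)) (.leaf 4375097)) (.node (.leaf 4678091) (.leaf 414018))) (.node (.node (.leaf 11923668) (.leaf 12751295)) (.node (.leaf 14422404) (.leaf 17903688))))) (.node (.node (.node (.node (.node (.leaf 11035188) (.leaf 15512230)) (.leaf 16408736)) (.node (.leaf 274727) (.leaf 5730835))) (.node (.node (.leaf 13172816) (.leaf 14213304)) (.node (.leaf 8741105) (.leaf 8659025)))) (.node (.node (.node (.leaf 17084464) (.leaf 12882290)) (.node (.leaf 11117098) (.leaf 2052554))) (.node (.node (.leaf 4915667) (.leaf 3383981)) (.node (.leaf 6045708) (.leaf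 8024142)))))) (.node (.node (.node (.node (.node (.node (.leaf 8585253) (.leaf 790539)) (.leaf 12862086)) (.node (.leaf 7463441) (.leaf 6295561))) (.node (.node (.leaf 3338367) (.leaf 6647909)) (.node (.leaf 3838073) (.leaf 11640947)))) (.node (.node (.node (.node (.leaf 15118539) (.leaf 2638515)) (.leaf 9450124)) (.node (.leaf 3498038) (.leaf 13255344))) (.node (.node (.leaf 14803160) (.leaf 7467584)) (.node (.leaf 11198858) (.leaf 8630479))))) (.node (.node (.node (.node (.node (.leaf 7963075) (.leaf 2642155)) (.leaf 700600)) (.node (.leaf 6410426) (.leaf 17662015))) (.node (.node (.leaf 8123061) (.leaf 3539086)) (.node (.leaf 17281458) (.leaf 86693)))) (.node (.node (.node (.leaf 15507664) (.leaf 204839)) (.node (.leaf 10715301) (.leaf 6172695))) (.node (.node (.leaf 18206935) (.leaf 4460921)) (.node (.leaf 1704500) (.leaf 1470917))))))) (.node (.node (.node (.node (.node (.node (.node (.leaf 1892816) (.leaf 10744148)) (.leaf 1356122)) (.node (.leaf 7479314) (.leaf 3186720))) (.node (.node (.leaf 15692463) (.leaf 5054665)) (.node (.leaf 8626339) (.leaf 8069509))))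 (.node (.node (.node (.node (.leaf 15671306) (.leaf 13046112)) (.leaf 1794398)) (.node (.leaf 2843158) (.leaf 9338990))) (.node (.node (.leaf 14586389) (.leaf 9851500)) (.node (.leaf 14114927) (.leaf 1671298))))) (.node (.node (.node (.node (.node (.leaf 17477760) (.leaf 7438338)) (.leaf 15303315)) (.node (.leaf 3678310) (.leaf 1340009))) (.node (.node (.leaf 13783447) (.leaf 7635515)) (.node (.leaf 7741675) (.leaf 15015987)))) (.node (.node (.node (.leaf 1142922) (.leaf 4371112)) (.node (.leaf 9007552) (.leaf 3104831))) (.node (.node (.leaf 10973186) (.leaf 6983984)) (.node (.leaf 9515525) (.leaf 11354250)))))) (.node (.node (.node (.node (.node (.node (.leaf 7368858) (.leaf 11244028)) (.leaf 6816151)) (.node (.leaf 8884865) (.leaf 15085887))) (.node (.node (.leaf 1163962) (.leaf 8577223)) (.node (.leaf 15933777) (.leaf 4587648)))) (.node (.node (.node (.node (.leaf 16470432) (.leaf 18190383)) (.leaf 16949853)) (.node (.leaf 15843598) (.leaf 14156377))) (.node (.node (.leaf 7680658) (.leaf 15864410)) (.node (.leaf 12501286) (.leaf 213007))))) (.node (.node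 (.node (.node (.node (.leaf 14848200) (.leaf 127368)) (.leaf 18264089)) (.node (.leaf 16605651) (.leaf 2179355))) (.node (.node (.leaf 4309555) (.leaf 6062508)) (.node (.leaf 5472571) (.leaf 5607678)))) (.node (.node (.node (.leaf 18039425) (.leaf 4026392)) (.node (.leaf 12890112) (.leaf 5439776))) (.node (.node (.leaf 5587317) (.leaf 18092740)) (.node (.leaf 5161246) (.leaf 11468875)))))))))

def threeMv72812 : Janko.Tree (ℕ) :=
  (.node (.node (.node (.node (.node (.node (.node (.node (.node (.leaf 8511556) (.leaf 10768761)) (.leaf 1495732)) (.node (.leaf 13648385) (.leaf 14492295))) (.node (.node (.leaf 9838736) (.leaf 2367725)) (.node (.leaf 14668025) (.leaf 13914384)))) (.node (.node (.node (.node (.leaf 8175752) (.leaf 4313660)) (.leaf 2080961)) (.node (.leaf 12771849) (.leaf 12743164))) (.node (.node (.leaf 15811213) (.leaf 12325314)) (.node (.leaf 14299179) (.leaf 1081677))))) (.node (.node (.node (.node (.node (.leaf 8729282) (.leaf 16114374)) (.leaf 5152894)) (.node (.leaf 13410699) (.leaf 4079889))) (.node (.node (.leaf 3773107) (.leaf 82369)) (.node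 (.leaf 17924663) (.leaf 2888119)))) (.node (.node (.node (.leaf 823354) (.leaf 12128628)) (.node (.leaf 12431519) (.leaf 8671592))) (.node (.node (.leaf 11526425) (.leaf 4776454)) (.node (.leaf 9900085) (.leaf 5202420)))))) (.node (.node (.node (.node (.node (.node (.leaf 10748320) (.leaf 8204777)) (.leaf 16716120)) (.node (.leaf 3879162) (.leaf 14164150))) (.node (.node (.leaf 4186440) (.leaf 17007257)) (.node (.leaf 283120) (.leaf 4006062)))) (.node (.node (.node (.node (.leaf 4067748) (.leaf 13877261)) (.leaf 6574251)) (.node (.leaf 10608988) (.leaf 12869894))) (.node (.node (.leaf 14893180) (.leaf 4616654)) (.node (.leaf 1176077) (.leaf 17306206))))) (.node (.node (.node (.node (.node (.leaf 10060112) (.leaf 11386918)) (.leaf 11014233)) (.node (.leaf 18141444) (.leaf 3686655))) (.node (.node (.leaf 10142333) (.leaf 942636)) (.node (.leaf 11157791) (.leaf 1765728)))) (.node (.node (.node (.leaf 5955996) (.leaf 2011722)) (.node (.leaf 14414269) (.leaf 360490))) (.node (.node (.leaf 8675691) (.leaf 1106266)) (.node (.leaf 3916100) (.leaf 12845302))))))) (.node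 (.node (.node (.node (.node (.node (.node (.leaf 3543098) (.leaf 10674878)) (.leaf 16072999)) (.node (.leaf 3637290) (.leaf 18051477))) (.node (.node (.leaf 5996837) (.leaf 14704646)) (.node (.leaf 2921151) (.leaf 8163678)))) (.node (.node (.node (.node (.leaf 14098830) (.leaf 7172246)) (.leaf 11240051)) (.node (.leaf 8847890) (.leaf 12505093))) (.node (.node (.leaf 16659028) (.leaf 15892994)) (.node (.leaf 160265) (.leaf 14102955))))) (.node (.node (.node (.node (.node (.leaf 11018930) (.leaf 4407559)) (.leaf 9646472)) (.node (.leaf 11739162) (.leaf 15831474))) (.node (.node (.leaf 5624496) (.leaf 10379288)) (.node (.leaf 323628) (.leaf 258625)))) (.node (.node (.node (.leaf 4632733) (.leaf 6517293)) (.node (.leaf 680083) (.leaf 11780271))) (.node (.node (.leaf 12292272) (.leaf 2507259)) (.node (.leaf 13299835) (.leaf 11567253)))))) (.node (.node (.node (.node (.node (.node (.leaf 5079531) (.leaf 3453305)) (.leaf 2069159)) (.node (.leaf 8249642) (.leaf 2724410))) (.node (.node (.leaf 3698721) (.leaf 14246528)) (.node (.leaf 13242553) (.leaf 1511975)))) (.node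 (.node (.node (.node (.leaf 2482211) (.leaf 17707387)) (.leaf 10531120)) (.node (.leaf 10076350) (.leaf 6394452))) (.node (.node (.leaf 7254266) (.leaf 12997227)) (.node (.leaf 17232234) (.leaf 13848658))))) (.node (.node (.node (.node (.node (.leaf 1454543) (.leaf 17199589)) (.leaf 6398462)) (.node (.leaf 2998292) (.leaf 16044612))) (.node (.node (.leaf 2773093) (.leaf 5423703)) (.node (.leaf 13099719) (.leaf 8405551)))) (.node (.node (.node (.leaf 6242981) (.leaf 13865197)) (.node (.leaf 377128) (.leaf 18337977))) (.node (.node (.leaf 14987380) (.leaf 6021216)) (.node (.leaf 15376807) (.leaf 16925156)))))))) (.node (.node (.node (.node (.node (.node (.node (.node (.leaf 2740641) (.leaf 15790541)) (.leaf 8421528)) (.node (.leaf 9859237) (.leaf 17023005))) (.node (.node (.leaf 7914120) (.leaf 1720353)) (.node (.leaf 11161852) (.leaf 10252505)))) (.node (.node (.node (.node (.leaf 13501018) (.leaf 7209172)) (.leaf 17322352)) (.node (.leaf 4874740) (.leaf 9490771))) (.node (.node (.leaf 13148705) (.leaf 16646619)) (.node (.leaf 6750407) (.leaf 15557192))))) (.node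 (.node (.node (.node (.node (.leaf 10522741) (.leaf 7426580)) (.leaf 8917049)) (.node (.leaf 9011877) (.leaf 5554503))) (.node (.node (.leaf 13890200) (.leaf 6152711)) (.node (.leaf 4940407) (.leaf 16351625)))) (.node (.node (.node (.leaf 8073356) (.leaf 516606)) (.node (.leaf 17723781) (.leaf 5189661))) (.node (.node (.leaf 9847321) (.leaf 9146418)) (.node (.leaf 12091736) (.leaf 11600156)))))) (.node (.node (.node (.node (.node (.node (.leaf 7336164) (.leaf 4116988)) (.leaf 3252826)) (.node (.leaf 12152898) (.leaf 4555271))) (.node (.node (.leaf 6340812) (.leaf 3445008)) (.node (.leaf 8208919) (.leaf 9208426)))) (.node (.node (.node (.node (.leaf 9916695) (.leaf 8815263)) (.leaf 10130049)) (.node (.leaf 6348817) (.leaf 17691094))) (.node (.node (.leaf 12185871) (.leaf 11076109)) (.node (.leaf 15352340) (.leaf 11718716))))) (.node (.node (.node (.node (.node (.leaf 12206537) (.leaf 12423852)) (.leaf 17224307)) (.node (.leaf 7397676) (.leaf 1839669))) (.node (.node (.leaf 8368240) (.leaf 10444964)) (.node (.leaf 6025816) (.leaf 9953493)))) (.node (.node (.node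 (.leaf 9597472) (.leaf 13701357)) (.node (.leaf 8843561) (.leaf 10830055))) (.node (.node (.leaf 10924629) (.leaf 16515314)) (.node (.leaf 18158048) (.leaf 12108004))))))) (.node (.node (.node (.node (.node (.node (.node (.leaf 11383014) (.leaf 8409175)) (.leaf 2584810)) (.node (.leaf 6381709) (.leaf 4034681))) (.node (.node (.leaf 11682110) (.leaf 14577701)) (.node (.leaf 574087) (.leaf 2789963)))) (.node (.node (.node (.node (.leaf 1196103) (.leaf 6729918)) (.leaf 9871985)) (.node (.leaf 8450644) (.leaf 1167765))) (.node (.node (.leaf 16310772) (.leaf 8036852)) (.node (.leaf 1708096) (.leaf 3195570))))) (.node (.node (.node (.node (.node (.leaf 15430237) (.leaf 14844138)) (.leaf 11407374)) (.node (.leaf 12484837) (.leaf 18075672))) (.node (.node (.leaf 14856338) (.leaf 16814586)) (.node (.leaf 12329270) (.leaf 9969783)))) (.node (.node (.node (.leaf 6250625) (.leaf 17142174)) (.node (.leaf 8049106) (.leaf 7020827))) (.node (.node (.leaf 1098180) (.leaf 9253194)) (.node (.leaf 1519770) (.leaf 1315507)))))) (.node (.node (.node (.node (.node (.node (.leaf 10199314)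 (.leaf 8692196)) (.leaf 14459438)) (.node (.leaf 3535424) (.leaf 13845008))) (.node (.node (.leaf 16360104) (.leaf 7230124)) (.node (.leaf 14123433) (.leaf 1863736)))) (.node (.node (.node (.node (.leaf 13742363) (.leaf 16122041)) (.leaf 10105133)) (.node (.leaf 3039616) (.leaf 12070944))) (.node (.node (.leaf 14700885) (.leaf 17781247)) (.node (.leaf 1036931) (.leaf 2073019))))) (.node (.node (.node (.node (.node (.leaf 9732690) (.leaf 15773760)) (.leaf 16806174)) (.node (.leaf 10007228) (.leaf 3351104))) (.node (.node (.leaf 5296631) (.leaf 17174750)) (.node (.leaf 7197154) (.leaf 15581460)))) (.node (.node (.node (.leaf 5328920) (.leaf 4227755)) (.node (.leaf 17846759) (.leaf 13328517))) (.node (.node (.leaf 1909010) (.leaf 1224810)) (.node (.leaf 15720640) (.leaf 13037779)))))))))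

def threeMv72813 : Janko.Tree (ℕ) :=
  (.node (.node (.node (.node (.node (.node (.node (.node (.node (.leaf 10891565) (.leaf 14905495)) (.leaf 7373449)) (.node (.leaf 2781376) (.leaf 7127764))) (.node (.node (.leaf 10998090) (.leaf 1151254)) (.node (.leaf 774802) (.leaf 5738897)))) (.node (.node (.node (.node (.leaf 5628446) (.leaf 4366912)) (.leaf 426303)) (.node (.leaf 9064998) (.leaf 14553092))) (.node (.node (.leaf 2990707) (.leaf 6533232)) (.node (.leaf 4464696) (.leaf 2634276))))) (.node (.node (.node (.node (.node (.leaf 15380667) (.leaf 16446018)) (.leaf 12968052)) (.node (.leaf 11522597) (.leaf 17182859))) (.node (.node (.leaf 2322960) (.leaf 10182770)) (.node (.leaf 5787962) (.leaf 15954145)))) (.node (.node (.node (.leaf 4931832) (.leaf 1229203)) (.node (.leaf 1945882) (.leaf 9224690))) (.node (.node (.leaf 5484812) (.leaf 3260555)) (.node (.leaf 4837480) (.leaf 9966154)))))) (.node (.node (.node (.node (.node (.node (.leaf 12714330) (.leaf 12759044)) (.leaf 10838026)) (.node (.leaf 4010393) (.leaf 6812163))) (.node (.node (.leaf 9150749) (.leaf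 2908168)) (.node (.leaf 9027666) (.leaf 5492891)))) (.node (.node (.node (.node (.leaf 9765066) (.leaf 2240894)) (.leaf 1565333)) (.node (.leaf 840086) (.leaf 4579855))) (.node (.node (.leaf 938375) (.leaf 475495)) (.node (.leaf 8429695) (.leaf 5701877))))) (.node (.node (.node (.node (.node (.leaf 13128007) (.leaf 9683106)) (.leaf 12775900)) (.node (.leaf 11604299) (.leaf 12878361))) (.node (.node (.leaf 12616389) (.leaf 9728700)) (.node (.leaf 15815174) (.leaf 12567164)))) (.node (.node (.node (.leaf 12284425) (.leaf 3395749)) (.node (.leaf 11444848) (.leaf 13005493))) (.node (.node (.leaf 17674727) (.leaf 1880518)) (.node (.leaf 1847691) (.leaf 4899372))))))) (.node (.node (.node (.node (.node (.node (.node (.leaf 15237559) (.leaf 12242947)) (.leaf 3043734)) (.node (.leaf 10047517) (.leaf 14999865))) (.node (.node (.leaf 8536694) (.leaf 3932826)) (.node (.leaf 4317885) (.leaf 17289682)))) (.node (.node (.node (.node (.leaf 1675590) (.leaf 14926298)) (.leaf 16769577)) (.node (.leaf 1601995) (.leaf 14254625))) (.node (.node (.leaf 9867857) (.leaf 13377710))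 (.node (.leaf 5673491) (.leaf 7594698))))) (.node (.node (.node (.node (.node (.leaf 14942286) (.leaf 3997989)) (.leaf 8245743)) (.node (.leaf 14524722) (.leaf 2331225))) (.node (.node (.leaf 3682984) (.leaf 10515118)) (.node (.leaf 373039) (.leaf 4526285)))) (.node (.node (.node (.leaf 9568739) (.leaf 14709077)) (.node (.leaf 13926450) (.leaf 13316470))) (.node (.node (.leaf 17686904) (.leaf 10158426)) (.node (.leaf 15999538) (.leaf 17117218)))))) (.node (.node (.node (.node (.node (.node (.leaf 7958533) (.leaf 12472385)) (.leaf 3182635)) (.node (.leaf 5447918) (.leaf 2314574))) (.node (.node (.leaf 5533707) (.leaf 10764954)) (.node (.leaf 17092950) (.leaf 15249465)))) (.node (.node (.node (.node (.leaf 17990050) (.leaf 15794234)) (.leaf 16839254)) (.node (.leaf 3309720) (.leaf 6459648))) (.node (.node (.leaf 11366991) (.leaf 156056)) (.node (.leaf 6422867) (.leaf 1872079))))) (.node (.node (.node (.node (.node (.leaf 4670148) (.leaf 1307352)) (.leaf 12030345)) (.node (.leaf 15196840) (.leaf 12603539))) (.node (.node (.leaf 10146197) (.leaf 16302485)) (.node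 (.leaf 5755328) (.leaf 4231877)))) (.node (.node (.node (.leaf 13234350) (.leaf 5873801)) (.node (.leaf 1646965) (.leaf 10993695))) (.node (.node (.leaf 11866641) (.leaf 7434671)) (.node (.leaf 9126325) (.leaf 1929903)))))))) (.node (.node (.node (.node (.node (.node (.node (.node (.leaf 2064684) (.leaf 9052409)) (.leaf 12640340)) (.node (.leaf 16212596) (.leaf 10834293))) (.node (.node (.leaf 6213846) (.leaf 5505304)) (.node (.leaf 7860608) (.leaf 2461913)))) (.node (.node (.node (.node (.leaf 18137154) (.leaf 16933049)) (.leaf 12873849)) (.node (.leaf 12865758) (.leaf 12316791))) (.node (.node (.leaf 5038776) (.leaf 17621479)) (.node (.leaf 1299143) (.leaf 12796198))))) (.node (.node (.node (.node (.node (.leaf 14258739) (.leaf 10096644)) (.leaf 4395269)) (.node (.leaf 6103686) (.leaf 14741944))) (.node (.node (.leaf 8282287) (.leaf 15471030)) (.node (.leaf 13971522) (.leaf 17465858)))) (.node (.node (.node (.leaf 17920019) (.leaf 14946957)) (.node (.leaf 15446671) (.leaf 15163496))) (.node (.node (.leaf 8802792) (.leaf 12628675)) (.node (.leaf 9708178) (.leaf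 8200759)))))) (.node (.node (.node (.node (.node (.node (.leaf 18080308) (.leaf 4329857)) (.leaf 1810880)) (.node (.leaf 12460311) (.leaf 3231969))) (.node (.node (.leaf 10908168) (.leaf 3645647)) (.node (.leaf 1568990) (.leaf 8618494)))) (.node (.node (.node (.node (.leaf 14590379) (.leaf 8548370)) (.leaf 3441218)) (.node (.leaf 7966862) (.leaf 5689975))) (.node (.node (.leaf 13640169) (.leaf 8020236)) (.node (.leaf 7610874) (.leaf 4902912))))) (.node (.node (.node (.node (.node (.leaf 16429079) (.leaf 6111471)) (.leaf 15438026)) (.node (.leaf 3388040) (.leaf 9629870))) (.node (.node (.leaf 5644592) (.leaf 6525120)) (.node (.leaf 13607069) (.leaf 7315944)))) (.node (.node (.node (.leaf 11649030) (.leaf 10051687)) (.node (.leaf 1265880) (.leaf 17437323))) (.node (.node (.leaf 9912760) (.leaf 348640)) (.node (.leaf 8053153) (.leaf 14192798))))))) (.node (.node (.node (.node (.node (.node (.node (.leaf 7492067) (.leaf 6267526)) (.leaf 10298028)) (.node (.leaf 2490553) (.leaf 16707861))) (.node (.node (.leaf 4936001) (.leaf 15675837)) (.node (.leaf 6840639) (.leaf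 332142)))) (.node (.node (.node (.node (.leaf 6099215) (.leaf 13643810)) (.leaf 10727899)) (.node (.leaf 15024212) (.leaf 11776487))) (.node (.node (.leaf 17633706) (.leaf 4739225)) (.node (.leaf 14082728) (.leaf 3658453))))) (.node (.node (.node (.node (.node (.leaf 15073343) (.leaf 17551364)) (.leaf 1974652)) (.node (.leaf 7729205) (.leaf 15364681))) (.node (.node (.leaf 7504187) (.leaf 3936593)) (.node (.leaf 10469599) (.leaf 13578935)))) (.node (.node (.node (.leaf 8126812) (.leaf 266799)) (.node (.leaf 761969) (.leaf 3760334))) (.node (.node (.leaf 9502915) (.leaf 10817578)) (.node (.leaf 234069) (.leaf 1806742)))))) (.node (.node (.node (.node (.node (.node (.leaf 9617892) (.leaf 7213533)) (.leaf 10723632)) (.node (.leaf 10592861) (.leaf 7602539))) (.node (.node (.leaf 16404888) (.leaf 6287526)) (.node (.leaf 10408545) (.leaf 10920295)))) (.node (.node (.node (.node (.leaf 8601709) (.leaf 9536051)) (.leaf 2121846)) (.node (.leaf 15159357) (.leaf 8081786))) (.node (.node (.leaf 16183839) (.leaf 1490986)) (.node (.leaf 9376389) (.leaf 5230949))))) (.node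 (.node (.node (.node (.node (.leaf 6107424) (.leaf 16978402)) (.leaf 16171690)) (.node (.leaf 13562179) (.leaf 17420311))) (.node (.node (.leaf 16007270) (.leaf 2814270)) (.node (.leaf 3780848) (.leaf 10363232)))) (.node (.node (.node (.leaf 3375151) (.leaf 4919583)) (.node (.leaf 9273955) (.leaf 2474124))) (.node (.node (.leaf 15786631) (.leaf 7483949)) (.node (.leaf 15053122) (.leaf 1896731)))))))))

def threeMv72814 : Janko.Tree (ℕ) :=
  (.node (.node (.node (.node (.node (.node (.node (.node (.node (.leaf 7881312) (.leaf 1724930)) (.leaf 11833415)) (.node (.leaf 9748742) (.leaf 5014146))) (.node (.node (.leaf 17506943) (.leaf 17047969)) (.node (.leaf 12783794) (.leaf 8958629)))) (.node (.node (.node (.node (.leaf 9826790) (.leaf 10654022)) (.leaf 14402257)) (.node (.leaf 11227569) (.leaf 8589700))) (.node (.node (.leaf 18149933) (.leaf 10342676)) (.node (.leaf 16818740) (.leaf 16642486))))) (.node (.node (.node (.node (.node (.leaf 17797239) (.leaf 11210891)) (.leaf 8753287)) (.node (.leaf 16630417) (.leaf 14676231))) (.node (.node (.leaf 15413288) (.leaf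 14201053)) (.node (.leaf 8495185) (.leaf 6652395)))) (.node (.node (.node (.leaf 16503046) (.leaf 1392672)) (.node (.leaf 1458759) (.leaf 13713934))) (.node (.node (.leaf 2162858) (.leaf 17568257)) (.node (.leaf 13345196) (.leaf 12415635)))))) (.node (.node (.node (.node (.node (.node (.leaf 483973) (.leaf 16273898)) (.leaf 417949)) (.node (.leaf 5583259) (.leaf 14385515))) (.node (.node (.leaf 15851877) (.leaf 17215767)) (.node (.leaf 3367121) (.leaf 7700541)))) (.node (.node (.node (.node (.leaf 14827738) (.leaf 13115929)) (.leaf 16986220)) (.node (.leaf 12378712) (.leaf 2752736))) (.node (.node (.leaf 6680708) (.leaf 10228007)) (.node (.leaf 14135466) (.leaf 10597017))))) (.node (.node (.node (.node (.node (.leaf 11485805) (.leaf 6890105)) (.leaf 15261943)) (.node (.leaf 13779587) (.leaf 17015170))) (.node (.node (.leaf 1732667) (.leaf 6078966)) (.node (.leaf 1577165) (.leaf 8225425)))) (.node (.node (.node (.leaf 12730420) (.leaf 12439948)) (.node (.leaf 668252) (.leaf 3428960))) (.node (.node (.leaf 6848552) (.leaf 5124437)) (.node (.leaf 303723) (.leaf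 9371743))))))) (.node (.node (.node (.node (.node (.node (.node (.leaf 16490989) (.leaf 11149591)) (.leaf 10616923)) (.node (.leaf 2867710) (.leaf 7745726))) (.node (.node (.leaf 17031650) (.leaf 15155438)) (.node (.leaf 10797701) (.leaf 4166120)))) (.node (.node (.node (.node (.leaf 16339443) (.leaf 12260047)) (.leaf 15134811)) (.node (.leaf 15139000) (.leaf 643154))) (.node (.node (.leaf 15524041) (.leaf 15708812)) (.node (.leaf 13574631) (.leaf 10236565))))) (.node (.node (.node (.node (.node (.leaf 6373553) (.leaf 15340170)) (.leaf 18317616)) (.node (.leaf 14500166) (.leaf 3805735))) (.node (.node (.leaf 16392238) (.leaf 7668253)) (.node (.leaf 15421874) (.leaf 16011890)))) (.node (.node (.node (.leaf 5435496) (.leaf 9896061)) (.node (.leaf 8303288) (.leaf 18035320))) (.node (.node (.leaf 3776719) (.leaf 3494031)) (.node (.leaf 9097255) (.leaf 18194745)))))) (.node (.node (.node (.node (.node (.node (.leaf 2495006) (.leaf 3146164)) (.leaf 12177982)) (.node (.leaf 3744447) (.leaf 5222835))) (.node (.node (.leaf 14484060) (.leaf 11510177)) (.node (.leaf 8737477)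 (.leaf 766362)))) (.node (.node (.node (.node (.leaf 15319058) (.leaf 3912281)) (.leaf 7512325)) (.node (.leaf 504125) (.leaf 17789652))) (.node (.node (.leaf 10195536) (.leaf 4997671)) (.node (.leaf 13910469) (.leaf 18260530))))) (.node (.node (.node (.node (.node (.leaf 393583) (.leaf 5349897)) (.leaf 3035684)) (.node (.leaf 16953674) (.leaf 6836559))) (.node (.node (.leaf 17600822) (.leaf 5489185)) (.node (.leaf 12529806) (.leaf 4637340)))) (.node (.node (.node (.leaf 4153799) (.leaf 15294466)) (.node (.leaf 13922543) (.leaf 4530756))) (.node (.node (.leaf 9130700) (.leaf 9195749)) (.node (.leaf 9699626) (.leaf 10125687)))))))) (.node (.node (.node (.node (.node (.node (.node (.node (.leaf 16130570) (.leaf 17981885)) (.leaf 13267501)) (.node (.leaf 6033757) (.leaf 770659))) (.node (.node (.leaf 7970892) (.leaf 13222456)) (.node (.leaf 13373611) (.leaf 9654466)))) (.node (.node (.node (.node (.leaf 10375272) (.leaf 14016923)) (.leaf 17580417)) (.node (.leaf 5288639) (.leaf 5697697))) (.node (.node (.leaf 13218432) (.leaf 3490384)) (.node (.leaf 7672115) (.leaf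 6353439))))) (.node (.node (.node (.node (.node (.leaf 4575674) (.leaf 18227267)) (.leaf 10019526)) (.node (.leaf 2523795) (.leaf 3179173))) (.node (.node (.leaf 9601241) (.leaf 14361183)) (.node (.leaf 3010933) (.leaf 16822627)))) (.node (.node (.node (.leaf 9679381) (.leaf 9552483)) (.node (.leaf 7954966) (.leaf 9978254))) (.node (.node (.leaf 10453709) (.leaf 11219537)) (.node (.leaf 1335738) (.leaf 17604774)))))) (.node (.node (.node (.node (.node (.node (.leaf 15634785) (.leaf 6709288)) (.leaf 8695922)) (.node (.leaf 10912142) (.leaf 8528364))) (.node (.node (.leaf 12046637) (.leaf 590461)) (.node (.leaf 1814907) (.leaf 7451208)))) (.node (.node (.node (.node (.leaf 16593004) (.leaf 15426199)) (.leaf 7709207)) (.node (.leaf 2130394) (.leaf 16855))) (.node (.node (.leaf 5595583) (.leaf 8090018)) (.node (.leaf 6066582) (.leaf 737811))))) (.node (.node (.node (.node (.node (.leaf 16216353) (.leaf 6918441)) (.leaf 7565580)) (.node (.leaf 1310808) (.leaf 4440531))) (.node (.node (.leaf 8826950) (.leaf 12579166)) (.node (.leaf 14971207) (.leaf 11993665)))) (.node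 (.node (.node (.leaf 6721747) (.leaf 4927549)) (.node (.leaf 12087992) (.leaf 16330986))) (.node (.node (.leaf 2703766) (.leaf 778715)) (.node (.leaf 15655330) (.leaf 13071040))))))) (.node (.node (.node (.node (.node (.node (.node (.leaf 225851) (.leaf 9892152)) (.leaf 7442978)) (.node (.leaf 5419715) (.leaf 5251513))) (.node (.node (.leaf 17343009) (.leaf 14180953)) (.node (.leaf 4207257) (.leaf 2400259)))) (.node (.node (.node (.node (.leaf 4723156) (.leaf 3285100)) (.leaf 8868489)) (.node (.leaf 11088485) (.leaf 8573425))) (.node (.node (.leaf 4960500) (.leaf 3084497)) (.node (.leaf 2486774) (.leaf 2609654))))) (.node (.node (.node (.node (.node (.leaf 6553740) (.leaf 9876010)) (.leaf 15647269)) (.node (.leaf 3559946) (.leaf 2388666))) (.node (.node (.leaf 3564220) (.leaf 6779316)) (.node (.leaf 10211364) (.leaf 10338898)))) (.node (.node (.node (.leaf 3076101) (.leaf 8593499)) (.node (.leaf 7843984) (.leaf 7418096))) (.node (.node (.leaf 18100294) (.leaf 3768813)) (.node (.leaf 17461381) (.leaf 14049903)))))) (.node (.node (.node (.node (.node (.node (.leaf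 5685742) (.leaf 6963467)) (.leaf 18022605)) (.node (.leaf 17559977) (.leaf 5050844))) (.node (.node (.leaf 5333428) (.leaf 9457760)) (.node (.leaf 2973792) (.leaf 5911171)))) (.node (.node (.node (.node (.leaf 18170488) (.leaf 16175560)) (.leaf 15712864)) (.node (.leaf 15602255) (.leaf 9785915))) (.node (.node (.leaf 14266498) (.leaf 528873)) (.node (.leaf 16069313) (.leaf 14238259))))) (.node (.node (.node (.node (.node (.leaf 10756203) (.leaf 5878269)) (.leaf 4604566)) (.node (.leaf 8159486) (.leaf 15106397))) (.node (.node (.leaf 17879105) (.leaf 8880766)) (.node (.leaf 18272877) (.leaf 12907015)))) (.node (.node (.node (.leaf 6189483) (.leaf 2318794)) (.node (.leaf 2404636) (.leaf 13697630))) (.node (.node (.leaf 10760577) (.leaf 17649676)) (.node (.leaf 15213077) (.leaf 1384959)))))))))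

def threeMv72815 : Janko.Tree (ℕ) :=
  (.node (.node (.node (.node (.node (.node (.node (.node (.node (.leaf 12263519) (.leaf 3666016)) (.leaf 11460713)) (.node (.leaf 1253829) (.leaf 7697092))) (.node (.node (.leaf 15311250) (.leaf 5017798)) (.node (.leaf 2416790) (.leaf 4493444)))) (.node (.node (.node (.node (.leaf 9556551) (.leaf 15278709)) (.leaf 15057170)) (.node (.leaf 1302837) (.leaf 1397304))) (.node (.node (.leaf 14041722) (.leaf 6283866)) (.node (.leaf 12406960) (.leaf 7639472))))) (.node (.node (.node (.node (.node (.leaf 9744581) (.leaf 13049950)) (.leaf 2895979)) (.node (.leaf 4399562) (.leaf 15901124))) (.node (.node (.leaf 5238901) (.leaf 4452700)) (.node (.leaf 6008867) (.leaf 10240433)))) (.node (.node (.node (.leaf 7569519) (.leaf 13484171)) (.node (.leaf 16728448) (.leaf 12219085))) (.node (.node (.leaf 12841203) (.leaf 524674)) (.node (.leaf 11579878) (.leaf 6238240)))))) (.node (.node (.node (.node (.node (.node (.leaf 2429408) (.leaf 9420943)) (.leaf 5128522)) (.node (.leaf 180417) (.leaf 8372305))) (.node (.node (.leaf 5779709) (.leaf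 2199989)) (.node (.leaf 18112684) (.leaf 14873047)))) (.node (.node (.node (.node (.leaf 17109075) (.leaf 3220140)) (.leaf 7537084)) (.node (.leaf 13545534) (.leaf 9482925))) (.node (.node (.leaf 4780096) (.leaf 6636036)) (.node (.leaf 8921403) (.leaf 696657))))) (.node (.node (.node (.node (.node (.leaf 2978373) (.leaf 18031178)) (.leaf 8876558)) (.node (.leaf 12923608) (.leaf 13860956))) (.node (.node (.leaf 5907058) (.leaf 17736234)) (.node (.leaf 10273062) (.leaf 13042054)))) (.node (.node (.node (.leaf 9670888) (.leaf 8339870)) (.node (.leaf 3592695) (.leaf 1130887))) (.node (.node (.leaf 6713425) (.leaf 9319037)) (.node (.leaf 12914908) (.leaf 17760684))))))) (.node (.node (.node (.node (.node (.node (.node (.leaf 11465334) (.leaf 1753203)) (.leaf 3555555)) (.node (.leaf 15335985) (.leaf 16597650))) (.node (.node (.leaf 3576332) (.leaf 6701306)) (.node (.leaf 3109336) (.leaf 5980177)))) (.node (.node (.node (.node (.leaf 3088598) (.leaf 17039968)) (.leaf 16118361)) (.node (.leaf 4608232) (.leaf 16257053))) (.node (.node (.leaf 15806523) (.leaf 10477660))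 (.node (.leaf 1057430) (.leaf 1925348))))) (.node (.node (.node (.node (.node (.leaf 18162276) (.leaf 12374735)) (.leaf 11317671)) (.node (.leaf 2191997) (.leaf 17863189))) (.node (.node (.leaf 4772432) (.leaf 11989303)) (.node (.leaf 9200279) (.leaf 14889647)))) (.node (.node (.node (.leaf 1524097) (.leaf 10072520)) (.node (.leaf 11882777) (.leaf 14451161))) (.node (.node (.leaf 9835218) (.leaf 18334396)) (.node (.leaf 2904240) (.leaf 14357126)))))) (.node (.node (.node (.node (.node (.node (.leaf 311851) (.leaf 196662)) (.leaf 78258)) (.node (.leaf 6766641) (.leaf 13021298))) (.node (.node (.leaf 9920994) (.leaf 5992516)) (.node (.leaf 8712381) (.leaf 6320280)))) (.node (.node (.node (.node (.leaf 13259313) (.leaf 5312657)) (.leaf 2285908)) (.node (.leaf 10027491) (.leaf 11976820))) (.node (.node (.leaf 1528408) (.leaf 14418570)) (.node (.leaf 1434125) (.leaf 15978579))))) (.node (.node (.node (.node (.node (.leaf 5976610) (.leaf 2433120)) (.leaf 5546085)) (.node (.leaf 7414088) (.leaf 16241315))) (.node (.node (.leaf 1069367) (.leaf 14582152)) (.node (.leaf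 11067836) (.leaf 12804568)))) (.node (.node (.node (.leaf 17740163) (.leaf 8253719)) (.node (.leaf 15110233) (.leaf 7762570))) (.node (.node (.leaf 5640470) (.leaf 999597)) (.node (.leaf 8732911) (.leaf 2118338)))))))) (.node (.node (.node (.node (.node (.node (.node (.node (.leaf 7360999) (.leaf 11936184)) (.leaf 5108147)) (.node (.leaf 12989144) (.leaf 5591607))) (.node (.node (.leaf 8454387) (.leaf 4546795)) (.node (.leaf 3653634) (.leaf 17166439)))) (.node (.node (.node (.node (.leaf 8221362) (.leaf 7921989)) (.leaf 4489251)) (.node (.leaf 14791188) (.leaf 6123532))) (.node (.node (.leaf 9335502) (.leaf 6975489)) (.node (.leaf 1400899) (.leaf 10011342))))) (.node (.node (.node (.node (.node (.leaf 6406765) (.leaf 16138744)) (.leaf 15266170)) (.node (.leaf 299126) (.leaf 17400022))) (.node (.node (.leaf 16777603) (.leaf 12518031)) (.node (.leaf 2708111) (.leaf 9032344)))) (.node (.node (.node (.leaf 11620428) (.leaf 4436212)) (.node (.leaf 17191221) (.leaf 184733))) (.node (.node (.leaf 925966) (.leaf 9314855)) (.node (.leaf 7901608) (.leaf 10322537))))))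 (.node (.node (.node (.node (.node (.node (.leaf 11042864) (.leaf 14311696)) (.leaf 18223584)) (.node (.leaf 8278439) (.leaf 15360705))) (.node (.node (.leaf 15913643) (.leaf 9236571)) (.node (.leaf 11215088) (.leaf 291422)))) (.node (.node (.node (.node (.leaf 10412298) (.leaf 18247893)) (.leaf 12370585)) (.node (.leaf 4514269) (.leaf 7987477))) (.node (.node (.leaf 8167484) (.leaf 13902144)) (.node (.leaf 13336600) (.leaf 13488775))))) (.node (.node (.node (.node (.node (.leaf 537096) (.leaf 16801885)) (.leaf 13676842)) (.node (.leaf 13935234) (.leaf 3457475))) (.node (.node (.leaf 15880735) (.leaf 5431609)) (.node (.leaf 8487552) (.leaf 8622616)))) (.node (.node (.node (.leaf 5300506) (.leaf 11223285)) (.node (.leaf 3604686) (.leaf 16912722))) (.node (.node (.leaf 5415037) (.leaf 5046402)) (.node (.leaf 10752675) (.leaf 4182281))))))) (.node (.node (.node (.node (.node (.node (.node (.leaf 2249414) (.leaf 12436052)) (.leaf 14762526)) (.node (.leaf 3801776) (.leaf 5112426))) (.node (.node (.leaf 1921283) (.leaf 17367354)) (.node (.leaf 6873117) (.leaf 17146404))))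 (.node (.node (.node (.node (.leaf 5390761) (.leaf 4870548)) (.leaf 1966453)) (.node (.leaf 16720397) (.leaf 1773610))) (.node (.node (.leaf 143982) (.leaf 7798936)) (.node (.leaf 4645034) (.leaf 6259078))))) (.node (.node (.node (.node (.node (.leaf 16535911) (.leaf 17441101)) (.leaf 1442136)) (.node (.leaf 11112551) (.leaf 17510472))) (.node (.node (.leaf 10785097) (.leaf 3432955)) (.node (.leaf 9544274) (.leaf 10396190)))) (.node (.node (.node (.leaf 8462644) (.leaf 3461293)) (.node (.leaf 16282261) (.leaf 11330148))) (.node (.node (.leaf 11334279) (.leaf 5636589)) (.node (.leaf 9216714) (.leaf 16048548)))))) (.node (.node (.node (.node (.node (.node (.leaf 13816257) (.leaf 16703929)) (.leaf 15716896)) (.node (.leaf 7348858) (.leaf 4784734))) (.node (.node (.leaf 18174242) (.leaf 15397244)) (.node (.leaf 655700) (.leaf 15553157)))) (.node (.node (.node (.node (.leaf 11747784) (.leaf 9220565)) (.leaf 17371631)) (.node (.leaf 8818865) (.leaf 15122433))) (.node (.node (.leaf 9883836) (.leaf 2777633)) (.node (.leaf 5091368) (.leaf 17883814))))) (.node (.node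 (.node (.node (.node (.leaf 14148118) (.leaf 10965694)) (.leaf 16871496)) (.node (.leaf 4800813) (.leaf 15548645))) (.node (.node (.leaf 15307134) (.leaf 11268293)) (.node (.leaf 6210080) (.leaf 7827624)))) (.node (.node (.node (.leaf 11674171) (.leaf 4055639)) (.node (.leaf 2150676) (.leaf 991746))) (.node (.node (.leaf 2031627) (.leaf 3965348)) (.node (.leaf 1086121) (.leaf 13161104)))))))))

/-- a table -/
def threeMv728 : Janko.Tree (ℕ) := (.node (.node (.node (.node threeMv7280 threeMv7288) (.node threeMv7284 threeMv72812)) (.node (.node threeMv7282 threeMv72810) (.node threeMv7286 threeMv72814))) (.node (.node (.node threeMv7281 threeMv7289) (.node threeMv7285 threeMv72813)) (.node (.node threeMv7283 threeMv72811) (.node threeMv7287 threeMv72815))))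

theorem three_mv7280 : ((List.range 640).all fun i => movesOK baseB threeCert threeGens threeT 4480 threeV728 threeMv728 (Nat.add 0 i)) = true := by decide +kernel

theorem three_mv7281 : ((List.range 640).all fun i => movesOK baseB threeCert threeGens threeT 4480 threeV728 threeMv728 (Nat.add 640 i)) = true := by decide +kernel

theorem three_mv7282 : ((List.range 640).all fun i => movesOK baseB threeCert threeGens threeT 4480 threeV728 threeMv728 (Nat.add 1280 i)) = true := by decide +kernel

theorem three_mv7283 : ((List.range 640).all fun i => movesOK baseB threeCert threeGens threeT 4480 threeV728 threeMv728 (Nat.add 1920 i)) = true := by decide +kernel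

theorem three_mv7284 : ((List.range 640).all fun i => movesOK baseB threeCert threeGens threeT 4480 threeV728 threeMv728 (Nat.add 2560 i)) = true := by decide +kernel

theorem three_mv7285 : ((List.range 640).all fun i => movesOK baseB threeCert threeGens threeT 4480 threeV728 threeMv728 (Nat.add 3200 i)) = true := by decide +kernel

theorem three_mv7286 : ((List.range 640).all fun i => movesOK baseB threeCert threeGens threeT 4480 threeV728 threeMv728 (Nat.add 3840 i)) = true := by decide +kernel

theorem three_mv728 : ∀ i < 4480, movesOK baseB threeCert threeGens threeT 4480 threeV728 threeMv728 i = true := by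
  intro i hi
  exact (if h1920 : i < 1920 then (if h640 : i < 640 then (by have := List.all_eq_true.1 three_mv7280 (i - 0) (List.mem_range.2 (by omega)); rwa [show Nat.add 0 (i - 0) = i from Nat.add_sub_cancel' (by omega)] at this) else (if h1280 : i < 1280 then (by have := List.all_eq_true.1 three_mv7281 (i - 640) (List.mem_range.2 (by omega)); rwa [show Nat.add 640 (i - 640) = i from Nat.add_sub_cancel' (by omega)] at this) else (by have := List.all_eq_true.1 three_mv7282 (i - 1280) (List.mem_range.2 (by omega)); rwa [show Nat.add 1280 (i - 1280) = i from Nat.add_sub_cancel' (by omega)] at this))) else (if h3200 : i < 3200 then (if h2560 : i < 2560 then (by have := List.all_eq_true.1 three_mv7283 (i - 1920) (List.mem_range.2 (by omega)); rwa [show Nat.add 1920 (i - 1920) = i from Nat.add_sub_cancel' (by omega)] at this) else (by have := List.all_eq_true.1 three_mv7284 (i - 2560) (List.mem_range.2 (by omega)); rwa [show Nat.add 2560 (i - 2560) = i from Nat.add_sub_cancel' (by omega)] at this)) else (if h3840 : i < 3840 then (by have := List.all_eq_true.1 three_mv7285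 (i - 3200) (List.mem_range.2 (by omega)); rwa [show Nat.add 3200 (i - 3200) = i from Nat.add_sub_cancel' (by omega)] at this) else (by have := List.all_eq_true.1 three_mv7286 (i - 3840) (List.mem_range.2 (by omega)); rwa [show Nat.add 3840 (i - 3840) = i from Nat.add_sub_cancel' (by omega)] at this))))


end Cfsg.Agent.Lie.McLaughlinMult
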