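import Cfsg.Agent.Lib.Lie.McLaughlinMult.Three
import Cfsg.Agent.Lib.Lie.CoverCocycle

/-!
A cocycle on the Sylow 3-subgroup (generated).
-/

set_option autoImplicit false
set_option maxRecDepth 100000
set_option maxHeartbeats 0
set_option Elab.async false

namespace Cfsg.Agent.Lie.McLaughlinMult

open Cfsg.Agent.Lie PermCover McLaughlinOut
open CoverCocycle

def threeVal0 : Janko.Tree (ℕ) :=
  (.node (.node (.node (.node (.node (.node (.node (.node (.node (.leaf 0) (.leaf 1)) (.leaf 2)) (.node (.leaf 0) (.leaf 2))) (.node (.node (.leaf 1) (.leaf 0)) (.node (.leaf 2) (.leaf 0)))) (.node (.node (.node (.node (.leaf 0) (.leaf 0)) (.leaf 0)) (.node (.leaf 0) (.leaf 1))) (.node (.node (.leaf 0) (.leaf 1)) (.node (.leaf 0) (.leaf 0))))) (.node (.node (.node (.node (.node (.leaf 1) (.leaf 1)) (.leaf 0)) (.node (.leaf 2) (.leaf 2))) (.node (.node (.leaf 2) (.leaf 2)) (.node (.leaf 1) (.leaf 0)))) (.node (.node (.node (.leaf 0)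 (.leaf 1)) (.node (.leaf 0) (.leaf 1))) (.node (.node (.leaf 1) (.leaf 2)) (.node (.leaf 2) (.leaf 2)))))) (.node (.node (.node (.node (.node (.node (.leaf 0) (.leaf 0)) (.leaf 0)) (.node (.leaf 2) (.leaf 0))) (.node (.node (.leaf 0) (.leaf 0)) (.node (.leaf 0) (.leaf 2)))) (.node (.node (.node (.leaf 2) (.leaf 1)) (.node (.leaf 2) (.leaf 1))) (.node (.node (.leaf 0) (.leaf 1)) (.node (.leaf 2) (.leaf 1))))) (.node (.node (.node (.node (.node (.leaf 0) (.leaf 0)) (.leaf 1)) (.node (.leaf 0) (.leaf 2))) (.node (.node (.leaf 2) (.leaf 0)) (.node (.leaf 2) (.leaf 0)))) (.node (.node (.node (.leaf 0) (.leaf 1)) (.node (.leaf 2) (.leaf 0))) (.node (.node (.leaf 2) (.leaf 0)) (.node (.leaf 0) (.leaf 1))))))) (.node (.node (.node (.node (.node (.node (.node (.leaf 0) (.leaf 0)) (.leaf 1)) (.node (.leaf 0) (.leaf 0))) (.node (.node (.leaf 0) (.leaf 1)) (.node (.leaf 1) (.leaf 1)))) (.node (.node (.node (.leaf 0) (.leaf 1)) (.node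 (.leaf 0) (.leaf 0))) (.node (.node (.leaf 1) (.leaf 1)) (.node (.leaf 0) (.leaf 0))))) (.node (.node (.node (.node (.node (.leaf 0) (.leaf 2)) (.leaf 2)) (.node (.leaf 0) (.leaf 1))) (.node (.node (.leaf 1) (.leaf 1)) (.node (.leaf 0) (.leaf 0)))) (.node (.node (.node (.leaf 0) (.leaf 0)) (.node (.leaf 0) (.leaf 0))) (.node (.node (.leaf 2) (.leaf 1)) (.node (.leaf 0) (.leaf 2)))))) (.node (.node (.node (.node (.node (.node (.leaf 0) (.leaf 1)) (.leaf 0)) (.node (.leaf 0) (.leaf 0))) (.node (.node (.leaf 0) (.leaf 1)) (.node (.leaf 0) (.leaf 2)))) (.node (.node (.node (.leaf 0) (.leaf 1)) (.node (.leaf 1) (.leaf 0))) (.node (.node (.leaf 0) (.leaf 2)) (.node (.leaf 1) (.leaf 2))))) (.node (.node (.node (.node (.node (.leaf 0) (.leaf 0)) (.leaf 1)) (.node (.leaf 0) (.leaf 2))) (.node (.node (.leaf 0) (.leaf 1)) (.node (.leaf 1) (.leaf 0)))) (.node (.node (.node (.leaf 2) (.leaf 2)) (.node (.leaf 2) (.leaf 2))) (.node (.node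 (.leaf 0) (.leaf 0)) (.node (.leaf 0) (.leaf 0)))))))) (.node (.node (.node (.node (.node (.node (.node (.node (.leaf 0) (.leaf 2)) (.leaf 2)) (.node (.leaf 1) (.leaf 2))) (.node (.node (.leaf 2) (.leaf 1)) (.node (.leaf 0) (.leaf 1)))) (.node (.node (.node (.node (.leaf 0) (.leaf 0)) (.leaf 2)) (.node (.leaf 2) (.leaf 0))) (.node (.node (.leaf 0) (.leaf 1)) (.node (.leaf 2) (.leaf 0))))) (.node (.node (.node (.node (.node (.leaf 0) (.leaf 0)) (.leaf 0)) (.node (.leaf 0) (.leaf 2))) (.node (.node (.leaf 2) (.leaf 0)) (.node (.leaf 2) (.leaf 0)))) (.node (.node (.node (.leaf 0) (.leaf 0)) (.node (.leaf 0) (.leaf 0))) (.node (.node (.leaf 1) (.leaf 2)) (.node (.leaf 0) (.leaf 2)))))) (.node (.node (.node (.node (.node (.node (.leaf 0) (.leaf 1)) (.leaf 2)) (.node (.leaf 0) (.leaf 2))) (.node (.node (.leaf 0) (.leaf 2)) (.node (.leaf 1) (.leaf 2)))) (.node (.node (.node (.leaf 2) (.leaf 0)) (.node (.leaf 0) (.leaf 2))) (.node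 (.node (.leaf 1) (.leaf 0)) (.node (.leaf 1) (.leaf 0))))) (.node (.node (.node (.node (.node (.leaf 0) (.leaf 2)) (.leaf 2)) (.node (.leaf 1) (.leaf 2))) (.node (.node (.leaf 1) (.leaf 1)) (.node (.leaf 0) (.leaf 1)))) (.node (.node (.node (.leaf 1) (.leaf 2)) (.node (.leaf 0) (.leaf 2))) (.node (.node (.leaf 0) (.leaf 1)) (.node (.leaf 0) (.leaf 0))))))) (.node (.node (.node (.node (.node (.node (.node (.leaf 0) (.leaf 2)) (.leaf 1)) (.node (.leaf 0) (.leaf 1))) (.node (.node (.leaf 2) (.leaf 0)) (.node (.leaf 2) (.leaf 1)))) (.node (.node (.node (.leaf 0) (.leaf 2)) (.node (.leaf 1) (.leaf 0))) (.node (.node (.leaf 2) (.leaf 2)) (.node (.leaf 2) (.leaf 0))))) (.node (.node (.node (.node (.node (.leaf 1) (.leaf 1)) (.leaf 0)) (.node (.leaf 2) (.leaf 1))) (.node (.node (.leaf 1) (.leaf 1)) (.node (.leaf 1) (.leaf 0)))) (.node (.node (.node (.leaf 0) (.leaf 2)) (.node (.leaf 0) (.leaf 1))) (.node (.node (.leaf 0) (.leaf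 1)) (.node (.leaf 1) (.leaf 2)))))) (.node (.node (.node (.node (.node (.node (.leaf 0) (.leaf 2)) (.leaf 2)) (.node (.leaf 0) (.leaf 0))) (.node (.node (.leaf 0) (.leaf 0)) (.node (.leaf 1) (.leaf 2)))) (.node (.node (.node (.leaf 1) (.leaf 0)) (.node (.leaf 2) (.leaf 1))) (.node (.node (.leaf 0) (.leaf 1)) (.node (.leaf 2) (.leaf 2))))) (.node (.node (.node (.node (.node (.leaf 0) (.leaf 2)) (.leaf 0)) (.node (.leaf 0) (.leaf 2))) (.node (.node (.leaf 0) (.leaf 1)) (.node (.leaf 0) (.leaf 2)))) (.node (.node (.node (.leaf 0) (.leaf 0)) (.node (.leaf 0) (.leaf 2))) (.node (.node (.leaf 2) (.leaf 2)) (.node (.leaf 0) (.leaf 0)))))))))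

def threeVal1 : Janko.Tree (ℕ) :=
  (.node (.node (.node (.node (.node (.node (.node (.node (.node (.leaf 0) (.leaf 1)) (.leaf 2)) (.node (.leaf 0) (.leaf 1))) (.node (.node (.leaf 0) (.leaf 2)) (.node (.leaf 0) (.leaf 2)))) (.node (.node (.node (.node (.leaf 0) (.leaf 0)) (.leaf 0)) (.node (.leaf 0) (.leaf 0))) (.node (.node (.leaf 0) (.leaf 0)) (.node (.leaf 2) (.leaf 1))))) (.node (.node (.node (.node (.node (.leaf 0) (.leaf 2)) (.leaf 2)) (.node (.leaf 0) (.leaf 0))) (.node (.node (.leaf 0) (.leaf 0)) (.node (.leaf 0) (.leaf 2)))) (.node (.node (.node (.leaf 0) (.leaf 2)) (.node (.leaf 0) (.leaf 2))) (.node (.node (.leaf 0) (.leaf 1)) (.node (.leaf 0) (.leaf 1)))))) (.node (.node (.node (.node (.node (.node (.leaf 0) (.leaf 0)) (.leaf 0)) (.node (.leaf 1) (.leaf 0))) (.node (.node (.leaf 0) (.leaf 1)) (.node (.leaf 0) (.leaf 0)))) (.node (.node (.node (.leaf 2) (.leaf 1)) (.node (.leaf 0) (.leaf 0))) (.node (.node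 (.leaf 0) (.leaf 0)) (.node (.leaf 2) (.leaf 1))))) (.node (.node (.node (.node (.node (.leaf 0) (.leaf 0)) (.leaf 2)) (.node (.leaf 0) (.leaf 2))) (.node (.node (.leaf 0) (.leaf 2)) (.node (.leaf 0) (.leaf 0)))) (.node (.node (.node (.leaf 0) (.leaf 0)) (.node (.leaf 1) (.leaf 0))) (.node (.node (.leaf 0) (.leaf 2)) (.node (.leaf 0) (.leaf 1))))))) (.node (.node (.node (.node (.node (.node (.node (.leaf 0) (.leaf 1)) (.leaf 2)) (.node (.leaf 0) (.leaf 2))) (.node (.node (.leaf 0) (.leaf 2)) (.node (.leaf 1) (.leaf 2)))) (.node (.node (.node (.leaf 0) (.leaf 2)) (.node (.leaf 2) (.leaf 1))) (.node (.node (.leaf 0) (.leaf 0)) (.node (.leaf 2) (.leaf 0))))) (.node (.node (.node (.node (.node (.leaf 0) (.leaf 2)) (.leaf 0)) (.node (.leaf 0) (.leaf 2))) (.node (.node (.leaf 2) (.leaf 0)) (.node (.leaf 2) (.leaf 0)))) (.node (.node (.node (.leaf 0) (.leaf 2)) (.node (.leaf 1) (.leaf 2))) (.node (.node (.leaf 0) (.leaf 0)) (.node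 (.leaf 1) (.leaf 2)))))) (.node (.node (.node (.node (.node (.node (.leaf 0) (.leaf 1)) (.leaf 0)) (.node (.leaf 2) (.leaf 0))) (.node (.node (.leaf 0) (.leaf 2)) (.node (.leaf 0) (.leaf 0)))) (.node (.node (.node (.leaf 0) (.leaf 1)) (.node (.leaf 0) (.leaf 2))) (.node (.node (.leaf 0) (.leaf 0)) (.node (.leaf 2) (.leaf 0))))) (.node (.node (.node (.node (.node (.leaf 2) (.leaf 1)) (.leaf 0)) (.node (.leaf 0) (.leaf 2))) (.node (.node (.leaf 0) (.leaf 0)) (.node (.leaf 0) (.leaf 2)))) (.node (.node (.node (.leaf 0) (.leaf 1)) (.node (.leaf 1) (.leaf 0))) (.node (.node (.leaf 0) (.leaf 2)) (.node (.leaf 0) (.leaf 0)))))))) (.node (.node (.node (.node (.node (.node (.node (.node (.leaf 0) (.leaf 2)) (.leaf 2)) (.node (.leaf 2) (.leaf 1))) (.node (.node (.leaf 0) (.leaf 0)) (.node (.leaf 0) (.leaf 2)))) (.node (.node (.node (.node (.leaf 0) (.leaf 1)) (.leaf 2)) (.node (.leaf 0) (.leaf 1))) (.node (.node (.leaf 0) (.leaf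 0)) (.node (.leaf 0) (.leaf 0))))) (.node (.node (.node (.node (.node (.leaf 0) (.leaf 2)) (.leaf 2)) (.node (.leaf 0) (.leaf 2))) (.node (.node (.leaf 2) (.leaf 0)) (.node (.leaf 0) (.leaf 1)))) (.node (.node (.node (.leaf 0) (.leaf 2)) (.node (.leaf 0) (.leaf 2))) (.node (.node (.leaf 0) (.leaf 0)) (.node (.leaf 0) (.leaf 0)))))) (.node (.node (.node (.node (.node (.node (.leaf 0) (.leaf 0)) (.leaf 0)) (.node (.leaf 0) (.leaf 2))) (.node (.node (.leaf 0) (.leaf 0)) (.node (.leaf 0) (.leaf 2)))) (.node (.node (.node (.leaf 0) (.leaf 1)) (.node (.leaf 1) (.leaf 0))) (.node (.node (.leaf 0) (.leaf 2)) (.node (.leaf 2) (.leaf 0))))) (.node (.node (.node (.node (.node (.leaf 0) (.leaf 2)) (.leaf 0)) (.node (.leaf 0) (.leaf 2))) (.node (.node (.leaf 0) (.leaf 0)) (.node (.leaf 0) (.leaf 0)))) (.node (.node (.node (.leaf 0) (.leaf 2)) (.node (.leaf 0) (.leaf 2))) (.node (.node (.leaf 0) (.leaf 0)) (.node (.leaf 0) (.leaf 2)))))))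 (.node (.node (.node (.node (.node (.node (.node (.leaf 0) (.leaf 2)) (.leaf 0)) (.node (.leaf 2) (.leaf 2))) (.node (.node (.leaf 0) (.leaf 2)) (.node (.leaf 0) (.leaf 0)))) (.node (.node (.node (.leaf 0) (.leaf 2)) (.node (.leaf 2) (.leaf 2))) (.node (.node (.leaf 0) (.leaf 2)) (.node (.leaf 2) (.leaf 2))))) (.node (.node (.node (.node (.node (.leaf 0) (.leaf 0)) (.leaf 2)) (.node (.leaf 0) (.leaf 0))) (.node (.node (.leaf 0) (.leaf 1)) (.node (.leaf 2) (.leaf 0)))) (.node (.node (.node (.leaf 0) (.leaf 0)) (.node (.leaf 2) (.leaf 0))) (.node (.node (.leaf 2) (.leaf 2)) (.node (.leaf 0) (.leaf 2)))))) (.node (.node (.node (.node (.node (.node (.leaf 0) (.leaf 0)) (.leaf 0)) (.node (.leaf 2) (.leaf 2))) (.node (.node (.leaf 0) (.leaf 0)) (.node (.leaf 2) (.leaf 0)))) (.node (.node (.node (.leaf 0) (.leaf 2)) (.node (.leaf 0) (.leaf 0))) (.node (.node (.leaf 0) (.leaf 2)) (.node (.leaf 1) (.leaf 0))))) (.node (.node (.node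 (.node (.node (.leaf 0) (.leaf 2)) (.leaf 0)) (.node (.leaf 0) (.leaf 0))) (.node (.node (.leaf 0) (.leaf 0)) (.node (.leaf 2) (.leaf 2)))) (.node (.node (.node (.leaf 0) (.leaf 1)) (.node (.leaf 1) (.leaf 2))) (.node (.node (.leaf 0) (.leaf 1)) (.node (.leaf 0) (.leaf 1)))))))))

def threeVal2 : Janko.Tree (ℕ) :=
  (.node (.node (.node (.node (.node (.node (.node (.node (.node (.leaf 0) (.leaf 0)) (.leaf 2)) (.node (.leaf 2) (.leaf 0))) (.node (.node (.leaf 1) (.leaf 0)) (.node (.leaf 0) (.leaf 0)))) (.node (.node (.node (.node (.leaf 0) (.leaf 0)) (.leaf 1)) (.node (.leaf 0) (.leaf 2))) (.node (.node (.leaf 0) (.leaf 0)) (.node (.leaf 2) (.leaf 1))))) (.node (.node (.node (.node (.node (.leaf 0) (.leaf 2)) (.leaf 2)) (.node (.leaf 0) (.leaf 2))) (.node (.node (.leaf 0) (.leaf 1)) (.node (.leaf 2) (.leaf 1)))) (.node (.node (.node (.leaf 0) (.leaf 1)) (.node (.leaf 2) (.leaf 1))) (.node (.node (.leaf 1) (.leaf 1)) (.node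 (.leaf 1) (.leaf 0)))))) (.node (.node (.node (.node (.node (.node (.leaf 2) (.leaf 0)) (.leaf 0)) (.node (.leaf 0) (.leaf 2))) (.node (.node (.leaf 1) (.leaf 1)) (.node (.leaf 1) (.leaf 1)))) (.node (.node (.node (.leaf 0) (.leaf 1)) (.node (.leaf 0) (.leaf 0))) (.node (.node (.leaf 0) (.leaf 0)) (.node (.leaf 0) (.leaf 0))))) (.node (.node (.node (.node (.node (.leaf 0) (.leaf 0)) (.leaf 1)) (.node (.leaf 0) (.leaf 0))) (.node (.node (.leaf 0) (.leaf 0)) (.node (.leaf 1) (.leaf 2)))) (.node (.node (.node (.leaf 0) (.leaf 0)) (.node (.leaf 2) (.leaf 2))) (.node (.node (.leaf 1) (.leaf 0)) (.node (.leaf 2) (.leaf 1))))))) (.node (.node (.node (.node (.node (.node (.node (.leaf 0) (.leaf 1)) (.leaf 2)) (.node (.leaf 2) (.leaf 0))) (.node (.node (.leaf 1) (.leaf 2)) (.node (.leaf 1) (.leaf 0)))) (.node (.node (.node (.leaf 0) (.leaf 1)) (.node (.leaf 0) (.leaf 0))) (.node (.node (.leaf 0) (.leaf 2)) (.node (.leaf 2) (.leaf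 2))))) (.node (.node (.node (.node (.node (.leaf 2) (.leaf 1)) (.leaf 0)) (.node (.leaf 0) (.leaf 1))) (.node (.node (.leaf 1) (.leaf 0)) (.node (.leaf 2) (.leaf 1)))) (.node (.node (.node (.leaf 0) (.leaf 2)) (.node (.leaf 2) (.leaf 0))) (.node (.node (.leaf 2) (.leaf 0)) (.node (.leaf 0) (.leaf 0)))))) (.node (.node (.node (.node (.node (.node (.leaf 1) (.leaf 2)) (.leaf 0)) (.node (.leaf 1) (.leaf 1))) (.node (.node (.leaf 0) (.leaf 1)) (.node (.leaf 0) (.leaf 2)))) (.node (.node (.node (.leaf 0) (.leaf 2)) (.node (.leaf 0) (.leaf 0))) (.node (.node (.leaf 0) (.leaf 1)) (.node (.leaf 0) (.leaf 1))))) (.node (.node (.node (.node (.node (.leaf 0) (.leaf 1)) (.leaf 1)) (.node (.leaf 0) (.leaf 1))) (.node (.node (.leaf 0) (.leaf 1)) (.node (.leaf 0) (.leaf 1)))) (.node (.node (.node (.leaf 0) (.leaf 0)) (.node (.leaf 1) (.leaf 0))) (.node (.node (.leaf 0) (.leaf 1)) (.node (.leaf 1) (.leaf 0)))))))) (.node (.node (.node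 (.node (.node (.node (.node (.node (.leaf 0) (.leaf 1)) (.leaf 2)) (.node (.leaf 0) (.leaf 2))) (.node (.node (.leaf 1) (.leaf 0)) (.node (.leaf 2) (.leaf 1)))) (.node (.node (.node (.node (.leaf 0) (.leaf 2)) (.leaf 2)) (.node (.leaf 0) (.leaf 2))) (.node (.node (.leaf 0) (.leaf 2)) (.node (.leaf 2) (.leaf 0))))) (.node (.node (.node (.node (.node (.leaf 0) (.leaf 1)) (.leaf 0)) (.node (.leaf 2) (.leaf 1))) (.node (.node (.leaf 0) (.leaf 2)) (.node (.leaf 2) (.leaf 0)))) (.node (.node (.node (.leaf 2) (.leaf 0)) (.node (.leaf 0) (.leaf 0))) (.node (.node (.leaf 0) (.leaf 2)) (.node (.leaf 2) (.leaf 2)))))) (.node (.node (.node (.node (.node (.node (.leaf 0) (.leaf 0)) (.leaf 0)) (.node (.leaf 1) (.leaf 1))) (.node (.node (.leaf 0) (.leaf 0)) (.node (.leaf 0) (.leaf 1)))) (.node (.node (.node (.leaf 0) (.leaf 0)) (.node (.leaf 2) (.leaf 1))) (.node (.node (.leaf 0) (.leaf 0)) (.node (.leaf 2) (.leaf 1))))) (.node (.node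 (.node (.node (.node (.leaf 2) (.leaf 0)) (.leaf 0)) (.node (.leaf 1) (.leaf 0))) (.node (.node (.leaf 0) (.leaf 1)) (.node (.leaf 1) (.leaf 1)))) (.node (.node (.node (.leaf 1) (.leaf 0)) (.node (.leaf 1) (.leaf 1))) (.node (.node (.leaf 2) (.leaf 0)) (.node (.leaf 0) (.leaf 0))))))) (.node (.node (.node (.node (.node (.node (.node (.leaf 0) (.leaf 0)) (.leaf 0)) (.node (.leaf 0) (.leaf 0))) (.node (.node (.leaf 0) (.leaf 1)) (.node (.leaf 0) (.leaf 0)))) (.node (.node (.node (.leaf 0) (.leaf 2)) (.node (.leaf 1) (.leaf 2))) (.node (.node (.leaf 0) (.leaf 2)) (.node (.leaf 0) (.leaf 0))))) (.node (.node (.node (.node (.node (.leaf 0) (.leaf 2)) (.leaf 0)) (.node (.leaf 0) (.leaf 1))) (.node (.node (.leaf 1) (.leaf 0)) (.node (.leaf 1) (.leaf 2)))) (.node (.node (.node (.leaf 0) (.leaf 0)) (.node (.leaf 0) (.leaf 0))) (.node (.node (.leaf 0) (.leaf 0)) (.node (.leaf 1) (.leaf 1)))))) (.node (.node (.node (.node (.node (.node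 (.leaf 0) (.leaf 1)) (.leaf 0)) (.node (.leaf 0) (.leaf 0))) (.node (.node (.leaf 1) (.leaf 0)) (.node (.leaf 2) (.leaf 1)))) (.node (.node (.node (.leaf 0) (.leaf 1)) (.node (.leaf 2) (.leaf 1))) (.node (.node (.leaf 2) (.leaf 1)) (.node (.leaf 2) (.leaf 1))))) (.node (.node (.node (.node (.node (.leaf 0) (.leaf 2)) (.leaf 0)) (.node (.leaf 0) (.leaf 1))) (.node (.node (.leaf 2) (.leaf 2)) (.node (.leaf 0) (.leaf 0)))) (.node (.node (.node (.leaf 0) (.leaf 2)) (.node (.leaf 0) (.leaf 0))) (.node (.node (.leaf 1) (.leaf 2)) (.node (.leaf 0) (.leaf 2)))))))))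

def threeVal3 : Janko.Tree (ℕ) :=
  (.node (.node (.node (.node (.node (.node (.node (.node (.node (.leaf 0) (.leaf 0)) (.leaf 0)) (.node (.leaf 0) (.leaf 1))) (.node (.node (.leaf 0) (.leaf 2)) (.node (.leaf 0) (.leaf 2)))) (.node (.node (.node (.node (.leaf 0) (.leaf 0)) (.leaf 0)) (.node (.leaf 0) (.leaf 1))) (.node (.node (.leaf 0) (.leaf 2)) (.node (.leaf 2) (.leaf 1))))) (.node (.node (.node (.node (.node (.leaf 0) (.leaf 1)) (.leaf 0)) (.node (.leaf 1) (.leaf 0))) (.node (.node (.leaf 0) (.leaf 0)) (.node (.leaf 0) (.leaf 1)))) (.node (.node (.node (.leaf 0) (.leaf 2)) (.node (.leaf 0) (.leaf 1))) (.node (.node (.leaf 0) (.leaf 0)) (.node (.leaf 0) (.leaf 2)))))) (.node (.node (.node (.node (.node (.node (.leaf 0) (.leaf 2)) (.leaf 2)) (.node (.leaf 2) (.leaf 2))) (.node (.node (.leaf 0) (.leaf 1)) (.node (.leaf 0) (.leaf 0)))) (.node (.node (.node (.leaf 1) (.leaf 0)) (.node (.leaf 2) (.leaf 2))) (.node (.node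 (.leaf 0) (.leaf 2)) (.node (.leaf 2) (.leaf 1))))) (.node (.node (.node (.node (.node (.leaf 0) (.leaf 2)) (.leaf 2)) (.node (.leaf 0) (.leaf 2))) (.node (.node (.leaf 2) (.leaf 0)) (.node (.leaf 0) (.leaf 0)))) (.node (.node (.node (.leaf 0) (.leaf 2)) (.node (.leaf 1) (.leaf 0))) (.node (.node (.leaf 0) (.leaf 2)) (.node (.leaf 0) (.leaf 2))))))) (.node (.node (.node (.node (.node (.node (.node (.leaf 0) (.leaf 2)) (.leaf 0)) (.node (.leaf 0) (.leaf 0))) (.node (.node (.leaf 0) (.leaf 1)) (.node (.leaf 0) (.leaf 1)))) (.node (.node (.node (.leaf 1) (.leaf 1)) (.node (.leaf 2) (.leaf 1))) (.node (.node (.leaf 0) (.leaf 0)) (.node (.leaf 1) (.leaf 2))))) (.node (.node (.node (.node (.node (.leaf 0) (.leaf 2)) (.leaf 0)) (.node (.leaf 0) (.leaf 1))) (.node (.node (.leaf 0) (.leaf 2)) (.node (.leaf 0) (.leaf 0)))) (.node (.node (.node (.leaf 0) (.leaf 2)) (.node (.leaf 0) (.leaf 0))) (.node (.node (.leaf 0) (.leaf 0)) (.node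 (.leaf 0) (.leaf 1)))))) (.node (.node (.node (.node (.node (.node (.leaf 0) (.leaf 1)) (.leaf 0)) (.node (.leaf 0) (.leaf 0))) (.node (.node (.leaf 2) (.leaf 0)) (.node (.leaf 0) (.leaf 1)))) (.node (.node (.node (.leaf 0) (.leaf 0)) (.node (.leaf 0) (.leaf 0))) (.node (.node (.leaf 0) (.leaf 1)) (.node (.leaf 1) (.leaf 1))))) (.node (.node (.node (.node (.node (.leaf 0) (.leaf 0)) (.leaf 0)) (.node (.leaf 1) (.leaf 1))) (.node (.node (.leaf 0) (.leaf 2)) (.node (.leaf 2) (.leaf 0)))) (.node (.node (.node (.leaf 2) (.leaf 2)) (.node (.leaf 0) (.leaf 0))) (.node (.node (.leaf 2) (.leaf 2)) (.node (.leaf 0) (.leaf 0)))))))) (.node (.node (.node (.node (.node (.node (.node (.node (.leaf 0) (.leaf 0)) (.leaf 1)) (.node (.leaf 2) (.leaf 1))) (.node (.node (.leaf 0) (.leaf 2)) (.node (.leaf 1) (.leaf 0)))) (.node (.node (.node (.node (.leaf 0) (.leaf 2)) (.leaf 2)) (.node (.leaf 0) (.leaf 1))) (.node (.node (.leaf 0) (.leaf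 0)) (.node (.leaf 2) (.leaf 0))))) (.node (.node (.node (.node (.node (.leaf 0) (.leaf 2)) (.leaf 0)) (.node (.leaf 2) (.leaf 2))) (.node (.node (.leaf 2) (.leaf 0)) (.node (.leaf 0) (.leaf 0)))) (.node (.node (.node (.leaf 0) (.leaf 1)) (.node (.leaf 2) (.leaf 1))) (.node (.node (.leaf 0) (.leaf 0)) (.node (.leaf 2) (.leaf 1)))))) (.node (.node (.node (.node (.node (.node (.leaf 0) (.leaf 1)) (.leaf 0)) (.node (.leaf 2) (.leaf 0))) (.node (.node (.leaf 0) (.leaf 2)) (.node (.leaf 2) (.leaf 2)))) (.node (.node (.node (.leaf 2) (.leaf 0)) (.node (.leaf 0) (.leaf 1))) (.node (.node (.leaf 0) (.leaf 1)) (.node (.leaf 0) (.leaf 0))))) (.node (.node (.node (.node (.node (.leaf 0) (.leaf 2)) (.leaf 2)) (.node (.leaf 2) (.leaf 0))) (.node (.node (.leaf 2) (.leaf 0)) (.node (.leaf 0) (.leaf 2)))) (.node (.node (.node (.leaf 0) (.leaf 0)) (.node (.leaf 2) (.leaf 0))) (.node (.node (.leaf 0) (.leaf 2)) (.node (.leaf 0) (.leaf 0)))))))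 (.node (.node (.node (.node (.node (.node (.node (.leaf 0) (.leaf 0)) (.leaf 2)) (.node (.leaf 0) (.leaf 0))) (.node (.node (.leaf 0) (.leaf 1)) (.node (.leaf 2) (.leaf 2)))) (.node (.node (.node (.leaf 0) (.leaf 0)) (.node (.leaf 2) (.leaf 1))) (.node (.node (.leaf 2) (.leaf 1)) (.node (.leaf 0) (.leaf 2))))) (.node (.node (.node (.node (.node (.leaf 2) (.leaf 2)) (.leaf 2)) (.node (.leaf 0) (.leaf 2))) (.node (.node (.leaf 0) (.leaf 0)) (.node (.leaf 2) (.leaf 0)))) (.node (.node (.node (.leaf 0) (.leaf 2)) (.node (.leaf 1) (.leaf 1))) (.node (.node (.leaf 0) (.leaf 0)) (.node (.leaf 0) (.leaf 1)))))) (.node (.node (.node (.node (.node (.node (.leaf 0) (.leaf 1)) (.leaf 0)) (.node (.leaf 0) (.leaf 0))) (.node (.node (.leaf 0) (.leaf 0)) (.node (.leaf 0) (.leaf 1)))) (.node (.node (.node (.leaf 0) (.leaf 0)) (.node (.leaf 0) (.leaf 2))) (.node (.node (.leaf 0) (.leaf 0)) (.node (.leaf 1) (.leaf 1))))) (.node (.node (.node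 (.node (.node (.leaf 0) (.leaf 2)) (.leaf 2)) (.node (.leaf 0) (.leaf 1))) (.node (.node (.leaf 0) (.leaf 0)) (.node (.leaf 0) (.leaf 2)))) (.node (.node (.node (.leaf 0) (.leaf 0)) (.node (.leaf 0) (.leaf 1))) (.node (.node (.leaf 0) (.leaf 1)) (.node (.leaf 0) (.leaf 1)))))))))

def threeVal4 : Janko.Tree (ℕ) :=
  (.node (.node (.node (.node (.node (.node (.node (.node (.node (.leaf 0) (.leaf 0)) (.leaf 2)) (.node (.leaf 0) (.leaf 1))) (.node (.node (.leaf 2) (.leaf 0)) (.node (.leaf 0) (.leaf 1)))) (.node (.node (.node (.node (.leaf 0) (.leaf 0)) (.leaf 2)) (.node (.leaf 0) (.leaf 2))) (.node (.node (.leaf 0) (.leaf 2)) (.node (.leaf 2) (.leaf 0))))) (.node (.node (.node (.node (.node (.leaf 2) (.leaf 1)) (.leaf 1)) (.node (.leaf 0) (.leaf 1))) (.node (.node (.leaf 1) (.leaf 1)) (.node (.leaf 0) (.leaf 2)))) (.node (.node (.node (.leaf 0) (.leaf 1)) (.node (.leaf 0) (.leaf 0))) (.node (.node (.leaf 2) (.leaf 0)) (.node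 (.leaf 0) (.leaf 1)))))) (.node (.node (.node (.node (.node (.node (.leaf 0) (.leaf 0)) (.leaf 0)) (.node (.leaf 1) (.leaf 0))) (.node (.node (.leaf 0) (.leaf 1)) (.node (.leaf 1) (.leaf 2)))) (.node (.node (.node (.leaf 0) (.leaf 2)) (.node (.leaf 0) (.leaf 0))) (.node (.node (.leaf 0) (.leaf 0)) (.node (.leaf 0) (.leaf 0))))) (.node (.node (.node (.node (.node (.leaf 0) (.leaf 1)) (.leaf 2)) (.node (.leaf 1) (.leaf 0))) (.node (.node (.leaf 1) (.leaf 2)) (.node (.leaf 1) (.leaf 0)))) (.node (.node (.node (.leaf 2) (.leaf 0)) (.node (.leaf 2) (.leaf 0))) (.node (.node (.leaf 1) (.leaf 0)) (.node (.leaf 0) (.leaf 0))))))) (.node (.node (.node (.node (.node (.node (.node (.leaf 0) (.leaf 1)) (.leaf 2)) (.node (.leaf 2) (.leaf 1))) (.node (.node (.leaf 0) (.leaf 0)) (.node (.leaf 1) (.leaf 2)))) (.node (.node (.node (.leaf 0) (.leaf 2)) (.node (.leaf 2) (.leaf 2))) (.node (.node (.leaf 0) (.leaf 0)) (.node (.leaf 0) (.leaf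 2))))) (.node (.node (.node (.node (.node (.leaf 1) (.leaf 1)) (.leaf 0)) (.node (.leaf 0) (.leaf 2))) (.node (.node (.leaf 0) (.leaf 0)) (.node (.leaf 1) (.leaf 2)))) (.node (.node (.node (.leaf 2) (.leaf 1)) (.node (.leaf 2) (.leaf 2))) (.node (.node (.leaf 1) (.leaf 2)) (.node (.leaf 1) (.leaf 2)))))) (.node (.node (.node (.node (.node (.node (.leaf 0) (.leaf 0)) (.leaf 0)) (.node (.leaf 1) (.leaf 1))) (.node (.node (.leaf 0) (.leaf 0)) (.node (.leaf 0) (.leaf 2)))) (.node (.node (.node (.leaf 0) (.leaf 0)) (.node (.leaf 0) (.leaf 2))) (.node (.node (.leaf 0) (.leaf 1)) (.node (.leaf 2) (.leaf 2))))) (.node (.node (.node (.node (.node (.leaf 0) (.leaf 2)) (.leaf 0)) (.node (.leaf 0) (.leaf 2))) (.node (.node (.leaf 0) (.leaf 1)) (.node (.leaf 0) (.leaf 0)))) (.node (.node (.node (.leaf 0) (.leaf 1)) (.node (.leaf 0) (.leaf 0))) (.node (.node (.leaf 1) (.leaf 2)) (.node (.leaf 0) (.leaf 0)))))))) (.node (.node (.node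 (.node (.node (.node (.node (.node (.leaf 0) (.leaf 2)) (.leaf 0)) (.node (.leaf 2) (.leaf 2))) (.node (.node (.leaf 0) (.leaf 0)) (.node (.leaf 0) (.leaf 0)))) (.node (.node (.node (.node (.leaf 0) (.leaf 1)) (.leaf 2)) (.node (.leaf 0) (.leaf 1))) (.node (.node (.leaf 2) (.leaf 0)) (.node (.leaf 0) (.leaf 1))))) (.node (.node (.node (.node (.node (.leaf 0) (.leaf 2)) (.leaf 0)) (.node (.leaf 0) (.leaf 2))) (.node (.node (.leaf 2) (.leaf 0)) (.node (.leaf 2) (.leaf 2)))) (.node (.node (.node (.leaf 0) (.leaf 0)) (.node (.leaf 0) (.leaf 2))) (.node (.node (.leaf 0) (.leaf 0)) (.node (.leaf 2) (.leaf 0)))))) (.node (.node (.node (.node (.node (.node (.leaf 0) (.leaf 0)) (.leaf 0)) (.node (.leaf 1) (.leaf 1))) (.node (.node (.leaf 0) (.leaf 0)) (.node (.leaf 1) (.leaf 2)))) (.node (.node (.node (.leaf 0) (.leaf 2)) (.node (.leaf 0) (.leaf 2))) (.node (.node (.leaf 2) (.leaf 0)) (.node (.leaf 1) (.leaf 0))))) (.node (.node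 (.node (.node (.node (.leaf 1) (.leaf 1)) (.leaf 0)) (.node (.leaf 1) (.leaf 2))) (.node (.node (.leaf 0) (.leaf 1)) (.node (.leaf 0) (.leaf 1)))) (.node (.node (.node (.leaf 0) (.leaf 1)) (.node (.leaf 1) (.leaf 1))) (.node (.node (.leaf 1) (.leaf 2)) (.node (.leaf 1) (.leaf 2))))))) (.node (.node (.node (.node (.node (.node (.node (.leaf 0) (.leaf 0)) (.leaf 1)) (.node (.leaf 2) (.leaf 1))) (.node (.node (.leaf 2) (.leaf 2)) (.node (.leaf 0) (.leaf 0)))) (.node (.node (.node (.leaf 2) (.leaf 1)) (.node (.leaf 0) (.leaf 2))) (.node (.node (.leaf 0) (.leaf 2)) (.node (.leaf 1) (.leaf 0))))) (.node (.node (.node (.node (.node (.leaf 1) (.leaf 0)) (.leaf 0)) (.node (.leaf 2) (.leaf 1))) (.node (.node (.leaf 2) (.leaf 2)) (.node (.leaf 0) (.leaf 0)))) (.node (.node (.node (.leaf 0) (.leaf 2)) (.node (.leaf 2) (.leaf 0))) (.node (.node (.leaf 2) (.leaf 1)) (.node (.leaf 2) (.leaf 1)))))) (.node (.node (.node (.node (.node (.node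 (.leaf 0) (.leaf 0)) (.leaf 2)) (.node (.leaf 0) (.leaf 2))) (.node (.node (.leaf 0) (.leaf 2)) (.node (.leaf 1) (.leaf 1)))) (.node (.node (.node (.leaf 2) (.leaf 0)) (.node (.leaf 1) (.leaf 1))) (.node (.node (.leaf 0) (.leaf 1)) (.node (.leaf 1) (.leaf 0))))) (.node (.node (.node (.node (.node (.leaf 0) (.leaf 2)) (.leaf 2)) (.node (.leaf 1) (.leaf 1))) (.node (.node (.leaf 2) (.leaf 0)) (.node (.leaf 0) (.leaf 2)))) (.node (.node (.node (.leaf 0) (.leaf 2)) (.node (.leaf 2) (.leaf 1))) (.node (.node (.leaf 0) (.leaf 0)) (.node (.leaf 1) (.leaf 0)))))))))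

def threeVal5 : Janko.Tree (ℕ) :=
  (.node (.node (.node (.node (.node (.node (.node (.node (.node (.leaf 0) (.leaf 2)) (.leaf 0)) (.node (.leaf 2) (.leaf 1))) (.node (.node (.leaf 0) (.leaf 1)) (.node (.leaf 0) (.leaf 1)))) (.node (.node (.node (.node (.leaf 0) (.leaf 1)) (.leaf 2)) (.node (.leaf 0) (.leaf 0))) (.node (.node (.leaf 0) (.leaf 2)) (.node (.leaf 0) (.leaf 2))))) (.node (.node (.node (.node (.node (.leaf 0) (.leaf 1)) (.leaf 2)) (.node (.leaf 0) (.leaf 2))) (.node (.node (.leaf 1) (.leaf 0)) (.node (.leaf 0) (.leaf 2)))) (.node (.node (.node (.leaf 0) (.leaf 1)) (.node (.leaf 2) (.leaf 2))) (.node (.node (.leaf 0) (.leaf 2)) (.node (.leaf 0) (.leaf 1)))))) (.node (.node (.node (.node (.node (.node (.leaf 0) (.leaf 1)) (.leaf 0)) (.node (.leaf 2) (.leaf 0))) (.node (.node (.leaf 2) (.leaf 2)) (.node (.leaf 0) (.leaf 2)))) (.node (.node (.node (.leaf 0) (.leaf 0)) (.node (.leaf 0) (.leaf 0))) (.node (.node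 (.leaf 0) (.leaf 0)) (.node (.leaf 0) (.leaf 1))))) (.node (.node (.node (.node (.node (.leaf 0) (.leaf 0)) (.leaf 1)) (.node (.leaf 0) (.leaf 2))) (.node (.node (.leaf 1) (.leaf 2)) (.node (.leaf 2) (.leaf 2)))) (.node (.node (.node (.leaf 0) (.leaf 0)) (.node (.leaf 2) (.leaf 1))) (.node (.node (.leaf 0) (.leaf 0)) (.node (.leaf 1) (.leaf 2))))))) (.node (.node (.node (.node (.node (.node (.node (.leaf 0) (.leaf 1)) (.leaf 0)) (.node (.leaf 0) (.leaf 1))) (.node (.node (.leaf 0) (.leaf 2)) (.node (.leaf 0) (.leaf 2)))) (.node (.node (.node (.leaf 0) (.leaf 0)) (.node (.leaf 0) (.leaf 2))) (.node (.node (.leaf 0) (.leaf 1)) (.node (.leaf 0) (.leaf 0))))) (.node (.node (.node (.node (.node (.leaf 0) (.leaf 0)) (.leaf 0)) (.node (.leaf 0) (.leaf 0))) (.node (.node (.leaf 2) (.leaf 1)) (.node (.leaf 2) (.leaf 1)))) (.node (.node (.node (.leaf 0) (.leaf 0)) (.node (.leaf 0) (.leaf 2))) (.node (.node (.leaf 0) (.leaf 2)) (.node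 (.leaf 0) (.leaf 2)))))) (.node (.node (.node (.node (.node (.node (.leaf 0) (.leaf 1)) (.leaf 0)) (.node (.leaf 0) (.leaf 2))) (.node (.node (.leaf 0) (.leaf 0)) (.node (.leaf 0) (.leaf 2)))) (.node (.node (.node (.leaf 0) (.leaf 0)) (.node (.leaf 0) (.leaf 0))) (.node (.node (.leaf 0) (.leaf 0)) (.node (.leaf 1) (.leaf 0))))) (.node (.node (.node (.node (.node (.leaf 0) (.leaf 2)) (.leaf 2)) (.node (.leaf 0) (.leaf 2))) (.node (.node (.leaf 0) (.leaf 0)) (.node (.leaf 0) (.leaf 0)))) (.node (.node (.node (.leaf 0) (.leaf 0)) (.node (.leaf 2) (.leaf 2))) (.node (.node (.leaf 0) (.leaf 0)) (.node (.leaf 2) (.leaf 0)))))))) (.node (.node (.node (.node (.node (.node (.node (.node (.leaf 0) (.leaf 1)) (.leaf 2)) (.node (.leaf 0) (.leaf 1))) (.node (.node (.leaf 0) (.leaf 0)) (.node (.leaf 0) (.leaf 2)))) (.node (.node (.node (.node (.leaf 0) (.leaf 2)) (.leaf 0)) (.node (.leaf 0) (.leaf 2))) (.node (.node (.leaf 0) (.leaf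 0)) (.node (.leaf 0) (.leaf 0))))) (.node (.node (.node (.node (.node (.leaf 2) (.leaf 0)) (.leaf 0)) (.node (.leaf 0) (.leaf 1))) (.node (.node (.leaf 0) (.leaf 1)) (.node (.leaf 0) (.leaf 0)))) (.node (.node (.node (.leaf 0) (.leaf 1)) (.node (.leaf 0) (.leaf 0))) (.node (.node (.leaf 2) (.leaf 1)) (.node (.leaf 0) (.leaf 2)))))) (.node (.node (.node (.node (.node (.node (.leaf 0) (.leaf 0)) (.leaf 2)) (.node (.leaf 2) (.leaf 1))) (.node (.node (.leaf 0) (.leaf 0)) (.node (.leaf 0) (.leaf 0)))) (.node (.node (.node (.leaf 0) (.leaf 2)) (.node (.leaf 2) (.leaf 0))) (.node (.node (.leaf 0) (.leaf 1)) (.node (.leaf 0) (.leaf 1))))) (.node (.node (.node (.node (.node (.leaf 0) (.leaf 1)) (.leaf 0)) (.node (.leaf 0) (.leaf 0))) (.node (.node (.leaf 0) (.leaf 0)) (.node (.leaf 0) (.leaf 0)))) (.node (.node (.node (.leaf 0) (.leaf 0)) (.node (.leaf 2) (.leaf 0))) (.node (.node (.leaf 0) (.leaf 2)) (.node (.leaf 0) (.leaf 2)))))))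 (.node (.node (.node (.node (.node (.node (.node (.leaf 0) (.leaf 0)) (.leaf 0)) (.node (.leaf 0) (.leaf 0))) (.node (.node (.leaf 0) (.leaf 1)) (.node (.leaf 0) (.leaf 1)))) (.node (.node (.node (.leaf 0) (.leaf 0)) (.node (.leaf 1) (.leaf 2))) (.node (.node (.leaf 0) (.leaf 0)) (.node (.leaf 2) (.leaf 2))))) (.node (.node (.node (.node (.node (.leaf 0) (.leaf 0)) (.leaf 0)) (.node (.leaf 0) (.leaf 0))) (.node (.node (.leaf 2) (.leaf 0)) (.node (.leaf 0) (.leaf 1)))) (.node (.node (.node (.leaf 0) (.leaf 1)) (.node (.leaf 0) (.leaf 0))) (.node (.node (.leaf 0) (.leaf 0)) (.node (.leaf 0) (.leaf 0)))))) (.node (.node (.node (.node (.node (.node (.leaf 0) (.leaf 0)) (.leaf 0)) (.node (.leaf 0) (.leaf 1))) (.node (.node (.leaf 0) (.leaf 0)) (.node (.leaf 0) (.leaf 1)))) (.node (.node (.node (.leaf 0) (.leaf 0)) (.node (.leaf 0) (.leaf 2))) (.node (.node (.leaf 0) (.leaf 1)) (.node (.leaf 2) (.leaf 2))))) (.node (.node (.node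 (.node (.node (.leaf 0) (.leaf 2)) (.leaf 0)) (.node (.leaf 0) (.leaf 1))) (.node (.node (.leaf 0) (.leaf 0)) (.node (.leaf 0) (.leaf 1)))) (.node (.node (.node (.leaf 0) (.leaf 2)) (.node (.leaf 0) (.leaf 0))) (.node (.node (.leaf 1) (.leaf 2)) (.node (.leaf 0) (.leaf 2)))))))))

def threeVal6 : Janko.Tree (ℕ) :=
  (.node (.node (.node (.node (.node (.node (.node (.node (.node (.leaf 0) (.leaf 0)) (.leaf 2)) (.node (.leaf 0) (.leaf 1))) (.node (.node (.leaf 0) (.leaf 2)) (.node (.leaf 2) (.leaf 2)))) (.node (.node (.node (.node (.leaf 0) (.leaf 2)) (.leaf 2)) (.node (.leaf 0) (.leaf 2))) (.node (.node (.leaf 2) (.leaf 1)) (.node (.leaf 0) (.leaf 1))))) (.node (.node (.node (.node (.node (.leaf 0) (.leaf 0)) (.leaf 0)) (.node (.leaf 0) (.leaf 2))) (.node (.node (.leaf 0) (.leaf 1)) (.node (.leaf 2) (.leaf 0)))) (.node (.node (.node (.leaf 0) (.leaf 2)) (.node (.leaf 0) (.leaf 0))) (.node (.node (.leaf 0) (.leaf 0)) (.node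 (.leaf 2) (.leaf 2)))))) (.node (.node (.node (.node (.node (.node (.leaf 0) (.leaf 2)) (.leaf 2)) (.node (.leaf 1) (.leaf 2))) (.node (.node (.leaf 1) (.leaf 0)) (.node (.leaf 0) (.leaf 2)))) (.node (.node (.node (.leaf 1) (.leaf 1)) (.node (.leaf 0) (.leaf 1))) (.node (.node (.leaf 0) (.leaf 2)) (.node (.leaf 0) (.leaf 2))))) (.node (.node (.node (.node (.node (.leaf 0) (.leaf 2)) (.leaf 0)) (.node (.leaf 0) (.leaf 1))) (.node (.node (.leaf 1) (.leaf 1)) (.node (.leaf 1) (.leaf 0)))) (.node (.node (.node (.leaf 2) (.leaf 1)) (.node (.leaf 1) (.leaf 0))) (.node (.node (.leaf 2) (.leaf 1)) (.node (.leaf 0) (.leaf 1))))))) (.node (.node (.node (.node (.node (.node (.node (.leaf 0) (.leaf 1)) (.leaf 0)) (.node (.leaf 2) (.leaf 2))) (.node (.node (.leaf 0) (.leaf 1)) (.node (.leaf 0) (.leaf 0)))) (.node (.node (.node (.leaf 1) (.leaf 0)) (.node (.leaf 2) (.leaf 0))) (.node (.node (.leaf 1) (.leaf 0)) (.node (.leaf 2) (.leaf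 0))))) (.node (.node (.node (.node (.node (.leaf 0) (.leaf 0)) (.leaf 2)) (.node (.leaf 0) (.leaf 0))) (.node (.node (.leaf 1) (.leaf 2)) (.node (.leaf 2) (.leaf 1)))) (.node (.node (.node (.leaf 1) (.leaf 0)) (.node (.leaf 2) (.leaf 0))) (.node (.node (.leaf 1) (.leaf 1)) (.node (.leaf 0) (.leaf 0)))))) (.node (.node (.node (.node (.node (.node (.leaf 2) (.leaf 1)) (.leaf 0)) (.node (.leaf 1) (.leaf 1))) (.node (.node (.leaf 1) (.leaf 0)) (.node (.leaf 2) (.leaf 0)))) (.node (.node (.node (.leaf 0) (.leaf 1)) (.node (.leaf 2) (.leaf 1))) (.node (.node (.leaf 0) (.leaf 0)) (.node (.leaf 2) (.leaf 2))))) (.node (.node (.node (.node (.node (.leaf 0) (.leaf 2)) (.leaf 0)) (.node (.leaf 0) (.leaf 2))) (.node (.node (.leaf 0) (.leaf 2)) (.node (.leaf 1) (.leaf 0)))) (.node (.node (.node (.leaf 0) (.leaf 2)) (.node (.leaf 0) (.leaf 0))) (.node (.node (.leaf 1) (.leaf 0)) (.node (.leaf 1) (.leaf 0)))))))) (.node (.node (.node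 (.node (.node (.node (.node (.node (.leaf 0) (.leaf 1)) (.leaf 1)) (.node (.leaf 1) (.leaf 1))) (.node (.node (.leaf 2) (.leaf 1)) (.node (.leaf 1) (.leaf 1)))) (.node (.node (.node (.leaf 1) (.leaf 2)) (.node (.leaf 0) (.leaf 0))) (.node (.node (.leaf 0) (.leaf 2)) (.node (.leaf 1) (.leaf 0))))) (.node (.node (.node (.node (.node (.leaf 0) (.leaf 1)) (.leaf 0)) (.node (.leaf 2) (.leaf 2))) (.node (.node (.leaf 2) (.leaf 0)) (.node (.leaf 0) (.leaf 0)))) (.node (.node (.node (.leaf 0) (.leaf 0)) (.node (.leaf 1) (.leaf 2))) (.node (.node (.leaf 0) (.leaf 2)) (.node (.leaf 1) (.leaf 2)))))) (.node (.node (.node (.node (.node (.node (.leaf 0) (.leaf 2)) (.leaf 0)) (.node (.leaf 2) (.leaf 1))) (.node (.node (.leaf 0) (.leaf 2)) (.node (.leaf 0) (.leaf 0)))) (.node (.node (.node (.leaf 0) (.leaf 0)) (.node (.leaf 0) (.leaf 1))) (.node (.node (.leaf 0) (.leaf 0)) (.node (.leaf 1) (.leaf 0))))) (.node (.node (.node (.node (.node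 (.leaf 0) (.leaf 2)) (.leaf 0)) (.node (.leaf 2) (.leaf 2))) (.node (.node (.leaf 2) (.leaf 0)) (.node (.leaf 1) (.leaf 2)))) (.node (.node (.node (.leaf 1) (.leaf 2)) (.node (.leaf 2) (.leaf 0))) (.node (.node (.leaf 0) (.leaf 0)) (.node (.leaf 2) (.leaf 2))))))) (.node (.node (.node (.node (.node (.node (.node (.leaf 0) (.leaf 0)) (.leaf 0)) (.node (.leaf 0) (.leaf 1))) (.node (.node (.leaf 1) (.leaf 2)) (.node (.leaf 1) (.leaf 2)))) (.node (.node (.node (.leaf 0) (.leaf 2)) (.node (.leaf 1) (.leaf 0))) (.node (.node (.leaf 0) (.leaf 1)) (.node (.leaf 0) (.leaf 1))))) (.node (.node (.node (.node (.node (.leaf 0) (.leaf 1)) (.leaf 2)) (.node (.leaf 1) (.leaf 0))) (.node (.node (.leaf 2) (.leaf 1)) (.node (.leaf 2) (.leaf 0)))) (.node (.node (.node (.leaf 0) (.leaf 1)) (.node (.leaf 2) (.leaf 1))) (.node (.node (.leaf 0) (.leaf 1)) (.node (.leaf 2) (.leaf 1)))))) (.node (.node (.node (.node (.node (.node (.leaf 0) (.leaf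 1)) (.leaf 1)) (.node (.leaf 0) (.leaf 1))) (.node (.node (.leaf 0) (.leaf 0)) (.node (.leaf 0) (.leaf 1)))) (.node (.node (.node (.leaf 0) (.leaf 0)) (.node (.leaf 1) (.leaf 2))) (.node (.node (.leaf 0) (.leaf 1)) (.node (.leaf 0) (.leaf 0))))) (.node (.node (.node (.node (.node (.leaf 0) (.leaf 2)) (.leaf 1)) (.node (.leaf 0) (.leaf 2))) (.node (.node (.leaf 0) (.leaf 2)) (.node (.leaf 2) (.leaf 0)))) (.node (.node (.node (.leaf 0) (.leaf 0)) (.node (.leaf 0) (.leaf 2))) (.node (.node (.leaf 0) (.leaf 0)) (.node (.leaf 0) (.leaf 1)))))))))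

def threeVal7 : Janko.Tree (ℕ) :=
  (.node (.node (.node (.node (.node (.node (.node (.node (.node (.leaf 0) (.leaf 2)) (.leaf 0)) (.node (.leaf 0) (.leaf 1))) (.node (.node (.leaf 0) (.leaf 0)) (.node (.leaf 2) (.leaf 0)))) (.node (.node (.node (.node (.leaf 0) (.leaf 0)) (.leaf 0)) (.node (.leaf 0) (.leaf 2))) (.node (.node (.leaf 1) (.leaf 2)) (.node (.leaf 2) (.leaf 2))))) (.node (.node (.node (.node (.node (.leaf 0) (.leaf 0)) (.leaf 1)) (.node (.leaf 0) (.leaf 1))) (.node (.node (.leaf 2) (.leaf 2)) (.node (.leaf 0) (.leaf 2)))) (.node (.node (.node (.leaf 0) (.leaf 0)) (.node (.leaf 0) (.leaf 2))) (.node (.node (.leaf 1) (.leaf 0)) (.node (.leaf 0) (.leaf 0)))))) (.node (.node (.node (.node (.node (.node (.leaf 0) (.leaf 0)) (.leaf 2)) (.node (.leaf 0) (.leaf 0))) (.node (.node (.leaf 0) (.leaf 1)) (.node (.leaf 0) (.leaf 1)))) (.node (.node (.node (.leaf 0) (.leaf 0)) (.node (.leaf 0) (.leaf 1))) (.node (.node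 (.leaf 0) (.leaf 0)) (.node (.leaf 1) (.leaf 1))))) (.node (.node (.node (.node (.node (.leaf 0) (.leaf 0)) (.leaf 2)) (.node (.leaf 2) (.leaf 0))) (.node (.node (.leaf 0) (.leaf 2)) (.node (.leaf 0) (.leaf 1)))) (.node (.node (.node (.leaf 0) (.leaf 0)) (.node (.leaf 2) (.leaf 0))) (.node (.node (.leaf 0) (.leaf 1)) (.node (.leaf 0) (.leaf 2))))))) (.node (.node (.node (.node (.node (.node (.node (.leaf 0) (.leaf 0)) (.leaf 2)) (.node (.leaf 0) (.leaf 0))) (.node (.node (.leaf 2) (.leaf 1)) (.node (.leaf 1) (.leaf 2)))) (.node (.node (.node (.leaf 0) (.leaf 0)) (.node (.leaf 2) (.leaf 0))) (.node (.node (.leaf 0) (.leaf 0)) (.node (.leaf 0) (.leaf 1))))) (.node (.node (.node (.node (.node (.leaf 0) (.leaf 1)) (.leaf 0)) (.node (.leaf 1) (.leaf 2))) (.node (.node (.leaf 0) (.leaf 2)) (.node (.leaf 1) (.leaf 2)))) (.node (.node (.node (.leaf 0) (.leaf 2)) (.node (.leaf 1) (.leaf 0))) (.node (.node (.leaf 0) (.leaf 2)) (.node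 (.leaf 0) (.leaf 2)))))) (.node (.node (.node (.node (.node (.node (.leaf 0) (.leaf 1)) (.leaf 1)) (.node (.leaf 2) (.leaf 0))) (.node (.node (.leaf 2) (.leaf 0)) (.node (.leaf 2) (.leaf 1)))) (.node (.node (.node (.leaf 0) (.leaf 1)) (.node (.leaf 0) (.leaf 0))) (.node (.node (.leaf 0) (.leaf 0)) (.node (.leaf 1) (.leaf 1))))) (.node (.node (.node (.node (.node (.leaf 0) (.leaf 2)) (.leaf 0)) (.node (.leaf 0) (.leaf 1))) (.node (.node (.leaf 0) (.leaf 0)) (.node (.leaf 2) (.leaf 0)))) (.node (.node (.node (.leaf 0) (.leaf 0)) (.node (.leaf 2) (.leaf 0))) (.node (.node (.leaf 0) (.leaf 2)) (.node (.leaf 0) (.leaf 0)))))))) (.node (.node (.node (.node (.node (.node (.node (.node (.leaf 0) (.leaf 1)) (.leaf 2)) (.node (.leaf 0) (.leaf 1))) (.node (.node (.leaf 0) (.leaf 2)) (.node (.leaf 0) (.leaf 0)))) (.node (.node (.node (.leaf 0) (.leaf 2)) (.node (.leaf 0) (.leaf 1))) (.node (.node (.leaf 2) (.leaf 0)) (.node (.leaf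 0) (.leaf 2))))) (.node (.node (.node (.node (.node (.leaf 0) (.leaf 0)) (.leaf 0)) (.node (.leaf 0) (.leaf 2))) (.node (.node (.leaf 0) (.leaf 0)) (.node (.leaf 2) (.leaf 0)))) (.node (.node (.node (.leaf 0) (.leaf 0)) (.node (.leaf 2) (.leaf 2))) (.node (.node (.leaf 2) (.leaf 0)) (.node (.leaf 0) (.leaf 1)))))) (.node (.node (.node (.node (.node (.node (.leaf 0) (.leaf 0)) (.leaf 0)) (.node (.leaf 0) (.leaf 0))) (.node (.node (.leaf 0) (.leaf 0)) (.node (.leaf 0) (.leaf 2)))) (.node (.node (.node (.leaf 0) (.leaf 0)) (.node (.leaf 0) (.leaf 0))) (.node (.node (.leaf 0) (.leaf 2)) (.node (.leaf 1) (.leaf 1))))) (.node (.node (.node (.node (.node (.leaf 2) (.leaf 1)) (.leaf 0)) (.node (.leaf 0) (.leaf 1))) (.node (.node (.leaf 0) (.leaf 0)) (.node (.leaf 2) (.leaf 0)))) (.node (.node (.node (.leaf 0) (.leaf 2)) (.node (.leaf 0) (.leaf 1))) (.node (.node (.leaf 0) (.leaf 2)) (.node (.leaf 0) (.leaf 2))))))) (.node (.node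 (.node (.node (.node (.node (.node (.leaf 0) (.leaf 0)) (.leaf 2)) (.node (.leaf 2) (.leaf 1))) (.node (.node (.leaf 0) (.leaf 1)) (.node (.leaf 0) (.leaf 0)))) (.node (.node (.node (.leaf 2) (.leaf 0)) (.node (.leaf 0) (.leaf 2))) (.node (.node (.leaf 0) (.leaf 2)) (.node (.leaf 2) (.leaf 1))))) (.node (.node (.node (.node (.node (.leaf 0) (.leaf 0)) (.leaf 2)) (.node (.leaf 0) (.leaf 2))) (.node (.node (.leaf 1) (.leaf 0)) (.node (.leaf 0) (.leaf 0)))) (.node (.node (.node (.leaf 0) (.leaf 0)) (.node (.leaf 0) (.leaf 1))) (.node (.node (.leaf 1) (.leaf 2)) (.node (.leaf 0) (.leaf 1)))))) (.node (.node (.node (.node (.node (.node (.leaf 0) (.leaf 0)) (.leaf 0)) (.node (.leaf 0) (.leaf 0))) (.node (.node (.leaf 0) (.leaf 0)) (.node (.leaf 0) (.leaf 1)))) (.node (.node (.node (.leaf 0) (.leaf 0)) (.node (.leaf 0) (.leaf 1))) (.node (.node (.leaf 0) (.leaf 0)) (.node (.leaf 1) (.leaf 0))))) (.node (.node (.node (.node (.node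 (.leaf 0) (.leaf 2)) (.leaf 2)) (.node (.leaf 0) (.leaf 2))) (.node (.node (.leaf 2) (.leaf 0)) (.node (.leaf 1) (.leaf 1)))) (.node (.node (.node (.leaf 0) (.leaf 0)) (.node (.leaf 2) (.leaf 2))) (.node (.node (.leaf 0) (.leaf 2)) (.node (.leaf 2) (.leaf 2)))))))))

def threeVal8 : Janko.Tree (ℕ) :=
  (.node (.node (.node (.node (.node (.node (.node (.node (.node (.leaf 0) (.leaf 0)) (.leaf 0)) (.node (.leaf 0) (.leaf 0))) (.node (.node (.leaf 0) (.leaf 0)) (.node (.leaf 2) (.leaf 0)))) (.node (.node (.node (.node (.leaf 0) (.leaf 2)) (.leaf 0)) (.node (.leaf 0) (.leaf 2))) (.node (.node (.leaf 1) (.leaf 0)) (.node (.leaf 0) (.leaf 0))))) (.node (.node (.node (.node (.node (.leaf 0) (.leaf 2)) (.leaf 0)) (.node (.leaf 0) (.leaf 0))) (.node (.node (.leaf 0) (.leaf 1)) (.node (.leaf 0) (.leaf 2)))) (.node (.node (.node (.leaf 0) (.leaf 1)) (.node (.leaf 0) (.leaf 0))) (.node (.node (.leaf 0) (.leaf 2)) (.node (.leaf 0) (.leaf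 0)))))) (.node (.node (.node (.node (.node (.node (.leaf 0) (.leaf 2)) (.leaf 1)) (.node (.leaf 0) (.leaf 1))) (.node (.node (.leaf 0) (.leaf 0)) (.node (.leaf 2) (.leaf 2)))) (.node (.node (.node (.leaf 0) (.leaf 1)) (.node (.leaf 0) (.leaf 2))) (.node (.node (.leaf 0) (.leaf 0)) (.node (.leaf 1) (.leaf 2))))) (.node (.node (.node (.node (.node (.leaf 0) (.leaf 2)) (.leaf 1)) (.node (.leaf 2) (.leaf 2))) (.node (.node (.leaf 2) (.leaf 2)) (.node (.leaf 0) (.leaf 1)))) (.node (.node (.node (.leaf 2) (.leaf 1)) (.node (.leaf 1) (.leaf 0))) (.node (.node (.leaf 0) (.leaf 0)) (.node (.leaf 2) (.leaf 2))))))) (.node (.node (.node (.node (.node (.node (.node (.leaf 0) (.leaf 0)) (.leaf 1)) (.node (.leaf 1) (.leaf 2))) (.node (.node (.leaf 1) (.leaf 2)) (.node (.leaf 0) (.leaf 0)))) (.node (.node (.node (.leaf 0) (.leaf 1)) (.node (.leaf 2) (.leaf 1))) (.node (.node (.leaf 0) (.leaf 0)) (.node (.leaf 2) (.leaf 0))))) (.node (.node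 (.node (.node (.node (.leaf 2) (.leaf 0)) (.leaf 0)) (.node (.leaf 0) (.leaf 0))) (.node (.node (.leaf 1) (.leaf 1)) (.node (.leaf 2) (.leaf 1)))) (.node (.node (.node (.leaf 0) (.leaf 0)) (.node (.leaf 1) (.leaf 2))) (.node (.node (.leaf 0) (.leaf 1)) (.node (.leaf 0) (.leaf 2)))))) (.node (.node (.node (.node (.node (.node (.leaf 0) (.leaf 0)) (.leaf 0)) (.node (.leaf 1) (.leaf 2))) (.node (.node (.leaf 0) (.leaf 2)) (.node (.leaf 2) (.leaf 2)))) (.node (.node (.node (.leaf 0) (.leaf 1)) (.node (.leaf 2) (.leaf 0))) (.node (.node (.leaf 0) (.leaf 0)) (.node (.leaf 0) (.leaf 2))))) (.node (.node (.node (.node (.node (.leaf 0) (.leaf 2)) (.leaf 2)) (.node (.leaf 0) (.leaf 2))) (.node (.node (.leaf 0) (.leaf 0)) (.node (.leaf 2) (.leaf 1)))) (.node (.node (.node (.leaf 0) (.leaf 0)) (.node (.leaf 2) (.leaf 1))) (.node (.node (.leaf 0) (.leaf 0)) (.node (.leaf 0) (.leaf 0)))))))) (.node (.node (.node (.node (.node (.node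 (.node (.node (.leaf 0) (.leaf 1)) (.leaf 1)) (.node (.leaf 0) (.leaf 2))) (.node (.node (.leaf 0) (.leaf 2)) (.node (.leaf 1) (.leaf 0)))) (.node (.node (.node (.leaf 0) (.leaf 2)) (.node (.leaf 0) (.leaf 0))) (.node (.node (.leaf 1) (.leaf 0)) (.node (.leaf 2) (.leaf 2))))) (.node (.node (.node (.node (.node (.leaf 1) (.leaf 0)) (.leaf 0)) (.node (.leaf 2) (.leaf 1))) (.node (.node (.leaf 2) (.leaf 2)) (.node (.leaf 2) (.leaf 2)))) (.node (.node (.node (.leaf 0) (.leaf 2)) (.node (.leaf 0) (.leaf 0))) (.node (.node (.leaf 0) (.leaf 2)) (.node (.leaf 2) (.leaf 2)))))) (.node (.node (.node (.node (.node (.node (.leaf 0) (.leaf 0)) (.leaf 2)) (.node (.leaf 2) (.leaf 2))) (.node (.node (.leaf 0) (.leaf 1)) (.node (.leaf 0) (.leaf 1)))) (.node (.node (.node (.leaf 0) (.leaf 1)) (.node (.leaf 0) (.leaf 1))) (.node (.node (.leaf 0) (.leaf 2)) (.node (.leaf 2) (.leaf 1))))) (.node (.node (.node (.node (.node (.leaf 2) (.leaf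 0)) (.leaf 1)) (.node (.leaf 0) (.leaf 2))) (.node (.node (.leaf 0) (.leaf 0)) (.node (.leaf 0) (.leaf 0)))) (.node (.node (.node (.leaf 0) (.leaf 0)) (.node (.leaf 2) (.leaf 0))) (.node (.node (.leaf 2) (.leaf 0)) (.node (.leaf 0) (.leaf 0))))))) (.node (.node (.node (.node (.node (.node (.node (.leaf 0) (.leaf 0)) (.leaf 0)) (.node (.leaf 2) (.leaf 0))) (.node (.node (.leaf 0) (.leaf 0)) (.node (.leaf 1) (.leaf 0)))) (.node (.node (.node (.leaf 2) (.leaf 0)) (.node (.leaf 1) (.leaf 2))) (.node (.node (.leaf 0) (.leaf 1)) (.node (.leaf 0) (.leaf 1))))) (.node (.node (.node (.node (.node (.leaf 0) (.leaf 0)) (.leaf 2)) (.node (.leaf 1) (.leaf 0))) (.node (.node (.leaf 0) (.leaf 2)) (.node (.leaf 0) (.leaf 0)))) (.node (.node (.node (.leaf 0) (.leaf 2)) (.node (.leaf 2) (.leaf 1))) (.node (.node (.leaf 0) (.leaf 0)) (.node (.leaf 2) (.leaf 2)))))) (.node (.node (.node (.node (.node (.node (.leaf 0) (.leaf 0)) (.leaf 1))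 (.node (.leaf 0) (.leaf 1))) (.node (.node (.leaf 2) (.leaf 2)) (.node (.leaf 1) (.leaf 2)))) (.node (.node (.node (.leaf 0) (.leaf 0)) (.node (.leaf 0) (.leaf 1))) (.node (.node (.leaf 0) (.leaf 2)) (.node (.leaf 0) (.leaf 1))))) (.node (.node (.node (.node (.node (.leaf 1) (.leaf 0)) (.leaf 0)) (.node (.leaf 2) (.leaf 2))) (.node (.node (.leaf 0) (.leaf 1)) (.node (.leaf 2) (.leaf 0)))) (.node (.node (.node (.leaf 0) (.leaf 2)) (.node (.leaf 0) (.leaf 2))) (.node (.node (.leaf 1) (.leaf 0)) (.node (.leaf 0) (.leaf 2)))))))))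

def threeVal9 : Janko.Tree (ℕ) :=
  (.node (.node (.node (.node (.node (.node (.node (.node (.node (.leaf 0) (.leaf 1)) (.leaf 2)) (.node (.leaf 0) (.leaf 1))) (.node (.node (.leaf 0) (.leaf 0)) (.node (.leaf 0) (.leaf 0)))) (.node (.node (.node (.node (.leaf 0) (.leaf 2)) (.leaf 1)) (.node (.leaf 0) (.leaf 2))) (.node (.node (.leaf 0) (.leaf 1)) (.node (.leaf 0) (.leaf 0))))) (.node (.node (.node (.node (.node (.leaf 0) (.leaf 2)) (.leaf 0)) (.node (.leaf 0) (.leaf 2))) (.node (.node (.leaf 0) (.leaf 0)) (.node (.leaf 0) (.leaf 2)))) (.node (.node (.node (.leaf 0) (.leaf 1)) (.node (.leaf 0) (.leaf 2))) (.node (.node (.leaf 0) (.leaf 0)) (.node (.leaf 0) (.leaf 2)))))) (.node (.node (.node (.node (.node (.node (.leaf 0) (.leaf 1)) (.leaf 2)) (.node (.leaf 2) (.leaf 0))) (.node (.node (.leaf 0) (.leaf 0)) (.node (.leaf 2) (.leaf 0)))) (.node (.node (.node (.leaf 2) (.leaf 0)) (.node (.leaf 2) (.leaf 2))) (.node (.node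 (.leaf 0) (.leaf 2)) (.node (.leaf 1) (.leaf 1))))) (.node (.node (.node (.node (.node (.leaf 0) (.leaf 1)) (.leaf 2)) (.node (.leaf 0) (.leaf 0))) (.node (.node (.leaf 2) (.leaf 0)) (.node (.leaf 2) (.leaf 2)))) (.node (.node (.node (.leaf 0) (.leaf 0)) (.node (.leaf 0) (.leaf 2))) (.node (.node (.leaf 0) (.leaf 0)) (.node (.leaf 0) (.leaf 1))))))) (.node (.node (.node (.node (.node (.node (.node (.leaf 0) (.leaf 0)) (.leaf 1)) (.node (.leaf 2) (.leaf 0))) (.node (.node (.leaf 0) (.leaf 0)) (.node (.leaf 0) (.leaf 1)))) (.node (.node (.node (.leaf 0) (.leaf 1)) (.node (.leaf 1) (.leaf 2))) (.node (.node (.leaf 2) (.leaf 2)) (.node (.leaf 2) (.leaf 2))))) (.node (.node (.node (.node (.node (.leaf 0) (.leaf 0)) (.leaf 2)) (.node (.leaf 0) (.leaf 1))) (.node (.node (.leaf 2) (.leaf 2)) (.node (.leaf 2) (.leaf 0)))) (.node (.node (.node (.leaf 0) (.leaf 0)) (.node (.leaf 0) (.leaf 0))) (.node (.node (.leaf 0) (.leaf 1)) (.node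 (.leaf 2) (.leaf 0)))))) (.node (.node (.node (.node (.node (.node (.leaf 0) (.leaf 1)) (.leaf 0)) (.node (.leaf 0) (.leaf 0))) (.node (.node (.leaf 2) (.leaf 0)) (.node (.leaf 0) (.leaf 0)))) (.node (.node (.node (.leaf 0) (.leaf 0)) (.node (.leaf 0) (.leaf 1))) (.node (.node (.leaf 1) (.leaf 2)) (.node (.leaf 0) (.leaf 2))))) (.node (.node (.node (.node (.node (.leaf 0) (.leaf 1)) (.leaf 0)) (.node (.leaf 0) (.leaf 2))) (.node (.node (.leaf 0) (.leaf 0)) (.node (.leaf 2) (.leaf 0)))) (.node (.node (.node (.leaf 0) (.leaf 1)) (.node (.leaf 0) (.leaf 2))) (.node (.node (.leaf 1) (.leaf 1)) (.node (.leaf 0) (.leaf 2)))))))) (.node (.node (.node (.node (.node (.node (.node (.node (.leaf 0) (.leaf 1)) (.leaf 0)) (.node (.leaf 0) (.leaf 0))) (.node (.node (.leaf 0) (.leaf 2)) (.node (.leaf 0) (.leaf 0)))) (.node (.node (.node (.leaf 1) (.leaf 1)) (.node (.leaf 0) (.leaf 0))) (.node (.node (.leaf 0) (.leaf 2)) (.node (.leaf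 1) (.leaf 0))))) (.node (.node (.node (.node (.node (.leaf 0) (.leaf 1)) (.leaf 0)) (.node (.leaf 0) (.leaf 0))) (.node (.node (.leaf 0) (.leaf 0)) (.node (.leaf 1) (.leaf 0)))) (.node (.node (.node (.leaf 0) (.leaf 2)) (.node (.leaf 2) (.leaf 1))) (.node (.node (.leaf 0) (.leaf 1)) (.node (.leaf 0) (.leaf 0)))))) (.node (.node (.node (.node (.node (.node (.leaf 0) (.leaf 1)) (.leaf 2)) (.node (.leaf 0) (.leaf 0))) (.node (.node (.leaf 0) (.leaf 0)) (.node (.leaf 0) (.leaf 1)))) (.node (.node (.node (.leaf 1) (.leaf 0)) (.node (.leaf 0) (.leaf 1))) (.node (.node (.leaf 0) (.leaf 2)) (.node (.leaf 0) (.leaf 0))))) (.node (.node (.node (.node (.node (.leaf 0) (.leaf 2)) (.leaf 0)) (.node (.leaf 0) (.leaf 2))) (.node (.node (.leaf 2) (.leaf 1)) (.node (.leaf 0) (.leaf 0)))) (.node (.node (.node (.leaf 2) (.leaf 1)) (.node (.leaf 0) (.leaf 0))) (.node (.node (.leaf 0) (.leaf 0)) (.node (.leaf 1) (.leaf 2))))))) (.node (.node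 (.node (.node (.node (.node (.node (.leaf 0) (.leaf 1)) (.leaf 0)) (.node (.leaf 0) (.leaf 1))) (.node (.node (.leaf 0) (.leaf 0)) (.node (.leaf 0) (.leaf 2)))) (.node (.node (.node (.leaf 0) (.leaf 0)) (.node (.leaf 2) (.leaf 1))) (.node (.node (.leaf 1) (.leaf 2)) (.node (.leaf 1) (.leaf 0))))) (.node (.node (.node (.node (.node (.leaf 0) (.leaf 1)) (.leaf 1)) (.node (.leaf 0) (.leaf 0))) (.node (.node (.leaf 0) (.leaf 1)) (.node (.leaf 2) (.leaf 0)))) (.node (.node (.node (.leaf 0) (.leaf 2)) (.node (.leaf 0) (.leaf 0))) (.node (.node (.leaf 0) (.leaf 1)) (.node (.leaf 0) (.leaf 2)))))) (.node (.node (.node (.node (.node (.node (.leaf 0) (.leaf 0)) (.leaf 0)) (.node (.leaf 0) (.leaf 1))) (.node (.node (.leaf 0) (.leaf 0)) (.node (.leaf 0) (.leaf 1)))) (.node (.node (.node (.leaf 0) (.leaf 2)) (.node (.leaf 0) (.leaf 1))) (.node (.node (.leaf 0) (.leaf 0)) (.node (.leaf 0) (.leaf 1))))) (.node (.node (.node (.node (.node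 (.leaf 0) (.leaf 1)) (.leaf 2)) (.node (.leaf 0) (.leaf 1))) (.node (.node (.leaf 0) (.leaf 2)) (.node (.leaf 2) (.leaf 2)))) (.node (.node (.node (.leaf 0) (.leaf 0)) (.node (.leaf 0) (.leaf 2))) (.node (.node (.leaf 0) (.leaf 2)) (.node (.leaf 0) (.leaf 0)))))))))

def threeVal10 : Janko.Tree (ℕ) :=
  (.node (.node (.node (.node (.node (.node (.node (.node (.node (.leaf 0) (.leaf 2)) (.leaf 2)) (.node (.leaf 0) (.leaf 2))) (.node (.node (.leaf 0) (.leaf 2)) (.node (.leaf 1) (.leaf 1)))) (.node (.node (.node (.node (.leaf 0) (.leaf 1)) (.leaf 0)) (.node (.leaf 2) (.leaf 2))) (.node (.node (.leaf 0) (.leaf 2)) (.node (.leaf 1) (.leaf 0))))) (.node (.node (.node (.node (.node (.leaf 0) (.leaf 1)) (.leaf 2)) (.node (.leaf 0) (.leaf 0))) (.node (.node (.leaf 2) (.leaf 0)) (.node (.leaf 0) (.leaf 0)))) (.node (.node (.node (.leaf 0) (.leaf 0)) (.node (.leaf 2) (.leaf 1))) (.node (.node (.leaf 0) (.leaf 0)) (.node (.leaf 0)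 (.leaf 0)))))) (.node (.node (.node (.node (.node (.node (.leaf 0) (.leaf 2)) (.leaf 1)) (.node (.leaf 1) (.leaf 1))) (.node (.node (.leaf 0) (.leaf 2)) (.node (.leaf 1) (.leaf 2)))) (.node (.node (.node (.leaf 1) (.leaf 1)) (.node (.leaf 0) (.leaf 1))) (.node (.node (.leaf 0) (.leaf 0)) (.node (.leaf 1) (.leaf 2))))) (.node (.node (.node (.node (.node (.leaf 0) (.leaf 1)) (.leaf 1)) (.node (.leaf 1) (.leaf 2))) (.node (.node (.leaf 1) (.leaf 1)) (.node (.leaf 0) (.leaf 1)))) (.node (.node (.node (.leaf 1) (.leaf 0)) (.node (.leaf 0) (.leaf 0))) (.node (.node (.leaf 0) (.leaf 0)) (.node (.leaf 1) (.leaf 1))))))) (.node (.node (.node (.node (.node (.node (.node (.leaf 0) (.leaf 0)) (.leaf 1)) (.node (.leaf 2) (.leaf 1))) (.node (.node (.leaf 1) (.leaf 0)) (.node (.leaf 2) (.leaf 2)))) (.node (.node (.node (.leaf 0) (.leaf 1)) (.node (.leaf 1) (.leaf 1))) (.node (.node (.leaf 1) (.leaf 2)) (.node (.leaf 1) (.leaf 0))))) (.node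 (.node (.node (.node (.node (.leaf 1) (.leaf 0)) (.leaf 0)) (.node (.leaf 2) (.leaf 1))) (.node (.node (.leaf 2) (.leaf 0)) (.node (.leaf 1) (.leaf 1)))) (.node (.node (.node (.leaf 2) (.leaf 1)) (.node (.leaf 2) (.leaf 2))) (.node (.node (.leaf 2) (.leaf 2)) (.node (.leaf 1) (.leaf 0)))))) (.node (.node (.node (.node (.node (.node (.leaf 0) (.leaf 2)) (.leaf 2)) (.node (.leaf 0) (.leaf 0))) (.node (.node (.leaf 0) (.leaf 1)) (.node (.leaf 0) (.leaf 2)))) (.node (.node (.node (.leaf 0) (.leaf 0)) (.node (.leaf 0) (.leaf 1))) (.node (.node (.leaf 0) (.leaf 2)) (.node (.leaf 0) (.leaf 1))))) (.node (.node (.node (.node (.node (.leaf 0) (.leaf 0)) (.leaf 0)) (.node (.leaf 0) (.leaf 2))) (.node (.node (.leaf 0) (.leaf 0)) (.node (.leaf 0) (.leaf 0)))) (.node (.node (.node (.leaf 0) (.leaf 0)) (.node (.leaf 0) (.leaf 0))) (.node (.node (.leaf 1) (.leaf 2)) (.node (.leaf 0) (.leaf 1)))))))) (.node (.node (.node (.node (.node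 (.node (.node (.node (.leaf 1) (.leaf 1)) (.leaf 0)) (.node (.leaf 0) (.leaf 0))) (.node (.node (.leaf 0) (.leaf 0)) (.node (.leaf 2) (.leaf 0)))) (.node (.node (.node (.leaf 2) (.leaf 0)) (.node (.leaf 0) (.leaf 1))) (.node (.node (.leaf 2) (.leaf 0)) (.node (.leaf 0) (.leaf 0))))) (.node (.node (.node (.node (.node (.leaf 0) (.leaf 2)) (.leaf 2)) (.node (.leaf 0) (.leaf 1))) (.node (.node (.leaf 2) (.leaf 0)) (.node (.leaf 0) (.leaf 2)))) (.node (.node (.node (.leaf 0) (.leaf 0)) (.node (.leaf 2) (.leaf 2))) (.node (.node (.leaf 2) (.leaf 0)) (.node (.leaf 0) (.leaf 2)))))) (.node (.node (.node (.node (.node (.node (.leaf 0) (.leaf 2)) (.leaf 0)) (.node (.leaf 0) (.leaf 1))) (.node (.node (.leaf 0) (.leaf 1)) (.node (.leaf 2) (.leaf 2)))) (.node (.node (.node (.leaf 0) (.leaf 2)) (.node (.leaf 0) (.leaf 1))) (.node (.node (.leaf 0) (.leaf 0)) (.node (.leaf 2) (.leaf 1))))) (.node (.node (.node (.node (.node (.leaf 0)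 (.leaf 1)) (.leaf 2)) (.node (.leaf 2) (.leaf 2))) (.node (.node (.leaf 0) (.leaf 2)) (.node (.leaf 1) (.leaf 0)))) (.node (.node (.node (.leaf 1) (.leaf 1)) (.node (.leaf 1) (.leaf 1))) (.node (.node (.leaf 0) (.leaf 2)) (.node (.leaf 1) (.leaf 2))))))) (.node (.node (.node (.node (.node (.node (.node (.leaf 0) (.leaf 0)) (.leaf 2)) (.node (.leaf 2) (.leaf 1))) (.node (.node (.leaf 2) (.leaf 0)) (.node (.leaf 0) (.leaf 2)))) (.node (.node (.node (.leaf 1) (.leaf 0)) (.node (.leaf 1) (.leaf 2))) (.node (.node (.leaf 0) (.leaf 1)) (.node (.leaf 1) (.leaf 0))))) (.node (.node (.node (.node (.node (.leaf 2) (.leaf 0)) (.leaf 2)) (.node (.leaf 1) (.leaf 2))) (.node (.node (.leaf 1) (.leaf 1)) (.node (.leaf 2) (.leaf 1)))) (.node (.node (.node (.leaf 0) (.leaf 2)) (.node (.leaf 2) (.leaf 0))) (.node (.node (.leaf 0) (.leaf 0)) (.node (.leaf 1) (.leaf 0)))))) (.node (.node (.node (.node (.node (.node (.leaf 0) (.leaf 2)) (.leaf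 0)) (.node (.leaf 2) (.leaf 2))) (.node (.node (.leaf 0) (.leaf 0)) (.node (.leaf 2) (.leaf 0)))) (.node (.node (.node (.leaf 0) (.leaf 2)) (.node (.leaf 0) (.leaf 1))) (.node (.node (.leaf 0) (.leaf 2)) (.node (.leaf 0) (.leaf 2))))) (.node (.node (.node (.node (.node (.leaf 2) (.leaf 2)) (.leaf 2)) (.node (.leaf 0) (.leaf 0))) (.node (.node (.leaf 0) (.leaf 0)) (.node (.leaf 2) (.leaf 1)))) (.node (.node (.node (.leaf 0) (.leaf 2)) (.node (.leaf 2) (.leaf 0))) (.node (.node (.leaf 0) (.leaf 0)) (.node (.leaf 0) (.leaf 2)))))))))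

def threeVal11 : Janko.Tree (ℕ) :=
  (.node (.node (.node (.node (.node (.node (.node (.node (.node (.leaf 0) (.leaf 0)) (.leaf 0)) (.node (.leaf 0) (.leaf 1))) (.node (.node (.leaf 0) (.leaf 2)) (.node (.leaf 0) (.leaf 1)))) (.node (.node (.node (.node (.leaf 0) (.leaf 0)) (.leaf 2)) (.node (.leaf 2) (.leaf 2))) (.node (.node (.leaf 1) (.leaf 0)) (.node (.leaf 0) (.leaf 0))))) (.node (.node (.node (.node (.node (.leaf 0) (.leaf 2)) (.leaf 2)) (.node (.leaf 0) (.leaf 0))) (.node (.node (.leaf 0) (.leaf 1)) (.node (.leaf 0) (.leaf 1)))) (.node (.node (.node (.leaf 0) (.leaf 1)) (.node (.leaf 0) (.leaf 1))) (.node (.node (.leaf 0) (.leaf 2)) (.node (.leaf 0) (.leaf 1)))))) (.node (.node (.node (.node (.node (.node (.leaf 0) (.leaf 1)) (.leaf 0)) (.node (.leaf 0) (.leaf 1))) (.node (.node (.leaf 0) (.leaf 2)) (.node (.leaf 0) (.leaf 1)))) (.node (.node (.node (.leaf 0) (.leaf 1)) (.node (.leaf 0) (.leaf 0))) (.node (.node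 (.leaf 0) (.leaf 0)) (.node (.leaf 2) (.leaf 1))))) (.node (.node (.node (.node (.node (.leaf 0) (.leaf 0)) (.leaf 0)) (.node (.leaf 2) (.leaf 2))) (.node (.node (.leaf 0) (.leaf 2)) (.node (.leaf 0) (.leaf 0)))) (.node (.node (.node (.leaf 0) (.leaf 2)) (.node (.leaf 0) (.leaf 0))) (.node (.node (.leaf 0) (.leaf 0)) (.node (.leaf 0) (.leaf 1))))))) (.node (.node (.node (.node (.node (.node (.node (.leaf 0) (.leaf 0)) (.leaf 0)) (.node (.leaf 0) (.leaf 0))) (.node (.node (.leaf 0) (.leaf 2)) (.node (.leaf 2) (.leaf 1)))) (.node (.node (.node (.leaf 2) (.leaf 0)) (.node (.leaf 2) (.leaf 2))) (.node (.node (.leaf 0) (.leaf 0)) (.node (.leaf 1) (.leaf 1))))) (.node (.node (.node (.node (.node (.leaf 0) (.leaf 0)) (.leaf 0)) (.node (.leaf 2) (.leaf 0))) (.node (.node (.leaf 1) (.leaf 0)) (.node (.leaf 0) (.leaf 1)))) (.node (.node (.node (.leaf 0) (.leaf 2)) (.node (.leaf 1) (.leaf 0))) (.node (.node (.leaf 0) (.leaf 1)) (.node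 (.leaf 2) (.leaf 2)))))) (.node (.node (.node (.node (.node (.node (.leaf 0) (.leaf 2)) (.leaf 0)) (.node (.leaf 2) (.leaf 2))) (.node (.node (.leaf 0) (.leaf 2)) (.node (.leaf 2) (.leaf 0)))) (.node (.node (.node (.leaf 0) (.leaf 1)) (.node (.leaf 0) (.leaf 2))) (.node (.node (.leaf 0) (.leaf 0)) (.node (.leaf 0) (.leaf 0))))) (.node (.node (.node (.node (.node (.leaf 0) (.leaf 2)) (.leaf 0)) (.node (.leaf 0) (.leaf 0))) (.node (.node (.leaf 2) (.leaf 0)) (.node (.leaf 0) (.leaf 1)))) (.node (.node (.node (.leaf 0) (.leaf 0)) (.node (.leaf 0) (.leaf 2))) (.node (.node (.leaf 0) (.leaf 0)) (.node (.leaf 0) (.leaf 1)))))))) (.node (.node (.node (.node (.node (.node (.node (.node (.leaf 0) (.leaf 0)) (.leaf 2)) (.node (.leaf 0) (.leaf 0))) (.node (.node (.leaf 0) (.leaf 0)) (.node (.leaf 0) (.leaf 0)))) (.node (.node (.node (.leaf 0) (.leaf 2)) (.node (.leaf 0) (.leaf 0))) (.node (.node (.leaf 0) (.leaf 0)) (.node (.leaf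 0) (.leaf 2))))) (.node (.node (.node (.node (.node (.leaf 0) (.leaf 0)) (.leaf 0)) (.node (.leaf 0) (.leaf 0))) (.node (.node (.leaf 2) (.leaf 2)) (.node (.leaf 2) (.leaf 0)))) (.node (.node (.node (.leaf 0) (.leaf 2)) (.node (.leaf 0) (.leaf 1))) (.node (.node (.leaf 0) (.leaf 1)) (.node (.leaf 0) (.leaf 2)))))) (.node (.node (.node (.node (.node (.node (.leaf 0) (.leaf 1)) (.leaf 0)) (.node (.leaf 2) (.leaf 1))) (.node (.node (.leaf 0) (.leaf 2)) (.node (.leaf 0) (.leaf 0)))) (.node (.node (.node (.leaf 0) (.leaf 0)) (.node (.leaf 1) (.leaf 2))) (.node (.node (.leaf 0) (.leaf 2)) (.node (.leaf 2) (.leaf 0))))) (.node (.node (.node (.node (.node (.leaf 0) (.leaf 1)) (.leaf 0)) (.node (.leaf 0) (.leaf 1))) (.node (.node (.leaf 0) (.leaf 0)) (.node (.leaf 0) (.leaf 0)))) (.node (.node (.node (.leaf 0) (.leaf 2)) (.node (.leaf 2) (.leaf 0))) (.node (.node (.leaf 0) (.leaf 2)) (.node (.leaf 1) (.leaf 0))))))) (.node (.node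 (.node (.node (.node (.node (.node (.leaf 0) (.leaf 0)) (.leaf 0)) (.node (.leaf 2) (.leaf 0))) (.node (.node (.leaf 0) (.leaf 2)) (.node (.leaf 2) (.leaf 0)))) (.node (.node (.node (.leaf 0) (.leaf 0)) (.node (.leaf 0) (.leaf 2))) (.node (.node (.leaf 0) (.leaf 1)) (.node (.leaf 0) (.leaf 1))))) (.node (.node (.node (.node (.node (.leaf 0) (.leaf 0)) (.leaf 2)) (.node (.leaf 2) (.leaf 0))) (.node (.node (.leaf 2) (.leaf 2)) (.node (.leaf 1) (.leaf 0)))) (.node (.node (.node (.leaf 2) (.leaf 0)) (.node (.leaf 0) (.leaf 0))) (.node (.node (.leaf 0) (.leaf 2)) (.node (.leaf 0) (.leaf 0)))))) (.node (.node (.node (.node (.node (.node (.leaf 0) (.leaf 1)) (.leaf 0)) (.node (.leaf 0) (.leaf 2))) (.node (.node (.leaf 0) (.leaf 0)) (.node (.leaf 0) (.leaf 2)))) (.node (.node (.node (.leaf 0) (.leaf 2)) (.node (.leaf 2) (.leaf 1))) (.node (.node (.leaf 0) (.leaf 1)) (.node (.leaf 0) (.leaf 2))))) (.node (.node (.node (.node (.node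 (.leaf 0) (.leaf 1)) (.leaf 0)) (.node (.leaf 0) (.leaf 2))) (.node (.node (.leaf 0) (.leaf 0)) (.node (.leaf 0) (.leaf 0)))) (.node (.node (.node (.leaf 0) (.leaf 1)) (.node (.leaf 0) (.leaf 0))) (.node (.node (.leaf 2) (.leaf 1)) (.node (.leaf 0) (.leaf 2)))))))))

def threeVal12 : Janko.Tree (ℕ) :=
  (.node (.node (.node (.node (.node (.node (.node (.node (.node (.leaf 0) (.leaf 2)) (.leaf 2)) (.node (.leaf 0) (.leaf 0))) (.node (.node (.leaf 0) (.leaf 0)) (.node (.leaf 2) (.leaf 1)))) (.node (.node (.node (.node (.leaf 0) (.leaf 0)) (.leaf 0)) (.node (.leaf 1) (.leaf 1))) (.node (.node (.leaf 2) (.leaf 1)) (.node (.leaf 1) (.leaf 0))))) (.node (.node (.node (.node (.node (.leaf 0) (.leaf 0)) (.leaf 0)) (.node (.leaf 0) (.leaf 1))) (.node (.node (.leaf 0) (.leaf 1)) (.node (.leaf 2) (.leaf 1)))) (.node (.node (.node (.leaf 0) (.leaf 2)) (.node (.leaf 2) (.leaf 2))) (.node (.node (.leaf 0) (.leaf 0)) (.node (.leaf 0)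 (.leaf 1)))))) (.node (.node (.node (.node (.node (.node (.leaf 0) (.leaf 2)) (.leaf 2)) (.node (.leaf 2) (.leaf 0))) (.node (.node (.leaf 2) (.leaf 1)) (.node (.leaf 0) (.leaf 1)))) (.node (.node (.node (.leaf 0) (.leaf 1)) (.node (.leaf 2) (.leaf 1))) (.node (.node (.leaf 0) (.leaf 2)) (.node (.leaf 2) (.leaf 1))))) (.node (.node (.node (.node (.node (.leaf 0) (.leaf 1)) (.leaf 0)) (.node (.leaf 0) (.leaf 0))) (.node (.node (.leaf 1) (.leaf 1)) (.node (.leaf 2) (.leaf 0)))) (.node (.node (.node (.leaf 2) (.leaf 0)) (.node (.leaf 0) (.leaf 2))) (.node (.node (.leaf 0) (.leaf 1)) (.node (.leaf 0) (.leaf 2))))))) (.node (.node (.node (.node (.node (.node (.node (.leaf 0) (.leaf 1)) (.leaf 0)) (.node (.leaf 2) (.leaf 0))) (.node (.node (.leaf 0) (.leaf 1)) (.node (.leaf 1) (.leaf 0)))) (.node (.node (.node (.leaf 0) (.leaf 0)) (.node (.leaf 2) (.leaf 1))) (.node (.node (.leaf 0) (.leaf 2)) (.node (.leaf 0) (.leaf 2))))) (.node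 (.node (.node (.node (.node (.leaf 0) (.leaf 1)) (.leaf 1)) (.node (.leaf 1) (.leaf 2))) (.node (.node (.leaf 2) (.leaf 1)) (.node (.leaf 1) (.leaf 1)))) (.node (.node (.node (.leaf 0) (.leaf 1)) (.node (.leaf 0) (.leaf 0))) (.node (.node (.leaf 0) (.leaf 0)) (.node (.leaf 0) (.leaf 0)))))) (.node (.node (.node (.node (.node (.node (.leaf 0) (.leaf 1)) (.leaf 1)) (.node (.leaf 0) (.leaf 1))) (.node (.node (.leaf 2) (.leaf 1)) (.node (.leaf 1) (.leaf 1)))) (.node (.node (.node (.leaf 0) (.leaf 1)) (.node (.leaf 1) (.leaf 0))) (.node (.node (.leaf 0) (.leaf 0)) (.node (.leaf 2) (.leaf 1))))) (.node (.node (.node (.node (.node (.leaf 0) (.leaf 2)) (.leaf 0)) (.node (.leaf 0) (.leaf 2))) (.node (.node (.leaf 0) (.leaf 1)) (.node (.leaf 1) (.leaf 0)))) (.node (.node (.node (.leaf 0) (.leaf 1)) (.node (.leaf 2) (.leaf 1))) (.node (.node (.leaf 2) (.leaf 0)) (.node (.leaf 2) (.leaf 2)))))))) (.node (.node (.node (.node (.node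 (.node (.node (.node (.leaf 0) (.leaf 0)) (.leaf 2)) (.node (.leaf 1) (.leaf 0))) (.node (.node (.leaf 0) (.leaf 1)) (.node (.leaf 1) (.leaf 1)))) (.node (.node (.node (.leaf 0) (.leaf 1)) (.node (.leaf 1) (.leaf 2))) (.node (.node (.leaf 0) (.leaf 2)) (.node (.leaf 2) (.leaf 2))))) (.node (.node (.node (.node (.node (.leaf 0) (.leaf 2)) (.leaf 1)) (.node (.leaf 0) (.leaf 0))) (.node (.node (.leaf 2) (.leaf 1)) (.node (.leaf 2) (.leaf 0)))) (.node (.node (.node (.leaf 0) (.leaf 0)) (.node (.leaf 2) (.leaf 2))) (.node (.node (.leaf 0) (.leaf 2)) (.node (.leaf 0) (.leaf 2)))))) (.node (.node (.node (.node (.node (.node (.leaf 0) (.leaf 2)) (.leaf 2)) (.node (.leaf 1) (.leaf 0))) (.node (.node (.leaf 1) (.leaf 1)) (.node (.leaf 0) (.leaf 2)))) (.node (.node (.node (.leaf 0) (.leaf 0)) (.node (.leaf 0) (.leaf 0))) (.node (.node (.leaf 0) (.leaf 2)) (.node (.leaf 1) (.leaf 0))))) (.node (.node (.node (.node (.node (.leaf 0)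 (.leaf 2)) (.leaf 2)) (.node (.leaf 0) (.leaf 0))) (.node (.node (.leaf 0) (.leaf 0)) (.node (.leaf 1) (.leaf 1)))) (.node (.node (.node (.leaf 0) (.leaf 0)) (.node (.leaf 1) (.leaf 0))) (.node (.node (.leaf 0) (.leaf 2)) (.node (.leaf 1) (.leaf 2))))))) (.node (.node (.node (.node (.node (.node (.node (.leaf 0) (.leaf 1)) (.leaf 0)) (.node (.leaf 0) (.leaf 1))) (.node (.node (.leaf 1) (.leaf 2)) (.node (.leaf 1) (.leaf 1)))) (.node (.node (.node (.leaf 0) (.leaf 0)) (.node (.leaf 0) (.leaf 0))) (.node (.node (.leaf 0) (.leaf 2)) (.node (.leaf 0) (.leaf 2))))) (.node (.node (.node (.node (.node (.leaf 0) (.leaf 1)) (.leaf 2)) (.node (.leaf 1) (.leaf 0))) (.node (.node (.leaf 1) (.leaf 0)) (.node (.leaf 1) (.leaf 1)))) (.node (.node (.node (.leaf 0) (.leaf 1)) (.node (.leaf 2) (.leaf 1))) (.node (.node (.leaf 0) (.leaf 2)) (.node (.leaf 1) (.leaf 0)))))) (.node (.node (.node (.node (.node (.node (.leaf 0) (.leaf 2)) (.leaf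 1)) (.node (.leaf 1) (.leaf 0))) (.node (.node (.leaf 2) (.leaf 1)) (.node (.leaf 0) (.leaf 1)))) (.node (.node (.node (.leaf 0) (.leaf 0)) (.node (.leaf 1) (.leaf 0))) (.node (.node (.leaf 0) (.leaf 0)) (.node (.leaf 0) (.leaf 0))))) (.node (.node (.node (.node (.node (.leaf 2) (.leaf 0)) (.leaf 2)) (.node (.leaf 0) (.leaf 1))) (.node (.node (.leaf 0) (.leaf 0)) (.node (.leaf 0) (.leaf 0)))) (.node (.node (.node (.leaf 0) (.leaf 0)) (.node (.leaf 1) (.leaf 1))) (.node (.node (.leaf 1) (.leaf 1)) (.node (.leaf 2) (.leaf 0)))))))))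

def threeVal13 : Janko.Tree (ℕ) :=
  (.node (.node (.node (.node (.node (.node (.node (.node (.node (.leaf 0) (.leaf 2)) (.leaf 2)) (.node (.leaf 2) (.leaf 1))) (.node (.node (.leaf 0) (.leaf 2)) (.node (.leaf 0) (.leaf 0)))) (.node (.node (.node (.node (.leaf 0) (.leaf 0)) (.leaf 1)) (.node (.leaf 0) (.leaf 2))) (.node (.node (.leaf 0) (.leaf 0)) (.node (.leaf 0) (.leaf 0))))) (.node (.node (.node (.node (.node (.leaf 0) (.leaf 1)) (.leaf 0)) (.node (.leaf 0) (.leaf 0))) (.node (.node (.leaf 0) (.leaf 0)) (.node (.leaf 2) (.leaf 1)))) (.node (.node (.node (.leaf 2) (.leaf 1)) (.node (.leaf 2) (.leaf 0))) (.node (.node (.leaf 0) (.leaf 0)) (.node (.leaf 0) (.leaf 0)))))) (.node (.node (.node (.node (.node (.node (.leaf 0) (.leaf 1)) (.leaf 0)) (.node (.leaf 2) (.leaf 0))) (.node (.node (.leaf 0) (.leaf 2)) (.node (.leaf 0) (.leaf 2)))) (.node (.node (.node (.leaf 0) (.leaf 0)) (.node (.leaf 0) (.leaf 2))) (.node (.node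 (.leaf 0) (.leaf 1)) (.node (.leaf 1) (.leaf 1))))) (.node (.node (.node (.node (.node (.leaf 0) (.leaf 1)) (.leaf 1)) (.node (.leaf 1) (.leaf 1))) (.node (.node (.leaf 0) (.leaf 2)) (.node (.leaf 0) (.leaf 0)))) (.node (.node (.node (.leaf 1) (.leaf 0)) (.node (.leaf 2) (.leaf 2))) (.node (.node (.leaf 0) (.leaf 0)) (.node (.leaf 0) (.leaf 2))))))) (.node (.node (.node (.node (.node (.node (.node (.leaf 0) (.leaf 2)) (.leaf 2)) (.node (.leaf 0) (.leaf 0))) (.node (.node (.leaf 0) (.leaf 1)) (.node (.leaf 0) (.leaf 2)))) (.node (.node (.node (.leaf 0) (.leaf 2)) (.node (.leaf 1) (.leaf 2))) (.node (.node (.leaf 0) (.leaf 2)) (.node (.leaf 2) (.leaf 0))))) (.node (.node (.node (.node (.node (.leaf 0) (.leaf 0)) (.leaf 2)) (.node (.leaf 2) (.leaf 2))) (.node (.node (.leaf 2) (.leaf 0)) (.node (.leaf 0) (.leaf 0)))) (.node (.node (.node (.leaf 0) (.leaf 2)) (.node (.leaf 0) (.leaf 0))) (.node (.node (.leaf 1) (.leaf 0)) (.node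 (.leaf 0) (.leaf 2)))))) (.node (.node (.node (.node (.node (.node (.leaf 0) (.leaf 2)) (.leaf 2)) (.node (.leaf 0) (.leaf 1))) (.node (.node (.leaf 0) (.leaf 2)) (.node (.leaf 0) (.leaf 2)))) (.node (.node (.node (.leaf 0) (.leaf 0)) (.node (.leaf 0) (.leaf 2))) (.node (.node (.leaf 2) (.leaf 0)) (.node (.leaf 1) (.leaf 0))))) (.node (.node (.node (.node (.node (.leaf 0) (.leaf 2)) (.leaf 0)) (.node (.leaf 0) (.leaf 2))) (.node (.node (.leaf 0) (.leaf 0)) (.node (.leaf 0) (.leaf 0)))) (.node (.node (.node (.leaf 0) (.leaf 0)) (.node (.leaf 0) (.leaf 0))) (.node (.node (.leaf 0) (.leaf 2)) (.node (.leaf 0) (.leaf 1)))))))) (.node (.node (.node (.node (.node (.node (.node (.node (.leaf 0) (.leaf 0)) (.leaf 0)) (.node (.leaf 0) (.leaf 0))) (.node (.node (.leaf 0) (.leaf 1)) (.node (.leaf 0) (.leaf 2)))) (.node (.node (.node (.leaf 0) (.leaf 1)) (.node (.leaf 2) (.leaf 0))) (.node (.node (.leaf 2) (.leaf 2)) (.node (.leaf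 0) (.leaf 2))))) (.node (.node (.node (.node (.node (.leaf 0) (.leaf 2)) (.leaf 0)) (.node (.leaf 0) (.leaf 0))) (.node (.node (.leaf 1) (.leaf 0)) (.node (.leaf 2) (.leaf 0)))) (.node (.node (.node (.leaf 0) (.leaf 2)) (.node (.leaf 0) (.leaf 1))) (.node (.node (.leaf 0) (.leaf 0)) (.node (.leaf 0) (.leaf 0)))))) (.node (.node (.node (.node (.node (.node (.leaf 0) (.leaf 1)) (.leaf 1)) (.node (.leaf 1) (.leaf 2))) (.node (.node (.leaf 2) (.leaf 1)) (.node (.leaf 2) (.leaf 2)))) (.node (.node (.node (.leaf 0) (.leaf 2)) (.node (.leaf 0) (.leaf 1))) (.node (.node (.leaf 0) (.leaf 1)) (.node (.leaf 2) (.leaf 1))))) (.node (.node (.node (.node (.node (.leaf 0) (.leaf 0)) (.leaf 2)) (.node (.leaf 2) (.leaf 0))) (.node (.node (.leaf 0) (.leaf 2)) (.node (.leaf 2) (.leaf 1)))) (.node (.node (.node (.leaf 2) (.leaf 1)) (.node (.leaf 1) (.leaf 0))) (.node (.node (.leaf 0) (.leaf 0)) (.node (.leaf 0) (.leaf 2))))))) (.node (.node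 (.node (.node (.node (.node (.node (.leaf 0) (.leaf 1)) (.leaf 2)) (.node (.leaf 2) (.leaf 0))) (.node (.node (.leaf 0) (.leaf 1)) (.node (.leaf 0) (.leaf 0)))) (.node (.node (.node (.leaf 0) (.leaf 1)) (.node (.leaf 2) (.leaf 2))) (.node (.node (.leaf 0) (.leaf 0)) (.node (.leaf 0) (.leaf 1))))) (.node (.node (.node (.node (.node (.leaf 2) (.leaf 0)) (.leaf 1)) (.node (.leaf 0) (.leaf 2))) (.node (.node (.leaf 2) (.leaf 2)) (.node (.leaf 0) (.leaf 2)))) (.node (.node (.node (.leaf 2) (.leaf 0)) (.node (.leaf 2) (.leaf 0))) (.node (.node (.leaf 0) (.leaf 1)) (.node (.leaf 0) (.leaf 0)))))) (.node (.node (.node (.node (.node (.node (.leaf 0) (.leaf 0)) (.leaf 0)) (.node (.leaf 0) (.leaf 2))) (.node (.node (.leaf 0) (.leaf 0)) (.node (.leaf 0) (.leaf 1)))) (.node (.node (.node (.leaf 0) (.leaf 2)) (.node (.leaf 0) (.leaf 0))) (.node (.node (.leaf 0) (.leaf 1)) (.node (.leaf 0) (.leaf 2))))) (.node (.node (.node (.node (.node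 (.leaf 0) (.leaf 2)) (.leaf 0)) (.node (.leaf 0) (.leaf 2))) (.node (.node (.leaf 0) (.leaf 2)) (.node (.leaf 2) (.leaf 0)))) (.node (.node (.node (.leaf 0) (.leaf 0)) (.node (.leaf 0) (.leaf 2))) (.node (.node (.leaf 0) (.leaf 0)) (.node (.leaf 2) (.leaf 1)))))))))

def threeVal14 : Janko.Tree (ℕ) :=
  (.node (.node (.node (.node (.node (.node (.node (.node (.node (.leaf 0) (.leaf 1)) (.leaf 0)) (.node (.leaf 0) (.leaf 0))) (.node (.node (.leaf 0) (.leaf 1)) (.node (.leaf 0) (.leaf 0)))) (.node (.node (.node (.node (.leaf 0) (.leaf 0)) (.leaf 2)) (.node (.leaf 0) (.leaf 2))) (.node (.node (.leaf 0) (.leaf 1)) (.node (.leaf 0) (.leaf 1))))) (.node (.node (.node (.node (.node (.leaf 0) (.leaf 2)) (.leaf 2)) (.node (.leaf 0) (.leaf 0))) (.node (.node (.leaf 2) (.leaf 2)) (.node (.leaf 0) (.leaf 1)))) (.node (.node (.node (.leaf 1) (.leaf 2)) (.node (.leaf 0) (.leaf 2))) (.node (.node (.leaf 0) (.leaf 1)) (.node (.leaf 0)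 (.leaf 2)))))) (.node (.node (.node (.node (.node (.node (.leaf 0) (.leaf 2)) (.leaf 0)) (.node (.leaf 2) (.leaf 2))) (.node (.node (.leaf 0) (.leaf 2)) (.node (.leaf 1) (.leaf 0)))) (.node (.node (.node (.leaf 0) (.leaf 1)) (.node (.leaf 1) (.leaf 0))) (.node (.node (.leaf 2) (.leaf 1)) (.node (.leaf 0) (.leaf 1))))) (.node (.node (.node (.node (.node (.leaf 0) (.leaf 1)) (.leaf 0)) (.node (.leaf 1) (.leaf 2))) (.node (.node (.leaf 1) (.leaf 0)) (.node (.leaf 0) (.leaf 0)))) (.node (.node (.node (.leaf 2) (.leaf 0)) (.node (.leaf 2) (.leaf 1))) (.node (.node (.leaf 0) (.leaf 0)) (.node (.leaf 2) (.leaf 2))))))) (.node (.node (.node (.node (.node (.node (.node (.leaf 0) (.leaf 2)) (.leaf 1)) (.node (.leaf 1) (.leaf 0))) (.node (.node (.leaf 1) (.leaf 2)) (.node (.leaf 1) (.leaf 2)))) (.node (.node (.node (.leaf 1) (.leaf 0)) (.node (.leaf 2) (.leaf 0))) (.node (.node (.leaf 0) (.leaf 0)) (.node (.leaf 2) (.leaf 0))))) (.node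 (.node (.node (.node (.node (.leaf 0) (.leaf 0)) (.leaf 1)) (.node (.leaf 1) (.leaf 0))) (.node (.node (.leaf 1) (.leaf 1)) (.node (.leaf 0) (.leaf 2)))) (.node (.node (.node (.leaf 0) (.leaf 0)) (.node (.leaf 0) (.leaf 0))) (.node (.node (.leaf 1) (.leaf 0)) (.node (.leaf 2) (.leaf 0)))))) (.node (.node (.node (.node (.node (.node (.leaf 0) (.leaf 0)) (.leaf 0)) (.node (.leaf 2) (.leaf 1))) (.node (.node (.leaf 0) (.leaf 2)) (.node (.leaf 1) (.leaf 2)))) (.node (.node (.node (.leaf 0) (.leaf 1)) (.node (.leaf 2) (.leaf 0))) (.node (.node (.leaf 2) (.leaf 2)) (.node (.leaf 2) (.leaf 1))))) (.node (.node (.node (.node (.node (.leaf 0) (.leaf 2)) (.leaf 2)) (.node (.leaf 0) (.leaf 0))) (.node (.node (.leaf 0) (.leaf 1)) (.node (.leaf 2) (.leaf 2)))) (.node (.node (.node (.leaf 0) (.leaf 1)) (.node (.leaf 0) (.leaf 1))) (.node (.node (.leaf 0) (.leaf 2)) (.node (.leaf 2) (.leaf 1)))))))) (.node (.node (.node (.node (.node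 (.node (.node (.node (.leaf 2) (.leaf 0)) (.leaf 1)) (.node (.leaf 0) (.leaf 1))) (.node (.node (.leaf 0) (.leaf 1)) (.node (.leaf 1) (.leaf 0)))) (.node (.node (.node (.leaf 0) (.leaf 0)) (.node (.leaf 0) (.leaf 2))) (.node (.node (.leaf 2) (.leaf 1)) (.node (.leaf 0) (.leaf 1))))) (.node (.node (.node (.node (.node (.leaf 2) (.leaf 0)) (.leaf 0)) (.node (.leaf 0) (.leaf 1))) (.node (.node (.leaf 0) (.leaf 0)) (.node (.leaf 1) (.leaf 2)))) (.node (.node (.node (.leaf 0) (.leaf 2)) (.node (.leaf 0) (.leaf 0))) (.node (.node (.leaf 2) (.leaf 2)) (.node (.leaf 2) (.leaf 2)))))) (.node (.node (.node (.node (.node (.node (.leaf 0) (.leaf 1)) (.leaf 2)) (.node (.leaf 1) (.leaf 0))) (.node (.node (.leaf 0) (.leaf 2)) (.node (.leaf 0) (.leaf 2)))) (.node (.node (.node (.leaf 0) (.leaf 0)) (.node (.leaf 1) (.leaf 1))) (.node (.node (.leaf 0) (.leaf 2)) (.node (.leaf 2) (.leaf 0))))) (.node (.node (.node (.node (.node (.leaf 0)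 (.leaf 0)) (.leaf 2)) (.node (.leaf 0) (.leaf 2))) (.node (.node (.leaf 0) (.leaf 1)) (.node (.leaf 0) (.leaf 1)))) (.node (.node (.node (.leaf 0) (.leaf 0)) (.node (.leaf 1) (.leaf 0))) (.node (.node (.leaf 1) (.leaf 0)) (.node (.leaf 0) (.leaf 1))))))) (.node (.node (.node (.node (.node (.node (.node (.leaf 1) (.leaf 0)) (.leaf 0)) (.node (.leaf 2) (.leaf 0))) (.node (.node (.leaf 0) (.leaf 2)) (.node (.leaf 2) (.leaf 2)))) (.node (.node (.node (.leaf 2) (.leaf 0)) (.node (.leaf 0) (.leaf 0))) (.node (.node (.leaf 0) (.leaf 1)) (.node (.leaf 0) (.leaf 1))))) (.node (.node (.node (.node (.node (.leaf 0) (.leaf 1)) (.leaf 2)) (.node (.leaf 0) (.leaf 0))) (.node (.node (.leaf 2) (.leaf 0)) (.node (.leaf 2) (.leaf 1)))) (.node (.node (.node (.leaf 1) (.leaf 2)) (.node (.leaf 2) (.leaf 2))) (.node (.node (.leaf 0) (.leaf 0)) (.node (.leaf 0) (.leaf 1)))))) (.node (.node (.node (.node (.node (.node (.leaf 0) (.leaf 2)) (.leaf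 1)) (.node (.leaf 2) (.leaf 1))) (.node (.node (.leaf 1) (.leaf 2)) (.node (.leaf 0) (.leaf 2)))) (.node (.node (.node (.leaf 0) (.leaf 0)) (.node (.leaf 0) (.leaf 2))) (.node (.node (.leaf 2) (.leaf 1)) (.node (.leaf 0) (.leaf 1))))) (.node (.node (.node (.node (.node (.leaf 0) (.leaf 0)) (.leaf 0)) (.node (.leaf 0) (.leaf 2))) (.node (.node (.leaf 0) (.leaf 1)) (.node (.leaf 0) (.leaf 0)))) (.node (.node (.node (.leaf 2) (.leaf 2)) (.node (.leaf 2) (.leaf 1))) (.node (.node (.leaf 0) (.leaf 0)) (.node (.leaf 2) (.leaf 2)))))))))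

def threeVal15 : Janko.Tree (ℕ) :=
  (.node (.node (.node (.node (.node (.node (.node (.node (.node (.leaf 0) (.leaf 2)) (.leaf 2)) (.node (.leaf 0) (.leaf 2))) (.node (.node (.leaf 0) (.leaf 1)) (.node (.leaf 0) (.leaf 1)))) (.node (.node (.node (.node (.leaf 0) (.leaf 0)) (.leaf 0)) (.node (.leaf 0) (.leaf 2))) (.node (.node (.leaf 0) (.leaf 2)) (.node (.leaf 1) (.leaf 0))))) (.node (.node (.node (.node (.node (.leaf 0) (.leaf 1)) (.leaf 0)) (.node (.leaf 2) (.leaf 2))) (.node (.node (.leaf 0) (.leaf 2)) (.node (.leaf 2) (.leaf 2)))) (.node (.node (.node (.leaf 0) (.leaf 1)) (.node (.leaf 0) (.leaf 2))) (.node (.node (.leaf 0) (.leaf 1)) (.node (.leaf 1) (.leaf 2)))))) (.node (.node (.node (.node (.node (.node (.leaf 0) (.leaf 1)) (.leaf 0)) (.node (.leaf 1) (.leaf 1))) (.node (.node (.leaf 2) (.leaf 1)) (.node (.leaf 0) (.leaf 1)))) (.node (.node (.node (.leaf 0) (.leaf 0)) (.node (.leaf 0) (.leaf 2))) (.node (.node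 (.leaf 0) (.leaf 2)) (.node (.leaf 2) (.leaf 2))))) (.node (.node (.node (.node (.node (.leaf 0) (.leaf 1)) (.leaf 0)) (.node (.leaf 0) (.leaf 0))) (.node (.node (.leaf 2) (.leaf 0)) (.node (.leaf 2) (.leaf 1)))) (.node (.node (.node (.leaf 0) (.leaf 2)) (.node (.leaf 1) (.leaf 1))) (.node (.node (.leaf 0) (.leaf 2)) (.node (.leaf 0) (.leaf 1))))))) (.node (.node (.node (.node (.node (.node (.node (.leaf 0) (.leaf 0)) (.leaf 0)) (.node (.leaf 1) (.leaf 0))) (.node (.node (.leaf 0) (.leaf 2)) (.node (.leaf 0) (.leaf 0)))) (.node (.node (.node (.leaf 0) (.leaf 2)) (.node (.leaf 0) (.leaf 0))) (.node (.node (.leaf 0) (.leaf 1)) (.node (.leaf 1) (.leaf 2))))) (.node (.node (.node (.node (.node (.leaf 0) (.leaf 0)) (.leaf 0)) (.node (.leaf 0) (.leaf 0))) (.node (.node (.leaf 0) (.leaf 2)) (.node (.leaf 0) (.leaf 2)))) (.node (.node (.node (.leaf 0) (.leaf 1)) (.node (.leaf 1) (.leaf 0))) (.node (.node (.leaf 0) (.leaf 2)) (.node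 (.leaf 0) (.leaf 1)))))) (.node (.node (.node (.node (.node (.node (.leaf 0) (.leaf 1)) (.leaf 0)) (.node (.leaf 0) (.leaf 0))) (.node (.node (.leaf 0) (.leaf 0)) (.node (.leaf 2) (.leaf 2)))) (.node (.node (.node (.leaf 0) (.leaf 0)) (.node (.leaf 1) (.leaf 0))) (.node (.node (.leaf 0) (.leaf 0)) (.node (.leaf 2) (.leaf 0))))) (.node (.node (.node (.node (.node (.leaf 0) (.leaf 0)) (.leaf 0)) (.node (.leaf 0) (.leaf 2))) (.node (.node (.leaf 0) (.leaf 2)) (.node (.leaf 2) (.leaf 1)))) (.node (.node (.node (.leaf 1) (.leaf 0)) (.node (.leaf 0) (.leaf 0))) (.node (.node (.leaf 1) (.leaf 0)) (.node (.leaf 0) (.leaf 1)))))))) (.node (.node (.node (.node (.node (.node (.node (.node (.leaf 0) (.leaf 0)) (.leaf 2)) (.node (.leaf 0) (.leaf 0))) (.node (.node (.leaf 0) (.leaf 1)) (.node (.leaf 0) (.leaf 1)))) (.node (.node (.node (.leaf 0) (.leaf 0)) (.node (.leaf 0) (.leaf 2))) (.node (.node (.leaf 0) (.leaf 0)) (.node (.leaf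 2) (.leaf 2))))) (.node (.node (.node (.node (.node (.leaf 0) (.leaf 1)) (.leaf 0)) (.node (.leaf 0) (.leaf 2))) (.node (.node (.leaf 2) (.leaf 0)) (.node (.leaf 0) (.leaf 0)))) (.node (.node (.node (.leaf 0) (.leaf 1)) (.node (.leaf 0) (.leaf 0))) (.node (.node (.leaf 0) (.leaf 0)) (.node (.leaf 0) (.leaf 2)))))) (.node (.node (.node (.node (.node (.node (.leaf 0) (.leaf 1)) (.leaf 0)) (.node (.leaf 0) (.leaf 0))) (.node (.node (.leaf 0) (.leaf 0)) (.node (.leaf 0) (.leaf 0)))) (.node (.node (.node (.leaf 0) (.leaf 0)) (.node (.leaf 2) (.leaf 0))) (.node (.node (.leaf 0) (.leaf 1)) (.node (.leaf 2) (.leaf 0))))) (.node (.node (.node (.node (.node (.leaf 0) (.leaf 2)) (.leaf 0)) (.node (.leaf 0) (.leaf 0))) (.node (.node (.leaf 0) (.leaf 0)) (.node (.leaf 0) (.leaf 0)))) (.node (.node (.node (.leaf 0) (.leaf 2)) (.node (.leaf 2) (.leaf 0))) (.node (.node (.leaf 0) (.leaf 1)) (.node (.leaf 1) (.leaf 0))))))) (.node (.node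 (.node (.node (.node (.node (.node (.leaf 0) (.leaf 0)) (.leaf 0)) (.node (.leaf 2) (.leaf 1))) (.node (.node (.leaf 0) (.leaf 2)) (.node (.leaf 0) (.leaf 2)))) (.node (.node (.node (.leaf 0) (.leaf 2)) (.node (.leaf 0) (.leaf 1))) (.node (.node (.leaf 0) (.leaf 2)) (.node (.leaf 0) (.leaf 1))))) (.node (.node (.node (.node (.node (.leaf 0) (.leaf 2)) (.leaf 0)) (.node (.leaf 0) (.leaf 0))) (.node (.node (.leaf 0) (.leaf 0)) (.node (.leaf 2) (.leaf 1)))) (.node (.node (.node (.leaf 0) (.leaf 2)) (.node (.leaf 2) (.leaf 0))) (.node (.node (.leaf 0) (.leaf 0)) (.node (.leaf 2) (.leaf 0)))))) (.node (.node (.node (.node (.node (.node (.leaf 0) (.leaf 2)) (.leaf 0)) (.node (.leaf 2) (.leaf 0))) (.node (.node (.leaf 0) (.leaf 0)) (.node (.leaf 0) (.leaf 0)))) (.node (.node (.node (.leaf 0) (.leaf 1)) (.node (.leaf 2) (.leaf 1))) (.node (.node (.leaf 2) (.leaf 2)) (.node (.leaf 0) (.leaf 1))))) (.node (.node (.node (.node (.node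 (.leaf 0) (.leaf 0)) (.leaf 2)) (.node (.leaf 0) (.leaf 0))) (.node (.node (.leaf 0) (.leaf 1)) (.node (.leaf 1) (.leaf 2)))) (.node (.node (.node (.leaf 0) (.leaf 0)) (.node (.leaf 0) (.leaf 0))) (.node (.node (.leaf 0) (.leaf 2)) (.node (.leaf 0) (.leaf 0)))))))))

/-- a table -/
def threeVal : Janko.Tree (ℕ) := (.node (.node (.node (.node threeVal0 threeVal8) (.node threeVal4 threeVal12)) (.node (.node threeVal2 threeVal10) (.node threeVal6 threeVal14))) (.node (.node (.node threeVal1 threeVal9) (.node threeVal5 threeVal13)) (.node (.node threeVal3 threeVal11) (.node threeVal7 threeVal15))))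

theorem three_left0 : ((List.range 100).all fun i => leftOK threeCert threeVal.get 3 (Nat.add 0 i)) = true := by decide +kernel

theorem three_left1 : ((List.range 100).all fun i => leftOK threeCert threeVal.get 3 (Nat.add 100 i)) = true := by decide +kernel

theorem three_left2 : ((List.range 100).all fun i => leftOK threeCert threeVal.get 3 (Nat.add 200 i)) = true := by decide +kernel

theorem three_left3 : ((List.range 100).all fun i => leftOK threeCert threeVal.get 3 (Nat.add 300 i)) = true := by decide +kernel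

theorem three_left4 : ((List.range 100).all fun i => leftOK threeCert threeVal.get 3 (Nat.add 400 i)) = true := by decide +kernel

theorem three_left5 : ((List.range 100).all fun i => leftOK threeCert threeVal.get 3 (Nat.add 500 i)) = true := by decide +kernel

theorem three_left6 : ((List.range 100).all fun i => leftOK threeCert threeVal.get 3 (Nat.add 600 i)) = true := by decide +kernel

theorem three_left7 : ((List.range 29).all fun i => leftOK threeCert threeVal.get 3 (Nat.add 700 i)) = true := by decide +kernel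

theorem three_left : ∀ i < 729, leftOK threeCert threeVal.get 3 i = true := by
  intro i hi
  exact (if h400 : i < 400 then (if h200 : i < 200 then (if h100 : i < 100 then (by have := List.all_eq_true.1 three_left0 (i - 0) (List.mem_range.2 (by omega)); rwa [show Nat.add 0 (i - 0) = i from Nat.add_sub_cancel' (by omega)] at this) else (by have := List.all_eq_true.1 three_left1 (i - 100) (List.mem_range.2 (by omega)); rwa [show Nat.add 100 (i - 100) = i from Nat.add_sub_cancel' (by omega)] at this)) else (if h300 : i < 300 then (by have := List.all_eq_true.1 three_left2 (i - 200) (List.mem_range.2 (by omega)); rwa [show Nat.add 200 (i - 200) = i from Nat.add_sub_cancel' (by omega)] at this) else (by have := List.all_eq_true.1 three_left3 (i - 300) (List.mem_range.2 (by omega)); rwa [show Nat.add 300 (i - 300) = i from Nat.add_sub_cancel' (by omega)] at this))) else (if h600 : i < 600 then (if h500 : i < 500 then (by have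 := List.all_eq_true.1 three_left4 (i - 400) (List.mem_range.2 (by omega)); rwa [show Nat.add 400 (i - 400) = i from Nat.add_sub_cancel' (by omega)] at this) else (by have := List.all_eq_true.1 three_left5 (i - 500) (List.mem_range.2 (by omega)); rwa [show Nat.add 500 (i - 500) = i from Nat.add_sub_cancel' (by omega)] at this)) else (if h700 : i < 700 then (by have := List.all_eq_true.1 three_left6 (i - 600) (List.mem_range.2 (by omega)); rwa [show Nat.add 600 (i - 600) = i from Nat.add_sub_cancel' (by omega)] at this) else (by have := List.all_eq_true.1 three_left7 (i - 700) (List.mem_range.2 (by omega)); rwa [show Nat.add 700 (i - 700) = i from Nat.add_sub_cancel' (by omega)] at this))))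

theorem three_wd0 : ((List.range 729).all fun i => treeOK threeCert threeVal.get 3 (Nat.add 0 i)) = true := by decide +kernel

theorem three_wd : ∀ i < 729, treeOK threeCert threeVal.get 3 i = true := by
  intro i hi
  exact (by have := List.all_eq_true.1 three_wd0 (i - 0) (List.mem_range.2 (by omega)); rwa [show Nat.add 0 (i - 0) = i from Nat.add_sub_cancel' (by omega)] at this)


end Cfsg.Agent.Lie.McLaughlinMult
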