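import Cfsg.Agent.Lib.Lie.McLaughlinMult.MovesA
import Cfsg.Agent.Lib.Lie.McLaughlinMult.MovesB
import Cfsg.Agent.Lib.Lie.McLaughlinMult.Val
import Cfsg.Agent.Lib.Lie.CoverEval

/-!
Values of the cocycle (generated).
-/

set_option autoImplicit false
set_option maxRecDepth 100000
set_option maxHeartbeats 0
set_option Elab.async false

namespace Cfsg.Agent.Lie.McLaughlinMult

open Cfsg.Agent.Lie PermCover McLaughlinOut

theorem three_value0P0 : CoverEval.evalPart threeCert threeVal.get 0 640 (fun t => threeMv556.get t % 4096) (fun t => threeMv728.get t / 4096) (fun t => threeMv728.get t % 4096) = 2115 := by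
  decide +kernel

theorem three_value0P1 : CoverEval.evalPart threeCert threeVal.get 640 640 (fun t => threeMv556.get t % 4096) (fun t => threeMv728.get t / 4096) (fun t => threeMv728.get t % 4096) = 1978 := by
  decide +kernel

theorem three_value0P2 : CoverEval.evalPart threeCert threeVal.get 1280 640 (fun t => threeMv556.get t % 4096) (fun t => threeMv728.get t / 4096) (fun t => threeMv728.get t % 4096) = 2075 := by
  decide +kernel

theorem three_value0P3 : CoverEval.evalPart threeCert threeVal.get 1920 640 (fun t => threeMv556.get t % 4096) (fun t => threeMv728.get t / 4096) (fun t => threeMv728.get t % 4096) = 2122 := by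
  decide +kernel

theorem three_value0P4 : CoverEval.evalPart threeCert threeVal.get 2560 640 (fun t => threeMv556.get t % 4096) (fun t => threeMv728.get t / 4096) (fun t => threeMv728.get t % 4096) = 2003 := by
  decide +kernel

theorem three_value0P5 : CoverEval.evalPart threeCert threeVal.get 3200 640 (fun t => threeMv556.get t % 4096) (fun t => threeMv728.get t / 4096) (fun t => threeMv728.get t % 4096) = 2078 := by
  decide +kernel

theorem three_value0P6 : CoverEval.evalPart threeCert threeVal.get 3840 640 (fun t => threeMv556.get t % 4096) (fun t => threeMv728.get t / 4096) (fun t => threeMv728.get t % 4096) = 2019 := by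
  decide +kernel

theorem three_value0P : CoverTable.evalSum threeCert threeVal.get 4480 (fun t => threeMv556.get t % 4096) (fun t => threeMv728.get t / 4096) (fun t => threeMv728.get t % 4096) = 14390 := by
  refine (CoverEval.evalSum_add threeCert threeVal.get (a := 3840) (b := 640) (N := 4480) (by norm_num) (fun t => threeMv556.get t % 4096) (fun t => threeMv728.get t / 4096) (fun t => threeMv728.get t % 4096) (CoverEval.evalSum_add threeCert threeVal.get (a := 3200) (b := 640) (N := 3840) (by norm_num) (fun t => threeMv556.get t % 4096) (fun t => threeMv728.get t / 4096) (fun t => threeMv728.get t % 4096) (CoverEval.evalSum_add threeCert threeVal.get (a := 2560) (b := 640) (N := 3200) (by norm_num) (fun t => threeMv556.get t % 4096) (fun t => threeMv728.get t / 4096) (fun t => threeMv728.get t % 4096) (CoverEval.evalSum_add threeCert threeVal.get (a := 1920) (b := 640) (N := 2560) (by norm_num) (fun t => threeMv556.get t % 4096) (fun t => threeMv728.get t / 4096) (fun t => threeMv728.get t % 4096) (CoverEval.evalSum_add threeCert threeVal.get (a := 1280) (b := 640) (N := 1920) (by norm_num) (fun t => threeMv556.get t % 4096) (fun t => threeMv728.get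 t / 4096) (fun t => threeMv728.get t % 4096) (CoverEval.evalSum_add threeCert threeVal.get (a := 640) (b := 640) (N := 1280) (by norm_num) (fun t => threeMv556.get t % 4096) (fun t => threeMv728.get t / 4096) (fun t => threeMv728.get t % 4096) (CoverEval.evalSum_add threeCert threeVal.get (a := 0) (b := 640) (N := 640) (by norm_num) (fun t => threeMv556.get t % 4096) (fun t => threeMv728.get t / 4096) (fun t => threeMv728.get t % 4096) (CoverEval.evalSum_zero threeCert threeVal.get (fun t => threeMv556.get t % 4096) (fun t => threeMv728.get t / 4096) (fun t => threeMv728.get t % 4096)) three_value0P0) three_value0P1) three_value0P2) three_value0P3) three_value0P4) three_value0P5) three_value0P6).trans ?_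
  norm_num

theorem three_value0Q0 : CoverEval.evalPart threeCert threeVal.get 0 640 (fun t => threeMv728.get t % 4096) (fun t => threeMv556.get t / 4096) (fun t => threeMv556.get t % 4096) = 2046 := by
  decide +kernel

theorem three_value0Q1 : CoverEval.evalPart threeCert threeVal.get 640 640 (fun t => threeMv728.get t % 4096) (fun t => threeMv556.get t / 4096) (fun t => threeMv556.get t % 4096) = 2138 := by
  decide +kernel

theorem three_value0Q2 : CoverEval.evalPart threeCert threeVal.get 1280 640 (fun t => threeMv728.get t % 4096) (fun t => threeMv556.get t / 4096) (fun t => threeMv556.get t % 4096) = 2136 := by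
  decide +kernel

theorem three_value0Q3 : CoverEval.evalPart threeCert threeVal.get 1920 640 (fun t => threeMv728.get t % 4096) (fun t => threeMv556.get t / 4096) (fun t => threeMv556.get t % 4096) = 2037 := by
  decide +kernel

theorem three_value0Q4 : CoverEval.evalPart threeCert threeVal.get 2560 640 (fun t => threeMv728.get t % 4096) (fun t => threeMv556.get t / 4096) (fun t => threeMv556.get t % 4096) = 2106 := by
  decide +kernel

theorem three_value0Q5 : CoverEval.evalPart threeCert threeVal.get 3200 640 (fun t => threeMv728.get t % 4096) (fun t => threeMv556.get t / 4096) (fun t => threeMv556.get t % 4096) = 2103 := by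
  decide +kernel

theorem three_value0Q6 : CoverEval.evalPart threeCert threeVal.get 3840 640 (fun t => threeMv728.get t % 4096) (fun t => threeMv556.get t / 4096) (fun t => threeMv556.get t % 4096) = 2038 := by
  decide +kernel

theorem three_value0Q : CoverTable.evalSum threeCert threeVal.get 4480 (fun t => threeMv728.get t % 4096) (fun t => threeMv556.get t / 4096) (fun t => threeMv556.get t % 4096) = 14604 := by
  refine (CoverEval.evalSum_add threeCert threeVal.get (a := 3840) (b := 640) (N := 4480) (by norm_num) (fun t => threeMv728.get t % 4096) (fun t => threeMv556.get t / 4096) (fun t => threeMv556.get t % 4096) (CoverEval.evalSum_add threeCert threeVal.get (a := 3200) (b := 640) (N := 3840) (by norm_num) (fun t => threeMv728.get t % 4096) (fun t => threeMv556.get t / 4096) (fun t => threeMv556.get t % 4096) (CoverEval.evalSum_add threeCert threeVal.get (a := 2560) (b := 640) (N := 3200) (by norm_num) (fun t => threeMv728.get t % 4096) (fun t => threeMv556.get t / 4096) (fun t => threeMv556.get t % 4096) (CoverEval.evalSum_add threeCert threeVal.get (a := 1920) (b := 640) (N := 2560) (by norm_num) (fun t => threeMv728.get t % 4096) (fun t =>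 threeMv556.get t / 4096) (fun t => threeMv556.get t % 4096) (CoverEval.evalSum_add threeCert threeVal.get (a := 1280) (b := 640) (N := 1920) (by norm_num) (fun t => threeMv728.get t % 4096) (fun t => threeMv556.get t / 4096) (fun t => threeMv556.get t % 4096) (CoverEval.evalSum_add threeCert threeVal.get (a := 640) (b := 640) (N := 1280) (by norm_num) (fun t => threeMv728.get t % 4096) (fun t => threeMv556.get t / 4096) (fun t => threeMv556.get t % 4096) (CoverEval.evalSum_add threeCert threeVal.get (a := 0) (b := 640) (N := 640) (by norm_num) (fun t => threeMv728.get t % 4096) (fun t => threeMv556.get t / 4096) (fun t => threeMv556.get t % 4096) (CoverEval.evalSum_zero threeCert threeVal.get (fun t => threeMv728.get t % 4096) (fun t => threeMv556.get t / 4096) (fun t => threeMv556.get t % 4096)) three_value0Q0) three_value0Q1) three_value0Q2) three_value0Q3) three_value0Q4) three_value0Q5) three_value0Q6).trans ?_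
  norm_num

theorem three_value0 : ((CoverTable.evalSum threeCert threeVal.get 4480 (fun t => threeMv556.get t % 4096) (fun t => threeMv728.get t / 4096) (fun t => threeMv728.get t % 4096) : ℕ) : ZMod 3) - ((CoverTable.evalSum threeCert threeVal.get 4480 (fun t => threeMv728.get t % 4096) (fun t => threeMv556.get t / 4096) (fun t => threeMv556.get t % 4096) : ℕ) : ZMod 3) = 2 := by
  rw [three_value0P, three_value0Q]
  decide +kernel

theorem three_value1P0 : CoverEval.evalPart threeCert threeVal.get 0 640 (fun t => threeMv728.get t % 4096) (fun t => threeMv536.get t / 4096) (fun t => threeMv536.get t % 4096) = 2087 := by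
  decide +kernel

theorem three_value1P1 : CoverEval.evalPart threeCert threeVal.get 640 640 (fun t => threeMv728.get t % 4096) (fun t => threeMv536.get t / 4096) (fun t => threeMv536.get t % 4096) = 2088 := by
  decide +kernel

theorem three_value1P2 : CoverEval.evalPart threeCert threeVal.get 1280 640 (fun t => threeMv728.get t % 4096) (fun t => threeMv536.get t / 4096) (fun t => threeMv536.get t % 4096) = 2056 := by
  decide +kernel

theorem three_value1P3 : CoverEval.evalPart threeCert threeVal.get 1920 640 (fun t => threeMv728.get t % 4096) (fun t => threeMv536.get t / 4096) (fun t => threeMv536.get t % 4096) = 2070 := by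
  decide +kernel

theorem three_value1P4 : CoverEval.evalPart threeCert threeVal.get 2560 640 (fun t => threeMv728.get t % 4096) (fun t => threeMv536.get t / 4096) (fun t => threeMv536.get t % 4096) = 2050 := by
  decide +kernel

theorem three_value1P5 : CoverEval.evalPart threeCert threeVal.get 3200 640 (fun t => threeMv728.get t % 4096) (fun t => threeMv536.get t / 4096) (fun t => threeMv536.get t % 4096) = 1939 := by
  decide +kernel

theorem three_value1P6 : CoverEval.evalPart threeCert threeVal.get 3840 640 (fun t => threeMv728.get t % 4096) (fun t => threeMv536.get t / 4096) (fun t => threeMv536.get t % 4096) = 2101 := by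
  decide +kernel

theorem three_value1P : CoverTable.evalSum threeCert threeVal.get 4480 (fun t => threeMv728.get t % 4096) (fun t => threeMv536.get t / 4096) (fun t => threeMv536.get t % 4096) = 14391 := by
  refine (CoverEval.evalSum_add threeCert threeVal.get (a := 3840) (b := 640) (N := 4480) (by norm_num) (fun t => threeMv728.get t % 4096) (fun t => threeMv536.get t / 4096) (fun t => threeMv536.get t % 4096) (CoverEval.evalSum_add threeCert threeVal.get (a := 3200) (b := 640) (N := 3840) (by norm_num) (fun t => threeMv728.get t % 4096) (fun t => threeMv536.get t / 4096) (fun t => threeMv536.get t % 4096) (CoverEval.evalSum_add threeCert threeVal.get (a := 2560) (b := 640) (N := 3200) (by norm_num) (fun t => threeMv728.get t % 4096) (fun t => threeMv536.get t / 4096) (fun t => threeMv536.get t % 4096) (CoverEval.evalSum_add threeCert threeVal.get (a := 1920) (b := 640) (N := 2560) (by norm_num) (fun t => threeMv728.get t % 4096) (fun t => threeMv536.get t / 4096) (fun t => threeMv536.get t % 4096) (CoverEval.evalSum_add threeCert threeVal.get (a := 1280) (b := 640) (N := 1920) (by norm_num) (fun t => threeMv728.get t % 4096) (fun t => threeMv536.get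 t / 4096) (fun t => threeMv536.get t % 4096) (CoverEval.evalSum_add threeCert threeVal.get (a := 640) (b := 640) (N := 1280) (by norm_num) (fun t => threeMv728.get t % 4096) (fun t => threeMv536.get t / 4096) (fun t => threeMv536.get t % 4096) (CoverEval.evalSum_add threeCert threeVal.get (a := 0) (b := 640) (N := 640) (by norm_num) (fun t => threeMv728.get t % 4096) (fun t => threeMv536.get t / 4096) (fun t => threeMv536.get t % 4096) (CoverEval.evalSum_zero threeCert threeVal.get (fun t => threeMv728.get t % 4096) (fun t => threeMv536.get t / 4096) (fun t => threeMv536.get t % 4096)) three_value1P0) three_value1P1) three_value1P2) three_value1P3) three_value1P4) three_value1P5) three_value1P6).trans ?_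
  norm_num

theorem three_value1Q0 : CoverEval.evalPart threeCert threeVal.get 0 640 (fun t => threeMv536.get t % 4096) (fun t => threeMv728.get t / 4096) (fun t => threeMv728.get t % 4096) = 2111 := by
  decide +kernel

theorem three_value1Q1 : CoverEval.evalPart threeCert threeVal.get 640 640 (fun t => threeMv536.get t % 4096) (fun t => threeMv728.get t / 4096) (fun t => threeMv728.get t % 4096) = 2105 := by
  decide +kernel

theorem three_value1Q2 : CoverEval.evalPart threeCert threeVal.get 1280 640 (fun t => threeMv536.get t % 4096) (fun t => threeMv728.get t / 4096) (fun t => threeMv728.get t % 4096) = 2092 := by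
  decide +kernel

theorem three_value1Q3 : CoverEval.evalPart threeCert threeVal.get 1920 640 (fun t => threeMv536.get t % 4096) (fun t => threeMv728.get t / 4096) (fun t => threeMv728.get t % 4096) = 2081 := by
  decide +kernel

theorem three_value1Q4 : CoverEval.evalPart threeCert threeVal.get 2560 640 (fun t => threeMv536.get t % 4096) (fun t => threeMv728.get t / 4096) (fun t => threeMv728.get t % 4096) = 2045 := by
  decide +kernel

theorem three_value1Q5 : CoverEval.evalPart threeCert threeVal.get 3200 640 (fun t => threeMv536.get t % 4096) (fun t => threeMv728.get t / 4096) (fun t => threeMv728.get t % 4096) = 1994 := by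
  decide +kernel

theorem three_value1Q6 : CoverEval.evalPart threeCert threeVal.get 3840 640 (fun t => threeMv536.get t % 4096) (fun t => threeMv728.get t / 4096) (fun t => threeMv728.get t % 4096) = 2024 := by
  decide +kernel

theorem three_value1Q : CoverTable.evalSum threeCert threeVal.get 4480 (fun t => threeMv536.get t % 4096) (fun t => threeMv728.get t / 4096) (fun t => threeMv728.get t % 4096) = 14452 := by
  refine (CoverEval.evalSum_add threeCert threeVal.get (a := 3840) (b := 640) (N := 4480) (by norm_num) (fun t => threeMv536.get t % 4096) (fun t => threeMv728.get t / 4096) (fun t => threeMv728.get t % 4096) (CoverEval.evalSum_add threeCert threeVal.get (a := 3200) (b := 640) (N := 3840) (by norm_num) (fun t => threeMv536.get t % 4096) (fun t => threeMv728.get t / 4096) (fun t => threeMv728.get t % 4096) (CoverEval.evalSum_add threeCert threeVal.get (a := 2560) (b := 640) (N := 3200) (by norm_num) (fun t => threeMv536.get t % 4096) (fun t => threeMv728.get t / 4096) (fun t => threeMv728.get t % 4096) (CoverEval.evalSum_add threeCert threeVal.get (a := 1920) (b := 640) (N := 2560) (by norm_num) (fun t => threeMv536.get t % 4096) (fun t =>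 threeMv728.get t / 4096) (fun t => threeMv728.get t % 4096) (CoverEval.evalSum_add threeCert threeVal.get (a := 1280) (b := 640) (N := 1920) (by norm_num) (fun t => threeMv536.get t % 4096) (fun t => threeMv728.get t / 4096) (fun t => threeMv728.get t % 4096) (CoverEval.evalSum_add threeCert threeVal.get (a := 640) (b := 640) (N := 1280) (by norm_num) (fun t => threeMv536.get t % 4096) (fun t => threeMv728.get t / 4096) (fun t => threeMv728.get t % 4096) (CoverEval.evalSum_add threeCert threeVal.get (a := 0) (b := 640) (N := 640) (by norm_num) (fun t => threeMv536.get t % 4096) (fun t => threeMv728.get t / 4096) (fun t => threeMv728.get t % 4096) (CoverEval.evalSum_zero threeCert threeVal.get (fun t => threeMv536.get t % 4096) (fun t => threeMv728.get t / 4096) (fun t => threeMv728.get t % 4096)) three_value1Q0) three_value1Q1) three_value1Q2) three_value1Q3) three_value1Q4) three_value1Q5) three_value1Q6).trans ?_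
  norm_num

theorem three_value1 : ((CoverTable.evalSum threeCert threeVal.get 4480 (fun t => threeMv728.get t % 4096) (fun t => threeMv536.get t / 4096) (fun t => threeMv536.get t % 4096) : ℕ) : ZMod 3) - ((CoverTable.evalSum threeCert threeVal.get 4480 (fun t => threeMv536.get t % 4096) (fun t => threeMv728.get t / 4096) (fun t => threeMv728.get t % 4096) : ℕ) : ZMod 3) = 2 := by
  rw [three_value1P, three_value1Q]
  decide +kernel

theorem three_value2P0 : CoverEval.evalPart threeCert threeVal.get 0 640 (fun t => threeMv728.get t % 4096) (fun t => threeMv438.get t / 4096) (fun t => threeMv438.get t % 4096) = 2226 := by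
  decide +kernel

theorem three_value2P1 : CoverEval.evalPart threeCert threeVal.get 640 640 (fun t => threeMv728.get t % 4096) (fun t => threeMv438.get t / 4096) (fun t => threeMv438.get t % 4096) = 2115 := by
  decide +kernel

theorem three_value2P2 : CoverEval.evalPart threeCert threeVal.get 1280 640 (fun t => threeMv728.get t % 4096) (fun t => threeMv438.get t / 4096) (fun t => threeMv438.get t % 4096) = 2147 := by
  decide +kernel

theorem three_value2P3 : CoverEval.evalPart threeCert threeVal.get 1920 640 (fun t => threeMv728.get t % 4096) (fun t => threeMv438.get t / 4096) (fun t => threeMv438.get t % 4096) = 2094 := by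
  decide +kernel

theorem three_value2P4 : CoverEval.evalPart threeCert threeVal.get 2560 640 (fun t => threeMv728.get t % 4096) (fun t => threeMv438.get t / 4096) (fun t => threeMv438.get t % 4096) = 2060 := by
  decide +kernel

theorem three_value2P5 : CoverEval.evalPart threeCert threeVal.get 3200 640 (fun t => threeMv728.get t % 4096) (fun t => threeMv438.get t / 4096) (fun t => threeMv438.get t % 4096) = 2025 := by
  decide +kernel

theorem three_value2P6 : CoverEval.evalPart threeCert threeVal.get 3840 640 (fun t => threeMv728.get t % 4096) (fun t => threeMv438.get t / 4096) (fun t => threeMv438.get t % 4096) = 2017 := by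
  decide +kernel

theorem three_value2P : CoverTable.evalSum threeCert threeVal.get 4480 (fun t => threeMv728.get t % 4096) (fun t => threeMv438.get t / 4096) (fun t => threeMv438.get t % 4096) = 14684 := by
  refine (CoverEval.evalSum_add threeCert threeVal.get (a := 3840) (b := 640) (N := 4480) (by norm_num) (fun t => threeMv728.get t % 4096) (fun t => threeMv438.get t / 4096) (fun t => threeMv438.get t % 4096) (CoverEval.evalSum_add threeCert threeVal.get (a := 3200) (b := 640) (N := 3840) (by norm_num) (fun t => threeMv728.get t % 4096) (fun t => threeMv438.get t / 4096) (fun t => threeMv438.get t % 4096) (CoverEval.evalSum_add threeCert threeVal.get (a := 2560) (b := 640) (N := 3200) (by norm_num) (fun t => threeMv728.get t % 4096) (fun t => threeMv438.get t / 4096) (fun t => threeMv438.get t % 4096) (CoverEval.evalSum_add threeCert threeVal.get (a := 1920) (b := 640) (N := 2560) (by norm_num) (fun t => threeMv728.get t % 4096) (fun t => threeMv438.get t / 4096) (fun t => threeMv438.get t % 4096) (CoverEval.evalSum_add threeCert threeVal.get (a := 1280) (b := 640) (N := 1920) (by norm_num) (fun t => threeMv728.get t % 4096) (fun t => threeMv438.get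 t / 4096) (fun t => threeMv438.get t % 4096) (CoverEval.evalSum_add threeCert threeVal.get (a := 640) (b := 640) (N := 1280) (by norm_num) (fun t => threeMv728.get t % 4096) (fun t => threeMv438.get t / 4096) (fun t => threeMv438.get t % 4096) (CoverEval.evalSum_add threeCert threeVal.get (a := 0) (b := 640) (N := 640) (by norm_num) (fun t => threeMv728.get t % 4096) (fun t => threeMv438.get t / 4096) (fun t => threeMv438.get t % 4096) (CoverEval.evalSum_zero threeCert threeVal.get (fun t => threeMv728.get t % 4096) (fun t => threeMv438.get t / 4096) (fun t => threeMv438.get t % 4096)) three_value2P0) three_value2P1) three_value2P2) three_value2P3) three_value2P4) three_value2P5) three_value2P6).trans ?_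
  norm_num

theorem three_value2Q0 : CoverEval.evalPart threeCert threeVal.get 0 640 (fun t => threeMv438.get t % 4096) (fun t => threeMv728.get t / 4096) (fun t => threeMv728.get t % 4096) = 2083 := by
  decide +kernel

theorem three_value2Q1 : CoverEval.evalPart threeCert threeVal.get 640 640 (fun t => threeMv438.get t % 4096) (fun t => threeMv728.get t / 4096) (fun t => threeMv728.get t % 4096) = 2065 := by
  decide +kernel

theorem three_value2Q2 : CoverEval.evalPart threeCert threeVal.get 1280 640 (fun t => threeMv438.get t % 4096) (fun t => threeMv728.get t / 4096) (fun t => threeMv728.get t % 4096) = 2123 := by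
  decide +kernel

theorem three_value2Q3 : CoverEval.evalPart threeCert threeVal.get 1920 640 (fun t => threeMv438.get t % 4096) (fun t => threeMv728.get t / 4096) (fun t => threeMv728.get t % 4096) = 2075 := by
  decide +kernel

theorem three_value2Q4 : CoverEval.evalPart threeCert threeVal.get 2560 640 (fun t => threeMv438.get t % 4096) (fun t => threeMv728.get t / 4096) (fun t => threeMv728.get t % 4096) = 2106 := by
  decide +kernel

theorem three_value2Q5 : CoverEval.evalPart threeCert threeVal.get 3200 640 (fun t => threeMv438.get t % 4096) (fun t => threeMv728.get t / 4096) (fun t => threeMv728.get t % 4096) = 2102 := by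
  decide +kernel

theorem three_value2Q6 : CoverEval.evalPart threeCert threeVal.get 3840 640 (fun t => threeMv438.get t % 4096) (fun t => threeMv728.get t / 4096) (fun t => threeMv728.get t % 4096) = 2020 := by
  decide +kernel

theorem three_value2Q : CoverTable.evalSum threeCert threeVal.get 4480 (fun t => threeMv438.get t % 4096) (fun t => threeMv728.get t / 4096) (fun t => threeMv728.get t % 4096) = 14574 := by
  refine (CoverEval.evalSum_add threeCert threeVal.get (a := 3840) (b := 640) (N := 4480) (by norm_num) (fun t => threeMv438.get t % 4096) (fun t => threeMv728.get t / 4096) (fun t => threeMv728.get t % 4096) (CoverEval.evalSum_add threeCert threeVal.get (a := 3200) (b := 640) (N := 3840) (by norm_num) (fun t => threeMv438.get t % 4096) (fun t => threeMv728.get t / 4096) (fun t => threeMv728.get t % 4096) (CoverEval.evalSum_add threeCert threeVal.get (a := 2560) (b := 640) (N := 3200) (by norm_num) (fun t => threeMv438.get t % 4096) (fun t => threeMv728.get t / 4096) (fun t => threeMv728.get t % 4096) (CoverEval.evalSum_add threeCert threeVal.get (a := 1920) (b := 640) (N := 2560) (by norm_num) (fun t => threeMv438.get t % 4096) (fun t =>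 threeMv728.get t / 4096) (fun t => threeMv728.get t % 4096) (CoverEval.evalSum_add threeCert threeVal.get (a := 1280) (b := 640) (N := 1920) (by norm_num) (fun t => threeMv438.get t % 4096) (fun t => threeMv728.get t / 4096) (fun t => threeMv728.get t % 4096) (CoverEval.evalSum_add threeCert threeVal.get (a := 640) (b := 640) (N := 1280) (by norm_num) (fun t => threeMv438.get t % 4096) (fun t => threeMv728.get t / 4096) (fun t => threeMv728.get t % 4096) (CoverEval.evalSum_add threeCert threeVal.get (a := 0) (b := 640) (N := 640) (by norm_num) (fun t => threeMv438.get t % 4096) (fun t => threeMv728.get t / 4096) (fun t => threeMv728.get t % 4096) (CoverEval.evalSum_zero threeCert threeVal.get (fun t => threeMv438.get t % 4096) (fun t => threeMv728.get t / 4096) (fun t => threeMv728.get t % 4096)) three_value2Q0) three_value2Q1) three_value2Q2) three_value2Q3) three_value2Q4) three_value2Q5) three_value2Q6).trans ?_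
  norm_num

theorem three_value2 : ((CoverTable.evalSum threeCert threeVal.get 4480 (fun t => threeMv728.get t % 4096) (fun t => threeMv438.get t / 4096) (fun t => threeMv438.get t % 4096) : ℕ) : ZMod 3) - ((CoverTable.evalSum threeCert threeVal.get 4480 (fun t => threeMv438.get t % 4096) (fun t => threeMv728.get t / 4096) (fun t => threeMv728.get t % 4096) : ℕ) : ZMod 3) = 2 := by
  rw [three_value2P, three_value2Q]
  decide +kernel

theorem three_value3P0 : CoverEval.evalPart threeCert threeVal.get 0 640 (fun t => threeMv723.get t % 4096) (fun t => threeMv608.get t / 4096) (fun t => threeMv608.get t % 4096) = 2072 := by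
  decide +kernel

theorem three_value3P1 : CoverEval.evalPart threeCert threeVal.get 640 640 (fun t => threeMv723.get t % 4096) (fun t => threeMv608.get t / 4096) (fun t => threeMv608.get t % 4096) = 2092 := by
  decide +kernel

theorem three_value3P2 : CoverEval.evalPart threeCert threeVal.get 1280 640 (fun t => threeMv723.get t % 4096) (fun t => threeMv608.get t / 4096) (fun t => threeMv608.get t % 4096) = 2070 := by
  decide +kernel

theorem three_value3P3 : CoverEval.evalPart threeCert threeVal.get 1920 640 (fun t => threeMv723.get t % 4096) (fun t => threeMv608.get t / 4096) (fun t => threeMv608.get t % 4096) = 2136 := by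
  decide +kernel

theorem three_value3P4 : CoverEval.evalPart threeCert threeVal.get 2560 640 (fun t => threeMv723.get t % 4096) (fun t => threeMv608.get t / 4096) (fun t => threeMv608.get t % 4096) = 2140 := by
  decide +kernel

theorem three_value3P5 : CoverEval.evalPart threeCert threeVal.get 3200 640 (fun t => threeMv723.get t % 4096) (fun t => threeMv608.get t / 4096) (fun t => threeMv608.get t % 4096) = 2098 := by
  decide +kernel

theorem three_value3P6 : CoverEval.evalPart threeCert threeVal.get 3840 640 (fun t => threeMv723.get t % 4096) (fun t => threeMv608.get t / 4096) (fun t => threeMv608.get t % 4096) = 1992 := by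
  decide +kernel

theorem three_value3P : CoverTable.evalSum threeCert threeVal.get 4480 (fun t => threeMv723.get t % 4096) (fun t => threeMv608.get t / 4096) (fun t => threeMv608.get t % 4096) = 14600 := by
  refine (CoverEval.evalSum_add threeCert threeVal.get (a := 3840) (b := 640) (N := 4480) (by norm_num) (fun t => threeMv723.get t % 4096) (fun t => threeMv608.get t / 4096) (fun t => threeMv608.get t % 4096) (CoverEval.evalSum_add threeCert threeVal.get (a := 3200) (b := 640) (N := 3840) (by norm_num) (fun t => threeMv723.get t % 4096) (fun t => threeMv608.get t / 4096) (fun t => threeMv608.get t % 4096) (CoverEval.evalSum_add threeCert threeVal.get (a := 2560) (b := 640) (N := 3200) (by norm_num) (fun t => threeMv723.get t % 4096) (fun t => threeMv608.get t / 4096) (fun t => threeMv608.get t % 4096) (CoverEval.evalSum_add threeCert threeVal.get (a := 1920) (b := 640) (N := 2560) (by norm_num) (fun t => threeMv723.get t % 4096) (fun t => threeMv608.get t / 4096) (fun t => threeMv608.get t % 4096) (CoverEval.evalSum_add threeCert threeVal.get (a := 1280) (b := 640) (N := 1920) (by norm_num) (fun t => threeMv723.get t % 4096) (fun t => threeMv608.get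 t / 4096) (fun t => threeMv608.get t % 4096) (CoverEval.evalSum_add threeCert threeVal.get (a := 640) (b := 640) (N := 1280) (by norm_num) (fun t => threeMv723.get t % 4096) (fun t => threeMv608.get t / 4096) (fun t => threeMv608.get t % 4096) (CoverEval.evalSum_add threeCert threeVal.get (a := 0) (b := 640) (N := 640) (by norm_num) (fun t => threeMv723.get t % 4096) (fun t => threeMv608.get t / 4096) (fun t => threeMv608.get t % 4096) (CoverEval.evalSum_zero threeCert threeVal.get (fun t => threeMv723.get t % 4096) (fun t => threeMv608.get t / 4096) (fun t => threeMv608.get t % 4096)) three_value3P0) three_value3P1) three_value3P2) three_value3P3) three_value3P4) three_value3P5) three_value3P6).trans ?_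
  norm_num

theorem three_value3Q0 : CoverEval.evalPart threeCert threeVal.get 0 640 (fun t => threeMv608.get t % 4096) (fun t => threeMv723.get t / 4096) (fun t => threeMv723.get t % 4096) = 2173 := by
  decide +kernel

theorem three_value3Q1 : CoverEval.evalPart threeCert threeVal.get 640 640 (fun t => threeMv608.get t % 4096) (fun t => threeMv723.get t / 4096) (fun t => threeMv723.get t % 4096) = 2055 := by
  decide +kernel

theorem three_value3Q2 : CoverEval.evalPart threeCert threeVal.get 1280 640 (fun t => threeMv608.get t % 4096) (fun t => threeMv723.get t / 4096) (fun t => threeMv723.get t % 4096) = 2048 := by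
  decide +kernel

theorem three_value3Q3 : CoverEval.evalPart threeCert threeVal.get 1920 640 (fun t => threeMv608.get t % 4096) (fun t => threeMv723.get t / 4096) (fun t => threeMv723.get t % 4096) = 2132 := by
  decide +kernel

theorem three_value3Q4 : CoverEval.evalPart threeCert threeVal.get 2560 640 (fun t => threeMv608.get t % 4096) (fun t => threeMv723.get t / 4096) (fun t => threeMv723.get t % 4096) = 2006 := by
  decide +kernel

theorem three_value3Q5 : CoverEval.evalPart threeCert threeVal.get 3200 640 (fun t => threeMv608.get t % 4096) (fun t => threeMv723.get t / 4096) (fun t => threeMv723.get t % 4096) = 2051 := by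
  decide +kernel

theorem three_value3Q6 : CoverEval.evalPart threeCert threeVal.get 3840 640 (fun t => threeMv608.get t % 4096) (fun t => threeMv723.get t / 4096) (fun t => threeMv723.get t % 4096) = 2094 := by
  decide +kernel

theorem three_value3Q : CoverTable.evalSum threeCert threeVal.get 4480 (fun t => threeMv608.get t % 4096) (fun t => threeMv723.get t / 4096) (fun t => threeMv723.get t % 4096) = 14559 := by
  refine (CoverEval.evalSum_add threeCert threeVal.get (a := 3840) (b := 640) (N := 4480) (by norm_num) (fun t => threeMv608.get t % 4096) (fun t => threeMv723.get t / 4096) (fun t => threeMv723.get t % 4096) (CoverEval.evalSum_add threeCert threeVal.get (a := 3200) (b := 640) (N := 3840) (by norm_num) (fun t => threeMv608.get t % 4096) (fun t => threeMv723.get t / 4096) (fun t => threeMv723.get t % 4096) (CoverEval.evalSum_add threeCert threeVal.get (a := 2560) (b := 640) (N := 3200) (by norm_num) (fun t => threeMv608.get t % 4096) (fun t => threeMv723.get t / 4096) (fun t => threeMv723.get t % 4096) (CoverEval.evalSum_add threeCert threeVal.get (a := 1920) (b := 640) (N := 2560) (by norm_num) (fun t => threeMv608.get t % 4096) (fun t =>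 threeMv723.get t / 4096) (fun t => threeMv723.get t % 4096) (CoverEval.evalSum_add threeCert threeVal.get (a := 1280) (b := 640) (N := 1920) (by norm_num) (fun t => threeMv608.get t % 4096) (fun t => threeMv723.get t / 4096) (fun t => threeMv723.get t % 4096) (CoverEval.evalSum_add threeCert threeVal.get (a := 640) (b := 640) (N := 1280) (by norm_num) (fun t => threeMv608.get t % 4096) (fun t => threeMv723.get t / 4096) (fun t => threeMv723.get t % 4096) (CoverEval.evalSum_add threeCert threeVal.get (a := 0) (b := 640) (N := 640) (by norm_num) (fun t => threeMv608.get t % 4096) (fun t => threeMv723.get t / 4096) (fun t => threeMv723.get t % 4096) (CoverEval.evalSum_zero threeCert threeVal.get (fun t => threeMv608.get t % 4096) (fun t => threeMv723.get t / 4096) (fun t => threeMv723.get t % 4096)) three_value3Q0) three_value3Q1) three_value3Q2) three_value3Q3) three_value3Q4) three_value3Q5) three_value3Q6).trans ?_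
  norm_num

theorem three_value3 : ((CoverTable.evalSum threeCert threeVal.get 4480 (fun t => threeMv723.get t % 4096) (fun t => threeMv608.get t / 4096) (fun t => threeMv608.get t % 4096) : ℕ) : ZMod 3) - ((CoverTable.evalSum threeCert threeVal.get 4480 (fun t => threeMv608.get t % 4096) (fun t => threeMv723.get t / 4096) (fun t => threeMv723.get t % 4096) : ℕ) : ZMod 3) = 2 := by
  rw [three_value3P, three_value3Q]
  decide +kernel

theorem three_value4P0 : CoverEval.evalPart threeCert threeVal.get 0 640 (fun t => threeMv728.get t % 4096) (fun t => threeMv405.get t / 4096) (fun t => threeMv405.get t % 4096) = 2095 := by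
  decide +kernel

theorem three_value4P1 : CoverEval.evalPart threeCert threeVal.get 640 640 (fun t => threeMv728.get t % 4096) (fun t => threeMv405.get t / 4096) (fun t => threeMv405.get t % 4096) = 2115 := by
  decide +kernel

theorem three_value4P2 : CoverEval.evalPart threeCert threeVal.get 1280 640 (fun t => threeMv728.get t % 4096) (fun t => threeMv405.get t / 4096) (fun t => threeMv405.get t % 4096) = 2135 := by
  decide +kernel

theorem three_value4P3 : CoverEval.evalPart threeCert threeVal.get 1920 640 (fun t => threeMv728.get t % 4096) (fun t => threeMv405.get t / 4096) (fun t => threeMv405.get t % 4096) = 2038 := by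
  decide +kernel

theorem three_value4P4 : CoverEval.evalPart threeCert threeVal.get 2560 640 (fun t => threeMv728.get t % 4096) (fun t => threeMv405.get t / 4096) (fun t => threeMv405.get t % 4096) = 2213 := by
  decide +kernel

theorem three_value4P5 : CoverEval.evalPart threeCert threeVal.get 3200 640 (fun t => threeMv728.get t % 4096) (fun t => threeMv405.get t / 4096) (fun t => threeMv405.get t % 4096) = 2140 := by
  decide +kernel

theorem three_value4P6 : CoverEval.evalPart threeCert threeVal.get 3840 640 (fun t => threeMv728.get t % 4096) (fun t => threeMv405.get t / 4096) (fun t => threeMv405.get t % 4096) = 2041 := by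
  decide +kernel

theorem three_value4P : CoverTable.evalSum threeCert threeVal.get 4480 (fun t => threeMv728.get t % 4096) (fun t => threeMv405.get t / 4096) (fun t => threeMv405.get t % 4096) = 14777 := by
  refine (CoverEval.evalSum_add threeCert threeVal.get (a := 3840) (b := 640) (N := 4480) (by norm_num) (fun t => threeMv728.get t % 4096) (fun t => threeMv405.get t / 4096) (fun t => threeMv405.get t % 4096) (CoverEval.evalSum_add threeCert threeVal.get (a := 3200) (b := 640) (N := 3840) (by norm_num) (fun t => threeMv728.get t % 4096) (fun t => threeMv405.get t / 4096) (fun t => threeMv405.get t % 4096) (CoverEval.evalSum_add threeCert threeVal.get (a := 2560) (b := 640) (N := 3200) (by norm_num) (fun t => threeMv728.get t % 4096) (fun t => threeMv405.get t / 4096) (fun t => threeMv405.get t % 4096) (CoverEval.evalSum_add threeCert threeVal.get (a := 1920) (b := 640) (N := 2560) (by norm_num) (fun t => threeMv728.get t % 4096) (fun t => threeMv405.get t / 4096) (fun t => threeMv405.get t % 4096) (CoverEval.evalSum_add threeCert threeVal.get (a := 1280) (b := 640) (N := 1920) (by norm_num) (fun t => threeMv728.get t % 4096) (fun t => threeMv405.get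 t / 4096) (fun t => threeMv405.get t % 4096) (CoverEval.evalSum_add threeCert threeVal.get (a := 640) (b := 640) (N := 1280) (by norm_num) (fun t => threeMv728.get t % 4096) (fun t => threeMv405.get t / 4096) (fun t => threeMv405.get t % 4096) (CoverEval.evalSum_add threeCert threeVal.get (a := 0) (b := 640) (N := 640) (by norm_num) (fun t => threeMv728.get t % 4096) (fun t => threeMv405.get t / 4096) (fun t => threeMv405.get t % 4096) (CoverEval.evalSum_zero threeCert threeVal.get (fun t => threeMv728.get t % 4096) (fun t => threeMv405.get t / 4096) (fun t => threeMv405.get t % 4096)) three_value4P0) three_value4P1) three_value4P2) three_value4P3) three_value4P4) three_value4P5) three_value4P6).trans ?_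
  norm_num

theorem three_value4Q0 : CoverEval.evalPart threeCert threeVal.get 0 640 (fun t => threeMv405.get t % 4096) (fun t => threeMv728.get t / 4096) (fun t => threeMv728.get t % 4096) = 2153 := by
  decide +kernel

theorem three_value4Q1 : CoverEval.evalPart threeCert threeVal.get 640 640 (fun t => threeMv405.get t % 4096) (fun t => threeMv728.get t / 4096) (fun t => threeMv728.get t % 4096) = 2045 := by
  decide +kernel

theorem three_value4Q2 : CoverEval.evalPart threeCert threeVal.get 1280 640 (fun t => threeMv405.get t % 4096) (fun t => threeMv728.get t / 4096) (fun t => threeMv728.get t % 4096) = 2073 := by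
  decide +kernel

theorem three_value4Q3 : CoverEval.evalPart threeCert threeVal.get 1920 640 (fun t => threeMv405.get t % 4096) (fun t => threeMv728.get t / 4096) (fun t => threeMv728.get t % 4096) = 2113 := by
  decide +kernel

theorem three_value4Q4 : CoverEval.evalPart threeCert threeVal.get 2560 640 (fun t => threeMv405.get t % 4096) (fun t => threeMv728.get t / 4096) (fun t => threeMv728.get t % 4096) = 1966 := by
  decide +kernel

theorem three_value4Q5 : CoverEval.evalPart threeCert threeVal.get 3200 640 (fun t => threeMv405.get t % 4096) (fun t => threeMv728.get t / 4096) (fun t => threeMv728.get t % 4096) = 2082 := by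
  decide +kernel

theorem three_value4Q6 : CoverEval.evalPart threeCert threeVal.get 3840 640 (fun t => threeMv405.get t % 4096) (fun t => threeMv728.get t / 4096) (fun t => threeMv728.get t % 4096) = 1995 := by
  decide +kernel

theorem three_value4Q : CoverTable.evalSum threeCert threeVal.get 4480 (fun t => threeMv405.get t % 4096) (fun t => threeMv728.get t / 4096) (fun t => threeMv728.get t % 4096) = 14427 := by
  refine (CoverEval.evalSum_add threeCert threeVal.get (a := 3840) (b := 640) (N := 4480) (by norm_num) (fun t => threeMv405.get t % 4096) (fun t => threeMv728.get t / 4096) (fun t => threeMv728.get t % 4096) (CoverEval.evalSum_add threeCert threeVal.get (a := 3200) (b := 640) (N := 3840) (by norm_num) (fun t => threeMv405.get t % 4096) (fun t => threeMv728.get t / 4096) (fun t => threeMv728.get t % 4096) (CoverEval.evalSum_add threeCert threeVal.get (a := 2560) (b := 640) (N := 3200) (by norm_num) (fun t => threeMv405.get t % 4096) (fun t => threeMv728.get t / 4096) (fun t => threeMv728.get t % 4096) (CoverEval.evalSum_add threeCert threeVal.get (a := 1920) (b := 640) (N := 2560) (by norm_num) (fun t => threeMv405.get t % 4096) (fun t =>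 threeMv728.get t / 4096) (fun t => threeMv728.get t % 4096) (CoverEval.evalSum_add threeCert threeVal.get (a := 1280) (b := 640) (N := 1920) (by norm_num) (fun t => threeMv405.get t % 4096) (fun t => threeMv728.get t / 4096) (fun t => threeMv728.get t % 4096) (CoverEval.evalSum_add threeCert threeVal.get (a := 640) (b := 640) (N := 1280) (by norm_num) (fun t => threeMv405.get t % 4096) (fun t => threeMv728.get t / 4096) (fun t => threeMv728.get t % 4096) (CoverEval.evalSum_add threeCert threeVal.get (a := 0) (b := 640) (N := 640) (by norm_num) (fun t => threeMv405.get t % 4096) (fun t => threeMv728.get t / 4096) (fun t => threeMv728.get t % 4096) (CoverEval.evalSum_zero threeCert threeVal.get (fun t => threeMv405.get t % 4096) (fun t => threeMv728.get t / 4096) (fun t => threeMv728.get t % 4096)) three_value4Q0) three_value4Q1) three_value4Q2) three_value4Q3) three_value4Q4) three_value4Q5) three_value4Q6).trans ?_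
  norm_num

theorem three_value4 : ((CoverTable.evalSum threeCert threeVal.get 4480 (fun t => threeMv728.get t % 4096) (fun t => threeMv405.get t / 4096) (fun t => threeMv405.get t % 4096) : ℕ) : ZMod 3) - ((CoverTable.evalSum threeCert threeVal.get 4480 (fun t => threeMv405.get t % 4096) (fun t => threeMv728.get t / 4096) (fun t => threeMv728.get t % 4096) : ℕ) : ZMod 3) = 2 := by
  rw [three_value4P, three_value4Q]
  decide +kernel


end Cfsg.Agent.Lie.McLaughlinMult
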