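import Cfsg.Agent.Lib.Lie.CoverAssemble
import Cfsg.Agent.Lib.Lie.McLaughlinOut.Main
import Cfsg.Agent.Lib.Small.PSLThreeTwo
import Cfsg.Agent.Lib.Lie.McLaughlinMult.Values
import Cfsg.Agent.Lib.Lie.McLaughlinMult.Reps
import Cfsg.Agent.Lib.Lie.McLaughlinMult.Two
import Cfsg.Agent.Lib.Lie.McLaughlinMult.Five

/-!
The Schur multiplier of the McLaughlin group has order three: a cocycle on a Sylow subgroup is corestricted first to
the stabiliser of a point and then to the group, and tables at two, three and five bound the multiplier.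
-/

set_option autoImplicit false
set_option maxRecDepth 100000

noncomputable section

namespace Cfsg.Agent.Lie.McLaughlinMult

open Cfsg Cfsg.Agent.Lie PermCover CoverCocycle McLaughlinOut
open Cfsg.Agent.Lie.PermNine (Rep pg)

local instance instAct : MulAction MG (Fin 275) := MulAction.compHom _ perm275

theorem smul_eq (g : MG) (x : Fin 275) : g • x = perm275 g x := rfl

theorem chain_reps : PermNine.Reps (φ := perm275) (Set.univ : Set MG) chainX := fun l hl =>
  ⟨(reps_of_roots rootsX_ok l hl).1, fun p hp => by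
    obtain ⟨u, -, hu⟩ := (reps_of_roots rootsX_ok l hl).2 p hp
    exact ⟨u, Set.mem_univ _, hu⟩⟩

theorem baseX_rep : ∀ p ∈ baseX, ∃ g, Rep perm275 g p := by
  intro p hp
  have hm : p ∈ (chainX.map Prod.snd).flatten := by
    rw [chainU_facts.2.2.2.2, List.mem_append]
    exact (List.mem_append.1 hp).symm
  obtain ⟨l, hl, hpl⟩ := List.mem_flatten.1 hm
  obtain ⟨l', hl', rfl⟩ := List.mem_map.1 hl
  obtain ⟨u, -, hu⟩ := (chain_reps l' hl').2 p hpl
  exact ⟨u, hu⟩

/-- The base points. -/
def baseF : List (Fin 275) := [0, 155, 144, 10, 119, 38]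

theorem baseF_val : baseF.map Fin.val = baseB := by decide +kernel

theorem chainX_base : chainX.map Prod.fst = baseB := chainU_facts.2.1

theorem fix_base (g : MG) (hg : ∀ b ∈ baseF, perm275 g b = b) : g = 1 := by
  refine fix_one_of_chain chainX_ok chain_reps (by rw [sizes_ok.1, card_MG]) (by rw [sizes_ok.1]; norm_num)
    fun k hk => hg k ?_
  rw [chainX_base, ← baseF_val, List.mem_map] at hk
  obtain ⟨b, hb', e⟩ := hk
  exact Fin.ext e ▸ hb'

/-- The group read on the points. -/
def modelG : Model MG 275 where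
  n_le := by norm_num
  φ := perm275
  inj := perm275_injective
  base := baseX
  base_rep := baseX_rep
  B := baseF
  B_fix := fix_base

theorem modelG_B : modelG.B.map Fin.val = baseB := baseF_val

/-- The stabiliser of the first point. -/
def U : Subgroup MG := (MulAction.stabilizer (Equiv.Perm (Fin 275)) (0 : Fin 275)).comap perm275

theorem mem_U {g : MG} : g ∈ U ↔ perm275 g 0 = 0 := Iff.rfl

/-- The representative of a point. -/
def repG (x : Fin 275) : MG := modelG.elem (repT.get x)

theorem repG_rep (x : Fin 275) : Rep perm275 (repG x) (repT.get x) := by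
  have h := rep_ok x x.2
  simp only [repOK, Bool.and_eq_true] at h
  exact (modelG.elem_spec (e := (repT.get x, repI.get x, repW.get x)) h.1).1

theorem repG_zero (x : Fin 275) : perm275 (repG x) 0 = x := by
  have h := rep_ok x x.2
  simp only [repOK, Bool.and_eq_true, Nat.beq_eq] at h
  exact Fin.ext ((repG_rep x 0).trans h.2)

theorem fac_mem (g : MG) (x : Fin 275) : fac repG g x ∈ U := by
  rw [mem_U, fac, smul_eq, map_mul, map_mul, Equiv.Perm.mul_apply, Equiv.Perm.mul_apply, repG_zero, map_inv]
  exact Equiv.Perm.inv_eq_iff_eq.2 (repG_zero _).symm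

theorem card_U : Nat.card U = 3265920 := by
  have hmem : ∀ g : MG, (repG (perm275 g 0))⁻¹ * g ∈ U := fun g => by
    rw [mem_U, map_mul, Equiv.Perm.mul_apply, map_inv]
    exact Equiv.Perm.inv_eq_iff_eq.2 (repG_zero _).symm
  have e : MG ≃ Fin 275 × U :=
    { toFun := fun g => (perm275 g 0, ⟨_, hmem g⟩)
      invFun := fun p => repG p.1 * p.2
      left_inv := fun g => mul_inv_cancel_left _ g
      right_inv := fun p => by
        have h : perm275 (repG p.1 * p.2) 0 = p.1 := by
          rw [map_mul, Equiv.Perm.mul_apply, mem_U.1 p.2.2, repG_zero]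
        refine Prod.ext h (Subtype.ext ?_)
        show (repG (perm275 (repG p.1 * p.2) 0))⁻¹ * (repG p.1 * p.2) = p.2
        rw [h, inv_mul_cancel_left] }
  have h := Nat.card_congr e
  rw [card_MG, Nat.card_prod, Nat.card_fin] at h
  omega

theorem baseU_rep : ∀ p ∈ baseU, ∃ g : U, Rep (perm275.comp U.subtype) g p := by
  intro p hp
  obtain ⟨g, hg⟩ := baseX_rep p (List.mem_append_left _ hp)
  refine ⟨⟨g, mem_U.2 (Fin.ext ?_)⟩, hg⟩
  rw [hg]
  exact Nat.eq_of_beq_eq_true (List.all_eq_true.1 baseU_fix p hp)

/-- The stabiliser read on the points. -/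
def modelU : Model U 275 where
  n_le := by norm_num
  φ := perm275.comp U.subtype
  inj := perm275_injective.comp U.subtype_injective
  base := baseU
  base_rep := baseU_rep
  B := baseF
  B_fix g hg := Subtype.ext (fix_base g hg)

theorem modelU_B : modelU.B.map Fin.val = baseB := baseF_val

theorem tail_len : tailOps.length = 1154 := by decide +kernel

theorem closure_top : Subgroup.closure {g | ∃ e ∈ xsU, g = modelU.elem e.1} = ⊤ := by
  obtain ⟨K, hK⟩ : ∃ K, K = Subgroup.closure {g | ∃ e ∈ xsU, g = modelU.elem e.1} := ⟨_, rfl⟩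
  rw [← hK]
  have hlit : ∀ i < 2 + tailOps.length, ∃ u ∈ K, Rep (perm275.comp U.subtype) u (tailLit i) := by
    intro i
    induction i using Nat.strong_induction_on with
    | _ i ih =>
      intro hi
      rcases Nat.lt_or_ge i 2 with h2 | h2
      · have hm : tailLit i ∈ xsU.map Prod.fst := by
          rw [← tail_roots.2.2]
          interval_cases i <;> simp
        obtain ⟨e, he, hee⟩ := List.mem_map.1 hm
        exact ⟨modelU.elem (tailLit i), hK ▸ Subgroup.subset_closure ⟨e, he, congrArg modelU.elem hee.symm⟩,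
          hee ▸ (modelU.elem_spec (List.all_eq_true.1 xsU_ok e he)).1⟩
      obtain ⟨j, rfl⟩ : ∃ j, i = j + 2 := ⟨i - 2, by omega⟩
      have hj : j < 1154 := by have := tail_len; omega
      have h := tail_steps j hj
      simp only [tailStep, Bool.and_eq_true, Nat.blt_eq, List.all_eq_true, List.mem_range, Nat.beq_eq] at h
      obtain ⟨⟨ha, hb⟩, he⟩ := h
      obtain ⟨u, hu, ru⟩ := ih _ ha (ha.trans hi)
      obtain ⟨v, hv, rv⟩ := ih _ hb (hb.trans hi)
      exact ⟨u * v, mul_mem hu hv, fun k => by
        rw [map_mul, Equiv.Perm.mul_apply, ru, rv]; exact (he k k.2).symm⟩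
  refine (Subgroup.eq_top_iff' K).2 (PermNine.chain_mem modelU.inj chainU_ok (fun l hl => ⟨?_, fun p hp => ?_⟩)
    (by rw [chainU_facts.1, card_U]))
  · exact (chain_reps l (List.mem_of_mem_drop hl)).1
  · have hp' : p ∈ baseU := chainU_facts.2.2.2.1 ▸ List.mem_flatten.2 ⟨_, List.mem_map.2 ⟨l, hl, rfl⟩, hp⟩
    rw [← tail_roots.1, List.mem_map] at hp'
    obtain ⟨r, hr, rfl⟩ := hp'
    exact hlit r ((Nat.blt_eq.mp (List.all_eq_true.1 tail_roots.2.1 r hr)).trans_le
      (le_of_eq (congrArg (2 + ·) tail_len).symm))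

/-- The table at three on the stabiliser. -/
def dataU : CentralBound.Data threeCert U :=
  modelU.data threeCert threeGens three_gensU rfl (by rw [modelU_B]; rfl)
    (by rw [modelU_B]; decide +kernel) three_valid threeOrd three_ord

theorem mvs_X : ∀ i < xsU.length, ∀ j < 4480, movesOK (modelU.B.map Fin.val) threeCert threeGens threeT 4480
    (xsU.getD i (0, 0, [])).1 ([threeMvXa, threeMvXb].getD i (.leaf 0)) j = true := by
  intro i hi j hj
  rw [modelU_B]
  match i, hi with
  | 0, _ => exact three_mvXa j hj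
  | 1, _ => exact three_mvXb j hj
  | k + 2, h => exact absurd (show k + 2 < 2 from h) (by omega)

/-- The cosets of the Sylow subgroup in the stabiliser. -/
def cosU : CoverTable.Cos dataU :=
  modelU.cos three_gensU rfl dataU (fun _ => rfl) xsU_ok closure_top (Nat.succ_pos _)
    (by rw [card_U]; rfl) three_T [threeMvXa, threeMvXb] mvs_X

/-- The cocycle on the stabiliser. -/
def cU : Cocycle U (ZMod 3) := cosU.cocycle threeVal.get 3 three_left three_wd

theorem moves_three {i : ℕ} {v : ℕ} (hi : i < 729)
    (hv : ((List.range 275).all fun k => Nat.beq (pg v k) (imgW threeGens (threeCert.wd i) k)) = true)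
    {mv : Janko.Tree ℕ} (h : ∀ j < 4480, movesOK baseB threeCert threeGens threeT 4480 v mv j = true) :
    CoverTable.Moves dataU 4480 (fun j => modelU.elem (threeT.get j))
      (CoverTable.el dataU i) (fun j => mv.get j / 4096) (fun j => mv.get j % 4096) :=
  modelU.moves (v := v) three_gensU rfl dataU (fun _ => rfl) (modelU.exists_T xsU_ok three_T)
    (fun k => by
      rw [Nat.eq_of_beq_eq_true (List.all_eq_true.1 hv k (List.mem_range.2 k.2))]
      exact modelU.word_apply three_gensU _ (fun s hs => Nat.blt_eq.mp (List.all_eq_true.1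
        (CoverTable.wd_letters dataU (i := i) hi) s hs)) k)
    (by rwa [modelU_B])

theorem value_three {i j vi vj : ℕ} (hi : i < 729) (hj : j < 729)
    (hvi : ((List.range 275).all fun k => Nat.beq (pg vi k) (imgW threeGens (threeCert.wd i) k)) = true)
    (hvj : ((List.range 275).all fun k => Nat.beq (pg vj k) (imgW threeGens (threeCert.wd j) k)) = true)
    {mi mj : Janko.Tree ℕ} (h1 : ∀ t < 4480, movesOK baseB threeCert threeGens threeT 4480 vi mi t = true)
    (h2 : ∀ t < 4480, movesOK baseB threeCert threeGens threeT 4480 vj mj t = true) {v : ZMod 3}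
    (hv : ((CoverTable.evalSum threeCert threeVal.get 4480 (fun t => mi.get t % 4096) (fun t => mj.get t / 4096) (fun t => mj.get t % 4096) : ℕ) : ZMod 3) -
      ((CoverTable.evalSum threeCert threeVal.get 4480 (fun t => mj.get t % 4096) (fun t => mi.get t / 4096) (fun t => mi.get t % 4096) : ℕ) : ZMod 3) = v) :
    cU.f (CoverTable.el dataU i) (CoverTable.el dataU j) - cU.f (CoverTable.el dataU j) (CoverTable.el dataU i) = v := by
  have m1 := moves_three hi hvi h1
  have m2 := moves_three hj hvj h2
  rw [cU, cosU.cocycle_eval threeVal.get 3 three_left three_wd m1 m2,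
    cosU.cocycle_eval threeVal.get 3 three_left three_wd m2 m1]
  exact hv

open scoped _root_.Classical in
/-- The cocycle read on elements of the group. -/
def locU : Local MG (ZMod 3) where
  H := U
  c a b := if ha : a ∈ U then (if hb : b ∈ U then cU.f ⟨a, ha⟩ ⟨b, hb⟩ else 0) else 0
  cocycle a ha b hb l hl := by
    simp only [ha, hb, hl, mul_mem ha hb, mul_mem hb hl, dite_true]
    exact cU.isCocycle ⟨a, ha⟩ ⟨b, hb⟩ ⟨l, hl⟩

/-- The cocycle on the group. -/
def cover : Cocycle MG (ZMod 3) := cor locU repG fac_mem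

theorem loc_eq {a b : MG} (ha : a ∈ U) (hb : b ∈ U) : locU.c a b = cU.f ⟨a, ha⟩ ⟨b, hb⟩ := by
  simp only [locU, ha, hb, dite_true]

theorem loc_one_left {b : MG} (hb : b ∈ U) : locU.c 1 b = cU.f 1 1 := by
  rw [loc_eq (one_mem _) hb]
  exact cocycle_one_left cU _

theorem loc_one_right {a : MG} (ha : a ∈ U) : locU.c a 1 = cU.f 1 1 := by
  rw [loc_eq ha (one_mem _)]
  exact cocycle_one_right cU _

theorem loc_of_one {a b : MG} (ha : a ∈ U) (hb : b ∈ U) (h : a = 1 ∨ b = 1) : locU.c a b = cU.f 1 1 := by
  rcases h with rfl | rfl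
  exacts [loc_one_left hb, loc_one_right ha]

/-- The two commuting elements. -/
def gG : MG := modelG.elem gE.1

/-- The second one. -/
def hG : MG := modelG.elem hE.1

theorem gG_rep : Rep perm275 gG gE.1 := (modelG.elem_spec gh_ok.1).1

theorem hG_rep : Rep perm275 hG hE.1 := (modelG.elem_spec gh_ok.2.1).1

theorem gh_comm : gG * hG = hG * gG := modelG.ext fun b hb => by
  show (perm275 (gG * hG) b : ℕ) = perm275 (hG * gG) b
  rw [map_mul, map_mul, Equiv.Perm.mul_apply, Equiv.Perm.mul_apply, gG_rep, hG_rep, hG_rep, gG_rep]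
  exact Nat.eq_of_beq_eq_true (List.all_eq_true.1 gh_ok.2.2 b
    (modelG_B ▸ List.mem_map_of_mem (f := Fin.val) hb))

theorem fac_triv {g : MG} {v : ℕ} (hg : Rep perm275 g v) (y : Fin 275) (h : stepTriv v y = true) :
    fac repG g y = 1 := by
  rw [fac, mul_assoc, inv_mul_eq_one]
  refine modelG.ext fun b hb => ?_
  show (perm275 (repG (g • y)) b : ℕ) = perm275 (g * repG y) b
  rw [map_mul, Equiv.Perm.mul_apply, repG_rep, hg, repG_rep, smul_eq, hg]
  exact (Nat.eq_of_beq_eq_true (List.all_eq_true.1 h b (modelG_B ▸ List.mem_map_of_mem (f := Fin.val) hb))).symm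

/-- The term of a point in the value. -/
def term (x : Fin 275) : ZMod 3 :=
  locU.c (fac repG gG (hG • x)) (fac repG hG x) - locU.c (fac repG hG (gG • x)) (fac repG gG x)

theorem term_off (x : Fin 275) (h : (x : ℕ) ∉ fixPts.map Prod.fst) : term x = 0 := by
  have hx := off_ok x x.2
  simp only [offOK, Bool.or_eq_true, Bool.and_eq_true, List.contains_iff_mem] at hx
  obtain ⟨h1, h2⟩ := hx.resolve_left h
  have e1 : pg hE.1 x = ((hG • x : Fin 275) : ℕ) := (hG_rep x).symm
  have e2 : pg gE.1 x = ((gG • x : Fin 275) : ℕ) := (gG_rep x).symm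
  rw [e1] at h1
  rw [e2] at h2
  rw [term, loc_of_one (fac_mem _ _) (fac_mem _ _) (h1.imp (fac_triv gG_rep _) (fac_triv hG_rep _)),
    loc_of_one (fac_mem _ _) (fac_mem _ _) (h2.imp (fac_triv hG_rep _) (fac_triv gG_rep _)), sub_self]

theorem term_fix (x : Fin 275) (i j : ℕ) (hm : ((x : ℕ), i, j) ∈ fixPts) (hi : i < 729) (hj : j < 729) :
    term x = cU.f (CoverTable.el dataU i) (CoverTable.el dataU j) - cU.f (CoverTable.el dataU j) (CoverTable.el dataU i) := by
  have h := List.all_eq_true.1 fix_ok _ hm
  simp only [fixOK, Bool.and_eq_true, List.all_eq_true, Nat.beq_eq] at h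
  obtain ⟨⟨hg, hh⟩, hc⟩ := h
  have key : ∀ (g : MG) (v : ℕ), Rep perm275 g v → pg v x = x → ∀ i < 729,
      (∀ k ∈ baseB, pg v (pg (repT.get x) k) = pg (repT.get x) (imgW threeGens (threeCert.wd i) k)) →
      g • x = x ∧ fac repG g x = ((CoverTable.el dataU i : U) : MG) := by
    intro g v hv hx i hi hk
    have e : g • x = x := Fin.ext ((hv x).trans hx)
    refine ⟨e, ?_⟩
    rw [fac, e, mul_assoc, inv_mul_eq_iff_eq_mul]
    refine modelG.ext fun b hb => ?_
    show (perm275 (g * repG x) b : ℕ) = perm275 (repG x * ((CoverTable.el dataU i : U) : MG)) b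
    rw [map_mul, map_mul, Equiv.Perm.mul_apply, Equiv.Perm.mul_apply, hv, repG_rep, repG_rep,
      hk b (modelG_B ▸ List.mem_map_of_mem (f := Fin.val) hb)]
    congr 1
    exact (modelU.word_apply three_gensU _ (fun s hs => Nat.blt_eq.mp (List.all_eq_true.1
      (CoverTable.wd_letters dataU (i := i) hi) s hs)) b).symm
  obtain ⟨e1, f1⟩ := key gG _ gG_rep hg i hi fun k hk => (hc k hk).1
  obtain ⟨e2, f2⟩ := key hG _ hG_rep hh j hj fun k hk => (hc k hk).2
  rw [term, e1, e2, f1, f2, loc_eq (SetLike.coe_mem _) (SetLike.coe_mem _),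
    loc_eq (SetLike.coe_mem _) (SetLike.coe_mem _)]

theorem cover_value : cover.f gG hG - cover.f hG gG = 1 := by
  show (∑ x : Fin 275, locU.c (fac repG gG (hG • x)) (fac repG hG x)) -
    ∑ x : Fin 275, locU.c (fac repG hG (gG • x)) (fac repG gG x) = 1
  rw [← Finset.sum_sub_distrib]
  show ∑ x : Fin 275, term x = 1
  rw [← Finset.sum_subset (Finset.subset_univ ({0, 45, 68, 114, 238} : Finset (Fin 275))) (fun x _ hx =>
    term_off x (fun h => hx (by revert h; revert x; decide +kernel)))]
  have e0 : term 0 = 2 := (term_fix 0 556 728 (by decide +kernel) (by norm_num) (by norm_num)).trans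
    (value_three (by norm_num) (by norm_num) three_v556 three_v728 three_mv556 three_mv728 three_value0)
  have e1 : term 45 = 2 := (term_fix 45 728 536 (by decide +kernel) (by norm_num) (by norm_num)).trans
    (value_three (by norm_num) (by norm_num) three_v728 three_v536 three_mv728 three_mv536 three_value1)
  have e2 : term 68 = 2 := (term_fix 68 728 438 (by decide +kernel) (by norm_num) (by norm_num)).trans
    (value_three (by norm_num) (by norm_num) three_v728 three_v438 three_mv728 three_mv438 three_value2)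
  have e3 : term 114 = 2 := (term_fix 114 723 608 (by decide +kernel) (by norm_num) (by norm_num)).trans
    (value_three (by norm_num) (by norm_num) three_v723 three_v608 three_mv723 three_mv608 three_value3)
  have e4 : term 238 = 2 := (term_fix 238 728 405 (by decide +kernel) (by norm_num) (by norm_num)).trans
    (value_three (by norm_num) (by norm_num) three_v728 three_v405 three_mv728 three_mv405 three_value4)
  have hall : ∀ x ∈ ({0, 45, 68, 114, 238} : Finset (Fin 275)), term x = 2 := by
    intro x hx
    simp only [Finset.mem_insert, Finset.mem_singleton] at hx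
    rcases hx with rfl | rfl | rfl | rfl | rfl
    exacts [e0, e1, e2, e3, e4]
  rw [Finset.sum_congr rfl hall, Finset.sum_const]
  decide +kernel

theorem cover_stem : Cfsg.IsStemExtension (proj cover) := by
  refine CoverCocycle.stem cover (fun _ : Unit => gG) (fun _ => hG) (fun _ => gh_comm) ?_
  refine top_le_iff.1 fun z _ => ?_
  have hm : (1 : ZMod 3) ∈ AddSubgroup.closure (Set.range fun _ : Unit => cover.f gG hG - cover.f hG gG) :=
    AddSubgroup.subset_closure ⟨(), cover_value⟩
  have e : z = z.val • (1 : ZMod 3) := by rw [nsmul_one, ZMod.natCast_zmod_val]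
  rw [e]
  exact nsmul_mem hm _

theorem perfect : commutator MG = ⊤ := by
  have : IsSimpleGroup MG := Cfsg.Agent.Spor.simple_mcl_ref.2
  rcases (Subgroup.Normal.eq_bot_or_eq_top (H := commutator MG) inferInstance) with h | h
  · exfalso
    have hc : ∀ a b : MG, a * b = b * a := fun a b => by
      have hm := Subgroup.commutator_mem_commutator (Subgroup.mem_top a) (Subgroup.mem_top b)
      rw [← commutator_def, h, Subgroup.mem_bot] at hm
      exact commutatorElement_eq_one_iff_mul_comm.1 hm
    have hn : U.Normal := ⟨fun n hn g => by rwa [hc g n, mul_inv_cancel_right]⟩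
    rcases hn.eq_bot_or_eq_top with e | e
    · have := card_U
      rw [e, Subgroup.card_bot] at this
      omega
    · have := card_U
      rw [e, Subgroup.card_top, card_MG] at this
      omega
  · exact h

theorem bound {Γ : Type} [Group Γ] [Finite Γ] {σ : Γ →* MG} (hσ : Cfsg.IsStemExtension σ) :
    Nat.card σ.ker ≤ 3 := by
  have h3 : 3 ^ (Nat.card σ.ker).factorization 3 ≤ 3 :=
    (modelG.part_le threeCert threeGens three_gens.1 rfl (by rw [modelG_B]; rfl)
      (by rw [modelG_B]; decide +kernel) three_valid threeOrd three_ord threeSpecs (by rw [modelG_B]; exact three_gens.2)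
      (e := 6) threeLat three_lat Nat.prime_three (m := 1232000) (by rw [card_MG]; norm_num) (by decide)
      (by rw [card_MG]; decide +kernel) hσ).trans (by decide +kernel)
  have h2 : 2 ^ (Nat.card σ.ker).factorization 2 ≤ 1 :=
    (modelG.part_le twoCert twoGens two_gens.1 rfl (by rw [modelG_B]; rfl)
      (by rw [modelG_B]; decide +kernel) two_valid twoOrd two_ord twoSpecs (by rw [modelG_B]; exact two_gens.2)
      (e := 7) twoLat two_lat Nat.prime_two (m := 7016625) (by rw [card_MG]; norm_num) (by decide)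
      (by rw [card_MG]; decide +kernel) hσ).trans (by decide +kernel)
  have h5 : 5 ^ (Nat.card σ.ker).factorization 5 ≤ 1 :=
    (modelG.part_le fiveCert fiveGens five_gens.1 rfl (by rw [modelG_B]; rfl)
      (by rw [modelG_B]; decide +kernel) five_valid fiveOrd five_ord fiveSpecs (by rw [modelG_B]; exact five_gens.2)
      (e := 3) fiveLat five_lat (show Nat.Prime 5 by norm_num) (m := 7185024) (by rw [card_MG]; norm_num) (by decide)
      (by rw [card_MG]; decide +kernel) hσ).trans (by decide +kernel)
  have hne : Nat.card σ.ker ≠ 0 := Nat.card_pos.ne'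
  have hr : ∀ r : ℕ, r.Prime → r ∣ Nat.card σ.ker → r = 3 := by
    intro r hr hd
    by_contra h3'
    haveI : Fact r.Prime := ⟨hr⟩
    have hpos : 0 < (Nat.card σ.ker).factorization r := hr.factorization_pos_of_dvd hne hd
    have hle : r ≤ r ^ (Nat.card σ.ker).factorization r := Nat.le_self_pow hpos.ne' r
    by_cases h2' : r = 2
    · subst h2'; omega
    by_cases h5' : r = 5
    · subst h5'; omega
    obtain ⟨z, hz⟩ := exists_prime_orderOf_dvd_card' r hd
    have h1 : z = 1 := CentralTable.ker_no_torsion hσ hr (fun h => ?_) z (hz ▸ pow_orderOf_eq_one z)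
    · rw [h1, orderOf_one] at hz
      exact hr.one_lt.ne hz
    rw [card_MG, show (898128000 : ℕ) = 2 ^ 7 * 3 ^ 6 * 5 ^ 3 * 7 * 11 by norm_num] at h
    have hdvd : r ∣ 2 ^ 7 * 3 ^ 6 * 5 ^ 3 * 7 * 11 := (dvd_pow_self r two_ne_zero).trans h
    simp only [hr.dvd_mul] at hdvd
    have key : ∀ p : ℕ, p.Prime → r ∣ p → r = p := fun p hp e => (Nat.prime_dvd_prime_iff_eq hr hp).1 e
    rcases hdvd with (((e | e) | e) | e) | e
    · exact h2' (key 2 Nat.prime_two (hr.dvd_of_dvd_pow e))
    · exact h3' (key 3 Nat.prime_three (hr.dvd_of_dvd_pow e))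
    · exact h5' (key 5 (by norm_num) (hr.dvd_of_dvd_pow e))
    all_goals
      obtain rfl := key _ (by norm_num) e
      norm_num at h
  have hf : Nat.card σ.ker = 3 ^ (Nat.card σ.ker).factorization 3 := by
    refine Nat.eq_of_factorization_eq hne (pow_ne_zero _ (by norm_num)) fun r => ?_
    rw [Nat.prime_three.factorization_pow, Finsupp.single_apply]
    split_ifs with e
    · rw [e]
    · by_cases hp : r.Prime
      · exact Nat.factorization_eq_zero_of_not_dvd fun hd => e (hr r hp hd).symm
      · exact Nat.factorization_eq_zero_of_not_prime _ hp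
  rw [hf]
  exact h3

theorem multiplier_MG : Cfsg.HasCyclicSchurMultiplier MG 3 := by
  refine CoverUniversal.hasSchur_of perfect
    ⟨Ext cover, inferInstance, inferInstance, proj cover, cover_stem, ⟨kerEquiv cover⟩⟩ fun Γ _ _ σ hσ => ?_
  rw [Nat.card_congr (Multiplicative.toAdd (α := ZMod 3)), Nat.card_zmod]
  exact bound hσ

/-- The Schur multiplier of the McLaughlin group has order three. -/
theorem multiplier : Cfsg.HasCyclicSchurMultiplier ↥Cfsg.Spor.McL 3 := by
  obtain ⟨e⟩ := mcl_iso
  exact Cfsg.Agent.Small.PSLThreeTwo.transport e.symm multiplier_MG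

end Cfsg.Agent.Lie.McLaughlinMult
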