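import Cfsg.Agent.Lib.Lie.McLaughlinMult.Table

/-!
The action of some elements on the cosets (generated).
-/

set_option autoImplicit false
set_option maxRecDepth 100000
set_option maxHeartbeats 0
set_option Elab.async false

namespace Cfsg.Agent.Lie.McLaughlinMult

open Cfsg.Agent.Lie PermCover McLaughlinOut

/-- an element -/
def threeV405 : ℕ := 0x2a5324f81048ac74018d9b8af4a1c1783403b21242c6ca4c169d41ba600627d07dd01084b860cbb133b916f018015ee4945139aeeb8598c1a1850aa8d6f3714102a7a3fb58aed2870783ac21fa7d72865e935370f540f9beba67ad5fcc02d3e0c833761d50013672b5a0515031c2e792e1f0c0f43628836b2240448c8804b798a6d5ba78949c158e40cb15819570686096d983b47ab88096071b9ba0f3ea45cc66210c902cd72bd8a88e7508d2ea7008f188435f9c956f151b9d667144c34d3072580918cb6daf87ab64811d4b08809cc4ee00c9a8ce8714a084050262142d102abf1ea781a9744444863ecc237618a882252fb445e5946820bcda82949fae44d0905af964b1850531c070ec1a6c0848ab43f35074ef890b9aa584c329fe774ab4c18ac523b5e4a618828df0a02444f70371a102800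

theorem three_v405 : ((List.range 275).all fun k => Nat.beq (PermNine.pg threeV405 k) (imgW threeGens (threeCert.wd 405) k)) = true := by decide +kernel

def threeMv4050 : Janko.Tree (ℕ) :=
  (.node (.node (.node (.node (.node (.node (.node (.node (.node (.leaf 405) (.leaf 2748962)) (.leaf 2113977)) (.node (.leaf 10265240) (.leaf 2052445))) (.node (.node (.leaf 10375423) (.leaf 14418396)) (.node (.leaf 9417318) (.leaf 17961529)))) (.node (.node (.node (.node (.leaf 16662661) (.leaf 14545622)) (.leaf 12902455)) (.node (.leaf 2973784) (.leaf 10101440))) (.node (.node (.leaf 10642131) (.leaf 14570071)) (.node (.leaf 14365311) (.leaf 1446374))))) (.node (.node (.node (.node (.node (.leaf 1950240) (.leaf 10895525)) (.leaf 13385826)) (.node (.leaf 12824830) (.leaf 4210856))) (.node (.node (.leaf 4338216) (.leaf 5169188)) (.node (.leaf 16781977) (.leaf 12845273)))) (.node (.node (.node (.leaf 676088) (.leaf 17465627)) (.node (.leaf 10289172) (.leaf 9318692))) (.node (.node (.leaf 10842833) (.leaf 3907680)) (.node (.leaf 3018971) (.leaf 4169955)))))) (.node (.node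 (.node (.node (.node (.node (.leaf 1573568) (.leaf 8544550)) (.leaf 6205956)) (.node (.leaf 13062452) (.leaf 1540799))) (.node (.node (.leaf 16216431) (.leaf 6496661)) (.node (.leaf 9126419) (.leaf 2089306)))) (.node (.node (.node (.node (.leaf 16879743) (.leaf 11383311)) (.leaf 10997987)) (.node (.leaf 17637600) (.leaf 14565656))) (.node (.node (.leaf 4858328) (.leaf 13857350)) (.node (.leaf 2203962) (.leaf 5279824))))) (.node (.node (.node (.node (.node (.leaf 14295365) (.leaf 17367721)) (.leaf 90633)) (.node (.leaf 6898274) (.leaf 4165688))) (.node (.node (.leaf 10003087) (.leaf 15757473)) (.node (.leaf 7934074) (.leaf 8388821)))) (.node (.node (.node (.leaf 9822351) (.leaf 7409781)) (.node (.leaf 2048322) (.leaf 9207855))) (.node (.node (.leaf 9003084) (.leaf 6512688)) (.node (.leaf 9286100) (.leaf 5943862))))))) (.node (.node (.node (.node (.node (.node (.node (.leaf 1814602) (.leaf 16855662)) (.leaf 10031607)) (.node (.leaf 6877549) (.leaf 4522150))) (.node (.node (.leaf 13992015) (.leaf 12058953)) (.node (.leaf 5554388) (.leaf 18121045)))) (.node (.node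 (.node (.node (.leaf 4129451) (.leaf 17027347)) (.leaf 5468231)) (.node (.leaf 10867008) (.leaf 180632))) (.node (.node (.leaf 17166342) (.leaf 11764209)) (.node (.leaf 5141039) (.leaf 12874435))))) (.node (.node (.node (.node (.node (.leaf 16560240) (.leaf 9744658)) (.leaf 17666493)) (.node (.leaf 10404321) (.leaf 13254951))) (.node (.node (.leaf 17330551) (.leaf 876814)) (.node (.leaf 6079127) (.leaf 7455170)))) (.node (.node (.node (.leaf 17846919) (.leaf 17076655)) (.node (.leaf 13557851) (.leaf 6619688))) (.node (.node (.leaf 8605768) (.leaf 6099428)) (.node (.leaf 7561835) (.leaf 12849662)))))) (.node (.node (.node (.node (.node (.node (.leaf 17170916) (.leaf 12194350)) (.leaf 7491771)) (.node (.leaf 1966527) (.leaf 12619804))) (.node (.node (.leaf 606425) (.leaf 17629453)) (.node (.leaf 8114683) (.leaf 15290503)))) (.node (.node (.node (.node (.leaf 1671313) (.leaf 8585438)) (.leaf 13599074)) (.node (.leaf 8942066) (.leaf 8663515))) (.node (.node (.leaf 70276) (.leaf 11751835)) (.node (.leaf 4088374) (.leaf 1646907))))) (.node (.node (.node (.node (.node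 (.leaf 13443452) (.leaf 7610406)) (.leaf 4080027)) (.node (.leaf 4276426) (.leaf 2601365))) (.node (.node (.leaf 16044380) (.leaf 623114)) (.node (.leaf 9568504) (.leaf 13832450)))) (.node (.node (.node (.leaf 11731057) (.leaf 8950157)) (.node (.leaf 13890196) (.leaf 4109))) (.node (.node (.leaf 3964983) (.leaf 11522391)) (.node (.leaf 15872622) (.leaf 5697593)))))))) (.node (.node (.node (.node (.node (.node (.node (.node (.leaf 14795179) (.leaf 16310612)) (.leaf 16515286)) (.node (.leaf 1241147) (.leaf 12394846))) (.node (.node (.leaf 5759680) (.leaf 3805367)) (.node (.leaf 18207191) (.leaf 1396989)))) (.node (.node (.node (.node (.leaf 10343104) (.leaf 12415152)) (.leaf 9818446)) (.node (.leaf 6295835) (.leaf 4772541))) (.node (.node (.leaf 16531475) (.leaf 9875798)) (.node (.leaf 4845804) (.leaf 10711518))))) (.node (.node (.node (.node (.node (.leaf 451079) (.leaf 14741634)) (.leaf 10683000)) (.node (.leaf 12694081) (.leaf 15585961))) (.node (.node (.leaf 15335474) (.leaf 2027529)) (.node (.leaf 13815852) (.leaf 12828789)))) (.node (.node (.node (.leaf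 11608382) (.leaf 9474288)) (.node (.leaf 13594854) (.leaf 12456580))) (.node (.node (.leaf 10432686) (.leaf 9838627)) (.node (.leaf 328277) (.leaf 2191638)))))) (.node (.node (.node (.node (.node (.node (.leaf 2847362) (.leaf 15782556)) (.leaf 17584163)) (.node (.leaf 13398125) (.leaf 10420515))) (.node (.node (.leaf 3850486) (.leaf 8204725)) (.node (.leaf 6394536) (.leaf 159887)))) (.node (.node (.node (.node (.leaf 14688361) (.leaf 15589675)) (.leaf 13013593)) (.node (.leaf 5849548) (.leaf 6103608))) (.node (.node (.leaf 13623629) (.leaf 6172961)) (.node (.leaf 11239827) (.leaf 1266320))))) (.node (.node (.node (.node (.node (.leaf 17920647) (.leaf 8704481)) (.leaf 12853735)) (.node (.leaf 7680600) (.leaf 7872889))) (.node (.node (.leaf 4731499) (.leaf 2200225)) (.node (.leaf 15958432) (.leaf 18342455)))) (.node (.node (.node (.leaf 14123527) (.leaf 16085370)) (.node (.leaf 9482600) (.leaf 8831347))) (.node (.node (.leaf 10400212) (.leaf 9932881)) (.node (.leaf 18014707) (.leaf 18035374))))))) (.node (.node (.node (.node (.node (.node (.node (.leaf 1663299)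 (.leaf 8163813)) (.leaf 14193282)) (.node (.leaf 5570735) (.leaf 2461756))) (.node (.node (.leaf 81958) (.leaf 7106942)) (.node (.leaf 94646) (.leaf 4571253)))) (.node (.node (.node (.node (.leaf 8512064) (.leaf 9851431)) (.leaf 11141829)) (.node (.leaf 10584623) (.leaf 17018965))) (.node (.node (.leaf 8995065) (.leaf 4587558)) (.node (.leaf 7311995) (.leaf 16380624))))) (.node (.node (.node (.node (.node (.leaf 7217223) (.leaf 5665379)) (.leaf 2285836)) (.node (.leaf 1880727) (.leaf 7020982))) (.node (.node (.leaf 5996595) (.leaf 4010002)) (.node (.leaf 17236081) (.leaf 15118383)))) (.node (.node (.node (.leaf 14385481) (.leaf 3813991)) (.node (.leaf 1262135) (.leaf 7959230))) (.node (.node (.leaf 13787273) (.leaf 794825)) (.node (.leaf 16732534) (.leaf 10596393)))))) (.node (.node (.node (.node (.node (.node (.leaf 11358692) (.leaf 15405506)) (.leaf 16343714)) (.node (.leaf 7778338) (.leaf 17375496))) (.node (.node (.leaf 921659) (.leaf 17096745)) (.node (.leaf 10858722) (.leaf 13779170)))) (.node (.node (.node (.node (.leaf 9622203) (.leaf 9211958)) (.leaf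 4420058)) (.node (.leaf 10547608) (.leaf 2384502))) (.node (.node (.leaf 6111636) (.leaf 2031804)) (.node (.leaf 6680977) (.leaf 5968322))))) (.node (.node (.node (.node (.node (.leaf 6008858) (.leaf 16576536)) (.leaf 14868700)) (.node (.leaf 2519576) (.leaf 13295986))) (.node (.node (.leaf 102988) (.leaf 15688337)) (.node (.leaf 4374563) (.leaf 11596321)))) (.node (.node (.node (.leaf 6361734) (.leaf 5095793)) (.node (.leaf 7995619) (.leaf 11485583))) (.node (.node (.leaf 12341493) (.leaf 14340443)) (.node (.leaf 16679443) (.leaf 2035976)))))))))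

def threeMv4051 : Janko.Tree (ℕ) :=
  (.node (.node (.node (.node (.node (.node (.node (.node (.node (.leaf 684110) (.leaf 106726)) (.leaf 15331407)) (.node (.leaf 9831032) (.leaf 7065927))) (.node (.node (.leaf 14062287) (.leaf 11034931)) (.node (.leaf 17473756) (.leaf 12669082)))) (.node (.node (.node (.node (.leaf 7827901) (.leaf 14918294)) (.leaf 8188231)) (.node (.leaf 2957972) (.leaf 7528615))) (.node (.node (.leaf 9425568) (.leaf 17625629)) (.node (.leaf 13803727) (.leaf 9761354))))) (.node (.node (.node (.node (.node (.leaf 5796481) (.leaf 10371261)) (.leaf 2240976)) (.node (.leaf 8413602) (.leaf 2421004))) (.node (.node (.leaf 7910097) (.leaf 14209485)) (.node (.leaf 17604924) (.leaf 8548447)))) (.node (.node (.node (.leaf 15487222) (.leaf 3842323)) (.node (.leaf 14622784) (.leaf 1687735))) (.node (.node (.leaf 9777503) (.leaf 3838089)) (.node (.leaf 4935891) (.leaf 12169795)))))) (.node (.node (.node (.node (.node (.node (.leaf 16064642) (.leaf 13930588)) (.leaf 4182417)) (.node (.leaf 5956030) (.leaf 6828095))) (.node (.node (.leaf 11579587) (.leaf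 16417300)) (.node (.leaf 9376434) (.leaf 7405714)))) (.node (.node (.node (.node (.leaf 594334) (.leaf 13570309)) (.leaf 9916708)) (.node (.leaf 9257595) (.leaf 11260574))) (.node (.node (.leaf 1507535) (.leaf 13234471)) (.node (.leaf 12685893) (.leaf 3674141))))) (.node (.node (.node (.node (.node (.leaf 991263) (.leaf 860361)) (.leaf 2379984)) (.node (.leaf 13898445) (.leaf 9630193))) (.node (.node (.leaf 2540054) (.leaf 18166279)) (.node (.leaf 1052716) (.leaf 9556201)))) (.node (.node (.node (.leaf 1999446) (.leaf 16990542)) (.node (.leaf 10490424) (.leaf 3862918))) (.node (.node (.leaf 2556110) (.leaf 16015615)) (.node (.leaf 2044204) (.leaf 12833239))))))) (.node (.node (.node (.node (.node (.node (.node (.leaf 10338825) (.leaf 5820468)) (.leaf 10768833)) (.node (.leaf 8265970) (.leaf 5390551))) (.node (.node (.leaf 131123) (.leaf 13644261)) (.node (.leaf 15032843) (.leaf 10526936)))) (.node (.node (.node (.node (.leaf 5742720) (.leaf 13136060)) (.leaf 5304962)) (.node (.leaf 4186293) (.leaf 4817392))) (.node (.node (.leaf 426134) (.leaf 14754009)) (.node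 (.leaf 373126) (.leaf 8720384))))) (.node (.node (.node (.node (.node (.leaf 9609698) (.leaf 15761845)) (.leaf 6369647)) (.node (.leaf 500212) (.leaf 9728396))) (.node (.node (.leaf 10653866) (.leaf 6524993)) (.node (.leaf 9228384) (.leaf 4629148)))) (.node (.node (.node (.leaf 8335778) (.leaf 8757933)) (.node (.leaf 10515092) (.leaf 15446210))) (.node (.node (.leaf 15147132) (.leaf 393792)) (.node (.leaf 9064711) (.leaf 774622)))))) (.node (.node (.node (.node (.node (.node (.leaf 3187197) (.leaf 2015243)) (.leaf 11780301)) (.node (.leaf 8855582) (.leaf 4002233))) (.node (.node (.leaf 10817832) (.leaf 10883240)) (.node (.leaf 3068228) (.leaf 1860099)))) (.node (.node (.node (.node (.leaf 4116689) (.leaf 11928071)) (.leaf 4976708)) (.node (.leaf 5099793) (.leaf 3510323))) (.node (.node (.leaf 8765464) (.leaf 2622142)) (.node (.leaf 6242633) (.leaf 6844936))))) (.node (.node (.node (.node (.node (.leaf 3936342) (.leaf 3211819)) (.leaf 9699482)) (.node (.leaf 8057255) (.leaf 11809317))) (.node (.node (.leaf 5296258) (.leaf 16003446)) (.node (.leaf 2412752) (.leaf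 7336234)))) (.node (.node (.node (.leaf 5853356) (.leaf 11329941)) (.node (.leaf 979412) (.leaf 12083584))) (.node (.node (.leaf 5591214) (.leaf 11813354)) (.node (.leaf 8827189) (.leaf 5452491)))))))) (.node (.node (.node (.node (.node (.node (.node (.node (.leaf 13807960) (.leaf 14164405)) (.leaf 11002003)) (.node (.leaf 18256068) (.leaf 4195031))) (.node (.node (.leaf 12116302) (.leaf 2154835)) (.node (.leaf 11993321) (.leaf 10072556)))) (.node (.node (.node (.node (.leaf 15090184) (.leaf 7164417)) (.leaf 9961708)) (.node (.leaf 3416500) (.leaf 10916421))) (.node (.node (.leaf 3027114) (.leaf 7586007)) (.node (.leaf 7381707) (.leaf 7733427))))) (.node (.node (.node (.node (.node (.leaf 11477324) (.leaf 5521971)) (.leaf 1716923)) (.node (.leaf 1356046) (.leaf 16433293))) (.node (.node (.leaf 12173631) (.leaf 4727471)) (.node (.leaf 5792308) (.leaf 4518280)))) (.node (.node (.node (.leaf 11575951) (.leaf 1692338)) (.node (.leaf 9887849) (.leaf 8225281))) (.node (.node (.leaf 11465392) (.leaf 1896925)) (.node (.leaf 13914358) (.leaf 17801376)))))) (.node (.node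 (.node (.node (.node (.node (.leaf 15479320) (.leaf 7070400)) (.leaf 10162540)) (.node (.leaf 13090976) (.leaf 1020272))) (.node (.node (.leaf 1667510) (.leaf 9937610)) (.node (.leaf 7094891) (.leaf 16445646)))) (.node (.node (.node (.node (.leaf 12103873) (.leaf 1872098)) (.leaf 3269141)) (.node (.leaf 3289689) (.leaf 5374229))) (.node (.node (.leaf 16376015) (.leaf 4505661)) (.node (.leaf 8458687) (.leaf 5214564))))) (.node (.node (.node (.node (.node (.leaf 5857348) (.leaf 8671836)) (.leaf 1385086)) (.node (.leaf 209600) (.leaf 18227767))) (.node (.node (.leaf 14323843) (.leaf 8884687)) (.node (.leaf 4223169) (.leaf 14073919)))) (.node (.node (.node (.leaf 8450353) (.leaf 754375)) (.node (.leaf 4039235) (.leaf 6066593))) (.node (.node (.leaf 14389309) (.leaf 110718)) (.node (.leaf 2314737) (.leaf 18284805))))))) (.node (.node (.node (.node (.node (.node (.node (.leaf 4125089) (.leaf 3498620)) (.leaf 12038203)) (.node (.leaf 17006910) (.leaf 528912))) (.node (.node (.leaf 6406859) (.leaf 16171164)) (.node (.leaf 7250279) (.leaf 14406058)))) (.node (.node (.node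 (.node (.leaf 4965073) (.leaf 17842764)) (.leaf 1835616)) (.node (.leaf 6402315) (.leaf 15962352))) (.node (.node (.leaf 1589656) (.leaf 15786083)) (.node (.leaf 15540468) (.leaf 14655737))))) (.node (.node (.node (.node (.node (.leaf 18301336) (.leaf 8044935)) (.leaf 15245699)) (.node (.leaf 8917197) (.leaf 3199616))) (.node (.node (.leaf 17043764) (.leaf 10932796)) (.node (.leaf 11637186) (.leaf 7012928)))) (.node (.node (.node (.leaf 17023302) (.leaf 15864275)) (.node (.leaf 1675463) (.leaf 10453290))) (.node (.node (.leaf 9548396) (.leaf 1069465)) (.node (.leaf 8675395) (.leaf 626693)))))) (.node (.node (.node (.node (.node (.node (.leaf 6447265) (.leaf 9081415)) (.leaf 16588835)) (.node (.leaf 2994208) (.leaf 11223562))) (.node (.node (.leaf 3363002) (.leaf 15163501)) (.node (.leaf 1626187) (.leaf 7950950)))) (.node (.node (.node (.node (.leaf 14663751) (.leaf 13001303)) (.leaf 4850164)) (.node (.leaf 16105542) (.leaf 17900023))) (.node (.node (.leaf 17723792) (.leaf 10236230)) (.node (.leaf 643421) (.leaf 10510671))))) (.node (.node (.node (.node (.node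 (.leaf 12243138) (.leaf 15401505)) (.leaf 5370144)) (.node (.leaf 15569556) (.leaf 8073469))) (.node (.node (.leaf 2056712) (.leaf 15675803)) (.node (.leaf 3617113) (.leaf 6795851)))) (.node (.node (.node (.leaf 3301895) (.leaf 12501034)) (.node (.leaf 15930039) (.leaf 13819938))) (.node (.node (.leaf 12247297) (.leaf 5120660)) (.node (.leaf 7340450) (.leaf 13160808)))))))))

def threeMv4052 : Janko.Tree (ℕ) :=
  (.node (.node (.node (.node (.node (.node (.node (.node (.node (.leaf 15884646) (.leaf 11395225)) (.leaf 7512299)) (.node (.leaf 8396936) (.leaf 18096751))) (.node (.node (.leaf 11886832) (.leaf 12206677)) (.node (.leaf 11530522) (.leaf 16405009)))) (.node (.node (.node (.node (.leaf 16719980) (.leaf 3592355)) (.leaf 17399964)) (.node (.leaf 4133197) (.leaf 15753717))) (.node (.node (.leaf 5702206) (.leaf 7913666)) (.node (.leaf 7860282) (.leaf 17391693))))) (.node (.node (.node (.node (.node (.leaf 1638750) (.leaf 7086380)) (.leaf 5382207)) (.node (.leaf 15851785) (.leaf 13308612))) (.node (.node (.leaf 3686872) (.leaf 16646258)) (.node (.leaf 3224097)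 (.leaf 12345598)))) (.node (.node (.node (.leaf 12476683) (.leaf 2351298)) (.node (.leaf 17612954) (.leaf 15889084))) (.node (.node (.leaf 13840690) (.leaf 12153478)) (.node (.leaf 18018359) (.leaf 17678979)))))) (.node (.node (.node (.node (.node (.node (.leaf 16769731) (.leaf 557181)) (.leaf 1004198)) (.node (.leaf 17908101) (.leaf 2708151))) (.node (.node (.leaf 13983975) (.leaf 14696537)) (.node (.leaf 14352416) (.leaf 12955921)))) (.node (.node (.node (.node (.leaf 7483425) (.leaf 2396743)) (.leaf 7983309)) (.node (.leaf 16503203) (.leaf 6701070))) (.node (.node (.leaf 15720862) (.leaf 16331163)) (.node (.leaf 3613026) (.leaf 4514357))))) (.node (.node (.node (.node (.node (.leaf 1568888) (.leaf 729158)) (.leaf 3354789)) (.node (.leaf 8987050) (.leaf 9175573))) (.node (.node (.leaf 7024674) (.leaf 11010473)) (.node (.leaf 1298545) (.leaf 508543)))) (.node (.node (.node (.leaf 7737396) (.leaf 3015188)) (.node (.leaf 1958533) (.leaf 2744979))) (.node (.node (.leaf 8069810) (.leaf 7471689)) (.node (.leaf 3150153) (.leaf 17703239))))))) (.node (.node (.node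 (.node (.node (.node (.node (.leaf 13419019) (.leaf 17481984)) (.leaf 17780970)) (.node (.leaf 13517444) (.leaf 10084502))) (.node (.node (.leaf 7537031) (.leaf 8896550)) (.node (.leaf 5267948) (.leaf 16199988)))) (.node (.node (.node (.node (.leaf 4678077) (.leaf 7516762)) (.leaf 11976941)) (.node (.leaf 12837300) (.leaf 8540836))) (.node (.node (.leaf 15815162) (.leaf 18043076)) (.node (.leaf 13730325) (.leaf 2658468))))) (.node (.node (.node (.node (.node (.leaf 7856766) (.leaf 811430)) (.leaf 5189943)) (.node (.leaf 1200594) (.leaf 11399437))) (.node (.node (.leaf 25101) (.leaf 16965906)) (.node (.leaf 6467931) (.leaf 7430336)))) (.node (.node (.node (.leaf 9724269) (.leaf 15650839)) (.node (.leaf 5755346) (.leaf 13300284))) (.node (.node (.leaf 8036861) (.leaf 10969150)) (.node (.leaf 5910530) (.leaf 1470880)))))) (.node (.node (.node (.node (.node (.node (.leaf 9032186) (.leaf 18129338)) (.leaf 13197833)) (.node (.leaf 16597372) (.leaf 11723044))) (.node (.node (.leaf 4448669) (.leaf 16179763)) (.node (.leaf 8745629) (.leaf 2805890)))) (.node (.node (.node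 (.node (.leaf 3440678) (.leaf 16421311)) (.leaf 4285086)) (.node (.leaf 3002486) (.leaf 18231652))) (.node (.node (.leaf 15221107) (.leaf 15659121)) (.node (.leaf 2474683) (.leaf 15347779))))) (.node (.node (.node (.node (.node (.leaf 278740) (.leaf 15368630)) (.leaf 14987889)) (.node (.leaf 2355733) (.leaf 15380930))) (.node (.node (.leaf 5145238) (.leaf 12907119)) (.node (.leaf 4252051) (.leaf 12399142)))) (.node (.node (.node (.leaf 2867343) (.leaf 9134337)) (.node (.leaf 4457130) (.leaf 1983043))) (.node (.node (.leaf 10928663) (.leaf 17817964)) (.node (.leaf 4698833) (.leaf 13922355)))))))) (.node (.node (.node (.node (.node (.node (.node (.node (.leaf 692494) (.leaf 4812867)) (.leaf 2589361)) (.node (.leaf 1278079) (.leaf 7704988))) (.node (.node (.leaf 16020140) (.leaf 356584)) (.node (.leaf 17178718) (.leaf 12677726)))) (.node (.node (.node (.node (.leaf 13173093) (.leaf 12165371)) (.leaf 11510122)) (.node (.leaf 16388343) (.leaf 7102485))) (.node (.node (.leaf 3670042) (.leaf 532535)) (.node (.leaf 1417507) (.leaf 45320))))) (.node (.node (.node (.node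 (.node (.leaf 18104492) (.leaf 5939412)) (.leaf 5619801)) (.node (.leaf 3997966) (.leaf 8499623))) (.node (.node (.leaf 1728854) (.leaf 16953610)) (.node (.leaf 15868123) (.leaf 15102143)))) (.node (.node (.node (.leaf 9019730) (.leaf 7614469)) (.node (.leaf 4067976) (.leaf 10272900))) (.node (.node (.leaf 2584918) (.leaf 9896660)) (.node (.leaf 12890462) (.leaf 7582182)))))) (.node (.node (.node (.node (.node (.node (.leaf 17539261) (.leaf 7889604)) (.leaf 16142505)) (.node (.leaf 8065465) (.leaf 11182586))) (.node (.node (.leaf 6176895) (.leaf 4915668)) (.node (.leaf 5836902) (.leaf 13705229)))) (.node (.node (.node (.node (.leaf 475398) (.leaf 6484075)) (.leaf 6971540)) (.node (.leaf 16605448) (.leaf 18022780))) (.node (.node (.leaf 13275457) (.leaf 6930910)) (.node (.leaf 6288070) (.leaf 1372358))))) (.node (.node (.node (.node (.node (.leaf 11322004) (.leaf 15880858)) (.leaf 17358870)) (.node (.leaf 6934887) (.leaf 18293316))) (.node (.node (.leaf 16134402) (.leaf 11124790)) (.node (.leaf 2400715) (.leaf 5071157)))) (.node (.node (.node (.leaf 10559522)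 (.leaf 15528606)) (.node (.leaf 17690632) (.leaf 18006606))) (.node (.node (.leaf 1310908) (.leaf 6271316)) (.node (.leaf 7422335) (.leaf 13681278))))))) (.node (.node (.node (.node (.node (.node (.node (.leaf 2335285) (.leaf 4141244)) (.leaf 8090213)) (.node (.leaf 18346416) (.leaf 2523570))) (.node (.node (.leaf 2642532) (.leaf 2683465)) (.node (.leaf 16138357) (.leaf 13463787)))) (.node (.node (.node (.node (.leaf 7320040) (.leaf 13611461)) (.leaf 15770300)) (.node (.leaf 7627072) (.leaf 13177311))) (.node (.node (.leaf 10809397) (.leaf 14872766)) (.node (.leaf 12067191) (.leaf 5800183))))) (.node (.node (.node (.node (.node (.leaf 2470372) (.leaf 4206826)) (.leaf 9118230)) (.node (.leaf 17674778) (.leaf 17895979))) (.node (.node (.leaf 807601) (.leaf 839796)) (.node (.leaf 15700169) (.leaf 7397472)))) (.node (.node (.node (.leaf 1749083) (.leaf 3285505)) (.node (.leaf 2937452) (.leaf 11673704))) (.node (.node (.leaf 8446305) (.leaf 1602015)) (.node (.leaf 17355335) (.leaf 13111355)))))) (.node (.node (.node (.node (.node (.node (.leaf 5226857) (.leaf 5992638))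 (.leaf 15708344)) (.node (.leaf 11837488) (.leaf 7258353))) (.node (.node (.leaf 11346452) (.leaf 13324538)) (.node (.leaf 5972104) (.leaf 10551910)))) (.node (.node (.node (.node (.leaf 6787752) (.leaf 918001)) (.leaf 18039278)) (.node (.leaf 3883689) (.leaf 11468888))) (.node (.node (.leaf 17695239) (.leaf 3797143)) (.node (.leaf 1876138) (.leaf 12952018))))) (.node (.node (.node (.node (.node (.leaf 8171647) (.leaf 4304978)) (.leaf 15523955)) (.node (.leaf 37093) (.leaf 10633472))) (.node (.node (.leaf 4260296) (.leaf 1314843)) (.node (.leaf 9904149) (.leaf 1474644)))) (.node (.node (.node (.leaf 4825298) (.leaf 4723208)) (.node (.leaf 4833419) (.leaf 5026235))) (.node (.node (.leaf 11214980) (.leaf 7115476)) (.node (.leaf 17035691) (.leaf 16278067)))))))))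

def threeMv4053 : Janko.Tree (ℕ) :=
  (.node (.node (.node (.node (.node (.node (.node (.node (.node (.leaf 14811804) (.leaf 11264423)) (.leaf 14631408)) (.node (.leaf 3100722) (.leaf 5439524))) (.node (.node (.leaf 4616287) (.leaf 16478263)) (.node (.leaf 2535992) (.leaf 14692488)))) (.node (.node (.node (.node (.leaf 9330746) (.leaf 17502462)) (.leaf 7352440)) (.node (.leaf 6189208) (.leaf 8908835))) (.node (.node (.leaf 184749) (.leaf 14914020)) (.node (.leaf 1655198) (.leaf 2134031))))) (.node (.node (.node (.node (.node (.leaf 1810803) (.leaf 1581274)) (.leaf 1978802)) (.node (.leaf 14971075) (.leaf 3973764))) (.node (.node (.leaf 3445357) (.leaf 8347994)) (.node (.leaf 16384052) (.leaf 221637)))) (.node (.node (.node (.leaf 11420082) (.leaf 8184485)) (.node (.leaf 5116021) (.leaf 6730102))) (.node (.node (.leaf 14234227) (.leaf 6414838)) (.node (.leaf 4362288) (.leaf 15044747)))))) (.node (.node (.node (.node (.node (.node (.leaf 2007610) (.leaf 7868533)) (.leaf 1008008)) (.node (.leaf 6259347) (.leaf 2875712))) (.node (.node (.leaf 6824214) (.leaf 9338994))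 (.node (.leaf 12239177) (.leaf 8524161)))) (.node (.node (.node (.node (.leaf 16314915) (.leaf 7790849)) (.leaf 12390414)) (.node (.leaf 4669499) (.leaf 3297983))) (.node (.node (.leaf 14672363) (.leaf 2802365)) (.node (.leaf 10089086) (.leaf 3260699))))) (.node (.node (.node (.node (.node (.leaf 12259866) (.leaf 12201987)) (.leaf 4874856)) (.node (.leaf 5395016) (.leaf 3047645))) (.node (.node (.leaf 5690011) (.leaf 2449818)) (.node (.leaf 11743355) (.leaf 4408016)))) (.node (.node (.node (.leaf 13201762) (.leaf 12157128)) (.node (.leaf 17199311) (.leaf 233649))) (.node (.node (.leaf 6615048) (.leaf 16892072)) (.node (.leaf 11846245) (.leaf 12780022))))))) (.node (.node (.node (.node (.node (.node (.node (.leaf 6914188) (.leaf 17731987)) (.leaf 1609918)) (.node (.leaf 11931854) (.leaf 16650277))) (.node (.node (.leaf 4919392) (.leaf 2712274)) (.node (.leaf 15953999) (.leaf 10039901)))) (.node (.node (.node (.node (.leaf 3518892) (.leaf 18109092)) (.leaf 11714976)) (.node (.leaf 4759678) (.leaf 10060489))) (.node (.node (.leaf 16593322) (.leaf 381428)) (.node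 (.leaf 15696372) (.leaf 7127318))))) (.node (.node (.node (.node (.node (.leaf 9216556) (.leaf 10940728)) (.leaf 2969817)) (.node (.leaf 9379914) (.leaf 10195548))) (.node (.node (.leaf 7590461) (.leaf 6348867)) (.node (.leaf 15421822) (.leaf 405954)))) (.node (.node (.node (.leaf 10281204) (.leaf 9920729)) (.node (.leaf 8278477) (.leaf 16961691))) (.node (.node (.leaf 7389734) (.leaf 15323721)) (.node (.leaf 17670459) (.leaf 15999176)))))) (.node (.node (.node (.node (.node (.node (.leaf 16130171) (.leaf 3719545)) (.leaf 13476058)) (.node (.leaf 15249539) (.leaf 7500316))) (.node (.node (.leaf 4092267) (.leaf 3621192)) (.node (.leaf 889182) (.leaf 5907146)))) (.node (.node (.node (.node (.leaf 7496404) (.leaf 15257746)) (.leaf 7803074)) (.node (.leaf 65764) (.leaf 10494245))) (.node (.node (.leaf 7159846) (.leaf 1303164)) (.node (.leaf 8269866) (.leaf 5247497))))) (.node (.node (.node (.node (.node (.leaf 3310276) (.leaf 15745610)) (.leaf 5284549)) (.node (.leaf 17224391) (.leaf 1327240))) (.node (.node (.leaf 6582463) (.leaf 6652062)) (.node (.leaf 2248764)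 (.leaf 11899207)))) (.node (.node (.node (.leaf 8475094) (.leaf 15848023)) (.node (.leaf 12636643) (.leaf 7520389))) (.node (.node (.leaf 15192197) (.leaf 4280459)) (.node (.leaf 3559884) (.leaf 12862057)))))))) (.node (.node (.node (.node (.node (.node (.node (.node (.leaf 8610204) (.leaf 8929492)) (.leaf 7402013)) (.node (.leaf 3437166) (.leaf 15364821))) (.node (.node (.leaf 9892277) (.leaf 6180993)) (.node (.leaf 16007442) (.leaf 8106589)))) (.node (.node (.node (.node (.leaf 14414352) (.leaf 15474969)) (.leaf 5730426)) (.node (.leaf 4866557) (.leaf 7598177))) (.node (.node (.leaf 2372013) (.leaf 1466595)) (.node (.leaf 4711061) (.leaf 17121516))))) (.node (.node (.node (.node (.node (.leaf 14979608) (.leaf 17871038)) (.leaf 13259476)) (.node (.leaf 7877167) (.leaf 225393))) (.node (.node (.leaf 8696049) (.leaf 10436652)) (.node (.leaf 9384125) (.leaf 4379024)))) (.node (.node (.node (.leaf 15933715) (.leaf 10014849)) (.node (.leaf 2912545) (.leaf 15679819))) (.node (.node (.leaf 16564757) (.leaf 12800115)) (.node (.leaf 1515622) (.leaf 9347580)))))) (.node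 (.node (.node (.node (.node (.node (.leaf 2699911) (.leaf 15536677)) (.leaf 16556249)) (.node (.leaf 5882074) (.leaf 14377525))) (.node (.node (.leaf 9949269) (.leaf 8237219)) (.node (.leaf 4231410) (.leaf 17174622)))) (.node (.node (.node (.node (.leaf 635064) (.leaf 3125837)) (.leaf 15995061)) (.node (.leaf 5927049) (.leaf 1761785))) (.node (.node (.leaf 8638482) (.leaf 12182165)) (.node (.leaf 8569150) (.leaf 8589968))))) (.node (.node (.node (.node (.node (.leaf 14066239) (.leaf 1036531)) (.leaf 14770304)) (.node (.leaf 8536581) (.leaf 16191832))) (.node (.node (.leaf 14827575) (.leaf 18084423)) (.node (.leaf 5685689) (.leaf 14041678)))) (.node (.node (.node (.leaf 2069136) (.leaf 1225250)) (.node (.leaf 6459831) (.leaf 15499951))) (.node (.node (.leaf 16474828) (.leaf 10981978)) (.node (.leaf 2548167) (.leaf 5574995))))))) (.node (.node (.node (.node (.node (.node (.node (.leaf 17363020) (.leaf 9789887)) (.leaf 11866838)) (.node (.leaf 147546) (.leaf 10269062))) (.node (.node (.leaf 9409154) (.leaf 2650369)) (.node (.leaf 17445102) (.leaf 10313993)))) (.node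 (.node (.node (.node (.leaf 14258177) (.leaf 4878803)) (.leaf 9052754)) (.node (.leaf 12726684) (.leaf 13988431))) (.node (.node (.leaf 1995218) (.leaf 958849)) (.node (.leaf 15438255) (.leaf 5644510))))) (.node (.node (.node (.node (.node (.leaf 14446962) (.leaf 14242461)) (.leaf 9072695)) (.node (.leaf 14135861) (.leaf 4403266))) (.node (.node (.leaf 2363818) (.leaf 6754891)) (.node (.leaf 17879450) (.leaf 2388666)))) (.node (.node (.node (.leaf 18268883) (.leaf 15802573)) (.node (.leaf 15171952) (.leaf 8327189))) (.node (.node (.leaf 6464097) (.leaf 1077291)) (.node (.leaf 18092736) (.leaf 17342579)))))) (.node (.node (.node (.node (.node (.node (.leaf 12288718) (.leaf 287160)) (.leaf 11428502)) (.node (.leaf 11170388) (.leaf 8249376))) (.node (.node (.leaf 319654) (.leaf 5628254)) (.node (.leaf 11604607) (.leaf 6549655)))) (.node (.node (.node (.node (.leaf 12427336) (.leaf 9146853)) (.leaf 12869687)) (.node (.leaf 6602765) (.leaf 6038033))) (.node (.node (.leaf 18145402) (.leaf 2466102)) (.node (.leaf 1769670) (.leaf 17068282))))) (.node (.node (.node (.node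 (.node (.leaf 5579164) (.leaf 13353170)) (.leaf 7053633)) (.node (.leaf 9646539) (.leaf 2781513))) (.node (.node (.leaf 1560781) (.leaf 8130926)) (.node (.leaf 14185043) (.leaf 9674909)))) (.node (.node (.node (.leaf 11481712) (.leaf 409685)) (.node (.leaf 8630874) (.leaf 9957542))) (.node (.node (.leaf 4551127) (.leaf 5288111)) (.node (.leaf 17334683) (.leaf 16486689)))))))))

def threeMv4054 : Janko.Tree (ℕ) :=
  (.node (.node (.node (.node (.node (.node (.node (.node (.node (.leaf 12505344) (.leaf 14106705)) (.leaf 4346030)) (.node (.leaf 10854820) (.leaf 2728435))) (.node (.node (.leaf 15466805) (.leaf 1643016)) (.node (.leaf 9097264) (.leaf 5345881)))) (.node (.node (.node (.node (.leaf 4952550) (.leaf 17137901)) (.leaf 15143370)) (.node (.leaf 17948898) (.leaf 4894767))) (.node (.node (.leaf 11956465) (.leaf 14618994)) (.node (.leaf 10055850) (.leaf 8180054))))) (.node (.node (.node (.node (.node (.leaf 1454081) (.leaf 17760591)) (.leaf 16908911)) (.node (.leaf 15913604) (.leaf 11104448))) (.node (.node (.leaf 17277010) (.leaf 12349583)) (.node (.leaf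 1798301) (.leaf 11711152)))) (.node (.node (.node (.leaf 418203) (.leaf 11624881)) (.node (.leaf 15565518) (.leaf 14381158))) (.node (.node (.leaf 10141954) (.leaf 7344577)) (.node (.leaf 3514600) (.leaf 11203208)))))) (.node (.node (.node (.node (.node (.node (.leaf 15909550) (.leaf 15282886)) (.leaf 1257512)) (.node (.leaf 971195) (.leaf 15200935))) (.node (.node (.leaf 18272468) (.leaf 11284499)) (.node (.leaf 15159303) (.leaf 7664301)))) (.node (.node (.node (.node (.leaf 17863138) (.leaf 3530826)) (.leaf 10961532)) (.node (.leaf 14831659) (.leaf 2117926))) (.node (.node (.leaf 2768958) (.leaf 14221482)) (.node (.leaf 15614366) (.leaf 9048298))))) (.node (.node (.node (.node (.node (.leaf 6672716) (.leaf 2076844)) (.leaf 17924165)) (.node (.leaf 4162233) (.leaf 14659632))) (.node (.node (.leaf 6050177) (.leaf 17928464)) (.node (.leaf 7692428) (.leaf 6516939)))) (.node (.node (.node (.leaf 6488660) (.leaf 205231)) (.node (.leaf 1249826) (.leaf 14529164))) (.node (.node (.leaf 1556953) (.leaf 10650234)) (.node (.leaf 1188455) (.leaf 17699151))))))) (.node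 (.node (.node (.node (.node (.node (.node (.leaf 13316645) (.leaf 1290501)) (.leaf 11108693)) (.node (.leaf 18010800) (.leaf 7635255))) (.node (.node (.leaf 7168271) (.leaf 3903715)) (.node (.leaf 12775871) (.leaf 14282883)))) (.node (.node (.node (.node (.leaf 14893118) (.leaf 8048810)) (.leaf 13746496)) (.node (.leaf 3379360) (.leaf 7385780))) (.node (.node (.leaf 369056) (.leaf 8241800)) (.node (.leaf 8331692) (.leaf 16265828))))) (.node (.node (.node (.node (.node (.leaf 9748536) (.leaf 14508038)) (.leaf 14627295)) (.node (.leaf 8077983) (.leaf 14004613))) (.node (.node (.leaf 12567092) (.leaf 14434949)) (.node (.leaf 6541939) (.leaf 17809969)))) (.node (.node (.node (.leaf 3609238) (.leaf 9601580)) (.node (.leaf 15188096) (.leaf 7594104))) (.node (.node (.leaf 9810609) (.leaf 14037545)) (.node (.leaf 18334272) (.leaf 7426682)))))) (.node (.node (.node (.node (.node (.node (.leaf 3735773) (.leaf 2138267)) (.leaf 16011751)) (.node (.leaf 10104954) (.leaf 15622792))) (.node (.node (.leaf 8433915) (.leaf 15167915)) (.node (.leaf 4637110) (.leaf 6152440))))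 (.node (.node (.node (.node (.leaf 2110026) (.leaf 12644438)) (.leaf 230054)) (.node (.leaf 2675310) (.leaf 16613752))) (.node (.node (.leaf 17940690) (.leaf 16499188)) (.node (.leaf 12304709) (.leaf 10748588))))) (.node (.node (.node (.node (.node (.leaf 14533063) (.leaf 20587)) (.leaf 631188)) (.node (.leaf 11047082) (.leaf 13783116))) (.node (.node (.leaf 545154) (.leaf 15917105)) (.node (.leaf 7225631) (.leaf 2486398)))) (.node (.node (.node (.leaf 6135981) (.leaf 12603898)) (.node (.leaf 17003010) (.leaf 8893041))) (.node (.node (.leaf 16814661) (.leaf 11128897)) (.node (.leaf 12006015) (.leaf 6476086)))))))) (.node (.node (.node (.node (.node (.node (.node (.node (.leaf 7815235) (.leaf 5263594)) (.leaf 5202562)) (.node (.leaf 14397618) (.leaf 8503437))) (.node (.node (.leaf 11448374) (.leaf 10567799)) (.node (.leaf 5845588) (.leaf 13976104)))) (.node (.node (.node (.node (.leaf 8974454) (.leaf 2392383)) (.leaf 61567)) (.node (.leaf 3551527) (.leaf 5407045))) (.node (.node (.leaf 4473190) (.leaf 3780809)) (.node (.leaf 16371716) (.leaf 78458))))) (.node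 (.node (.node (.node (.node (.leaf 15905362) (.leaf 15307099)) (.leaf 17232226)) (.node (.leaf 3175092) (.leaf 16843200))) (.node (.node (.leaf 8847365) (.leaf 9953541)) (.node (.leaf 3096774) (.leaf 2678848)))) (.node (.node (.node (.leaf 9450196) (.leaf 13726154)) (.node (.leaf 4391212) (.leaf 16924678))) (.node (.node (.leaf 15790398) (.leaf 6566029)) (.node (.leaf 4055191) (.leaf 819825)))))) (.node (.node (.node (.node (.node (.node (.leaf 14791094) (.leaf 86264)) (.leaf 17993858)) (.node (.leaf 5812770) (.leaf 16777539))) (.node (.node (.leaf 7185098) (.leaf 17395806)) (.node (.leaf 14475271) (.leaf 1511927)))) (.node (.node (.node (.node (.leaf 17793101) (.leaf 4325730)) (.leaf 13144602)) (.node (.leaf 4358559) (.leaf 11497747))) (.node (.node (.leaf 6775065) (.leaf 11186891)) (.node (.leaf 6959730) (.leaf 11297006))))) (.node (.node (.node (.node (.node (.leaf 13242583) (.leaf 11632681)) (.leaf 2904507)) (.node (.leaf 12992975) (.leaf 11092612))) (.node (.node (.leaf 5177768) (.leaf 2437261)) (.node (.leaf 5325330) (.leaf 6234799)))) (.node (.node (.node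 (.leaf 3654172) (.leaf 9273890)) (.node (.leaf 713093) (.leaf 11801141))) (.node (.node (.leaf 15417734) (.leaf 2179498)) (.node (.leaf 7565434) (.leaf 2478192))))))) (.node (.node (.node (.node (.node (.node (.node (.leaf 3895763) (.leaf 15581849)) (.leaf 13422817)) (.node (.leaf 332033) (.leaf 15573277))) (.node (.node (.leaf 3600862) (.leaf 15098036)) (.node (.leaf 15839370) (.leaf 15647096)))) (.node (.node (.node (.node (.leaf 4444180) (.leaf 7282965)) (.leaf 2752888)) (.node (.leaf 4682286) (.leaf 4841633))) (.node (.node (.leaf 10006762) (.leaf 9532054)) (.node (.leaf 17408238) (.leaf 17580354))))) (.node (.node (.node (.node (.node (.leaf 549566) (.leaf 4780218)) (.leaf 9999016)) (.node (.leaf 9179678) (.leaf 12579170))) (.node (.node (.leaf 6074985) (.leaf 5534308)) (.node (.leaf 12411490) (.leaf 8823084)))) (.node (.node (.node (.leaf 13074690) (.leaf 2531559)) (.node (.leaf 479373) (.leaf 13279782))) (.node (.node (.leaf 7905990) (.leaf 11514314)) (.node (.leaf 5320769) (.leaf 7622971)))))) (.node (.node (.node (.node (.node (.node (.leaf 9245172)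 (.leaf 9011449)) (.leaf 8864470)) (.node (.leaf 4563343) (.leaf 10657833))) (.node (.node (.leaf 18030592) (.leaf 7041507)) (.node (.leaf 5751312) (.leaf 4923451)))) (.node (.node (.node (.node (.leaf 2777238) (.leaf 14327972)) (.leaf 3134073)) (.node (.leaf 1184153) (.leaf 5624179))) (.node (.node (.leaf 3391712) (.leaf 3276884)) (.node (.leaf 2294287) (.leaf 12525657))))) (.node (.node (.node (.node (.node (.leaf 2809919) (.leaf 6861498)) (.leaf 4694206)) (.node (.leaf 2499131) (.leaf 12447920))) (.node (.node (.leaf 4980991) (.leaf 18211416)) (.node (.leaf 17133908) (.leaf 3682340)))) (.node (.node (.node (.leaf 15520397) (.leaf 3977607)) (.node (.leaf 1843429) (.leaf 17867075))) (.node (.node (.leaf 1073850) (.leaf 17257070)) (.node (.leaf 1552984) (.leaf 3182672)))))))))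

def threeMv4055 : Janko.Tree (ℕ) :=
  (.node (.node (.node (.node (.node (.node (.node (.node (.node (.leaf 4051141) (.leaf 6742332)) (.leaf 2978251)) (.node (.leaf 3010730) (.leaf 17305784))) (.node (.node (.leaf 13939132) (.leaf 9281813)) (.node (.leaf 10260515) (.leaf 1012347)))) (.node (.node (.node (.node (.leaf 799347) (.leaf 14344572)) (.leaf 4567319)) (.node (.leaf 6922647) (.leaf 12673136))) (.node (.node (.leaf 13697551) (.leaf 3817862)) (.node (.leaf 3887660) (.leaf 3207745))))) (.node (.node (.node (.node (.node (.leaf 14262976) (.leaf 12660830)) (.leaf 5587629)) (.node (.leaf 9855271) (.leaf 11792471))) (.node (.node (.leaf 16957839) (.leaf 336373)) (.node (.leaf 3764448) (.leaf 7524365)))) (.node (.node (.node (.leaf 16233115) (.leaf 7573679)) (.node (.leaf 2695708) (.leaf 11936239))) (.node (.node (.leaf 8565316) (.leaf 2122059)) (.node (.leaf 3633537) (.leaf 16048133)))))) (.node (.node (.node (.node (.node (.node (.leaf 17420568) (.leaf 4526483)) (.leaf 2187768)) (.node (.leaf 16551982) (.leaf 4227283))) (.node (.node (.leaf 4931952) (.leaf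 14954527)) (.node (.leaf 8659181) (.leaf 1221231)))) (.node (.node (.node (.node (.leaf 3179070) (.leaf 3121396)) (.leaf 5034468)) (.node (.leaf 6938848) (.leaf 7078387))) (.node (.node (.leaf 12607736) (.leaf 3055726)) (.node (.leaf 3596831) (.leaf 4948598))))) (.node (.node (.node (.node (.node (.leaf 2924858) (.leaf 5550756)) (.leaf 2953295)) (.node (.leaf 17739844) (.leaf 12923467))) (.node (.node (.leaf 5509255) (.leaf 6193299)) (.node (.leaf 7119333) (.leaf 7033065)))) (.node (.node (.node (.leaf 770489) (.leaf 13341239)) (.node (.leaf 4313429) (.leaf 1409126))) (.node (.node (.leaf 14602914) (.leaf 1180291)) (.node (.leaf 17031344) (.leaf 9035839))))))) (.node (.node (.node (.node (.node (.node (.node (.leaf 13693101) (.leaf 8532239)) (.leaf 885199)) (.node (.leaf 13496497) (.leaf 18137622))) (.node (.node (.leaf 6918868) (.leaf 14590671)) (.node (.leaf 7651993) (.leaf 17371397)))) (.node (.node (.node (.node (.leaf 3408524) (.leaf 1970347)) (.leaf 3326342)) (.node (.leaf 5599812) (.leaf 4333623))) (.node (.node (.leaf 3232148) (.leaf 6340680)) (.node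 (.leaf 897552) (.leaf 5505149))))) (.node (.node (.node (.node (.node (.leaf 262842) (.leaf 17830212)) (.leaf 13521573)) (.node (.leaf 14860387) (.leaf 385321))) (.node (.node (.leaf 9679314) (.leaf 5890575)) (.node (.leaf 13566102) (.leaf 7287142)))) (.node (.node (.node (.leaf 12489187) (.leaf 5870114)) (.node (.leaf 14774502) (.leaf 7823667))) (.node (.node (.leaf 942197) (.leaf 7029037)) (.node (.leaf 7000315) (.leaf 1376753)))))) (.node (.node (.node (.node (.node (.node (.leaf 2318418) (.leaf 659519)) (.leaf 9269906)) (.node (.leaf 5054785) (.leaf 7504320))) (.node (.node (.leaf 14422517) (.leaf 1135040)) (.node (.leaf 3461416) (.leaf 11289111)))) (.node (.node (.node (.node (.leaf 16978557) (.leaf 127343)) (.leaf 13967705)) (.node (.leaf 6717674) (.leaf 2859684))) (.node (.node (.leaf 7745969) (.leaf 16146865)) (.node (.leaf 9433393) (.leaf 4235976))))) (.node (.node (.node (.node (.node (.leaf 13759050) (.leaf 9253568)) (.leaf 6238821)) (.node (.leaf 14749723) (.leaf 8000081))) (.node (.node (.leaf 5456328) (.leaf 3428884)) (.node (.leaf 2920495) (.leaf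 4300960)))) (.node (.node (.node (.leaf 18243997) (.leaf 3506305)) (.node (.leaf 16212198) (.leaf 1490974))) (.node (.node (.leaf 7750198) (.leaf 9826464)) (.node (.leaf 8004160) (.leaf 3387798)))))))) (.node (.node (.node (.node (.node (.node (.node (.node (.leaf 15806488) (.leaf 9564547)) (.leaf 8925384)) (.node (.leaf 17953375) (.leaf 17010900))) (.node (.node (.leaf 16536024) (.leaf 11440214)) (.node (.leaf 9110039) (.leaf 12541957)))) (.node (.node (.node (.node (.leaf 9404666) (.leaf 11235637)) (.leaf 9457791)) (.node (.leaf 667920) (.leaf 6869379))) (.node (.node (.leaf 13906109) (.leaf 8380626)) (.node (.leaf 17806023) (.leaf 10166647))))) (.node (.node (.node (.node (.node (.leaf 6132118) (.leaf 9871482)) (.leaf 16450249)) (.node (.leaf 3932408) (.leaf 9802312))) (.node (.node (.leaf 9240805) (.leaf 14766656)) (.node (.leaf 13287936) (.leaf 11505821)))) (.node (.node (.node (.leaf 5411370) (.leaf 10150450)) (.node (.leaf 17977587) (.leaf 11718947))) (.node (.node (.leaf 8233269) (.leaf 6709373)) (.node (.leaf 9453877) (.leaf 3690981)))))) (.node (.node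 (.node (.node (.node (.node (.leaf 10174681) (.leaf 3367297)) (.leaf 16798175)) (.node (.leaf 5333500) (.leaf 5608030))) (.node (.node (.leaf 2597441) (.leaf 15704774)) (.node (.leaf 2429193) (.leaf 2662645)))) (.node (.node (.node (.node (.leaf 9736758) (.leaf 7229767)) (.leaf 14147722)) (.node (.leaf 5841026) (.leaf 16470599))) (.node (.node (.leaf 14958952) (.leaf 6250497)) (.node (.leaf 10256662) (.leaf 14704869))))) (.node (.node (.node (.node (.node (.leaf 3113270) (.leaf 16666632)) (.leaf 2719810)) (.node (.leaf 11883154) (.leaf 16904378))) (.node (.node (.leaf 15643163) (.leaf 13627687)) (.node (.leaf 13312591) (.leaf 3969139)))) (.node (.node (.node (.leaf 6451366) (.leaf 9490821)) (.node (.leaf 4502072) (.leaf 5436116))) (.node (.node (.leaf 4714554) (.leaf 10670727)) (.node (.leaf 17519081) (.leaf 13672630))))))) (.node (.node (.node (.node (.node (.node (.node (.leaf 15712813) (.leaf 10388182)) (.leaf 520264)) (.node (.leaf 15639210) (.leaf 9396348))) (.node (.node (.leaf 2732687) (.leaf 18051786)) (.node (.leaf 15732905) (.leaf 2896215)))) (.node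 (.node (.node (.node (.leaf 15724651) (.leaf 14361170)) (.leaf 12730529)) (.node (.leaf 2842672) (.leaf 16412857))) (.node (.node (.leaf 16630459) (.leaf 18223562)) (.node (.leaf 16884238) (.leaf 3645557))))) (.node (.node (.node (.node (.node (.leaf 15671371) (.leaf 10121749)) (.leaf 18235880)) (.node (.leaf 17052264) (.leaf 17748448))) (.node (.node (.leaf 6766878) (.leaf 9265791)) (.node (.leaf 1577498) (.leaf 7684225)))) (.node (.node (.node (.leaf 5014108) (.leaf 18329700)) (.node (.leaf 7962674) (.leaf 5185918))) (.node (.node (.leaf 17416703) (.leaf 5431343)) (.node (.leaf 16974400) (.leaf 1167970)))))) (.node (.node (.node (.node (.node (.node (.leaf 16568881) (.leaf 7307884)) (.leaf 5353678)) (.node (.leaf 5661187) (.leaf 6169009))) (.node (.node (.leaf 6218224) (.leaf 13647920)) (.node (.leaf 8376556) (.leaf 17609413)))) (.node (.node (.node (.node (.leaf 5898289) (.leaf 10482016)) (.leaf 8773814)) (.node (.leaf 16970206) (.leaf 303156))) (.node (.node (.leaf 15262150) (.leaf 15552546)) (.node (.leaf 7971434) (.leaf 8020282))))) (.node (.node (.node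 (.node (.node (.leaf 6574320) (.leaf 10850765)) (.leaf 17244610)) (.node (.leaf 16618005) (.leaf 2175561))) (.node (.node (.leaf 17506864) (.leaf 10690969)) (.node (.leaf 6439314) (.leaf 17379860)))) (.node (.node (.node (.leaf 15823119) (.leaf 17448991)) (.node (.leaf 10310117) (.leaf 2166831))) (.node (.node (.leaf 2691721) (.leaf 17404254)) (.node (.leaf 3568072) (.leaf 11137364)))))))))

def threeMv4056 : Janko.Tree (ℕ) :=
  (.node (.node (.node (.node (.node (.node (.node (.node (.node (.leaf 10449254) (.leaf 389347)) (.leaf 10429127)) (.node (.leaf 11387408) (.leaf 11423816))) (.node (.node (.leaf 9138417) (.leaf 13447501)) (.node (.leaf 585926) (.leaf 9797939)))) (.node (.node (.node (.node (.leaf 4821132) (.leaf 1237031)) (.leaf 8487009)) (.node (.leaf 7925923) (.leaf 15663566))) (.node (.node (.leaf 14307811) (.leaf 12407106)) (.node (.leaf 7418099) (.leaf 16826462))))) (.node (.node (.node (.node (.node (.leaf 3109113) (.leaf 8466572)) (.leaf 17768808)) (.node (.leaf 17248979) (.leaf 1917191))) (.node (.node (.leaf 15217253) (.leaf 6033546)) (.node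 (.leaf 7189175) (.leaf 577554)))) (.node (.node (.node (.leaf 7061865) (.leaf 11378806)) (.node (.leaf 188755) (.leaf 9154684))) (.node (.node (.leaf 11948623) (.leaf 3711003)) (.node (.leaf 15126665) (.leaf 1056900)))))) (.node (.node (.node (.node (.node (.node (.leaf 4743340) (.leaf 10572194)) (.leaf 4530748)) (.node (.leaf 13468057) (.leaf 9364131))) (.node (.node (.leaf 1421638) (.leaf 17719937)) (.node (.leaf 5738757) (.leaf 16999049)))) (.node (.node (.node (.node (.leaf 8299073) (.leaf 13410799)) (.leaf 8708264)) (.node (.leaf 9740321) (.leaf 3875389))) (.node (.node (.leaf 11829925) (.leaf 15843664)) (.node (.leaf 8155826) (.leaf 10326276))))) (.node (.node (.node (.node (.node (.leaf 14409809) (.leaf 10096673)) (.leaf 7840030)) (.node (.leaf 8282771) (.leaf 4575577))) (.node (.node (.leaf 10522924) (.leaf 438401)) (.node (.leaf 15016624) (.leaf 17351216)))) (.node (.node (.node (.leaf 12022450) (.leaf 6586373)) (.node (.leaf 18276830) (.leaf 3543312))) (.node (.node (.leaf 114980) (.leaf 1937929)) (.node (.leaf 3203178) (.leaf 13635838))))))) (.node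 (.node (.node (.node (.node (.node (.node (.leaf 14487792) (.leaf 1495307)) (.leaf 7135536)) (.node (.leaf 2982475) (.leaf 17944722))) (.node (.node (.leaf 16117854) (.leaf 10211610)) (.node (.leaf 9560672) (.leaf 5542599)))) (.node (.node (.node (.node (.leaf 1724653) (.leaf 16986789)) (.leaf 3469769)) (.node (.leaf 6607237) (.leaf 8245524))) (.node (.node (.leaf 16711739) (.leaf 9445506)) (.node (.leaf 540766) (.leaf 7897503))))) (.node (.node (.node (.node (.node (.leaf 17883148) (.leaf 13860954)) (.leaf 14291321)) (.node (.leaf 6853115) (.leaf 8360060))) (.node (.node (.leaf 1151101) (.leaf 4031027)) (.node (.leaf 17215521) (.leaf 7713370)))) (.node (.node (.node (.leaf 5788098) (.leaf 16060963)) (.node (.leaf 8253545) (.leaf 16789910))) (.node (.node (.leaf 17158494) (.leaf 1016058)) (.node (.leaf 5357606) (.leaf 14463013)))))) (.node (.node (.node (.node (.node (.node (.leaf 3346883) (.leaf 2724441)) (.leaf 10985764)) (.node (.leaf 11436376) (.leaf 2339036))) (.node (.node (.leaf 7172443) (.leaf 9912359)) (.node (.leaf 14278990) (.leaf 14057574)))) (.node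 (.node (.node (.node (.leaf 14127136) (.leaf 688441)) (.leaf 7975514)) (.node (.leaf 8679733) (.leaf 4477278))) (.node (.node (.leaf 15454527) (.leaf 3580002)) (.node (.leaf 18182270) (.leaf 3695201))))) (.node (.node (.node (.node (.node (.leaf 6594775) (.leaf 516388)) (.leaf 5496873)) (.node (.leaf 13492277) (.leaf 12841204))) (.node (.node (.leaf 1684121) (.leaf 15114705)) (.node (.leaf 7200996) (.leaf 5062752)))) (.node (.node (.node (.leaf 17142039) (.leaf 8425532)) (.node (.leaf 12251449) (.leaf 2257240))) (.node (.node (.leaf 15798934) (.leaf 17314196)) (.node (.leaf 5234827) (.leaf 5460510)))))))) (.node (.node (.node (.node (.node (.node (.node (.node (.leaf 13378191) (.leaf 10383733)) (.leaf 16609697)) (.node (.leaf 12124791) (.leaf 4366967))) (.node (.node (.leaf 17633837) (.leaf 3334367)) (.node (.leaf 13668467) (.leaf 17715473)))) (.node (.node (.node (.node (.leaf 246220) (.leaf 3748546)) (.leaf 6307863)) (.node (.leaf 442504) (.leaf 13721945))) (.node (.node (.leaf 7348576) (.leaf 16691811)) (.node (.leaf 13537799) (.leaf 4370916))))) (.node (.node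 (.node (.node (.node (.leaf 7205254) (.leaf 9277722)) (.leaf 4804635)) (.node (.leaf 4641313) (.leaf 17875264))) (.node (.node (.leaf 17080956) (.leaf 15196878)) (.node (.leaf 15081623) (.leaf 10358864)))) (.node (.node (.node (.leaf 10203316) (.leaf 8008394)) (.node (.leaf 11366665) (.leaf 5042523))) (.node (.node (.leaf 4624582) (.leaf 9794078)) (.node (.leaf 11248142) (.leaf 2703858)))))) (.node (.node (.node (.node (.node (.node (.leaf 13250750) (.leaf 13951390)) (.leaf 3891477)) (.node (.leaf 987393) (.leaf 7532708))) (.node (.node (.leaf 10764703) (.leaf 16876058)) (.node (.leaf 17834286) (.leaf 9929144)))) (.node (.node (.node (.node (.leaf 5152857) (.leaf 18178177)) (.leaf 17981938)) (.node (.leaf 14991390) (.leaf 3699237))) (.node (.node (.leaf 1462746) (.leaf 6529124)) (.node (.leaf 6623602) (.leaf 962805))))) (.node (.node (.node (.node (.node (.leaf 9634333) (.leaf 14926278)) (.leaf 14450986)) (.node (.leaf 7541048) (.leaf 11415882))) (.node (.node (.leaf 10732206) (.leaf 17129494)) (.node (.leaf 12571275) (.leaf 5128726)))) (.node (.node (.node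 (.leaf 5915123) (.leaf 4042878)) (.node (.leaf 2224814) (.leaf 10440824))) (.node (.node (.leaf 1900690) (.leaf 12210729)) (.node (.leaf 10068016) (.leaf 995834))))))) (.node (.node (.node (.node (.node (.node (.node (.leaf 2646587) (.leaf 16495011)) (.leaf 15810680)) (.node (.leaf 15974694) (.leaf 6492348))) (.node (.node (.leaf 6127952) (.leaf 18251935)) (.node (.leaf 2990595) (.leaf 7148110)))) (.node (.node (.node (.node (.leaf 6381582) (.leaf 9437295)) (.leaf 13509330)) (.node (.leaf 13762917) (.leaf 905332))) (.node (.node (.leaf 6611176) (.leaf 12742997)) (.node (.leaf 6226386) (.leaf 14438441))))) (.node (.node (.node (.node (.node (.leaf 14729930) (.leaf 12882310)) (.leaf 18075961)) (.node (.leaf 9421323) (.leaf 14995887))) (.node (.node (.leaf 16670856) (.leaf 14520762)) (.node (.leaf 6443471) (.leaf 8343778)))) (.node (.node (.node (.leaf 7413960) (.leaf 6820200)) (.node (.leaf 745862) (.leaf 13390544))) (.node (.node (.leaf 2273367) (.leaf 5231307)) (.node (.leaf 10576560) (.leaf 11206667)))))) (.node (.node (.node (.node (.node (.node (.leaf 12689904)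 (.leaf 11902979)) (.leaf 11210956)) (.node (.leaf 8143461) (.leaf 15986913))) (.node (.node (.leaf 2130102) (.leaf 10416422)) (.node (.leaf 430700) (.leaf 9859139)))) (.node (.node (.node (.node (.leaf 6832785) (.leaf 9044662)) (.leaf 4603904)) (.node (.leaf 4599985) (.leaf 12968055))) (.node (.node (.leaf 8581124) (.leaf 13017705)) (.node (.leaf 3170411) (.leaf 10563797))))) (.node (.node (.node (.node (.node (.leaf 14025112) (.leaf 16724606)) (.leaf 12136963)) (.node (.leaf 11895323) (.leaf 12985013))) (.node (.node (.leaf 3732124) (.leaf 1081553)) (.node (.leaf 11411918) (.leaf 14098643)))) (.node (.node (.node (.leaf 1630502) (.leaf 11067842)) (.node (.leaf 5067036) (.leaf 14737520))) (.node (.node (.leaf 17150165) (.leaf 11096577)) (.node (.leaf 11055152) (.leaf 14393477)))))))))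

def threeMv4057 : Janko.Tree (ℕ) :=
  (.node (.node (.node (.node (.node (.node (.node (.node (.node (.leaf 5866171) (.leaf 14512262)) (.leaf 10777118)) (.node (.leaf 14901572) (.leaf 16736845))) (.node (.node (.leaf 16392877) (.leaf 7979262)) (.node (.leaf 832029) (.leaf 2834517)))) (.node (.node (.node (.node (.leaf 3703026) (.leaf 909384)) (.leaf 2908283)) (.node (.leaf 9163240) (.leaf 3953305))) (.node (.node (.leaf 1929237) (.leaf 10215562)) (.node (.leaf 6332500) (.leaf 16548352))))) (.node (.node (.node (.node (.node (.leaf 12866073) (.leaf 9650215)) (.leaf 8368410)) (.node (.leaf 17036) (.leaf 14680673))) (.node (.node (.leaf 16818303) (.leaf 570011)) (.node (.leaf 5337516) (.leaf 5472654)))) (.node (.node (.node (.leaf 7073804) (.leaf 11747569)) (.node (.leaf 12783753) (.leaf 15356555))) (.node (.node (.leaf 2367559) (.leaf 17187206)) (.node (.leaf 610756) (.leaf 15007753)))))) (.node (.node (.node (.node (.node (.node (.leaf 16744867) (.leaf 14819688)) (.leaf 4673779)) (.node (.leaf 11133510) (.leaf 7438468))) (.node (.node (.leaf 9355765) (.leaf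 4751624)) (.node (.leaf 3216055) (.leaf 2949441)))) (.node (.node (.node (.node (.leaf 13348898) (.leaf 5292458)) (.leaf 868402)) (.node (.leaf 13045837) (.leaf 7844112))) (.node (.node (.leaf 15516131) (.leaf 14733312)) (.node (.leaf 11059760) (.leaf 2613742))))) (.node (.node (.node (.node (.node (.leaf 17084965) (.leaf 7557805)) (.leaf 9203986)) (.node (.leaf 5091872) (.leaf 12714697))) (.node (.node (.leaf 6373522) (.leaf 3129431)) (.node (.leaf 8978959) (.leaf 11817211)))) (.node (.node (.node (.leaf 4661643) (.leaf 15229276)) (.node (.leaf 258632) (.leaf 14217872))) (.node (.node (.leaf 3195396) (.leaf 7459280)) (.node (.leaf 5448223) (.leaf 1991306))))))) (.node (.node (.node (.node (.node (.node (.node (.leaf 16281665) (.leaf 967121)) (.leaf 15397247)) (.node (.leaf 6156720) (.leaf 10191398))) (.node (.node (.leaf 7716990) (.leaf 913865)) (.node (.leaf 15835454) (.leaf 8421819)))) (.node (.node (.node (.node (.leaf 6689465) (.leaf 7766406)) (.leaf 33153)) (.node (.leaf 9719876) (.leaf 17617610))) (.node (.node (.leaf 13168920) (.leaf 4075901)) (.node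 (.leaf 14852694) (.leaf 16847422))))) (.node (.node (.node (.node (.node (.leaf 14549612) (.leaf 17736401)) (.leaf 3383810)) (.node (.leaf 16580667) (.leaf 7467513))) (.node (.node (.leaf 7447112) (.leaf 4120805)) (.node (.leaf 15135303) (.leaf 17322554)))) (.node (.node (.node (.leaf 2327136) (.leaf 8213195)) (.node (.leaf 6013187) (.leaf 15458759))) (.node (.node (.leaf 135678) (.leaf 2666994)) (.node (.leaf 4887021) (.leaf 12095497)))))) (.node (.node (.node (.node (.node (.node (.leaf 16367973) (.leaf 6521026)) (.leaf 15741118)) (.node (.leaf 1458661) (.leaf 14938389))) (.node (.node (.leaf 2965869) (.leaf 6950928)) (.node (.leaf 7332087) (.leaf 12894926)))) (.node (.node (.node (.node (.leaf 2125894) (.leaf 8577280)) (.leaf 10948858)) (.node (.leaf 12767705) (.leaf 16335251))) (.node (.node (.leaf 15425695) (.leaf 2003048)) (.node (.leaf 12361982) (.leaf 7725435))))) (.node (.node (.node (.node (.node (.leaf 12333778) (.leaf 1721020)) (.leaf 14598529)) (.node (.leaf 12328979) (.leaf 13701544))) (.node (.node (.leaf 762290) (.leaf 11784656)) (.node (.leaf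 10306234) (.leaf 5894745)))) (.node (.node (.node (.leaf 9183324) (.leaf 1434207)) (.node (.leaf 16241214) (.leaf 872463))) (.node (.node (.leaf 4558912) (.leaf 8384744)) (.node (.leaf 9691851) (.leaf 17272862)))))))) (.node (.node (.node (.node (.node (.node (.node (.node (.leaf 1851694) (.leaf 10801343)) (.leaf 3474012)) (.node (.leaf 17621168) (.leaf 11669819))) (.node (.node (.leaf 4944412) (.leaf 11875027)) (.node (.leaf 10347151) (.leaf 57743)))) (.node (.node (.node (.node (.leaf 2671225) (.leaf 11178310)) (.leaf 9990820)) (.node (.leaf 16126655) (.leaf 6808263))) (.node (.node (.leaf 6648478) (.leaf 5181982)) (.node (.leaf 5259390) (.leaf 12583079))))) (.node (.node (.node (.node (.node (.leaf 4911759) (.leaf 16753124)) (.leaf 1564842)) (.node (.leaf 1040867) (.leaf 17219834))) (.node (.node (.leaf 11591918) (.leaf 14336697)) (.node (.leaf 5530119) (.leaf 12529824)))) (.node (.node (.node (.leaf 6640231) (.leaf 7192577)) (.node (.leaf 10113474) (.leaf 15990908))) (.node (.node (.leaf 5567023) (.leaf 7545309)) (.node (.leaf 6562238) (.leaf 4788487))))))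 (.node (.node (.node (.node (.node (.node (.leaf 1909244) (.leaf 16491188)) (.leaf 8028521)) (.node (.leaf 16982311) (.leaf 15577216))) (.node (.node (.leaf 13742394) (.leaf 3220118)) (.node (.leaf 4387327) (.leaf 344487)))) (.node (.node (.node (.node (.leaf 893532) (.leaf 307678)) (.leaf 455194)) (.node (.leaf 4993545) (.leaf 3678357))) (.node (.node (.leaf 13206072) (.leaf 16245301)) (.node (.leaf 8807071) (.leaf 5767812))))) (.node (.node (.node (.node (.node (.leaf 5493318) (.leaf 17252459)) (.leaf 11371135)) (.node (.leaf 17523144) (.leaf 16437916))) (.node (.node (.leaf 2736460) (.leaf 856618)) (.node (.leaf 17412471) (.leaf 10047770)))) (.node (.node (.node (.leaf 4800584) (.leaf 8495247)) (.node (.leaf 14786939) (.leaf 1347917))) (.node (.node (.leaf 6738212) (.leaf 53597)) (.node (.leaf 274966) (.leaf 2220176))))))) (.node (.node (.node (.node (.node (.node (.node (.leaf 12546747) (.leaf 2433134)) (.leaf 9597378)) (.node (.leaf 12132815) (.leaf 12128704))) (.node (.node (.leaf 15270224) (.leaf 3993804)) (.node (.leaf 12493509) (.leaf 4718783)))) (.node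 (.node (.node (.node (.leaf 6942907) (.leaf 14467185)) (.leaf 1778156)) (.node (.leaf 7209493) (.leaf 7004244))) (.node (.node (.leaf 4395322) (.leaf 1888664)) (.node (.leaf 2793646) (.leaf 1233238))))) (.node (.node (.node (.node (.node (.leaf 1827485) (.leaf 4612677)) (.leaf 12079768)) (.node (.leaf 16318951) (.leaf 11944330))) (.node (.node (.leaf 7930357) (.leaf 6337214)) (.node (.leaf 9716226) (.leaf 11190410)))) (.node (.node (.node (.leaf 1532403) (.leaf 9683219)) (.node (.leaf 9392711) (.leaf 12161335))) (.node (.node (.leaf 3330545) (.leaf 12112327)) (.node (.leaf 5206704) (.leaf 299047)))))) (.node (.node (.node (.node (.node (.node (.leaf 8642967) (.leaf 4939928)) (.leaf 680306)) (.node (.leaf 3035540) (.leaf 14950773))) (.node (.node (.leaf 11317393) (.leaf 15049347)) (.node (.leaf 14807540) (.leaf 17301522)))) (.node (.node (.node (.node (.leaf 16937205) (.leaf 1229269)) (.leaf 7606744)) (.node (.leaf 3834447) (.leaf 10297452))) (.node (.node (.leaf 13542025) (.leaf 15078075)) (.node (.leaf 7082686) (.leaf 2404416))))) (.node (.node (.node (.node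 (.node (.leaf 8291025) (.leaf 10125606)) (.leaf 6222210)) (.node (.leaf 8594043) (.leaf 15392802))) (.node (.node (.leaf 737595) (.leaf 14762265)) (.node (.leaf 7795337) (.leaf 934292)))) (.node (.node (.node (.leaf 3526842) (.leaf 2761236)) (.node (.leaf 7328335) (.leaf 3117465))) (.node (.node (.leaf 5525856) (.leaf 13185515)) (.node (.leaf 12587694) (.leaf 17261094)))))))))

def threeMv4058 : Janko.Tree (ℕ) :=
  (.node (.node (.node (.node (.node (.node (.node (.node (.node (.leaf 8613916) (.leaf 7631385)) (.leaf 4510376)) (.node (.leaf 553256) (.leaf 18063900))) (.node (.node (.leaf 4424406) (.leaf 14639588)) (.node (.leaf 9781645) (.leaf 14455124)))) (.node (.node (.node (.node (.leaf 1089903) (.leaf 5513317)) (.leaf 9543961)) (.node (.leaf 10805567) (.leaf 15253618))) (.node (.node (.leaf 10129547) (.leaf 6590854)) (.node (.leaf 2347721) (.leaf 16302752))))) (.node (.node (.node (.node (.node (.leaf 4440512) (.leaf 1708759)) (.leaf 5198471)) (.node (.leaf 8417408) (.leaf 15352208))) (.node (.node (.leaf 13099256) (.leaf 4838024)) (.node (.leaf 12656718)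 (.leaf 2265610)))) (.node (.node (.node (.leaf 152241) (.leaf 6791561)) (.node (.leaf 1650822) (.leaf 11149936))) (.node (.node (.leaf 12268045) (.leaf 12017885)) (.node (.leaf 8441) (.leaf 17162440)))))) (.node (.node (.node (.node (.node (.node (.leaf 6004799) (.leaf 15630915)) (.leaf 6082773)) (.node (.leaf 324185) (.leaf 17072234))) (.node (.node (.leaf 4465285) (.leaf 3858472)) (.node (.leaf 2916705) (.leaf 7786716)))) (.node (.node (.node (.node (.leaf 17814090) (.leaf 12445)) (.leaf 10957503)) (.node (.leaf 13553675) (.leaf 13853013))) (.node (.node (.leaf 5489079) (.leaf 12100232)) (.node (.leaf 9654529) (.leaf 3756210))))) (.node (.node (.node (.node (.node (.leaf 14053926) (.leaf 360577)) (.leaf 10485901)) (.node (.leaf 10391662) (.leaf 4399696))) (.node (.node (.leaf 10248903) (.leaf 8602321)) (.node (.leaf 2445634) (.leaf 6263010)))) (.node (.node (.node (.leaf 2605534) (.leaf 14999647)) (.node (.leaf 16900644) (.leaf 11227799))) (.node (.node (.leaf 5873996) (.leaf 1594028)) (.node (.leaf 3957463) (.leaf 11272255))))))) (.node (.node (.node (.node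 (.node (.node (.node (.leaf 5546549) (.leaf 15511555)) (.leaf 2298562)) (.node (.leaf 8933514) (.leaf 6783591))) (.node (.node (.leaf 7266405) (.leaf 5603425)) (.node (.leaf 11337883) (.leaf 7234117)))) (.node (.node (.node (.node (.leaf 4690212) (.leaf 10707288)) (.leaf 14267002)) (.node (.leaf 11644995) (.leaf 12026084))) (.node (.node (.leaf 14479847) (.leaf 10793011)) (.node (.leaf 9368202) (.leaf 17015499))))) (.node (.node (.node (.node (.node (.leaf 1987218) (.leaf 9507282)) (.leaf 9413212)) (.node (.leaf 4882864) (.leaf 8175748))) (.node (.node (.leaf 4268416) (.leaf 1380772)) (.node (.leaf 12271995) (.leaf 16523569)))) (.node (.node (.node (.leaf 15176002) (.leaf 5476414)) (.node (.leaf 10785449) (.leaf 3191312))) (.node (.node (.leaf 9515215) (.leaf 13615594)) (.node (.leaf 6693391) (.leaf 8561352)))))) (.node (.node (.node (.node (.node (.node (.leaf 17752665) (.leaf 3092852)) (.leaf 18202717)) (.node (.leaf 10354699) (.leaf 3063929))) (.node (.node (.leaf 15388926) (.leaf 11145651)) (.node (.leaf 2986403) (.leaf 2568788)))) (.node (.node (.node (.node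 (.leaf 741935) (.leaf 17990237)) (.leaf 1359915)) (.node (.leaf 6320261) (.leaf 10699184))) (.node (.node (.leaf 11641503) (.leaf 6955690)) (.node (.leaf 192749) (.leaf 6840894))))) (.node (.node (.node (.node (.node (.leaf 18125025) (.leaf 6299736)) (.leaf 835813)) (.node (.leaf 7393462) (.leaf 5653096))) (.node (.node (.leaf 7835929) (.leaf 17527152)) (.node (.leaf 13709697) (.leaf 12878388)))) (.node (.node (.node (.leaf 17932744) (.leaf 11268676)) (.node (.leaf 9024016) (.leaf 9966047))) (.node (.node (.leaf 17936906) (.leaf 11432434)) (.node (.leaf 14700980) (.leaf 8692201)))))))) (.node (.node (.node (.node (.node (.node (.node (.node (.leaf 15409658) (.leaf 6799776)) (.leaf 4960463)) (.node (.leaf 6054547) (.leaf 6865213))) (.node (.node (.leaf 14492206) (.leaf 12595629)) (.node (.leaf 10609088) (.leaf 1175996)))) (.node (.node (.node (.node (.leaf 15384971) (.leaf 1171468)) (.leaf 16093217)) (.node (.leaf 3928748) (.leaf 7049937))) (.node (.node (.leaf 3350943) (.leaf 3138169)) (.node (.leaf 15859986) (.leaf 8098117))))) (.node (.node (.node (.node (.node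 (.leaf 5885982) (.leaf 11690479)) (.leaf 17658535)) (.node (.leaf 15774235) (.leaf 3789131))) (.node (.node (.leaf 6992598) (.leaf 5059148)) (.node (.leaf 12292635) (.leaf 2797674)))) (.node (.node (.node (.leaf 12640984) (.leaf 2408933)) (.node (.leaf 1503714) (.leaf 4452854))) (.node (.node (.leaf 8904855) (.leaf 11997610)) (.node (.leaf 3142039) (.leaf 10465662)))))) (.node (.node (.node (.node (.node (.node (.leaf 2159030) (.leaf 18026862)) (.leaf 11841737)) (.node (.leaf 13525267) (.leaf 1212819))) (.node (.node (.leaf 8053184) (.leaf 17850526)) (.node (.leaf 13459525) (.leaf 7303669)))) (.node (.node (.node (.node (.leaf 15950297) (.leaf 2019429)) (.leaf 16077401)) (.node (.leaf 12337467) (.leaf 2064553))) (.node (.node (.leaf 2097629) (.leaf 8470992)) (.node (.leaf 9322563) (.leaf 16933334))))) (.node (.node (.node (.node (.node (.leaf 13770767) (.leaf 14348738)) (.leaf 7237847)) (.node (.leaf 12976746) (.leaf 565880))) (.node (.node (.leaf 18321491) (.leaf 8802834)) (.node (.leaf 4321449) (.leaf 1306954)))) (.node (.node (.node (.leaf 5386471) (.leaf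 15925606)) (.node (.leaf 414417) (.leaf 12681450))) (.node (.node (.leaf 10207464) (.leaf 16359552)) (.node (.leaf 172422) (.leaf 15544537))))))) (.node (.node (.node (.node (.node (.node (.node (.leaf 10531078) (.leaf 3371126)) (.leaf 4973261)) (.node (.leaf 2580769) (.leaf 14483589))) (.node (.node (.leaf 12358273) (.leaf 12599733)) (.node (.leaf 6041655) (.leaf 13664977)))) (.node (.node (.node (.node (.leaf 2785568) (.leaf 11039013)) (.leaf 4809270)) (.node (.leaf 13291781) (.leaf 12177499))) (.node (.node (.leaf 3846587) (.leaf 15634976)) (.node (.leaf 14303461) (.leaf 3006479))))) (.node (.node (.node (.node (.node (.leaf 5415333) (.leaf 9867771)) (.leaf 1339525)) (.node (.leaf 8798657) (.leaf 7729415))) (.node (.node (.leaf 11833662) (.leaf 12972721)) (.node (.leaf 7880831) (.leaf 10424746)))) (.node (.node (.node (.leaf 15593783) (.leaf 11755580)) (.node (.leaf 10937014) (.leaf 7811645))) (.node (.node (.leaf 6115826) (.leaf 14799063)) (.node (.leaf 8307216) (.leaf 17956884)))))) (.node (.node (.node (.node (.node (.node (.leaf 3629547) (.leaf 12796178))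 (.leaf 16715820)) (.node (.leaf 9249333) (.leaf 6001313))) (.node (.node (.leaf 12558939) (.leaf 10301660)) (.node (.leaf 16355462) (.leaf 13414816)))) (.node (.node (.node (.node (.leaf 15204456) (.leaf 6676817)) (.leaf 6426651)) (.node (.leaf 6504574) (.leaf 4022457))) (.node (.node (.leaf 7369055) (.leaf 13996206)) (.node (.leaf 4489903) (.leaf 13165051))))) (.node (.node (.node (.node (.node (.leaf 6398536) (.leaf 782624)) (.leaf 10900099)) (.node (.leaf 1806675) (.leaf 4198711))) (.node (.node (.leaf 14578156) (.leaf 11501594)) (.node (.leaf 12534162) (.leaf 1319219)))) (.node (.node (.node (.leaf 2228861) (.leaf 14921779)) (.node (.leaf 2072884) (.leaf 18240099))) (.node (.node (.leaf 14213812) (.leaf 11600326)) (.node (.leaf 15266250) (.leaf 18149783)))))))))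

def threeMv4059 : Janko.Tree (ℕ) :=
  (.node (.node (.node (.node (.node (.node (.node (.node (.node (.leaf 14372911) (.leaf 9306704)) (.leaf 12706189)) (.node (.leaf 3989565) (.leaf 5079229))) (.node (.node (.leaf 8810508) (.leaf 9466075)) (.node (.leaf 1962662) (.leaf 13373798)))) (.node (.node (.node (.node (.leaf 12481102) (.leaf 13512720)) (.leaf 1953973)) (.node (.leaf 14250375) (.leaf 1270337))) (.node (.node (.leaf 14402020) (.leaf 823906)) (.node (.leaf 3982036) (.leaf 15856131))))) (.node (.node (.node (.node (.node (.leaf 16748763) (.leaf 13455689)) (.leaf 4620560)) (.node (.leaf 5161177) (.leaf 6324595))) (.node (.node (.leaf 6889613) (.leaf 15556643)) (.node (.leaf 9187437) (.leaf 16699464)))) (.node (.node (.node (.leaf 16928974) (.leaf 6554275)) (.node (.leaf 5804220) (.leaf 18219606))) (.node (.node (.leaf 13844496) (.leaf 13849031)) (.node (.leaf 1831175) (.leaf 7315614)))))) (.node (.node (.node (.node (.node (.node (.leaf 10498304) (.leaf 17744297)) (.leaf 6660417)) (.node (.leaf 13828768) (.leaf 5075470))) (.node (.node (.leaf 12591480)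 (.leaf 2609295)) (.node (.leaf 7721231) (.leaf 1945843)))) (.node (.node (.node (.node (.leaf 16806494) (.leaf 11195008)) (.leaf 14745604)) (.node (.leaf 4436145) (.leaf 2822820))) (.node (.node (.leaf 12226610) (.leaf 13082800)) (.node (.leaf 10834606) (.leaf 6926475))))) (.node (.node (.node (.node (.node (.leaf 1622027) (.leaf 3043835)) (.leaf 16585225)) (.node (.leaf 827597) (.leaf 1139274))) (.node (.node (.leaf 18174545) (.leaf 6713353)) (.node (.leaf 16203939) (.leaf 3322155)))) (.node (.node (.node (.leaf 5935418) (.leaf 9085536)) (.node (.leaf 156017) (.leaf 13738412))) (.node (.node (.leaf 12014274) (.leaf 1733095)) (.node (.leaf 8082069) (.leaf 14049819))))))) (.node (.node (.node (.node (.node (.node (.node (.leaf 8372434) (.leaf 17514763)) (.leaf 12628295)) (.node (.leaf 4796905) (.leaf 11120808))) (.node (.node (.leaf 1368452) (.leaf 10874934)) (.node (.leaf 13025421) (.leaf 4342160)))) (.node (.node (.node (.node (.leaf 2789774) (.leaf 10076355)) (.leaf 16831121)) (.node (.leaf 6418586) (.leaf 3825990))) (.node (.node (.leaf 3486053) (.leaf 8786550))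 (.node (.leaf 10920012) (.leaf 16913023))))) (.node (.node (.node (.node (.node (.leaf 844332) (.leaf 6164500)) (.leaf 3448909)) (.node (.leaf 14856884) (.leaf 4059420))) (.node (.node (.leaf 1028371) (.leaf 852055)) (.node (.leaf 6656595) (.leaf 17183303)))) (.node (.node (.node (.leaf 16835211) (.leaf 1331698)) (.node (.leaf 18158266) (.leaf 9195818))) (.node (.node (.leaf 7578154) (.leaf 2634433)) (.node (.leaf 11342167) (.leaf 13439530)))))) (.node (.node (.node (.node (.node (.node (.leaf 3490163) (.leaf 803447)) (.leaf 13431386)) (.node (.leaf 4174221) (.leaf 15053038))) (.node (.node (.leaf 778802) (.leaf 13529088)) (.node (.leaf 12002002) (.leaf 15667866)))) (.node (.node (.node (.node (.leaf 16274092) (.leaf 13886019)) (.leaf 14594243)) (.node (.leaf 15224963) (.leaf 316024))) (.node (.node (.leaf 11739802) (.leaf 6304197)) (.node (.leaf 2716057) (.leaf 7819991))))) (.node (.node (.node (.node (.node (.leaf 11301129) (.leaf 17211616)) (.leaf 6668532)) (.node (.leaf 7508316) (.leaf 15343697))) (.node (.node (.leaf 6779190) (.leaf 17064568)) (.node (.leaf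 3039616) (.leaf 11665829)))) (.node (.node (.node (.leaf 3162353) (.leaf 1790636)) (.node (.leaf 11350436) (.leaf 201118))) (.node (.node (.leaf 13156878) (.leaf 1204670)) (.node (.leaf 14316233) (.leaf 11677987)))))))) (.node (.node (.node (.node (.node (.node (.node (.node (.leaf 16949324) (.leaf 4006510)) (.leaf 3158189)) (.node (.leaf 15901318) (.leaf 9924874))) (.node (.node (.leaf 6455417) (.leaf 8814654)) (.node (.leaf 14287419) (.leaf 11538635)))) (.node (.node (.node (.node (.leaf 1523787) (.leaf 15094294)) (.leaf 16285946)) (.node (.leaf 10756183) (.leaf 17281561))) (.node (.node (.leaf 1254022) (.leaf 4891003)) (.node (.leaf 488083) (.leaf 7254361))))) (.node (.node (.node (.node (.node (.leaf 10019095) (.leaf 11653427)) (.leaf 5960030)) (.node (.leaf 4145316) (.leaf 15310849))) (.node (.node (.leaf 7848563) (.leaf 7450705)) (.node (.leaf 7221477) (.leaf 249899)))) (.node (.node (.node (.leaf 16188072) (.leaf 5001803)) (.node (.leaf 5861746) (.leaf 8667330))) (.node (.node (.leaf 18317409) (.leaf 14172507)) (.node (.leaf 2441351) (.leaf 12747454))))))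 (.node (.node (.node (.node (.node (.node (.leaf 9573064) (.leaf 16543869)) (.leaf 1598167)) (.node (.leaf 2502749) (.leaf 10743987))) (.node (.node (.leaf 16528069) (.leaf 8528314)) (.node (.leaf 495964) (.leaf 15876466)))) (.node (.node (.node (.node (.leaf 11457128) (.leaf 11076204)) (.leaf 13345104)) (.node (.leaf 11972742) (.leaf 13795846))) (.node (.node (.leaf 13037785) (.leaf 13152614)) (.node (.leaf 6848841) (.leaf 3272850))))) (.node (.node (.node (.node (.node (.leaf 11915370) (.leaf 18309586)) (.leaf 15737441)) (.node (.leaf 2060534) (.leaf 11620685))) (.node (.node (.leaf 5656849) (.leaf 11161696)) (.node (.leaf 18088049) (.leaf 11628936)))) (.node (.node (.node (.leaf 15212655) (.leaf 12325315)) (.node (.leaf 7893318) (.leaf 10154320))) (.node (.node (.leaf 10134010) (.leaf 524994)) (.node (.leaf 12919293) (.leaf 8945902))))))) (.node (.node (.node (.node (.node (.node (.node (.leaf 5222835) (.leaf 14684571)) (.leaf 3395960)) (.node (.leaf 17428699) (.leaf 2654862))) (.node (.node (.leaf 4256050) (.leaf 12857740)) (.node (.leaf 10911929) (.leaf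 6279660)))) (.node (.node (.node (.node (.leaf 12386427) (.leaf 397415)) (.leaf 15765723)) (.node (.leaf 17789340) (.leaf 2212411))) (.node (.node (.leaf 12718257) (.leaf 6422920)) (.node (.leaf 17887782) (.leaf 15598225))))) (.node (.node (.node (.node (.node (.leaf 4035251) (.leaf 14082231)) (.leaf 2282147)) (.node (.leaf 12444112) (.leaf 8778217))) (.node (.node (.leaf 3809323) (.leaf 6963565)) (.node (.leaf 7479477) (.leaf 8110422)))) (.node (.node (.node (.leaf 11788502) (.leaf 352692)) (.node (.leaf 1786209) (.leaf 12980761))) (.node (.node (.leaf 13574596) (.leaf 143820)) (.node (.leaf 11518096) (.leaf 17785016)))))) (.node (.node (.node (.node (.node (.node (.leaf 6983933) (.leaf 1700337)) (.leaf 8032477)) (.node (.leaf 12943669) (.leaf 283039))) (.node (.node (.leaf 14881492) (.leaf 15605939)) (.node (.leaf 7942557) (.leaf 10199615)))) (.node (.node (.node (.node (.leaf 2330947) (.leaf 4350072)) (.leaf 1282093)) (.node (.leaf 12046736) (.leaf 11612853))) (.node (.node (.leaf 12517441) (.leaf 13484414)) (.node (.leaf 13381859) (.leaf 11112948))))) (.node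 (.node (.node (.node (.node (.leaf 15778326) (.leaf 14110758)) (.leaf 7139654)) (.node (.leaf 10117338) (.leaf 1745511))) (.node (.node (.leaf 1487288) (.leaf 15074007)) (.node (.leaf 2236705) (.leaf 13304109)))) (.node (.node (.node (.leaf 17088529) (.leaf 750084)) (.node (.leaf 14496408) (.leaf 6750354))) (.node (.node (.leaf 1097854) (.leaf 10789220)) (.node (.leaf 17547787) (.leaf 16429756)))))))))

def threeMv40510 : Janko.Tree (ℕ) :=
  (.node (.node (.node (.node (.node (.node (.node (.node (.node (.leaf 2376089) (.leaf 10695350)) (.leaf 17285623)) (.node (.leaf 8724899) (.leaf 16196208))) (.node (.node (.leaf 12087496) (.leaf 13685195)) (.node (.leaf 3637345) (.leaf 18112827)))) (.node (.node (.node (.node (.leaf 11493988) (.leaf 8401423)) (.leaf 7852548)) (.node (.leaf 14156222) (.leaf 2085499))) (.node (.node (.leaf 18059300) (.leaf 10502680)) (.node (.leaf 10224166) (.leaf 5165504))))) (.node (.node (.node (.node (.node (.leaf 4481640) (.leaf 16110132)) (.leaf 11391240)) (.node (.leaf 1933953) (.leaf 11759684))) (.node (.node (.leaf 14131220) (.leaf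 618694)) (.node (.leaf 12665042) (.leaf 7921751)))) (.node (.node (.node (.leaf 6705511) (.leaf 12964502)) (.node (.leaf 6140423) (.leaf 5276099))) (.node (.node (.leaf 14553790) (.leaf 3432771)) (.node (.leaf 5710170) (.leaf 1351812)))))) (.node (.node (.node (.node (.node (.node (.leaf 17797817) (.leaf 10629440)) (.leaf 8323740)) (.node (.leaf 9232805) (.leaf 17146201))) (.node (.node (.leaf 2277696) (.leaf 5951626)) (.node (.leaf 3822154) (.leaf 3985474)))) (.node (.node (.node (.node (.leaf 2863218) (.leaf 6365870)) (.leaf 6910204)) (.node (.leaf 14086168) (.leaf 8515839))) (.node (.node (.leaf 17240344) (.leaf 1863964)) (.node (.leaf 12030178) (.leaf 7938077))))) (.node (.node (.node (.node (.node (.leaf 13550154) (.leaf 10182761)) (.leaf 5328925)) (.node (.leaf 13717773) (.leaf 14721058))) (.node (.node (.leaf 2826675) (.leaf 14332422)) (.node (.leaf 16839065) (.leaf 17826214)))) (.node (.node (.node (.leaf 16507301) (.leaf 12653125)) (.node (.leaf 1855590) (.leaf 8429848))) (.node (.node (.leaf 12513750) (.leaf 14610740)) (.node (.leaf 13005425) (.leaf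 13955724))))))) (.node (.node (.node (.node (.node (.node (.node (.leaf 14225930) (.leaf 3080276)) (.leaf 10752490)) (.node (.leaf 13652542) (.leaf 4288659))) (.node (.node (.leaf 14016919) (.leaf 10080920)) (.node (.leaf 17154729) (.leaf 12988674)))) (.node (.node (.node (.node (.leaf 123522) (.leaf 13021343)) (.leaf 17191313)) (.node (.leaf 10293909) (.leaf 12075189))) (.node (.node (.leaf 16408743) (.leaf 2458104)) (.node (.leaf 4202963) (.leaf 9884032))))) (.node (.node (.node (.node (.node (.leaf 6975921) (.leaf 5308954)) (.leaf 6312590)) (.node (.leaf 7016710) (.leaf 8970830))) (.node (.node (.leaf 8209025) (.leaf 8229501)) (.node (.leaf 18001949) (.leaf 10973592)))) (.node (.node (.node (.leaf 3584446) (.leaf 758121)) (.node (.leaf 13042044) (.leaf 725292))) (.node (.node (.leaf 14582307) (.leaf 9335437)) (.node (.leaf 2855540) (.leaf 5923466)))))) (.node (.node (.node (.node (.node (.node (.leaf 13050508) (.leaf 16920700)) (.leaf 4014342)) (.node (.leaf 17490061) (.leaf 12091405))) (.node (.node (.leaf 348253) (.leaf 5148847)) (.node (.leaf 8868077)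 (.leaf 8859925)))) (.node (.node (.node (.node (.leaf 9400432) (.leaf 14180557)) (.leaf 15130977)) (.node (.leaf 7176658) (.leaf 3715625))) (.node (.node (.leaf 10736176) (.leaf 17092997)) (.node (.leaf 15504007) (.leaf 10010628))))) (.node (.node (.node (.node (.node (.leaf 7090521) (.leaf 3657901)) (.leaf 11804735)) (.node (.leaf 49782) (.leaf 7885522))) (.node (.node (.leaf 15495388) (.leaf 7373054)) (.node (.leaf 12804793) (.leaf 1941996)))) (.node (.node (.node (.leaf 8221318) (.leaf 11543008)) (.node (.leaf 8016148) (.leaf 1430084))) (.node (.node (.leaf 8286248) (.leaf 15483518)) (.node (.leaf 6873145) (.leaf 9007427)))))))) (.node (.node (.node (.node (.node (.node (.node (.node (.leaf 6816429) (.leaf 17592428)) (.leaf 14020810)) (.node (.leaf 2740255) (.leaf 16887880))) (.node (.node (.leaf 10666681) (.leaf 3625495)) (.node (.leaf 12214554) (.leaf 10219544)))) (.node (.node (.node (.node (.leaf 14254430) (.leaf 1839353)) (.leaf 16167469)) (.node (.leaf 9585020) (.leaf 14713160))) (.node (.node (.leaf 15274679) (.leaf 1548353)) (.node (.leaf 13578761)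 (.leaf 1921670))))) (.node (.node (.node (.node (.node (.leaf 7701160) (.leaf 1426081)) (.leaf 16122215)) (.node (.leaf 1823014) (.leaf 8147011))) (.node (.node (.leaf 10715713) (.leaf 13394093)) (.node (.leaf 16859498) (.leaf 12763520)))) (.node (.node (.node (.leaf 4653403) (.leaf 17424952)) (.node (.leaf 4063518) (.leaf 3031741))) (.node (.node (.leaf 7901540) (.leaf 14094974)) (.node (.leaf 16158897) (.leaf 5484870)))))) (.node (.node (.node (.node (.node (.node (.leaf 6664384) (.leaf 4702402)) (.leaf 17588572)) (.node (.leaf 5517898) (.leaf 12624096))) (.node (.node (.leaf 8274317) (.leaf 13107538)) (.node (.leaf 11858058) (.leaf 15376608)))) (.node (.node (.node (.node (.leaf 1794326) (.leaf 647631)) (.leaf 1520078)) (.node (.leaf 15626674) (.leaf 15602326))) (.node (.node (.leaf 7045510) (.leaf 16740899)) (.node (.leaf 5808733) (.leaf 16028355))))) (.node (.node (.node (.node (.node (.leaf 574023) (.leaf 10051838)) (.leaf 8958516)) (.node (.leaf 9359926) (.leaf 13947093))) (.node (.node (.leaf 12321156) (.leaf 13095147)) (.node (.leaf 7966979) (.leaf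 17269323)))) (.node (.node (.node (.leaf 4411575) (.leaf 15184016)) (.node (.leaf 14557413) (.leaf 9969806))) (.node (.node (.leaf 12189956) (.leaf 9806276)) (.node (.leaf 16023942) (.leaf 2879550))))))) (.node (.node (.node (.node (.node (.node (.node (.leaf 14070016) (.leaf 9941374)) (.leaf 11686278)) (.node (.leaf 6209749) (.leaf 17485932))) (.node (.node (.leaf 10240490) (.leaf 18248050)) (.node (.leaf 2105407) (.leaf 17453287)))) (.node (.node (.node (.node (.leaf 1114551) (.leaf 446933)) (.leaf 11473378)) (.node (.leaf 12451868) (.leaf 1274306))) (.node (.node (.leaf 9121968) (.leaf 9707715)) (.node (.leaf 12062977) (.leaf 9441986))))) (.node (.node (.node (.node (.node (.leaf 17600892) (.leaf 11030850)) (.leaf 4633160)) (.node (.leaf 9478407) (.leaf 13193277))) (.node (.node (.leaf 12440000) (.leaf 651902)) (.node (.leaf 6894008) (.leaf 17998429)))) (.node (.node (.node (.leaf 14541478) (.leaf 1737241)) (.node (.leaf 18338340) (.leaf 12611820))) (.node (.node (.leaf 10617205) (.leaf 11989332)) (.node (.leaf 13357743) (.leaf 7291312)))))) (.node (.node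 (.node (.node (.node (.node (.leaf 6148453) (.leaf 2011861)) (.leaf 17821914)) (.node (.leaf 8646694) (.leaf 2851377))) (.node (.node (.leaf 7110756) (.leaf 7696905)) (.node (.leaf 6344862) (.leaf 6635695)))) (.node (.node (.node (.node (.leaf 3572221) (.leaf 15302751)) (.leaf 2494634)) (.node (.leaf 5718128) (.leaf 15028453))) (.node (.node (.leaf 11583860) (.leaf 9880244)) (.node (.leaf 700496) (.leaf 938695))))) (.node (.node (.node (.node (.node (.leaf 15749821) (.leaf 10146120)) (.leaf 7463089)) (.node (.leaf 15430253) (.leaf 7323895))) (.node (.node (.leaf 17969213) (.leaf 14934490)) (.node (.leaf 13029623) (.leaf 7639370)))) (.node (.node (.node (.leaf 4468965) (.leaf 14877221)) (.node (.leaf 10367532) (.leaf 6230571))) (.node (.node (.leaf 9039915) (.leaf 8462568)) (.node (.leaf 13881807) (.leaf 10830404)))))))))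

def threeMv40511 : Janko.Tree (ℕ) :=
  (.node (.node (.node (.node (.node (.node (.node (.node (.node (.leaf 10170754) (.leaf 5816866)) (.leaf 8040950)) (.node (.leaf 5747389) (.leaf 5763730))) (.node (.node (.leaf 18080172) (.leaf 9847370)) (.node (.leaf 17912071) (.leaf 10444803)))) (.node (.node (.node (.node (.leaf 3535534) (.leaf 15683657)) (.leaf 6537677)) (.node (.leaf 15298810) (.leaf 9314668))) (.node (.node (.leaf 16638638) (.leaf 2830367)) (.node (.leaf 15138822) (.leaf 13766965))))) (.node (.node (.node (.node (.node (.leaf 18055751) (.leaf 7754364)) (.leaf 10506703)) (.node (.leaf 14274993) (.leaf 15610494))) (.node (.node (.leaf 253999) (.leaf 11023031)) (.node (.leaf 12366392) (.leaf 5726278)))) (.node (.node (.node (.leaf 12722295) (.leaf 4776519)) (.node (.leaf 10871058) (.leaf 5775530))) (.node (.node (.leaf 864900) (.leaf 11174537)) (.node (.leaf 901348) (.leaf 10686871)))))) (.node (.node (.node (.node (.node (.node (.leaf 7758004) (.leaf 4649411)) (.leaf 340441)) (.node (.leaf 3899477) (.leaf 16031795))) (.node (.node (.leaf 2360010) (.leaf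 13943348)) (.node (.leaf 1740971) (.leaf 13677162)))) (.node (.node (.node (.node (.leaf 16347854) (.leaf 1101912)) (.leaf 2416911)) (.node (.leaf 8716918) (.leaf 13910287))) (.node (.node (.leaf 1781931) (.leaf 119320)) (.node (.leaf 6734391) (.leaf 11198763))))) (.node (.node (.node (.node (.node (.leaf 5668949) (.leaf 6570245)) (.leaf 9592936)) (.node (.leaf 5771807) (.leaf 5976079))) (.node (.node (.leaf 13230191) (.leaf 3743773)) (.node (.leaf 4903639) (.leaf 12632233)))) (.node (.node (.node (.leaf 10821952) (.leaf 16761057)) (.node (.leaf 14709279) (.leaf 3318297))) (.node (.node (.leaf 11088353) (.leaf 17776914)) (.node (.leaf 791217) (.leaf 16642155))))))) (.node (.node (.node (.node (.node (.node (.node (.leaf 176299) (.leaf 2941164)) (.leaf 16339115)) (.node (.leaf 7782792) (.leaf 16351637))) (.node (.node (.leaf 8741512) (.leaf 12222879)) (.node (.leaf 11960598) (.leaf 8024557)))) (.node (.node (.node (.node (.leaf 10978007) (.leaf 15921780)) (.leaf 9613366)) (.node (.leaf 12820496) (.leaf 3539509))) (.node (.node (.leaf 7774297) (.leaf 3547440))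 (.node (.leaf 2207828) (.leaf 2490793))))) (.node (.node (.node (.node (.node (.leaf 9200248) (.leaf 10186929)) (.leaf 17654160)) (.node (.leaf 10965254) (.leaf 12431961))) (.node (.node (.leaf 18326136) (.leaf 11657242)) (.node (.leaf 9261064) (.leaf 9658721)))) (.node (.node (.node (.leaf 9663094) (.leaf 11940258)) (.node (.leaf 8454588) (.leaf 9294467))) (.node (.node (.leaf 2146374) (.leaf 9769228)) (.node (.leaf 2507186) (.leaf 561717)))))) (.node (.node (.node (.node (.node (.node (.leaf 16073216) (.leaf 9773059)) (.leaf 17756222)) (.node (.leaf 14864821) (.leaf 15442264))) (.node (.node (.leaf 11964599) (.leaf 8314939)) (.node (.leaf 18071880) (.leaf 17764812)))) (.node (.node (.node (.node (.leaf 14643316) (.leaf 16257442)) (.leaf 12550570)) (.node (.leaf 5361812) (.leaf 12509293))) (.node (.node (.leaf 13603294) (.leaf 12931405)) (.node (.leaf 1680080) (.leaf 9470428))))) (.node (.node (.node (.node (.node (.leaf 4178184) (.leaf 10064561)) (.leaf 5009546)) (.node (.leaf 2998853) (.leaf 2310283))) (.node (.node (.leaf 6389918) (.leaf 12402753)) (.node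 (.leaf 12300959) (.leaf 9056506)))) (.node (.node (.node (.leaf 2637966) (.leaf 4792697)) (.node (.leaf 3522754) (.leaf 17531252))) (.node (.node (.leaf 14246215) (.leaf 4072017)) (.node (.leaf 16822450) (.leaf 9978491)))))))) (.node (.node (.node (.node (.node (.node (.node (.node (.leaf 9711671) (.leaf 483561)) (.leaf 17560001)) (.node (.leaf 8938149) (.leaf 13103178))) (.node (.node (.leaf 17965358) (.leaf 8999465)) (.node (.leaf 6091006) (.leaf 15037026)))) (.node (.node (.node (.node (.leaf 9605450) (.leaf 975357)) (.leaf 5693609)) (.node (.leaf 6725734) (.leaf 10477681))) (.node (.node (.leaf 13053983) (.leaf 13713597)) (.node (.leaf 16224849) (.leaf 5734831))))) (.node (.node (.node (.node (.node (.leaf 4317731) (.leaf 2515175)) (.leaf 11293320)) (.node (.leaf 14778701) (.leaf 14758223))) (.node (.node (.leaf 8196396) (.leaf 11985052)) (.node (.leaf 16097553) (.leaf 672237)))) (.node (.node (.node (.leaf 7246230) (.leaf 5132834)) (.node (.leaf 18194515) (.leaf 10109365))) (.node (.node (.leaf 12374260) (.leaf 18264089)) (.node (.leaf 4739378) (.leaf 1974547))))))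 (.node (.node (.node (.node (.node (.node (.leaf 16634017) (.leaf 14676637)) (.leaf 9589270)) (.node (.leaf 9523493) (.leaf 13070346))) (.node (.node (.leaf 17572175) (.leaf 14651991)) (.node (.leaf 3293503) (.leaf 9765079)))) (.node (.node (.node (.node (.leaf 14090656) (.leaf 14229849)) (.leaf 11554901)) (.node (.leaf 1343917) (.leaf 13238436))) (.node (.node (.leaf 241738) (.leaf 1245901)) (.node (.leaf 512096) (.leaf 1323134))))) (.node (.node (.node (.node (.node (.leaf 8782060) (.leaf 15155819)) (.leaf 7008352)) (.node (.leaf 9351460) (.leaf 6328841))) (.node (.node (.leaf 9486637) (.leaf 7180622)) (.node (.leaf 16155239) (.leaf 3338374)))) (.node (.node (.node (.leaf 602127) (.leaf 8356267)) (.node (.leaf 7708976) (.leaf 11158218))) (.node (.node (.leaf 14889347) (.leaf 1884608)) (.node (.leaf 6275450) (.leaf 999622))))))) (.node (.node (.node (.node (.node (.node (.node (.leaf 1192106) (.leaf 4493864)) (.leaf 9326626)) (.node (.leaf 14836229) (.leaf 14906023))) (.node (.node (.leaf 18289047) (.leaf 14504238)) (.node (.leaf 7742079) (.leaf 14356984))))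 (.node (.node (.node (.node (.leaf 14238424) (.leaf 10350999)) (.leaf 5173505)) (.node (.leaf 12419754) (.leaf 5378262))) (.node (.node (.leaf 17649767) (.leaf 3768875)) (.node (.leaf 8966653) (.leaf 8507485))))) (.node (.node (.node (.node (.node (.leaf 13791694) (.leaf 15470647)) (.leaf 18260467)) (.node (.leaf 9461969) (.leaf 9142998))) (.node (.node (.leaf 16293889) (.leaf 14803661)) (.node (.leaf 14668147) (.leaf 9068635)))) (.node (.node (.node (.leaf 2232936) (.leaf 196688)) (.node (.leaf 9753045) (.leaf 5111879))) (.node (.node (.leaf 8094172) (.leaf 15831418)) (.node (.leaf 13217952) (.leaf 14967390)))))) (.node (.node (.node (.node (.node (.node (.leaf 7274832) (.leaf 17293425)) (.leaf 13893838)) (.node (.leaf 4329987) (.leaf 2945507))) (.node (.node (.leaf 1163466) (.leaf 8901056)) (.node (.leaf 15110222) (.leaf 9695397)))) (.node (.node (.node (.node (.leaf 13877764) (.leaf 11911776)) (.leaf 15893000)) (.node (.leaf 6746613) (.leaf 12382853))) (.node (.node (.leaf 13583031) (.leaf 16068702)) (.node (.leaf 16654496) (.leaf 12353785))))) (.node (.node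 (.node (.node (.node (.leaf 1216827) (.leaf 16401065)) (.leaf 13824615)) (.node (.leaf 14430485) (.leaf 2572811))) (.node (.node (.leaf 11276841) (.leaf 6979841)) (.node (.leaf 3248578) (.leaf 4592289)))) (.node (.node (.node (.leaf 15942037) (.leaf 12759687)) (.node (.leaf 12649010) (.leaf 8913293))) (.node (.node (.leaf 3760755) (.leaf 14160594)) (.node (.leaf 5636327) (.leaf 18313763)))))))))

def threeMv40512 : Janko.Tree (ℕ) :=
  (.node (.node (.node (.node (.node (.node (.node (.node (.node (.leaf 1401091) (.leaf 13640379)) (.leaf 12738975)) (.node (.leaf 8888544) (.leaf 16941777))) (.node (.node (.leaf 3375674) (.leaf 2888406)) (.node (.leaf 8626367) (.leaf 5988971)))) (.node (.node (.node (.node (.leaf 13369560) (.leaf 8790377)) (.leaf 4657258)) (.node (.leaf 15061046) (.leaf 8851514))) (.node (.node (.leaf 8843968) (.leaf 15946053)) (.node (.leaf 10158744) (.leaf 12914791))))) (.node (.node (.node (.node (.node (.leaf 1405105) (.leaf 717246)) (.leaf 13267107)) (.node (.leaf 3945063) (.leaf 11255852))) (.node (.node (.leaf 9101341) (.leaf 16810670))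 (.node (.leaf 14516544) (.leaf 14909704)))) (.node (.node (.node (.leaf 11571813) (.leaf 16765340)) (.node (.leaf 8302830) (.leaf 8622358))) (.node (.node (.leaf 15372422) (.leaf 467606)) (.node (.leaf 10396016) (.leaf 17437228)))))) (.node (.node (.node (.node (.node (.node (.leaf 4428463) (.leaf 1912882)) (.leaf 16773279)) (.node (.leaf 8597720) (.leaf 15278289))) (.node (.node (.leaf 13775319) (.leaf 401836)) (.node (.leaf 13619477) (.leaf 5103695)))) (.node (.node (.node (.node (.leaf 12710243) (.leaf 10285404)) (.leaf 15315290)) (.node (.leaf 11768305) (.leaf 11698866))) (.node (.node (.leaf 9167432) (.leaf 5824806)) (.node (.leaf 7037146) (.leaf 5538446))))) (.node (.node (.node (.node (.node (.leaf 10760418) (.leaf 14201043)) (.leaf 11014805)) (.node (.leaf 5399083) (.leaf 2933440))) (.node (.node (.leaf 139922) (.leaf 17567758)) (.node (.leaf 8257823) (.leaf 4272572)))) (.node (.node (.node (.leaf 13283572) (.leaf 18198664)) (.node (.leaf 1438019) (.leaf 10703400))) (.node (.node (.leaf 14606805) (.leaf 12378320)) (.node (.leaf 16572669) (.leaf 17916436)))))))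 (.node (.node (.node (.node (.node (.node (.node (.leaf 5464599) (.leaf 2302244)) (.leaf 5046546)) (.node (.leaf 504436) (.leaf 13209855))) (.node (.node (.leaf 7151941) (.leaf 7602786)) (.node (.leaf 2617456) (.leaf 14144077)))) (.node (.node (.node (.node (.leaf 16757414) (.leaf 2196098)) (.leaf 16036105)) (.node (.leaf 7946611) (.leaf 2269663))) (.node (.node (.leaf 8761956) (.leaf 13427182)) (.node (.leaf 6025911) (.leaf 925844))))) (.node (.node (.node (.node (.node (.leaf 11649029) (.leaf 14930540)) (.leaf 16896103)) (.node (.leaf 15004103) (.leaf 3588315))) (.node (.node (.leaf 13504697) (.leaf 5218500)) (.node (.leaf 16863446) (.leaf 3854418)))) (.node (.node (.node (.leaf 7213344) (.leaf 2629840)) (.node (.leaf 16248862) (.leaf 13123986))) (.node (.node (.leaf 3403809) (.leaf 12140735)) (.node (.leaf 17838432) (.leaf 13836341)))))) (.node (.node (.node (.node (.node (.node (.leaf 4543075) (.leaf 1847906)) (.leaf 12812522)) (.node (.leaf 13902149) (.leaf 6107736))) (.node (.node (.leaf 10535432) (.leaf 12497262)) (.node (.leaf 11325838) (.leaf 880652))))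 (.node (.node (.node (.node (.leaf 11534596) (.leaf 3453023)) (.leaf 3784816)) (.node (.leaf 8319354) (.leaf 17117765))) (.node (.node (.leaf 6902001) (.leaf 2871724)) (.node (.leaf 15818828) (.leaf 16298188))))) (.node (.node (.node (.node (.node (.leaf 1536169) (.leaf 10092944)) (.leaf 15413345)) (.node (.leaf 13750983) (.leaf 5018202))) (.node (.node (.leaf 1696081) (.leaf 18305644)) (.node (.leaf 434889) (.leaf 1196221)))) (.node (.node (.node (.leaf 15020749) (.leaf 9900312)) (.node (.leaf 3727823) (.leaf 12231326))) (.node (.node (.leaf 9302471) (.leaf 15433844)) (.node (.leaf 3912166) (.leaf 11891063)))))))) (.node (.node (.node (.node (.node (.node (.node (.node (.leaf 8159893) (.leaf 946199)) (.leaf 6856813)) (.node (.leaf 4764022) (.leaf 6160643))) (.node (.node (.leaf 15462790) (.leaf 4534878)) (.node (.leaf 8553116) (.leaf 5648780)))) (.node (.node (.node (.node (.leaf 13500650) (.leaf 1757876)) (.leaf 8102455)) (.node (.leaf 16208320) (.leaf 5349758))) (.node (.node (.leaf 11407689) (.leaf 13754558)) (.node (.leaf 2687083) (.leaf 8712399))))) (.node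 (.node (.node (.node (.node (.leaf 16872149) (.leaf 7361076)) (.leaf 18141643)) (.node (.leaf 15548881) (.leaf 14975590))) (.node (.node (.leaf 8409671) (.leaf 2564350)) (.node (.leaf 17101107) (.leaf 11968933)))) (.node (.node (.node (.leaf 12562560) (.leaf 8732948)) (.node (.leaf 10601034) (.leaf 9093538))) (.node (.node (.leaf 12034369) (.leaf 4149714)) (.node (.leaf 5902449) (.leaf 17555581)))))) (.node (.node (.node (.node (.node (.node (.leaf 2163395) (.leaf 3879102)) (.leaf 14442891)) (.node (.leaf 10461879) (.leaf 3105075))) (.node (.node (.leaf 6533459) (.leaf 17105558)) (.node (.leaf 9298147) (.leaf 12296248)))) (.node (.node (.node (.node (.leaf 7553305) (.leaf 10588731)) (.leaf 2928912)) (.node (.leaf 4989353) (.leaf 11043153))) (.node (.node (.leaf 8651070) (.leaf 10179159)) (.node (.leaf 14573938) (.leaf 13365864))))) (.node (.node (.node (.node (.node (.leaf 2625682) (.leaf 12120294)) (.leaf 12370044)) (.node (.leaf 12910709) (.leaf 7643286))) (.node (.node (.leaf 12316739) (.leaf 7270666)) (.node (.leaf 7356680) (.leaf 10227991)))) (.node (.node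 (.node (.leaf 12423869) (.leaf 3830016)) (.node (.leaf 4416023) (.leaf 15691998))) (.node (.node (.leaf 7676563) (.leaf 6119915)) (.node (.leaf 16175717) (.leaf 2560452))))))) (.node (.node (.node (.node (.node (.node (.node (.leaf 13406925) (.leaf 848407)) (.leaf 9105973)) (.node (.leaf 17048087) (.leaf 2322596))) (.node (.node (.leaf 15532335) (.leaf 5243208)) (.node (.leaf 6095097) (.leaf 9089575)))) (.node (.node (.node (.node (.leaf 3457467) (.leaf 14168086)) (.leaf 17478028)) (.node (.leaf 1450705) (.leaf 8340105))) (.node (.node (.leaf 10891678) (.leaf 11702370)) (.node (.leaf 6763084) (.leaf 6144193))))) (.node (.node (.node (.node (.node (.leaf 6070773) (.leaf 13262926)) (.leaf 12284143)) (.node (.leaf 6046133) (.leaf 15716430))) (.node (.node (.leaf 16363700) (.leaf 4100124)) (.node (.leaf 8753576) (.leaf 7123328)))) (.node (.node (.node (.leaf 9015428) (.leaf 11166317)) (.node (.leaf 5583396) (.leaf 16728662))) (.node (.node (.leaf 9371722) (.leaf 4083741)) (.node (.leaf 7549159) (.leaf 13332541)))))) (.node (.node (.node (.node (.node (.node (.leaf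 17903747) (.leaf 14458916)) (.leaf 7655848)) (.node (.leaf 12886573) (.leaf 17059957))) (.node (.node (.leaf 3723670) (.leaf 6472044)) (.node (.leaf 10838640) (.leaf 1925604)))) (.node (.node (.node (.node (.leaf 11727089) (.leaf 6214210)) (.leaf 2552176)) (.node (.leaf 2838546) (.leaf 2253418))) (.node (.node (.leaf 13132430) (.leaf 14114826)) (.node (.leaf 17195066) (.leaf 13066357))))) (.node (.node (.node (.node (.node (.leaf 18133052) (.leaf 13140203)) (.leaf 17264709)) (.node (.leaf 12107847) (.leaf 10662447))) (.node (.node (.leaf 955002) (.leaf 15827599)) (.node (.leaf 7197337) (.leaf 11854547)))) (.node (.node (.node (.leaf 6087378) (.leaf 5681508)) (.node (.leaf 10826025) (.leaf 15024722))) (.node (.node (.leaf 16081219) (.leaf 3424502)) (.node (.leaf 18280860) (.leaf 12792451)))))))))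

def threeMv40513 : Janko.Tree (ℕ) :=
  (.node (.node (.node (.node (.node (.node (.node (.node (.node (.leaf 17891840) (.leaf 1159553)) (.leaf 8683747)) (.node (.leaf 3563534) (.leaf 11862452))) (.node (.node (.leaf 10924151) (.leaf 1765671)) (.node (.leaf 9994464) (.leaf 2482317)))) (.node (.node (.node (.node (.leaf 1032871) (.leaf 2892063)) (.leaf 6247027)) (.node (.leaf 7864469) (.leaf 14815267))) (.node (.node (.leaf 13115961) (.leaf 7057563)) (.node (.leaf 3022857) (.leaf 10863240))))) (.node (.node (.node (.node (.node (.leaf 10252674) (.leaf 3940936)) (.leaf 16326958)) (.node (.leaf 3166439) (.leaf 8880844))) (.node (.node (.leaf 13533185) (.leaf 3477619)) (.node (.leaf 5022412) (.leaf 14033370)))) (.node (.node (.node (.leaf 11219112) (.leaf 14823760)) (.node (.leaf 15896818) (.leaf 9224256))) (.node (.node (.leaf 1867906) (.leaf 9158972)) (.node (.leaf 16802093) (.leaf 3739982)))))) (.node (.node (.node (.node (.node (.node (.leaf 2101454) (.leaf 15319750)) (.leaf 10879051)) (.node (.leaf 14840049) (.leaf 8654973))) (.node (.node (.leaf 1753736) (.leaf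 639704)) (.node (.leaf 5030218) (.leaf 14152125)))) (.node (.node (.node (.node (.leaf 6771222) (.leaf 10474037)) (.leaf 983459)) (.node (.leaf 7799104) (.leaf 8794620))) (.node (.node (.leaf 1614260) (.leaf 270550)) (.node (.leaf 10625565) (.leaf 10231856))))) (.node (.node (.node (.node (.node (.leaf 4137107) (.leaf 766288)) (.leaf 10908122)) (.node (.leaf 5403271) (.leaf 11305276))) (.node (.node (.leaf 6758841) (.leaf 7647697)) (.node (.leaf 2142621) (.leaf 6029548)))) (.node (.node (.node (.leaf 13148552) (.leaf 1802652)) (.node (.leaf 8442206) (.leaf 1094250))) (.node (.node (.leaf 10674382) (.leaf 11616456)) (.node (.leaf 17707109) (.leaf 5980260))))))) (.node (.node (.node (.node (.node (.node (.node (.leaf 8491656) (.leaf 10612917)) (.leaf 6017277)) (.node (.leaf 17056343) (.leaf 17498285))) (.node (.node (.leaf 18297262) (.leaf 11559282)) (.node (.leaf 1048960) (.leaf 9150718)))) (.node (.node (.node (.node (.leaf 6435063) (.leaf 14848278)) (.leaf 3412360)) (.node (.leaf 9519806) (.leaf 11072172))) (.node (.node (.leaf 213157) (.leaf 17510831)) (.node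 (.leaf 5673205) (.leaf 1634584))))) (.node (.node (.node (.node (.node (.leaf 12280345) (.leaf 5419318)) (.leaf 9527340)) (.node (.leaf 15450673) (.leaf 15233143))) (.node (.node (.leaf 6906336) (.leaf 950834)) (.node (.leaf 6201609) (.leaf 12787980)))) (.node (.node (.node (.leaf 3555698) (.leaf 16322915)) (.node (.leaf 12554766) (.leaf 3641869))) (.node (.node (.leaf 1147045) (.leaf 4547135)) (.node (.leaf 5632238) (.leaf 14884941)))))) (.node (.node (.node (.node (.node (.node (.leaf 12615872) (.leaf 1106020)) (.leaf 9494808)) (.node (.leaf 9666993) (.leaf 16290200))) (.node (.node (.leaf 18067828) (.leaf 8872463)) (.node (.leaf 1499742) (.leaf 17113257)))) (.node (.node (.node (.node (.leaf 16089482) (.leaf 41259)) (.leaf 4297189)) (.node (.leaf 14897728) (.leaf 17642195))) (.node (.node (.leaf 6644134) (.leaf 16150790)) (.node (.leaf 13222098) (.leaf 11682505))))) (.node (.node (.node (.node (.node (.leaf 3227981) (.leaf 10953412)) (.leaf 10023587)) (.node (.leaf 9642184) (.leaf 16040222))) (.node (.node (.leaf 1208709) (.leaf 14536938)) (.node (.leaf 13087352)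 (.leaf 13631566)))) (.node (.node (.node (.leaf 4907426) (.leaf 13320607)) (.node (.leaf 8012057) (.leaf 13660774))) (.node (.node (.leaf 15729107) (.leaf 4747446)) (.node (.leaf 2527545) (.leaf 5238958)))))))) (.node (.node (.node (.node (.node (.node (.node (.node (.leaf 8749274) (.leaf 14270466)) (.leaf 9171511)) (.node (.leaf 2900092) (.leaf 3752270))) (.node (.node (.leaf 6184971) (.leaf 4215368)) (.node (.leaf 4018219) (.leaf 471471)))) (.node (.node (.node (.node (.leaf 13979916) (.leaf 8438075)) (.leaf 17543869)) (.node (.leaf 10470090) (.leaf 4755530))) (.node (.node (.leaf 13246894) (.leaf 12538448)) (.node (.leaf 11027051) (.leaf 6266892))))) (.node (.node (.node (.node (.node (.leaf 9842933) (.leaf 13078689)) (.leaf 10797165)) (.node (.leaf 14008683) (.leaf 12947885))) (.node (.node (.leaf 15618732) (.leaf 1110309)) (.node (.leaf 4608437) (.leaf 17576184)))) (.node (.node (.node (.leaf 8520045) (.leaf 13058698)) (.node (.leaf 11403661) (.leaf 4309571))) (.node (.node (.leaf 3502645) (.leaf 17457284)) (.node (.leaf 11771957) (.leaf 8200358)))))) (.node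 (.node (.node (.node (.node (.node (.leaf 16683207) (.leaf 13799934)) (.leaf 10646032)) (.node (.leaf 11116680) (.leaf 2884121))) (.node (.node (.leaf 4596350) (.leaf 13963289)) (.node (.leaf 17207942) (.leaf 18116673)))) (.node (.node (.node (.node (.leaf 10637435) (.leaf 11006436)) (.leaf 11461004)) (.node (.leaf 16793733) (.leaf 1130960))) (.node (.node (.leaf 5083697) (.leaf 6697612)) (.node (.leaf 11567427) (.leaf 16462299))))) (.node (.node (.node (.node (.node (.leaf 13926812) (.leaf 4354142)) (.leaf 11313166)) (.node (.leaf 12575321) (.leaf 12071241))) (.node (.node (.leaf 15937642) (.leaf 4579389)) (.node (.leaf 13607385) (.leaf 1122525)))) (.node (.node (.node (.leaf 10027585) (.leaf 1286827)) (.node (.leaf 4853867) (.leaf 1413551))) (.node (.node (.leaf 17711207) (.leaf 14045210)) (.node (.leaf 3867073) (.leaf 7475832))))))) (.node (.node (.node (.node (.node (.node (.node (.leaf 17384016) (.leaf 16482379)) (.leaf 3313852)) (.node (.leaf 5964015) (.leaf 3924313))) (.node (.node (.leaf 11444351) (.leaf 11952274)) (.node (.leaf 11243556) (.leaf 16916558))))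 (.node (.node (.node (.node (.leaf 17310037) (.leaf 10363134)) (.leaf 13971720)) (.node (.leaf 15123034) (.leaf 12312576))) (.node (.node (.leaf 14205260) (.leaf 12485092)) (.node (.leaf 17298092) (.leaf 8118655))))) (.node (.node (.node (.node (.node (.leaf 5317208) (.leaf 17551877)) (.leaf 4383325)) (.node (.leaf 13336833) (.leaf 9552032))) (.node (.node (.leaf 9576718) (.leaf 4985160)) (.node (.leaf 8352253) (.leaf 4247769)))) (.node (.node (.node (.leaf 2040209) (.leaf 3145898)) (.node (.leaf 3072257) (.leaf 2593383))) (.node (.node (.leaf 1905241) (.leaf 590329)) (.node (.leaf 13034069) (.leaf 17858631)))))) (.node (.node (.node (.node (.node (.node (.leaf 15360686) (.leaf 5722212)) (.leaf 18215595)) (.node (.leaf 4497645) (.leaf 9986742))) (.node (.node (.leaf 5931012) (.leaf 9310333)) (.node (.leaf 16785612) (.leaf 11694232)))) (.node (.node (.node (.node (.leaf 17203863) (.leaf 295512)) (.leaf 11354332)) (.node (.leaf 15085890) (.leaf 4870550))) (.node (.node (.leaf 17461967) (.leaf 6578231)) (.node (.leaf 4956859) (.leaf 5255173))))) (.node (.node (.node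 (.node (.node (.leaf 14078411) (.leaf 5615815)) (.leaf 8135277)) (.node (.leaf 709100) (.leaf 5714496))) (.node (.node (.leaf 10904239) (.leaf 5480503)) (.node (.leaf 17494425) (.leaf 17773202)))) (.node (.node (.node (.leaf 16601587) (.leaf 9027659)) (.node (.leaf 11547228) (.leaf 11587842))) (.node (.node (.leaf 12898851) (.leaf 2245178)) (.node (.leaf 1364657) (.leaf 16163183)))))))))

def threeMv40514 : Janko.Tree (ℕ) :=
  (.node (.node (.node (.node (.node (.node (.node (.node (.node (.leaf 5918959) (.leaf 6598764)) (.leaf 13918270)) (.node (.leaf 721105) (.leaf 1441870))) (.node (.node (.leaf 6545948) (.leaf 5136664)) (.node (.leaf 12050633) (.leaf 10518874)))) (.node (.node (.node (.node (.leaf 5124138) (.leaf 8876701)) (.leaf 5828913)) (.node (.leaf 17662170) (.leaf 663924))) (.node (.node (.leaf 15069820) (.leaf 7770793)) (.node (.leaf 98980) (.leaf 6811887))))) (.node (.node (.node (.node (.node (.leaf 9974117) (.leaf 4686338)) (.leaf 14369271)) (.node (.leaf 3358726) (.leaf 2023759))) (.node (.node (.leaf 13361192) (.leaf 14725445)) (.node (.leaf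 1335770) (.leaf 10592625)))) (.node (.node (.node (.leaf 3084940) (.leaf 16453901)) (.node (.leaf 8139023) (.leaf 4997596))) (.node (.node (.leaf 4432134) (.leaf 14635296)) (.node (.leaf 9114113) (.leaf 13189209)))))) (.node (.node (.node (.node (.node (.node (.leaf 15106119) (.leaf 16511172)) (.leaf 1712437)) (.node (.leaf 16396899) (.leaf 18047011))) (.node (.node (.leaf 17432925) (.leaf 14197414)) (.node (.leaf 17125895) (.leaf 7688544)))) (.node (.node (.node (.node (.leaf 15237605) (.leaf 7279164)) (.leaf 6062223)) (.node (.leaf 12472617) (.leaf 11362709))) (.node (.node (.leaf 13127877) (.leaf 217769)) (.node (.leaf 6386366) (.leaf 1478816))))) (.node (.node (.node (.node (.node (.leaf 73840) (.leaf 12755029)) (.leaf 4706336)) (.node (.leaf 12276386) (.leaf 9581111))) (.node (.node (.leaf 11083840) (.leaf 15294853)) (.node (.leaf 17040013) (.leaf 4862153)))) (.node (.node (.node (.leaf 11252074) (.leaf 8983236)) (.node (.leaf 8122822) (.leaf 15179851))) (.node (.node (.leaf 6631630) (.leaf 9289956)) (.node (.leaf 581987) (.leaf 13271457))))))) (.node (.node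 (.node (.node (.node (.node (.node (.leaf 6886035) (.leaf 14188649)) (.leaf 10723642)) (.node (.leaf 5271851) (.leaf 8618408))) (.node (.node (.leaf 6378008) (.leaf 14983774)) (.node (.leaf 8392807) (.leaf 3915996)))) (.node (.node (.node (.node (.leaf 10846730) (.leaf 3076122)) (.leaf 16052531)) (.node (.leaf 5038651) (.leaf 11551296))) (.node (.node (.leaf 8085929) (.leaf 13590713)) (.node (.leaf 16539930) (.leaf 1585183))))) (.node (.node (.node (.node (.node (.leaf 3604598) (.leaf 15339670)) (.leaf 1143283)) (.node (.leaf 18186474) (.leaf 6967413))) (.node (.node (.leaf 16625736) (.leaf 9617533)) (.node (.leaf 11796899) (.leaf 5833217)))) (.node (.node (.node (.leaf 9687090) (.leaf 15560745)) (.node (.leaf 15327946) (.leaf 1704049))) (.node (.node (.leaf 7991714) (.leaf 5251778)) (.node (.leaf 11706565) (.leaf 12460519)))))) (.node (.node (.node (.node (.node (.node (.leaf 12308895) (.leaf 17109607)) (.leaf 8818698)) (.node (.leaf 8634981) (.leaf 6684983))) (.node (.node (.leaf 10813499) (.leaf 2818615)) (.node (.leaf 8736902) (.leaf 17387769)))) (.node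 (.node (.node (.node (.leaf 4027055) (.leaf 4293045)) (.leaf 6628007)) (.node (.leaf 3871195) (.leaf 16703941))) (.node (.node (.leaf 16466535) (.leaf 12751318)) (.node (.leaf 16707697) (.leaf 10740112))))) (.node (.node (.node (.node (.node (.leaf 4096191) (.leaf 3281121)) (.leaf 9908457)) (.node (.leaf 11280629) (.leaf 1528076))) (.node (.node (.leaf 8573147) (.leaf 9503057)) (.node (.leaf 5366345) (.leaf 11923747)))) (.node (.node (.node (.leaf 16220660) (.leaf 1126993)) (.node (.leaf 6021303) (.leaf 7377126))) (.node (.node (.leaf 4665400) (.leaf 238009)) (.node (.leaf 2150782) (.leaf 17535544)))))))) (.node (.node (.node (.node (.node (.node (.node (.node (.leaf 14962691) (.leaf 9756840)) (.leaf 11907687)) (.node (.leaf 1388709) (.leaf 10379739))) (.node (.node (.leaf 8479365) (.leaf 3059893)) (.node (.leaf 13488464) (.leaf 1892998)))) (.node (.node (.node (.node (.leaf 9191617) (.leaf 7434443)) (.leaf 463253)) (.node (.leaf 2261132) (.leaf 705154))) (.node (.node (.leaf 12234842) (.leaf 11878950)) (.node (.leaf 9076953) (.leaf 11080093))))) (.node (.node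 (.node (.node (.node (.leaf 5878151) (.leaf 8217271)) (.leaf 2183339)) (.node (.leaf 3707251) (.leaf 9814298))) (.node (.node (.leaf 3662054) (.leaf 2093343)) (.node (.leaf 4158131) (.leaf 4461105)))) (.node (.node (.node (.leaf 13008980) (.leaf 1618595)) (.node (.leaf 11374770) (.leaf 12145008))) (.node (.node (.leaf 15012015) (.leaf 10580078)) (.node (.leaf 15151146) (.leaf 11063720)))))) (.node (.node (.node (.node (.node (.node (.leaf 8990799) (.leaf 9540161)) (.leaf 9703901)) (.node (.leaf 8954325) (.leaf 12042374))) (.node (.node (.leaf 11825656) (.leaf 4538944)) (.node (.leaf 3772678) (.leaf 9834623)))) (.node (.node (.node (.node (.leaf 16867554) (.leaf 14615246)) (.leaf 9638537)) (.node (.leaf 9732295) (.leaf 13812047))) (.node (.node (.leaf 598101) (.leaf 11563148)) (.node (.leaf 11981450) (.leaf 18162195))))) (.node (.node (.node (.node (.node (.leaf 6283733) (.leaf 6058329)) (.leaf 9343046)) (.node (.leaf 5595359) (.leaf 10543232))) (.node (.node (.leaf 7143792) (.leaf 6803571)) (.node (.leaf 14844545) (.leaf 4190662)))) (.node (.node (.node (.leaf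 14103189) (.leaf 7660146)) (.node (.leaf 1118724) (.leaf 537050))) (.node (.node (.leaf 5423114) (.leaf 1065534)) (.node (.leaf 3256350) (.leaf 14320254))))))) (.node (.node (.node (.node (.node (.node (.node (.leaf 12218797) (.leaf 13213745)) (.leaf 7443136)) (.node (.leaf 5193979) (.leaf 8921393))) (.node (.node (.leaf 14524958) (.leaf 10887475)) (.node (.leaf 10555548) (.leaf 9511100)))) (.node (.node (.node (.node (.leaf 10137604) (.leaf 7131376)) (.leaf 4104820)) (.node (.leaf 1061140) (.leaf 4263937))) (.node (.node (.leaf 614684) (.leaf 5210498)) (.node (.leaf 7569939) (.leaf 16621793))))) (.node (.node (.node (.node (.node (.leaf 8311426) (.leaf 422066)) (.leaf 1295002)) (.node (.leaf 12771604) (.leaf 15286356))) (.node (.node (.leaf 10719606) (.leaf 14311544)) (.node (.leaf 17228162) (.leaf 8294508)))) (.node (.node (.node (.leaf 10457500) (.leaf 11919368)) (.node (.leaf 2576531) (.leaf 17440971))) (.node (.node (.leaf 16519706) (.leaf 8364710)) (.node (.leaf 11333656) (.leaf 7807474)))))) (.node (.node (.node (.node (.node (.node (.leaf 10772834) (.leaf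 13734175)) (.leaf 11776444)) (.node (.leaf 7365029) (.leaf 12816657))) (.node (.node (.leaf 2171210) (.leaf 7672292)) (.node (.leaf 10044062) (.leaf 4583797)))) (.node (.node (.node (.node (.leaf 16687593) (.leaf 2343188)) (.leaf 13451343)) (.node (.leaf 377363) (.leaf 1045198))) (.node (.node (.leaf 14426537) (.leaf 11153928)) (.node (.leaf 13689454) (.leaf 16695565))))) (.node (.node (.node (.node (.node (.leaf 16851311) (.leaf 16441392)) (.leaf 9945284)) (.node (.leaf 5005504) (.leaf 8482999))) (.node (.node (.leaf 17646186) (.leaf 8700261)) (.node (.leaf 11309737) (.leaf 5312733)))) (.node (.node (.node (.leaf 13562559) (.leaf 2453504)) (.node (.leaf 17854860) (.leaf 2814216))) (.node (.node (.leaf 13873732) (.leaf 5640677)) (.node (.leaf 13472054) (.leaf 11850054)))))))))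

def threeMv40515 : Janko.Tree (ℕ) :=
  (.node (.node (.node (.node (.node (.node (.node (.node (.node (.leaf 5427342) (.leaf 7098796)) (.leaf 3920356)) (.node (.leaf 1544276) (.leaf 9130438))) (.node (.node (.leaf 17596955) (.leaf 3154087)) (.node (.leaf 6316095) (.leaf 17563894)))) (.node (.node (.node (.node (.leaf 12468861) (.leaf 9982088)) (.leaf 16269899)) (.node (.leaf 364679) (.leaf 1606122))) (.node (.node (.leaf 1024724) (.leaf 13656220)) (.node (.leaf 17326536) (.leaf 12702217))))) (.node (.node (.node (.node (.node (.leaf 6352977) (.leaf 5050371)) (.leaf 14012457)) (.node (.leaf 16945312) (.leaf 3666642))) (.node (.node (.leaf 11489959) (.leaf 6881307)) (.node (.leaf 18170063) (.leaf 10334786)))) (.node (.node (.node (.leaf 4735218) (.leaf 5087924)) (.node (.leaf 8835775) (.leaf 733321))) (.node (.node (.leaf 12960364) (.leaf 16261267)) (.node (.leaf 6431369) (.leaf 16101557)))))) (.node (.node (.node (.node (.node (.node (.leaf 7832149) (.leaf 11870336)) (.leaf 11821751)) (.node (.leaf 3252743) (.leaf 7299072))) (.node (.node (.leaf 16458056) (.leaf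 3244553)) (.node (.leaf 4768279) (.leaf 2290355)))) (.node (.node (.node (.node (.leaf 266875) (.leaf 290887)) (.leaf 6509214)) (.node (.leaf 6836796) (.leaf 8729029))) (.node (.node (.leaf 9220183) (.leaf 8687926)) (.node (.leaf 3494071) (.leaf 11661918))))) (.node (.node (.node (.node (.node (.leaf 1774177) (.leaf 14782654)) (.leaf 5948047)) (.node (.leaf 4108541) (.leaf 8839655))) (.node (.node (.leaf 7262933) (.leaf 15978986)) (.node (.leaf 2306477) (.leaf 14119093)))) (.node (.node (.node (.leaf 12808615) (.leaf 12734483)) (.node (.leaf 5443765) (.leaf 930025))) (.node (.node (.leaf 15794310) (.leaf 4927661)) (.node (.leaf 15966268) (.leaf 17318429))))))) (.node (.node (.node (.node (.node (.node (.node (.leaf 17985593) (.leaf 17289463)) (.leaf 492212)) (.node (.leaf 3240155) (.leaf 7295133))) (.node (.node (.leaf 4899237) (.leaf 15655438)) (.node (.leaf 16114252) (.leaf 3575924)))) (.node (.node (.node (.node (.leaf 3088621) (.leaf 13435026)) (.leaf 14717330)) (.node (.leaf 10727432) (.leaf 6292068))) (.node (.node (.leaf 12939986) (.leaf 3949211)) (.node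 (.leaf 5501049) (.leaf 6987822))))) (.node (.node (.node (.node (.node (.leaf 15491166) (.leaf 6254807)) (.leaf 4645001)) (.node (.leaf 11051376) (.leaf 786968))) (.node (.node (.leaf 3420350) (.leaf 9498951)) (.node (.leaf 8126567) (.leaf 15208603)))) (.node (.node (.node (.leaf 12054566) (.leaf 11231855)) (.node (.leaf 1818757) (.leaf 5300610))) (.node (.node (.leaf 2511283) (.leaf 2216036)) (.node (.leaf 5779607) (.leaf 3793580)))))) (.node (.node (.node (.node (.node (.node (.leaf 12149426) (.leaf 3342947)) (.leaf 3960917)) (.node (.leaf 815139) (.leaf 14029092))) (.node (.node (.leaf 9429467) (.leaf 6500964)) (.node (.leaf 4239523) (.leaf 696714)))) (.node (.node (.node (.node (.leaf 29260) (.leaf 168601)) (.leaf 13586817)) (.node (.leaf 11018418) (.leaf 164057))) (.node (.node (.leaf 13545977) (.leaf 15057111)) (.node (.leaf 15040597) (.leaf 5341443))))) (.node (.node (.node (.node (.node (.leaf 17469985) (.leaf 8261968)) (.leaf 12997248)) (.node (.leaf 2773517) (.leaf 14942292))) (.node (.node (.leaf 8192714) (.leaf 16306605)) (.node (.leaf 4218949) (.leaf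 14176577)))) (.node (.node (.node (.leaf 18190864) (.leaf 12198143)) (.node (.leaf 1483343) (.leaf 7762529))) (.node (.node (.leaf 14586088) (.leaf 13119840)) (.node (.leaf 7155740) (.leaf 18100831)))))))) (.node (.node (.node (.node (.node (.node (.node (.node (.leaf 14647320) (.leaf 17338616)) (.leaf 5108298)) (.node (.leaf 5677159) (.leaf 9863440))) (.node (.node (.leaf 12436115) (.leaf 14299349)) (.node (.leaf 1659527) (.leaf 3052009)))) (.node (.node (.node (.node (.leaf 4829524) (.leaf 12464697)) (.leaf 6996573)) (.node (.leaf 6558006) (.leaf 16228621))) (.node (.node (.leaf 9536043) (.leaf 9626315)) (.node (.leaf 8962206) (.leaf 9671171))))) (.node (.node (.node (.node (.node (.leaf 7955101) (.leaf 311685)) (.leaf 16253292)) (.node (.leaf 14946333) (.leaf 14499948))) (.node (.node (.leaf 12927040) (.leaf 8060951)) (.node (.leaf 13869363) (.leaf 6480300)))) (.node (.node (.node (.leaf 16675425) (.leaf 10035455)) (.node (.leaf 5611802) (.leaf 2961901))) (.node (.node (.leaf 6721757) (.leaf 4113108)) (.node (.leaf 10780697) (.leaf 10322338)))))) (.node (.node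 (.node (.node (.node (.node (.leaf 7917852) (.leaf 12009554)) (.leaf 10244641)) (.node (.leaf 11100856) (.leaf 7668354))) (.node (.node (.leaf 7618869) (.leaf 2757134)) (.node (.leaf 5558639) (.leaf 8151768)))) (.node (.node (.node (.node (.leaf 6946922) (.leaf 10990078)) (.leaf 5562614)) (.node (.leaf 17973714) (.leaf 10317935))) (.node (.node (.leaf 14471394) (.leaf 10678999)) (.node (.leaf 4968611) (.leaf 14139476))))) (.node (.node (.node (.node (.node (.leaf 8769537) (.leaf 13959725)) (.leaf 12185870)) (.node (.leaf 13934954) (.leaf 8405069))) (.node (.node (.leaf 10605146) (.leaf 3265143)) (.node (.leaf 3400315) (.leaf 10277054)))) (.node (.node (.node (.leaf 13480241) (.leaf 2543670)) (.node (.leaf 17682594) (.leaf 15507600))) (.node (.node (.leaf 3481843) (.leaf 3650257)) (.node (.leaf 16425567) (.leaf 655711))))))) (.node (.node (.node (.node (.node (.node (.node (.leaf 17686787) (.leaf 7488043)) (.leaf 9388160)) (.node (.leaf 1155637) (.leaf 4555024))) (.node (.node (.leaf 12522196) (.leaf 13226290)) (.node (.leaf 7987662) (.leaf 8167945)))) (.node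 (.node (.node (.node (.leaf 5784123) (.leaf 6197754)) (.leaf 10330494)) (.node (.leaf 12935329) (.leaf 12698072))) (.node (.node (.leaf 2425407) (.leaf 3465367)) (.node (.leaf 7241939) (.leaf 16236790))))) (.node (.node (.node (.node (.node (.leaf 1393168) (.leaf 13181406)) (.leaf 15970878)) (.node (.leaf 15065107) (.leaf 5706105))) (.node (.node (.leaf 15982929) (.leaf 16995020)) (.node (.leaf 12263764) (.leaf 13864990)))) (.node (.node (.node (.leaf 3777050) (.leaf 6123904)) (.node (.leaf 14561363) (.leaf 10412304))) (.node (.node (.leaf 16183665) (.leaf 5156971)) (.node (.leaf 2081416) (.leaf 10944944)))))) (.node (.node (.node (.node (.node (.node (.leaf 3801160) (.leaf 2765101)) (.leaf 10620991)) (.node (.leaf 6410321) (.leaf 4784316))) (.node (.node (.leaf 10994122) (.leaf 6357463)) (.node (.leaf 11735604) (.leaf 16658794)))) (.node (.node (.node (.node (.leaf 12255656) (.leaf 13402476)) (.leaf 9060960)) (.node (.leaf 8556686) (.leaf 13328656))) (.node (.node (.leaf 3305882) (.leaf 10539538)) (.node (.leaf 3235888) (.leaf 9236650))))) (.node (.node (.node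 (.node (.node (.leaf 9785858) (.leaf 4244131)) (.leaf 17346743)) (.node (.leaf 15241454) (.leaf 459190))) (.node (.node (.leaf 5984460) (.leaf 17727601)) (.node (.leaf 14000768) (.leaf 16057024)))) (.node (.node (.node (.leaf 4485136) (.leaf 11452440)) (.node (.leaf 4047370) (.leaf 4153473))) (.node (.node (.leaf 18154024) (.leaf 10408611)) (.node (.leaf 1086106) (.leaf 11526741)))))))))

/-- a table -/
def threeMv405 : Janko.Tree (ℕ) := (.node (.node (.node (.node threeMv4050 threeMv4058) (.node threeMv4054 threeMv40512)) (.node (.node threeMv4052 threeMv40510) (.node threeMv4056 threeMv40514))) (.node (.node (.node threeMv4051 threeMv4059) (.node threeMv4055 threeMv40513)) (.node (.node threeMv4053 threeMv40511) (.node threeMv4057 threeMv40515))))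

theorem three_mv4050 : ((List.range 640).all fun i => movesOK baseB threeCert threeGens threeT 4480 threeV405 threeMv405 (Nat.add 0 i)) = true := by decide +kernel

theorem three_mv4051 : ((List.range 640).all fun i => movesOK baseB threeCert threeGens threeT 4480 threeV405 threeMv405 (Nat.add 640 i)) = true := by decide +kernel

theorem three_mv4052 : ((List.range 640).all fun i => movesOK baseB threeCert threeGens threeT 4480 threeV405 threeMv405 (Nat.add 1280 i)) = true := by decide +kernel

theorem three_mv4053 : ((List.range 640).all fun i => movesOK baseB threeCert threeGens threeT 4480 threeV405 threeMv405 (Nat.add 1920 i)) = true := by decide +kernel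

theorem three_mv4054 : ((List.range 640).all fun i => movesOK baseB threeCert threeGens threeT 4480 threeV405 threeMv405 (Nat.add 2560 i)) = true := by decide +kernel

theorem three_mv4055 : ((List.range 640).all fun i => movesOK baseB threeCert threeGens threeT 4480 threeV405 threeMv405 (Nat.add 3200 i)) = true := by decide +kernel

theorem three_mv4056 : ((List.range 640).all fun i => movesOK baseB threeCert threeGens threeT 4480 threeV405 threeMv405 (Nat.add 3840 i)) = true := by decide +kernel

theorem three_mv405 : ∀ i < 4480, movesOK baseB threeCert threeGens threeT 4480 threeV405 threeMv405 i = true := by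
  intro i hi
  exact (if h1920 : i < 1920 then (if h640 : i < 640 then (by have := List.all_eq_true.1 three_mv4050 (i - 0) (List.mem_range.2 (by omega)); rwa [show Nat.add 0 (i - 0) = i from Nat.add_sub_cancel' (by omega)] at this) else (if h1280 : i < 1280 then (by have := List.all_eq_true.1 three_mv4051 (i - 640) (List.mem_range.2 (by omega)); rwa [show Nat.add 640 (i - 640) = i from Nat.add_sub_cancel' (by omega)] at this) else (by have := List.all_eq_true.1 three_mv4052 (i - 1280) (List.mem_range.2 (by omega)); rwa [show Nat.add 1280 (i - 1280) = i from Nat.add_sub_cancel' (by omega)] at this))) else (if h3200 : i < 3200 then (if h2560 : i < 2560 then (by have := List.all_eq_true.1 three_mv4053 (i - 1920) (List.mem_range.2 (by omega)); rwa [show Nat.add 1920 (i - 1920) = i from Nat.add_sub_cancel' (by omega)] at this) else (by have := List.all_eq_true.1 three_mv4054 (i - 2560) (List.mem_range.2 (by omega)); rwa [show Nat.add 2560 (i - 2560) = i from Nat.add_sub_cancel' (by omega)] at this)) else (if h3840 : i < 3840 then (by have := List.all_eq_true.1 three_mv4055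 (i - 3200) (List.mem_range.2 (by omega)); rwa [show Nat.add 3200 (i - 3200) = i from Nat.add_sub_cancel' (by omega)] at this) else (by have := List.all_eq_true.1 three_mv4056 (i - 3840) (List.mem_range.2 (by omega)); rwa [show Nat.add 3840 (i - 3840) = i from Nat.add_sub_cancel' (by omega)] at this))))

/-- an element -/
def threeV438 : ℕ := 0x28c24e4283b61a337a3b03e3a5981d68340823d246c55aa9acde1bb69febe7d27cd070179991cc0103b87e9e4d010bb1188155aee708c1922bc6a070626e02bde004d2da24a6a9400087283503700cbf6599d920a8793960c430235c0080f0a4acc14e26d86ba75839a0a245c084284182b1ea7b7ca31bec81dbc5d26a06c15c2490ec2a18365c2dd6c820d9292ad33a1d942a75929880fe83c21fa886c0245cc55a948d6941e2bc8e63573990c4881c0426264b9c8e30b693399ad905991baad1a968a2a40a064beb91ea154af372bc834963103cf4c61426086c7849510ed11f1619e411c410644432becf0c28709cc22548228987d212ed94464e888d27e2e1785a2c3a859f0d525a4cfe2a2c9142e1827b31ecfc3988caeef588902a7c15ba002775ea6624ea40aa0f2f0711b4060c6d9bdc600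

theorem three_v438 : ((List.range 275).all fun k => Nat.beq (PermNine.pg threeV438 k) (imgW threeGens (threeCert.wd 438) k)) = true := by decide +kernel

def threeMv4380 : Janko.Tree (ℕ) :=
  (.node (.node (.node (.node (.node (.node (.node (.node (.node (.leaf 438) (.leaf 6963501)) (.leaf 13508894)) (.node (.leaf 17355159) (.leaf 9892292))) (.node (.node (.leaf 282656) (.leaf 9973872)) (.node (.leaf 2937425) (.leaf 402133)))) (.node (.node (.node (.node (.leaf 15745430) (.leaf 16719902)) (.leaf 9163353)) (.node (.leaf 668367) (.leaf 3133847))) (.node (.node (.leaf 426471) (.leaf 13582575)) (.node (.leaf 11956623) (.leaf 6517362))))) (.node (.node (.node (.node (.node (.leaf 15057340) (.leaf 770750)) (.leaf 5976757)) (.node (.leaf 17416710) (.leaf 5161430))) (.node (.node (.leaf 9474112) (.leaf 11386920)) (.node (.leaf 1716834) (.leaf 6791311)))) (.node (.node (.node (.leaf 14229978) (.leaf 1679365)) (.node (.leaf 2949168) (.leaf 9196247))) (.node (.node (.leaf 15880887) (.leaf 14557582)) (.node (.leaf 13373588) (.leaf 9740490)))))) (.node (.node (.node (.node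 (.node (.node (.leaf 12341431) (.leaf 12493457)) (.leaf 9638107)) (.node (.leaf 8577323) (.leaf 4330167))) (.node (.node (.leaf 15131300) (.leaf 3117078)) (.node (.leaf 11030824) (.leaf 13562039)))) (.node (.node (.node (.node (.leaf 2228812) (.leaf 5931618)) (.leaf 1987163)) (.node (.leaf 7159926) (.leaf 17858790))) (.node (.node (.leaf 18256552) (.leaf 9527357)) (.node (.leaf 11649364) (.leaf 16581295))))) (.node (.node (.node (.node (.node (.leaf 15987297) (.leaf 13841061)) (.leaf 3608634)) (.node (.leaf 733807) (.leaf 15852061))) (.node (.node (.leaf 12628323) (.leaf 8745621)) (.node (.leaf 13975972) (.leaf 8835105)))) (.node (.node (.node (.leaf 10224332) (.leaf 5013810)) (.node (.leaf 2343444) (.leaf 8827021))) (.node (.node (.leaf 9060512) (.leaf 15323778)) (.node (.leaf 15360452) (.leaf 17616946))))))) (.node (.node (.node (.node (.node (.node (.node (.leaf 10613093) (.leaf 5136752)) (.leaf 10228364)) (.node (.leaf 15372537) (.leaf 930298))) (.node (.node (.leaf 16638324) (.leaf 16711683)) (.node (.leaf 2658549) (.leaf 11256507)))) (.node (.node (.node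 (.node (.leaf 9126484) (.leaf 6533387)) (.leaf 15757319)) (.node (.leaf 13963938) (.leaf 16605896))) (.node (.node (.leaf 3076699) (.leaf 3080363)) (.node (.leaf 16109575) (.leaf 2458137))))) (.node (.node (.node (.node (.node (.leaf 8336033) (.leaf 12349925)) (.leaf 9441734)) (.node (.leaf 16695583) (.leaf 18202893))) (.node (.node (.leaf 15306984) (.leaf 16998970)) (.node (.leaf 786562) (.leaf 10301876)))) (.node (.node (.node (.leaf 16666810) (.leaf 12267801)) (.node (.leaf 3764929) (.leaf 13590981))) (.node (.node (.leaf 10408438) (.leaf 10993929)) (.node (.leaf 15200549) (.leaf 1565356)))))) (.node (.node (.node (.node (.node (.node (.leaf 864694) (.leaf 16958107)) (.leaf 4870473)) (.node (.leaf 11731169) (.leaf 508324))) (.node (.node (.leaf 13935241) (.leaf 12358226)) (.node (.leaf 2461862) (.leaf 1638613)))) (.node (.node (.node (.node (.leaf 15872490) (.leaf 8904788)) (.leaf 15229653)) (.node (.leaf 684408) (.leaf 10674296))) (.node (.node (.leaf 9544260) (.leaf 13263527)) (.node (.leaf 9404556) (.leaf 4354528))))) (.node (.node (.node (.node (.node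 (.leaf 1794257) (.leaf 311333)) (.leaf 1798796)) (.node (.leaf 16146453) (.leaf 3670606))) (.node (.node (.leaf 594484) (.leaf 6500660)) (.node (.leaf 4444629) (.leaf 885337)))) (.node (.node (.node (.leaf 9880231) (.leaf 7271036)) (.node (.leaf 17494345) (.leaf 8741417))) (.node (.node (.leaf 9240919) (.leaf 3420843)) (.node (.leaf 2347723) (.leaf 15762123)))))))) (.node (.node (.node (.node (.node (.node (.node (.node (.leaf 4416102) (.leaf 53308)) (.leaf 10621572)) (.node (.leaf 8151278) (.leaf 14741864))) (.node (.node (.leaf 17732073) (.leaf 410206)) (.node (.leaf 17228406) (.leaf 6386128)))) (.node (.node (.node (.node (.leaf 8351869) (.leaf 10891944)) (.leaf 11366963)) (.node (.leaf 11980868) (.leaf 5480761))) (.node (.node (.leaf 4670037) (.leaf 2818369)) (.node (.leaf 1699932) (.leaf 10896059))))) (.node (.node (.node (.node (.node (.leaf 12402966) (.leaf 18325523)) (.leaf 18170033)) (.node (.leaf 49651) (.leaf 10817596))) (.node (.node (.leaf 15908960) (.leaf 8606017)) (.node (.leaf 16990849) (.leaf 4002428)))) (.node (.node (.node (.leaf 6049811)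 (.leaf 12612224)) (.node (.leaf 15364624) (.leaf 9707559))) (.node (.node (.leaf 5537976) (.leaf 4428269)) (.node (.leaf 15016108) (.leaf 18112598)))))) (.node (.node (.node (.node (.node (.node (.leaf 7066272) (.leaf 11964591)) (.leaf 6545535)) (.node (.leaf 2974120) (.leaf 16437477))) (.node (.node (.leaf 15077872) (.leaf 8052856)) (.node (.leaf 5157280) (.leaf 4420112)))) (.node (.node (.node (.node (.leaf 17138135) (.leaf 3883127)) (.leaf 6250613)) (.node (.leaf 14074094) (.leaf 10392081))) (.node (.node (.leaf 18264382) (.leaf 8683905)) (.node (.leaf 9249012) (.leaf 1941857))))) (.node (.node (.node (.node (.node (.leaf 8679804) (.leaf 16265851)) (.leaf 12108465)) (.node (.leaf 1393114) (.leaf 14283047))) (.node (.node (.leaf 8823482) (.leaf 17133872)) (.node (.leaf 7627184) (.leaf 438461)))) (.node (.node (.node (.leaf 16953633) (.leaf 8359950)) (.node (.leaf 4284979) (.leaf 10928474))) (.node (.node (.leaf 16523608) (.leaf 9003724)) (.node (.leaf 328302) (.leaf 5189817))))))) (.node (.node (.node (.node (.node (.node (.node (.leaf 16277788) (.leaf 13951521))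 (.leaf 9654452)) (.node (.leaf 10855101) (.leaf 17601027))) (.node (.node (.leaf 18133131) (.leaf 18088132)) (.node (.leaf 10367141) (.leaf 5116390)))) (.node (.node (.node (.node (.leaf 17818069) (.leaf 9531464)) (.leaf 4682121)) (.node (.leaf 9105658) (.leaf 614675))) (.node (.node (.leaf 9437603) (.leaf 5751229)) (.node (.leaf 5476793) (.leaf 17011161))))) (.node (.node (.node (.node (.node (.leaf 4604419) (.leaf 7393661)) (.leaf 14160365)) (.node (.leaf 6218041) (.leaf 3195061))) (.node (.node (.leaf 7651571) (.leaf 2670667)) (.node (.leaf 4776208) (.leaf 2196104)))) (.node (.node (.node (.leaf 1974632) (.leaf 3674229)) (.node (.leaf 8028575) (.leaf 13566537))) (.node (.node (.leaf 10285110) (.leaf 18219180)) (.node (.leaf 14790935) (.leaf 8999070)))))) (.node (.node (.node (.node (.node (.node (.leaf 6976119) (.leaf 14254367)) (.leaf 2551922)) (.node (.leaf 6627707) (.leaf 13160882))) (.node (.node (.leaf 4248238) (.leaf 16511148)) (.node (.leaf 16535683) (.leaf 12399025)))) (.node (.node (.node (.node (.leaf 13439304) (.leaf 18297063)) (.leaf 2338936))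 (.node (.leaf 17342802) (.leaf 5366318))) (.node (.node (.leaf 14594075) (.leaf 2691780)) (.node (.leaf 7860805) (.leaf 4440546))))) (.node (.node (.node (.node (.node (.leaf 8700466) (.leaf 15597783)) (.leaf 2417367)) (.node (.leaf 2294130) (.leaf 16814169))) (.node (.node (.leaf 7139997) (.leaf 450924)) (.node (.leaf 8474772) (.leaf 7155947)))) (.node (.node (.node (.leaf 6598822) (.leaf 15929670)) (.node (.leaf 5611928) (.leaf 15278178))) (.node (.node (.leaf 5652818) (.leaf 3826327)) (.node (.leaf 8692078) (.leaf 5267714)))))))))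

def threeMv4381 : Janko.Tree (ℕ) :=
  (.node (.node (.node (.node (.node (.node (.node (.node (.node (.leaf 13463765) (.leaf 11788570)) (.leaf 14393485)) (.node (.leaf 13304232) (.leaf 2826768))) (.node (.node (.leaf 6807824) (.leaf 3453132)) (.node (.leaf 3637842) (.leaf 7524374)))) (.node (.node (.node (.node (.leaf 5907003) (.leaf 15171692)) (.leaf 16753264)) (.node (.leaf 17797744) (.leaf 13414911))) (.node (.node (.leaf 6324700) (.leaf 10039602)) (.node (.leaf 9695716) (.leaf 4026408))))) (.node (.node (.node (.node (.node (.leaf 11653512) (.leaf 3473959)) (.leaf 3121688)) (.node (.leaf 16618160) (.leaf 6156642))) (.node (.node (.leaf 13750557) (.leaf 9568356)) (.node (.leaf 14606811) (.leaf 3146046)))) (.node (.node (.node (.leaf 7921763) (.leaf 1003758)) (.node (.leaf 13898434) (.leaf 13144133))) (.node (.node (.leaf 18206814) (.leaf 12878475)) (.node (.leaf 1789973) (.leaf 4583679)))))) (.node (.node (.node (.node (.node (.node (.leaf 8594054) (.leaf 3371468)) (.leaf 2744373)) (.node (.leaf 10002938) (.leaf 1138976))) (.node (.node (.leaf 10990047)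 (.leaf 10969160)) (.node (.leaf 16196246) (.leaf 9794216)))) (.node (.node (.node (.node (.leaf 8671862) (.leaf 14267086)) (.leaf 12214463)) (.node (.leaf 15253730) (.leaf 254409))) (.node (.node (.leaf 17899792) (.leaf 11690568)) (.node (.leaf 9924971) (.leaf 6677060))))) (.node (.node (.node (.node (.node (.leaf 4829438) (.leaf 13148288)) (.leaf 4931702)) (.node (.leaf 12857459) (.leaf 4120900))) (.node (.node (.leaf 122950) (.leaf 6283875)) (.node (.leaf 7930449) (.leaf 13787790)))) (.node (.node (.node (.leaf 17875224) (.leaf 2707583)) (.node (.leaf 15934002) (.leaf 2953533))) (.node (.node (.leaf 12210679) (.leaf 10326373)) (.node (.leaf 7323938) (.leaf 13271448))))))) (.node (.node (.node (.node (.node (.node (.node (.leaf 3830121) (.leaf 5063287)) (.leaf 8598052)) (.node (.leaf 15618073) (.leaf 3301823))) (.node (.node (.leaf 10642076) (.leaf 7705122)) (.node (.leaf 17904290) (.leaf 7148099)))) (.node (.node (.node (.node (.leaf 11854219) (.leaf 11858557)) (.leaf 11124760)) (.node (.leaf 10887605) (.leaf 17076359))) (.node (.node (.leaf 131380) (.leaf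 15610465)) (.node (.leaf 8364592) (.leaf 13689029))))) (.node (.node (.node (.node (.node (.leaf 16851556) (.leaf 15503580)) (.leaf 10363084)) (.node (.leaf 17670291) (.leaf 1270137))) (.node (.node (.leaf 9687198) (.leaf 1364236)) (.node (.leaf 639407) (.leaf 11174239)))) (.node (.node (.node (.leaf 13586648) (.leaf 13488232)) (.node (.leaf 2056854) (.leaf 749696))) (.node (.node (.leaf 13824282) (.leaf 4624540)) (.node (.leaf 16114107) (.leaf 1998970)))))) (.node (.node (.node (.node (.node (.node (.leaf 7426082) (.leaf 14320320)) (.leaf 2318961)) (.node (.leaf 12910789) (.leaf 5616288))) (.node (.node (.leaf 9413092) (.leaf 10883756)) (.node (.leaf 14492124) (.leaf 15622309)))) (.node (.node (.node (.node (.leaf 3158381) (.leaf 14971110)) (.leaf 15315327)) (.node (.leaf 16183398) (.leaf 17715580))) (.node (.node (.leaf 13759037) (.leaf 11424188)) (.node (.leaf 14950815) (.leaf 10547410))))) (.node (.node (.node (.node (.node (.leaf 225579) (.leaf 8876525)) (.leaf 13349465)) (.node (.leaf 6640175) (.leaf 3391914))) (.node (.node (.leaf 17351327) (.leaf 14430549))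 (.node (.leaf 15167964) (.leaf 2204106)))) (.node (.node (.node (.leaf 3530850) (.leaf 17838559)) (.node (.leaf 7213318) (.leaf 13185184))) (.node (.node (.leaf 1356454) (.leaf 7983597)) (.node (.leaf 9597204) (.leaf 12145021)))))))) (.node (.node (.node (.node (.node (.node (.node (.node (.leaf 11526646) (.leaf 4358507)) (.leaf 7315729)) (.node (.leaf 233673) (.leaf 12423710))) (.node (.node (.leaf 4264106) (.leaf 17187050)) (.node (.leaf 12202183) (.leaf 11669711)))) (.node (.node (.node (.node (.leaf 12546723) (.leaf 17969366)) (.leaf 4800733)) (.node (.leaf 13619664) (.leaf 13529524))) (.node (.node (.leaf 3469964) (.leaf 1544498)) (.node (.leaf 3523028) (.leaf 17301666))))) (.node (.node (.node (.node (.node (.leaf 4743726) (.leaf 15126569)) (.leaf 11530590)) (.node (.leaf 17895802) (.leaf 15212642))) (.node (.node (.leaf 16699400) (.leaf 7086088)) (.node (.leaf 12939876) (.leaf 5222857)))) (.node (.node (.node (.leaf 3686683) (.leaf 6820449)) (.node (.leaf 9507142) (.leaf 6681005))) (.node (.node (.leaf 5423787) (.leaf 11739725)) (.node (.leaf 315752)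 (.leaf 18108440)))))) (.node (.node (.node (.node (.node (.node (.leaf 1056871) (.leaf 8503858)) (.leaf 663935)) (.node (.leaf 15663746) (.leaf 13299814))) (.node (.node (.leaf 405706) (.leaf 13648175)) (.node (.leaf 9814362) (.leaf 14418339)))) (.node (.node (.node (.node (.leaf 8385181) (.leaf 7680292)) (.leaf 1159419)) (.node (.leaf 16491160) (.leaf 10866797))) (.node (.node (.leaf 5186117) (.leaf 15245966)) (.node (.leaf 5706354) (.leaf 16392561))))) (.node (.node (.node (.node (.node (.leaf 18346074) (.leaf 16044043)) (.leaf 10068502)) (.node (.leaf 15843912) (.leaf 16371858))) (.node (.node (.leaf 3535255) (.leaf 1839320)) (.node (.leaf 4206934) (.leaf 4755892)))) (.node (.node (.node (.leaf 15499468) (.leaf 581994)) (.node (.leaf 8175902) (.leaf 2065004))) (.node (.node (.leaf 17277331) (.leaf 16912820)) (.node (.leaf 10600831) (.leaf 9961865))))))) (.node (.node (.node (.node (.node (.node (.node (.leaf 5279866) (.leaf 4034721)) (.leaf 8720899)) (.node (.leaf 4432364) (.leaf 5960247))) (.node (.node (.leaf 6001072) (.leaf 11420242)) (.node (.leaf 10645782)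 (.leaf 4366470)))) (.node (.node (.node (.node (.leaf 11899365) (.leaf 15528032)) (.leaf 6103324)) (.node (.leaf 9220101) (.leaf 13770836))) (.node (.node (.leaf 11678016) (.leaf 9601527)) (.node (.leaf 15807186) (.leaf 1589691))))) (.node (.node (.node (.node (.node (.leaf 2556116) (.leaf 14561747)) (.leaf 4145593)) (.node (.leaf 4068051) (.leaf 5058903))) (.node (.node (.leaf 11018425) (.leaf 7008749)) (.node (.leaf 7774739) (.leaf 11178401)))) (.node (.node (.node (.leaf 15900821) (.leaf 7856271)) (.node (.leaf 12313213) (.leaf 5247153))) (.node (.node (.leaf 13992533) (.leaf 15159423)) (.node (.leaf 3359331) (.leaf 1491334)))))) (.node (.node (.node (.node (.node (.node (.leaf 16499390) (.leaf 5558897)) (.leaf 14942292)) (.node (.leaf 172759) (.leaf 2138180))) (.node (.node (.leaf 15712670) (.leaf 11595821)) (.node (.leaf 12742736) (.leaf 11768255)))) (.node (.node (.node (.node (.leaf 17650172) (.leaf 16237130)) (.leaf 8323106)) (.node (.leaf 18338367) (.leaf 8200903))) (.node (.node (.leaf 10965247) (.leaf 18002641)) (.node (.leaf 6332843) (.leaf 16865)))))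 (.node (.node (.node (.node (.node (.leaf 16474237) (.leaf 5288570)) (.leaf 2740699)) (.node (.leaf 999719) (.leaf 1585810))) (.node (.node (.leaf 10387915) (.leaf 7000527)) (.node (.leaf 9147094) (.leaf 6475816)))) (.node (.node (.node (.leaf 5948072) (.leaf 9466096)) (.node (.leaf 5636134) (.leaf 7274731))) (.node (.node (.leaf 14413874) (.leaf 15700237)) (.node (.leaf 1397148) (.leaf 9089059)))))))))

def threeMv4382 : Janko.Tree (ℕ) :=
  (.node (.node (.node (.node (.node (.node (.node (.node (.node (.leaf 6660787) (.leaf 7012868)) (.leaf 5710066)) (.node (.leaf 6623748) (.leaf 10355263))) (.node (.node (.leaf 9007522) (.leaf 9724611)) (.node (.leaf 16781438) (.leaf 10920510)))) (.node (.node (.node (.node (.leaf 2109590) (.leaf 16625956)) (.leaf 4907251)) (.node (.leaf 17056361) (.leaf 7135292))) (.node (.node (.leaf 544959) (.leaf 10395753)) (.node (.leaf 8225012) (.leaf 1294836))))) (.node (.node (.node (.node (.node (.leaf 12518052) (.leaf 5132951)) (.leaf 6079006)) (.node (.leaf 2117712) (.leaf 7905676))) (.node (.node (.leaf 17998545) (.leaf 6209869))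 (.node (.leaf 15053204) (.leaf 893481)))) (.node (.node (.node (.leaf 8962331) (.leaf 221596)) (.node (.leaf 17629561) (.leaf 12964369))) (.node (.node (.leaf 3575925) (.leaf 9257489)) (.node (.leaf 13345449) (.leaf 2958017)))))) (.node (.node (.node (.node (.node (.node (.leaf 14094734) (.leaf 6328727)) (.leaf 9429450)) (.node (.leaf 16351362) (.leaf 13815993))) (.node (.node (.leaf 4571664) (.leaf 1806721)) (.node (.leaf 5632279) (.leaf 7893688)))) (.node (.node (.node (.node (.leaf 3572371) (.leaf 11280908)) (.leaf 1778353)) (.node (.leaf 9609226) (.leaf 5292466))) (.node (.node (.leaf 5296225) (.leaf 11919584)) (.node (.leaf 8380477) (.leaf 3736079))))) (.node (.node (.node (.node (.node (.leaf 18231975) (.leaf 2007696)) (.leaf 12825132)) (.node (.leaf 17621090) (.leaf 9936927))) (.node (.node (.leaf 14025101) (.leaf 9756808)) (.node (.leaf 14602621) (.leaf 11055652)))) (.node (.node (.node (.leaf 17977904) (.leaf 2159123)) (.node (.leaf 15532554) (.leaf 15233575))) (.node (.node (.leaf 5787921) (.leaf 14262530)) (.node (.leaf 14426586) (.leaf 434642)))))))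 (.node (.node (.node (.node (.node (.node (.node (.leaf 3510708) (.leaf 12902694)) (.leaf 7926375)) (.node (.leaf 9372097) (.leaf 5214323))) (.node (.node (.leaf 11968616) (.leaf 2212411)) (.node (.leaf 14504049) (.leaf 12365963)))) (.node (.node (.node (.node (.leaf 15876221) (.leaf 14795043)) (.leaf 12521599)) (.node (.leaf 12915317) (.leaf 16576721))) (.node (.node (.leaf 6619493) (.leaf 5439908)) (.node (.leaf 7615038) (.leaf 1318983))))) (.node (.node (.node (.node (.node (.leaf 8589351) (.leaf 5984687)) (.leaf 11186876)) (.node (.leaf 11407767) (.leaf 14189218))) (.node (.node (.leaf 13942881) (.leaf 11243738)) (.node (.leaf 7950675) (.leaf 10666033)))) (.node (.node (.node (.leaf 10166814) (.leaf 17855003)) (.node (.leaf 17167014) (.leaf 15007856))) (.node (.node (.leaf 11727150) (.leaf 8253801)) (.node (.leaf 2568547) (.leaf 9818536)))))) (.node (.node (.node (.node (.node (.node (.leaf 7430732) (.leaf 13402378)) (.leaf 344408)) (.node (.leaf 7754133) (.leaf 4751722))) (.node (.node (.leaf 13856862) (.leaf 8036938)) (.node (.leaf 5468783) (.leaf 5595730))))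 (.node (.node (.node (.node (.leaf 6091462) (.leaf 16798387)) (.leaf 13472058)) (.node (.leaf 11571262) (.leaf 7635472))) (.node (.node (.leaf 2306490) (.leaf 10211328)) (.node (.leaf 4477633) (.leaf 5779830))))) (.node (.node (.node (.node (.node (.leaf 18157864) (.leaf 12923129)) (.leaf 5112168)) (.node (.leaf 10252696) (.leaf 7503882))) (.node (.node (.leaf 10125554) (.leaf 9064723)) (.node (.leaf 1094199) (.leaf 13734429)))) (.node (.node (.node (.leaf 1663554) (.leaf 2523363)) (.node (.leaf 13972113) (.leaf 970879))) (.node (.node (.leaf 5194442) (.leaf 13103107)) (.node (.leaf 13484531) (.leaf 13890126)))))))) (.node (.node (.node (.node (.node (.node (.node (.node (.leaf 17936583) (.leaf 13918779)) (.leaf 9286335)) (.node (.leaf 12714605) (.leaf 13656249))) (.node (.node (.leaf 12738684) (.leaf 6738266)) (.node (.leaf 16011768) (.leaf 1298789)))) (.node (.node (.node (.node (.leaf 9335268) (.leaf 6742571)) (.leaf 5574700)) (.node (.leaf 5006026) (.leaf 807180))) (.node (.node (.leaf 4157918) (.leaf 17916592)) (.node (.leaf 13525579) (.leaf 1384594)))))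 (.node (.node (.node (.node (.node (.leaf 6243023) (.leaf 15982910)) (.leaf 3444809)) (.node (.leaf 7438365) (.leaf 17990226))) (.node (.node (.leaf 12652804) (.leaf 10445210)) (.node (.leaf 9453836) (.leaf 2642329)))) (.node (.node (.node (.leaf 10535290) (.leaf 4436297)) (.node (.leaf 16670979) (.leaf 13533538))) (.node (.node (.leaf 2412853) (.leaf 10834434)) (.node (.leaf 1557170) (.leaf 17883219)))))) (.node (.node (.node (.node (.node (.node (.leaf 5124475) (.leaf 15380706)) (.leaf 9339144)) (.node (.leaf 852288) (.leaf 6910166))) (.node (.node (.leaf 9666942) (.leaf 889359)) (.node (.leaf 1724711) (.leaf 7082026)))) (.node (.node (.node (.node (.leaf 12165666) (.leaf 12644378)) (.leaf 15729283)) (.node (.leaf 11321519) (.leaf 15676116))) (.node (.node (.leaf 4194599) (.leaf 17567794)) (.node (.leaf 688466) (.leaf 13746660))))) (.node (.node (.node (.node (.node (.leaf 180258) (.leaf 4260451)) (.leaf 13852878)) (.node (.leaf 16859763) (.leaf 8507675))) (.node (.node (.leaf 6177387) (.leaf 14901630)) (.node (.leaf 12223163) (.leaf 991805)))) (.node (.node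 (.node (.leaf 4350451) (.leaf 9469989)) (.node (.leaf 8650979) (.leaf 9327252))) (.node (.node (.leaf 2015383) (.leaf 414345)) (.node (.leaf 270399) (.leaf 10580371))))))) (.node (.node (.node (.node (.node (.node (.node (.leaf 11182529) (.leaf 4149327)) (.leaf 7250612)) (.node (.leaf 9540308) (.leaf 12435886))) (.node (.node (.leaf 13861265) (.leaf 15589835)) (.node (.leaf 7496006) (.leaf 8941619)))) (.node (.node (.node (.node (.leaf 16412914) (.leaf 16105695)) (.leaf 3805455)) (.node (.leaf 4059379) (.leaf 10748444))) (.node (.node (.leaf 5792249) (.leaf 2408873)) (.node (.leaf 1765387) (.leaf 1483239))))) (.node (.node (.node (.node (.node (.leaf 7795163) (.leaf 4985052)) (.leaf 9118151)) (.node (.leaf 13431429) (.leaf 5591458))) (.node (.node (.leaf 15086032) (.leaf 13914367)) (.node (.leaf 9957796) (.leaf 7909569)))) (.node (.node (.node (.leaf 14221779) (.leaf 16028119)) (.node (.leaf 12689913) (.leaf 13468051))) (.node (.node (.leaf 15553026) (.leaf 8978709)) (.node (.leaf 11989366) (.leaf 4489745)))))) (.node (.node (.node (.node (.node (.node (.leaf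 15581375) (.leaf 15638711)) (.leaf 14549645)) (.node (.leaf 18092393) (.leaf 13877315))) (.node (.node (.leaf 12218445) (.leaf 8966226)) (.node (.leaf 10551545) (.leaf 1024248)))) (.node (.node (.node (.node (.leaf 7942154) (.leaf 12185752)) (.leaf 13209897)) (.node (.leaf 2683314) (.leaf 16093307))) (.node (.node (.leaf 13025591) (.leaf 14569639)) (.node (.leaf 18059404) (.leaf 1540364))))) (.node (.node (.node (.node (.node (.leaf 3289263) (.leaf 2376135)) (.leaf 3465936)) (.node (.leaf 5742965) (.leaf 12705955))) (.node (.node (.leaf 10842798) (.leaf 2646190)) (.node (.leaf 16461989) (.leaf 8429679)))) (.node (.node (.node (.leaf 3514586) (.leaf 12087296)) (.node (.leaf 5669525) (.leaf 10526817))) (.node (.node (.leaf 5091339) (.leaf 2638274)) (.node (.leaf 17772687) (.leaf 2867257)))))))))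

def threeMv4383 : Janko.Tree (ℕ) :=
  (.node (.node (.node (.node (.node (.node (.node (.node (.node (.leaf 16613452) (.leaf 17445536)) (.leaf 6771029)) (.node (.leaf 14815497) (.leaf 10379615))) (.node (.node (.leaf 332213) (.leaf 17428884)) (.node (.leaf 528462) (.leaf 14692765)))) (.node (.node (.node (.node (.leaf 3404333) (.leaf 18309702)) (.leaf 7458979)) (.node (.leaf 16241176) (.leaf 10948671))) (.node (.node (.leaf 15753791) (.leaf 16466239)) (.node (.leaf 18100373) (.leaf 3850644))))) (.node (.node (.node (.node (.node (.leaf 6856914) (.leaf 1245687)) (.leaf 5853465)) (.node (.leaf 11235872) (.leaf 3440923))) (.node (.node (.leaf 2245264) (.leaf 9928783)) (.node (.leaf 13042244) (.leaf 10232460)))) (.node (.node (.node (.leaf 8147532) (.leaf 9396686)) (.node (.leaf 13984280) (.leaf 15376680))) (.node (.node (.leaf 14488246) (.leaf 12681252)) (.node (.leaf 17068603) (.leaf 5775389)))))) (.node (.node (.node (.node (.node (.node (.leaf 9023767) (.leaf 2773511)) (.leaf 8933824)) (.node (.leaf 4379281) (.leaf 17506495))) (.node (.node (.leaf 14975515)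 (.leaf 10010800)) (.node (.leaf 15491595) (.leaf 1577375)))) (.node (.node (.node (.node (.leaf 6074918) (.leaf 18174015)) (.leaf 4370824)) (.node (.leaf 4608056) (.leaf 8839403))) (.node (.node (.leaf 10240648) (.leaf 16794144)) (.node (.leaf 14836219) (.leaf 14787035))))) (.node (.node (.node (.node (.node (.leaf 17519015) (.leaf 5239497)) (.leaf 17023165)) (.node (.leaf 14344777) (.leaf 16102058))) (.node (.node (.leaf 7934369) (.leaf 12554797)) (.node (.leaf 8970368) (.leaf 14385233)))) (.node (.node (.node (.leaf 5800506) (.leaf 3248754)) (.node (.leaf 1044506) (.leaf 4858106))) (.node (.node (.leaf 9789891) (.leaf 7192963)) (.node (.leaf 14930425) (.leaf 8766143))))))) (.node (.node (.node (.node (.node (.node (.node (.leaf 1946270) (.leaf 6480339)) (.leaf 1523776)) (.node (.leaf 8393152) (.leaf 1450206))) (.node (.node (.leaf 7172648) (.leaf 2052717)) (.node (.leaf 13492319) (.leaf 2495075)))) (.node (.node (.node (.node (.leaf 11227431) (.leaf 4788882)) (.leaf 1180049)) (.node (.leaf 7995433) (.leaf 13988269))) (.node (.node (.leaf 15540254) (.leaf 2273703))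 (.node (.leaf 6349512) (.leaf 11043384))))) (.node (.node (.node (.node (.node (.leaf 4862580) (.leaf 10121450)) (.leaf 4456720)) (.node (.leaf 5243042) (.leaf 13812094))) (.node (.node (.leaf 15000028) (.leaf 11960695)) (.node (.leaf 209384) (.leaf 12251496)))) (.node (.node (.node (.leaf 14184773) (.leaf 14155954)) (.node (.leaf 17973525) (.leaf 14840140))) (.node (.node (.leaf 10310171) (.leaf 3178871)) (.node (.leaf 11403471) (.leaf 15749440)))))) (.node (.node (.node (.node (.node (.node (.leaf 3437029) (.leaf 7106760)) (.leaf 9765466)) (.node (.leaf 11559082) (.leaf 1208482))) (.node (.node (.leaf 10699144) (.leaf 15831580)) (.node (.leaf 17347155) (.leaf 12587161)))) (.node (.node (.node (.node (.leaf 13058166) (.leaf 6381757)) (.leaf 7725704)) (.node (.leaf 164026) (.leaf 12317360))) (.node (.node (.leaf 3203095) (.leaf 6152845)) (.node (.leaf 18116608) (.leaf 14893661))))) (.node (.node (.node (.node (.node (.leaf 4268057) (.leaf 1847441)) (.leaf 4251931)) (.node (.leaf 28788) (.leaf 6258925))) (.node (.node (.leaf 13120206) (.leaf 10977591)) (.node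 (.leaf 17559818) (.leaf 14750417)))) (.node (.node (.node (.leaf 13070710) (.leaf 6320394)) (.node (.leaf 389570) (.leaf 15561396))) (.node (.node (.leaf 8638897) (.leaf 6971664)) (.node (.leaf 18186523) (.leaf 16724498)))))))) (.node (.node (.node (.node (.node (.node (.node (.node (.leaf 1921732) (.leaf 9851511)) (.leaf 12997125)) (.node (.leaf 3698992) (.leaf 6643980))) (.node (.node (.leaf 2711961) (.leaf 9376323)) (.node (.leaf 17387973) (.leaf 6234789)))) (.node (.node (.node (.node (.leaf 13513281) (.leaf 2249412)) (.leaf 397439)) (.node (.leaf 5968108) (.leaf 2093519))) (.node (.node (.leaf 4989247) (.leaf 7901584)) (.node (.leaf 5734920) (.leaf 2200265))))) (.node (.node (.node (.node (.node (.leaf 5501063) (.leaf 16322646)) (.leaf 15892581)) (.node (.leaf 16199977) (.leaf 10137807))) (.node (.node (.leaf 10822032) (.leaf 5272057)) (.node (.leaf 6168940) (.leaf 1327455)))) (.node (.node (.node (.leaf 4317581) (.leaf 17723870)) (.node (.leaf 16232619) (.leaf 5693668))) (.node (.node (.leaf 11505945) (.leaf 5414915)) (.node (.leaf 3039914) (.leaf 17752510))))))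 (.node (.node (.node (.node (.node (.node (.leaf 2679441) (.leaf 11973000)) (.leaf 14946461)) (.node (.leaf 17822034) (.leaf 11046971))) (.node (.node (.leaf 16081249) (.leaf 4424082)) (.node (.leaf 2359895) (.leaf 14233750)))) (.node (.node (.node (.node (.leaf 17219708) (.leaf 7488209)) (.leaf 16904388)) (.node (.leaf 12169847) (.leaf 6894188))) (.node (.node (.leaf 2609320) (.leaf 2089268)) (.node (.leaf 925868) (.leaf 15864191))))) (.node (.node (.node (.node (.node (.leaf 12177633) (.leaf 15114273)) (.leaf 9114019)) (.node (.leaf 2928705) (.leaf 10510991))) (.node (.node (.leaf 15442272) (.leaf 7365330)) (.node (.leaf 4526207) (.leaf 15196264)))) (.node (.node (.node (.leaf 14246542) (.leaf 6418872)) (.node (.leaf 6095377) (.leaf 4780365))) (.node (.node (.leaf 14889481) (.leaf 6840441)) (.node (.leaf 7258293) (.leaf 13996366))))))) (.node (.node (.node (.node (.node (.node (.node (.leaf 17486347) (.leaf 4911331)) (.leaf 1368339)) (.node (.leaf 9994841) (.leaf 7749888))) (.node (.node (.leaf 778397) (.leaf 14286912)) (.node (.leaf 8007996) (.leaf 914009))))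 (.node (.node (.node (.node (.leaf 3871002) (.leaf 9732642)) (.leaf 17735994)) (.node (.leaf 13357640) (.leaf 11702529))) (.node (.node (.leaf 6266948) (.leaf 828117)) (.node (.leaf 651499) (.leaf 1622675))))) (.node (.node (.node (.node (.node (.leaf 8413778) (.leaf 4534893)) (.leaf 6832145)) (.node (.leaf 16343692) (.leaf 5370435))) (.node (.node (.leaf 6934557) (.leaf 1626629)) (.node (.leaf 14164502) (.leaf 7843910)))) (.node (.node (.node (.leaf 6222401) (.leaf 16769383)) (.node (.leaf 6713669) (.leaf 8167611))) (.node (.node (.leaf 10141778) (.leaf 15352449)) (.node (.leaf 11603987) (.leaf 6844617)))))) (.node (.node (.node (.node (.node (.node (.leaf 5464445) (.leaf 17580189)) (.leaf 7405907)) (.node (.leaf 12239294) (.leaf 13234329))) (.node (.node (.leaf 4079854) (.leaf 14250164)) (.node (.leaf 11837796) (.leaf 3190944)))) (.node (.node (.node (.node (.leaf 8127191) (.leaf 1929657)) (.leaf 15732884)) (.node (.leaf 717293) (.leaf 5738673))) (.node (.node (.leaf 1204308) (.leaf 15122919)) (.node (.leaf 1458397) (.leaf 17777263))))) (.node (.node (.node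 (.node (.node (.leaf 14798878) (.leaf 15651193)) (.leaf 10875197)) (.node (.leaf 15991137) (.leaf 5533830))) (.node (.node (.leaf 10879620) (.leaf 13607515)) (.node (.leaf 18125476) (.leaf 15954478)))) (.node (.node (.node (.leaf 7197254) (.leaf 15769947)) (.node (.leaf 17764630) (.leaf 5120726))) (.node (.node (.leaf 16835114) (.leaf 5484604)) (.node (.leaf 6988103) (.leaf 1630717)))))))))

def threeMv4384 : Janko.Tree (ℕ) :=
  (.node (.node (.node (.node (.node (.node (.node (.node (.node (.leaf 4747754) (.leaf 16310615)) (.leaf 524407)) (.node (.leaf 11903081) (.leaf 11444598))) (.node (.node (.leaf 17326313) (.leaf 13193937)) (.node (.leaf 6746119) (.leaf 13083323)))) (.node (.node (.node (.node (.leaf 9941596) (.leaf 9752775)) (.leaf 12050674)) (.node (.leaf 6279273) (.leaf 13173009))) (.node (.node (.leaf 9834706) (.leaf 6132237)) (.node (.leaf 15282578) (.leaf 11034954))))) (.node (.node (.node (.node (.node (.leaf 16433375) (.leaf 15962341)) (.leaf 242020)) (.node (.leaf 1634339) (.leaf 12947458))) (.node (.node (.leaf 12444358) (.leaf 11231578)) (.node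 (.leaf 319781) (.leaf 12378156)))) (.node (.node (.node (.leaf 10420462) (.leaf 14496059)) (.node (.leaf 12968130) (.leaf 10731533))) (.node (.node (.leaf 2060535) (.leaf 4649626)) (.node (.leaf 4686035) (.leaf 14110997)))))) (.node (.node (.node (.node (.node (.node (.leaf 1659235) (.leaf 15692416)) (.leaf 6066229)) (.node (.leaf 5435583) (.leaf 7979596))) (.node (.node (.leaf 10584400) (.leaf 11374819)) (.node (.leaf 14311892) (.leaf 10150297)))) (.node (.node (.node (.node (.leaf 7356702) (.leaf 1978654)) (.leaf 3002965)) (.node (.leaf 2114195) (.leaf 4166060))) (.node (.node (.leaf 11682336) (.leaf 11772360)) (.node (.leaf 2486378) (.leaf 516762))))) (.node (.node (.node (.node (.node (.leaf 16187960) (.leaf 360999)) (.leaf 12140876)) (.node (.leaf 17924724) (.leaf 11190542))) (.node (.node (.leaf 7852566) (.leaf 5648712)) (.node (.leaf 3789065) (.leaf 16827096)))) (.node (.node (.node (.leaf 14905756) (.leaf 12452318)) (.node (.leaf 13910511) (.leaf 4935936))) (.node (.node (.leaf 3400296) (.leaf 16290316)) (.node (.leaf 2326700) (.leaf 2830837))))))) (.node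 (.node (.node (.node (.node (.node (.node (.leaf 4698703) (.leaf 13865543)) (.leaf 3502107)) (.node (.leaf 3539644) (.leaf 1568770))) (.node (.node (.leaf 13221894) (.leaf 8634748)) (.node (.leaf 10522920) (.leaf 5083431)))) (.node (.node (.node (.node (.leaf 10453603) (.leaf 15495831)) (.leaf 9101345)) (.node (.leaf 6136418) (.leaf 2748733))) (.node (.node (.leaf 4219548) (.leaf 3624979)) (.node (.leaf 8732838) (.leaf 6979656))))) (.node (.node (.node (.node (.node (.leaf 14938516) (.leaf 2572863)) (.leaf 13599418)) (.node (.leaf 6734429) (.leaf 10588215))) (.node (.node (.leaf 14700822) (.leaf 7381465)) (.node (.leaf 3264757) (.leaf 10093223)))) (.node (.node (.node (.leaf 9077118) (.leaf 4256413)) (.node (.leaf 12898357) (.leaf 7570100))) (.node (.node (.leaf 1352300) (.leaf 11722862)) (.node (.leaf 16863543) (.leaf 6668461)))))) (.node (.node (.node (.node (.node (.node (.leaf 6758827) (.leaf 14217366)) (.leaf 9503057)) (.node (.leaf 3863027) (.leaf 4886809))) (.node (.node (.leaf 11645458) (.leaf 2584623)) (.node (.leaf 2019833) (.leaf 7029367)))) (.node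 (.node (.node (.node (.leaf 14545073) (.leaf 2506941)) (.leaf 7246341)) (.node (.leaf 17539217) (.leaf 446652))) (.node (.node (.leaf 5964391) (.leaf 14766790)) (.node (.leaf 8491698) (.leaf 573695))))) (.node (.node (.node (.node (.node (.leaf 2072830) (.leaf 5685722)) (.leaf 2596986)) (.node (.leaf 15859788) (.leaf 14520621))) (.node (.node (.leaf 1802870) (.leaf 1863864)) (.node (.leaf 7225950) (.leaf 7619137)))) (.node (.node (.node (.leaf 6431319) (.leaf 6013597)) (.node (.leaf 16261296) (.leaf 3875246))) (.node (.node (.leaf 8003702) (.leaf 4071550)) (.node (.leaf 6275772) (.leaf 1388957)))))))) (.node (.node (.node (.node (.node (.node (.node (.node (.leaf 3387460) (.leaf 680384)) (.leaf 13095171)) (.node (.leaf 7372945) (.leaf 17338595))) (.node (.node (.leaf 2314496) (.leaf 10567993)) (.node (.leaf 11440236) (.leaf 5689871)))) (.node (.node (.node (.node (.leaf 7348637) (.leaf 17297477)) (.leaf 17654142)) (.node (.leaf 3219961) (.leaf 11411497))) (.node (.node (.leaf 12718697) (.leaf 6852643)) (.node (.leaf 9244896) (.leaf 15467118))))) (.node (.node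 (.node (.node (.node (.leaf 6693125) (.leaf 1991190)) (.leaf 3977488)) (.node (.leaf 5837087) (.leaf 6656464))) (.node (.node (.leaf 10248885) (.leaf 11911323)) (.node (.leaf 8716295) (.leaf 11915289)))) (.node (.node (.node (.leaf 13517072) (.leaf 7078037)) (.node (.leaf 2625600) (.leaf 1290285))) (.node (.node (.leaf 6025269) (.leaf 14717494)) (.node (.leaf 13004803) (.leaf 17093115)))))) (.node (.node (.node (.node (.node (.node (.leaf 8282516) (.leaf 14778660)) (.leaf 18165774)) (.node (.leaf 11001874) (.leaf 16155021))) (.node (.node (.leaf 12415333) (.leaf 7520977)) (.node (.leaf 16302426) (.leaf 1102088)))) (.node (.node (.node (.node (.leaf 5410827) (.leaf 12263859)) (.leaf 13291938)) (.node (.leaf 17879450) (.leaf 10043660))) (.node (.node (.leaf 11059322) (.leaf 18035285)) (.node (.leaf 3866631) (.leaf 15520306))))) (.node (.node (.node (.node (.node (.leaf 12730543) (.leaf 17170897)) (.leaf 9564435)) (.node (.leaf 12390964) (.leaf 15405507))) (.node (.node (.leaf 1512042) (.leaf 17908004)) (.node (.leaf 18149506) (.leaf 7360983)))) (.node (.node (.node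 (.leaf 11297211) (.leaf 7237790)) (.node (.leaf 10461327) (.leaf 8270239))) (.node (.node (.leaf 11751604) (.leaf 11719102)) (.node (.leaf 17027345) (.leaf 8695993))))))) (.node (.node (.node (.node (.node (.node (.node (.leaf 13111369) (.leaf 5001939)) (.leaf 4104783)) (.node (.leaf 17256631) (.leaf 11587899))) (.node (.node (.leaf 5898253) (.leaf 15036639)) (.node (.leaf 6197576) (.leaf 4641169)))) (.node (.node (.node (.node (.leaf 14209461) (.leaf 3031326)) (.leaf 15839736)) (.node (.leaf 2236731) (.leaf 17035627))) (.node (.node (.leaf 9953758) (.leaf 8929778)) (.node (.leaf 3666592) (.leaf 9970152))))) (.node (.node (.node (.node (.node (.leaf 14516254) (.leaf 8450267)) (.leaf 9581256)) (.node (.leaf 12280163) (.leaf 13869524))) (.node (.node (.leaf 2261012) (.leaf 5198317)) (.node (.leaf 18067460) (.leaf 13341222)))) (.node (.node (.node (.leaf 8463047) (.leaf 3432626)) (.node (.leaf 17019166) (.leaf 18051255))) (.node (.node (.leaf 13230556) (.leaf 2192066)) (.node (.leaf 373096) (.leaf 14913654)))))) (.node (.node (.node (.node (.node (.node (.leaf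 18227580) (.leaf 11661648)) (.leaf 8864079)) (.node (.leaf 8901052) (.leaf 1937638))) (.node (.node (.leaf 18313254) (.leaf 15937691)) (.node (.leaf 2838876) (.leaf 13652515)))) (.node (.node (.node (.node (.leaf 17682990) (.leaf 12083307)) (.leaf 10187337)) (.node (.leaf 12579038) (.leaf 2441770))) (.node (.node (.leaf 13189166) (.leaf 2925050)) (.node (.leaf 9093143) (.leaf 17813760))))) (.node (.node (.node (.node (.node (.leaf 17322572) (.leaf 4796656)) (.leaf 14578295)) (.node (.leaf 12468727) (.leaf 12566617))) (.node (.node (.leaf 13578370) (.leaf 12431840)) (.node (.leaf 17121327) (.leaf 16879942)))) (.node (.node (.node (.leaf 3653961) (.leaf 143800)) (.node (.leaf 13820557) (.leaf 12784201))) (.node (.node (.leaf 9252999) (.leaf 4616500)) (.node (.leaf 15368798) (.leaf 5546168)))))))))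

def threeMv4385 : Janko.Tree (ℕ) :=
  (.node (.node (.node (.node (.node (.node (.node (.node (.node (.leaf 8909270) (.leaf 475295)) (.leaf 15286430)) (.node (.leaf 3088625) (.leaf 12359))) (.node (.node (.leaf 10072663) (.leaf 7991894)) (.node (.leaf 196679) (.leaf 4387010)))) (.node (.node (.node (.node (.leaf 10051963) (.leaf 14270767)) (.leaf 11469195)) (.node (.leaf 4563530) (.leaf 4096030))) (.node (.node (.leaf 9039908) (.leaf 3924265)) (.node (.leaf 94325) (.leaf 5165140))))) (.node (.node (.node (.node (.node (.leaf 7884906) (.leaf 5182146)) (.leaf 15425965)) (.node (.leaf 13783551) (.leaf 5329579))) (.node (.node (.leaf 14614863) (.leaf 18199132)) (.node (.leaf 13545703) (.leaf 15925812)))) (.node (.node (.node (.leaf 12054951) (.leaf 14406222)) (.node (.leaf 4346387) (.leaf 16331340))) (.node (.node (.leaf 13762866) (.leaf 10559887)) (.node (.leaf 3154021) (.leaf 1478789)))))) (.node (.node (.node (.node (.node (.node (.leaf 5407015) (.leaf 21126)) (.leaf 2076853)) (.node (.leaf 16830531) (.leaf 5992577))) (.node (.node (.leaf 7606597) (.leaf 14770368))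 (.node (.leaf 6586810) (.leaf 16121990)))) (.node (.node (.node (.node (.leaf 6512759) (.leaf 17380028)) (.leaf 5914643)) (.node (.leaf 1241333) (.leaf 10575961))) (.node (.node (.leaf 16736302) (.leaf 7958633)) (.node (.leaf 7434513) (.leaf 16286240))))) (.node (.node (.node (.node (.node (.leaf 1286264) (.leaf 4722833)) (.leaf 10105239)) (.node (.leaf 6881756) (.leaf 1552618))) (.node (.node (.leaf 5845397) (.leaf 7151956)) (.node (.leaf 6697039) (.leaf 139976)))) (.node (.node (.node (.leaf 10711434) (.leaf 4731010)) (.node (.leaf 15073323) (.leaf 15143276))) (.node (.node (.leaf 12677575) (.leaf 1503602)) (.node (.leaf 13570467) (.leaf 18342305))))))) (.node (.node (.node (.node (.node (.node (.node (.leaf 9318974) (.leaf 1646977)) (.leaf 17318000)) (.node (.leaf 3940494) (.leaf 1913038))) (.node (.node (.leaf 6427329) (.leaf 13254953)) (.node (.leaf 6885849) (.leaf 15835584)))) (.node (.node (.node (.node (.leaf 3252935) (.leaf 504244)) (.leaf 106892)) (.node (.leaf 14664012) (.leaf 2920637))) (.node (.node (.leaf 843895) (.leaf 1851775)) (.node (.leaf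 7221736) (.leaf 13500562))))) (.node (.node (.node (.node (.node (.leaf 17223910) (.leaf 7598425)) (.leaf 13713537)) (.node (.leaf 15032886) (.leaf 12980492))) (.node (.node (.leaf 9822466) (.leaf 9281900)) (.node (.leaf 3055728) (.leaf 14696601)))) (.node (.node (.node (.leaf 4653261) (.leaf 10957021)) (.node (.leaf 10780697) (.leaf 2765087))) (.node (.node (.leaf 3543132) (.leaf 1302803)) (.node (.leaf 18022965) (.leaf 18010130)))))) (.node (.node (.node (.node (.node (.node (.leaf 2797600) (.leaf 8892599)) (.leaf 2031993)) (.node (.leaf 7581979) (.leaf 7889351))) (.node (.node (.leaf 10482250) (.leaf 1855597)) (.node (.leaf 16339344) (.leaf 3183098)))) (.node (.node (.node (.node (.leaf 8311109) (.leaf 9769142)) (.leaf 9265171)) (.node (.leaf 14442579) (.leaf 11268748))) (.node (.node (.leaf 3256658) (.leaf 12640447)) (.node (.leaf 13361636) (.leaf 13226560))))) (.node (.node (.node (.node (.node (.leaf 12779707) (.leaf 2265156)) (.leaf 6689210)) (.node (.leaf 4964606) (.leaf 2252838))) (.node (.node (.leaf 819494) (.leaf 5202387)) (.node (.leaf 17433151)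 (.leaf 12845346)))) (.node (.node (.node (.leaf 3911894) (.leaf 7999998)) (.node (.leaf 6344817) (.leaf 6648056))) (.node (.node (.leaf 15483303) (.leaf 4952469)) (.node (.leaf 13295688) (.leaf 15978984)))))))) (.node (.node (.node (.node (.node (.node (.node (.node (.leaf 16593271) (.leaf 12353780)) (.leaf 14619225)) (.node (.leaf 16761426) (.leaf 5673637))) (.node (.node (.leaf 12046471) (.leaf 5509233)) (.node (.leaf 9425591) (.leaf 13279244)))) (.node (.node (.node (.node (.leaf 3744009) (.leaf 11927952)) (.leaf 8196441)) (.node (.leaf 13398545) (.leaf 2433661))) (.node (.node (.leaf 12673079) (.leaf 966926)) (.node (.leaf 9515152) (.leaf 12206409))))) (.node (.node (.node (.node (.node (.leaf 8925846) (.leaf 4309028)) (.leaf 10596444)) (.node (.leaf 8843410) (.leaf 5275999))) (.node (.node (.leaf 8519775) (.leaf 6447780)) (.node (.leaf 7254075) (.leaf 3957423)))) (.node (.node (.node (.leaf 13460038) (.leaf 12701826)) (.node (.leaf 610648) (.leaf 9535967))) (.node (.node (.leaf 12513767) (.leaf 8233162)) (.node (.leaf 11641124) (.leaf 1888344)))))) (.node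 (.node (.node (.node (.node (.node (.leaf 12014001) (.leaf 14573867)) (.leaf 11849987)) (.node (.leaf 6504949) (.leaf 4391065))) (.node (.node (.leaf 2982223) (.leaf 13066572)) (.node (.leaf 14877250) (.leaf 11317855)))) (.node (.node (.node (.node (.leaf 11465149) (.leaf 7352615)) (.leaf 13766948)) (.node (.leaf 17871344) (.leaf 11797144))) (.node (.node (.leaf 8188260) (.leaf 12571185)) (.node (.leaf 4464823) (.leaf 4395127))))) (.node (.node (.node (.node (.node (.leaf 4657569) (.leaf 2965612)) (.leaf 1077905)) (.node (.leaf 2372053) (.leaf 14541222))) (.node (.node (.leaf 2757296) (.leaf 2474578)) (.node (.leaf 17412262) (.leaf 14565572)))) (.node (.node (.node (.leaf 7401753) (.leaf 18317686)) (.node (.leaf 11522496) (.leaf 1982633))) (.node (.node (.leaf 4522341) (.leaf 6144032)) (.node (.leaf 5886395) (.leaf 6496936))))))) (.node (.node (.node (.node (.node (.node (.node (.leaf 11076237) (.leaf 10515047)) (.leaf 217325)) (.node (.leaf 4227168) (.leaf 9277711))) (.node (.node (.leaf 3273123) (.leaf 12542494)) (.node (.leaf 18321895) (.leaf 5009845))))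 (.node (.node (.node (.node (.leaf 2945116) (.leaf 13574159)) (.leaf 3580163)) (.node (.leaf 7164040) (.leaf 1708059))) (.node (.node (.leaf 11063352) (.leaf 14844475)) (.node (.leaf 3498385) (.leaf 11583950))))) (.node (.node (.node (.node (.node (.leaf 11542722) (.leaf 10469449)) (.leaf 13521219)) (.node (.leaf 6205837) (.leaf 5263598))) (.node (.node (.leaf 3785316) (.leaf 1233451)) (.node (.leaf 15237545) (.leaf 5042518)))) (.node (.node (.node (.leaf 12959833) (.leaf 17920661)) (.node (.leaf 1147607) (.leaf 3801454))) (.node (.node (.leaf 3355030) (.leaf 16965732)) (.node (.leaf 811554) (.leaf 14484005)))))) (.node (.node (.node (.node (.node (.node (.leaf 3948982) (.leaf 16364144)) (.leaf 3838059)) (.node (.leaf 17236607) (.leaf 5784049))) (.node (.node (.leaf 2736706) (.leaf 9175145)) (.node (.leaf 12538080) (.leaf 623197)))) (.node (.node (.node (.node (.leaf 6836262) (.leaf 14471405)) (.leaf 11616312)) (.node (.leaf 4481079) (.leaf 4809397))) (.node (.node (.leaf 3424458) (.leaf 12091756)) (.node (.leaf 17695432) (.leaf 1425486))))) (.node (.node (.node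 (.node (.node (.leaf 17146157) (.leaf 16249196)) (.leaf 7770135)) (.node (.leaf 14447066) (.leaf 13849065))) (.node (.node (.leaf 2564517) (.leaf 3199455)) (.node (.leaf 848588) (.leaf 2240693)))) (.node (.node (.node (.leaf 15921234) (.leaf 5603338)) (.node (.leaf 13456064) (.leaf 4518499))) (.node (.node (.leaf 9269310) (.leaf 8401170)) (.node (.leaf 15888440) (.leaf 5316797)))))))))

def threeMv4386 : Janko.Tree (ℕ) :=
  (.node (.node (.node (.node (.node (.node (.node (.node (.node (.leaf 9949445) (.leaf 7414299)) (.leaf 4981153)) (.node (.leaf 6799681) (.leaf 2162913))) (.node (.node (.leaf 6508952) (.leaf 1212868)) (.node (.leaf 12189941) (.leaf 14475448)))) (.node (.node (.node (.node (.leaf 7033048) (.leaf 13885755)) (.leaf 13124291)) (.node (.leaf 10617182) (.leaf 765999))) (.node (.node (.leaf 10465686) (.leaf 14086547)) (.node (.leaf 1495483) (.leaf 1446173))))) (.node (.node (.node (.node (.node (.leaf 7696897) (.leaf 5521974)) (.leaf 17289511)) (.node (.leaf 3015163) (.leaf 4706932))) (.node (.node (.leaf 7061826) (.leaf 1048652)) (.node (.leaf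 15138865) (.leaf 2871366)))) (.node (.node (.node (.leaf 17597113) (.leaf 15331808)) (.node (.leaf 4153902) (.leaf 15003936))) (.node (.node (.leaf 1695793) (.leaf 12411523)) (.node (.leaf 8466743) (.leaf 6312482)))))) (.node (.node (.node (.node (.node (.node (.leaf 8753685) (.leaf 10539723)) (.leaf 4452553)) (.node (.leaf 4645322) (.leaf 2445912))) (.node (.node (.leaf 15512198) (.leaf 14274579)) (.node (.leaf 16073350) (.leaf 16334861)))) (.node (.node (.node (.node (.leaf 1970379) (.leaf 14201197)) (.leaf 2650297)) (.node (.leaf 6115963) (.leaf 659600))) (.node (.node (.leaf 4813185) (.leaf 15421587)) (.node (.leaf 1728859) (.leaf 12325204))))) (.node (.node (.node (.node (.node (.leaf 8437920) (.leaf 11984911)) (.leaf 8958557)) (.node (.leaf 16732741) (.leaf 14610533))) (.node (.node (.leaf 4297277) (.leaf 9036498)) (.node (.leaf 18014266) (.leaf 15721127)))) (.node (.node (.node (.leaf 5497435) (.leaf 11112627)) (.node (.leaf 6288061) (.leaf 13034015))) (.node (.node (.leaf 3641830) (.leaf 14643270)) (.node (.leaf 17637992) (.leaf 7242259))))))) (.node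 (.node (.node (.node (.node (.node (.node (.leaf 17174935) (.leaf 16543981)) (.leaf 185017)) (.node (.leaf 630969) (.leaf 3855051))) (.node (.node (.leaf 9130157) (.leaf 8421798)) (.node (.leaf 15450743) (.leaf 7479935)))) (.node (.node (.node (.node (.leaf 3174834) (.leaf 8868053)) (.leaf 5488890)) (.node (.leaf 13382329) (.leaf 8712917))) (.node (.node (.leaf 3228241) (.leaf 15061002)) (.node (.leaf 16601553) (.leaf 13755055))))) (.node (.node (.node (.node (.node (.leaf 5054773) (.leaf 15102351)) (.leaf 9392295)) (.node (.leaf 2908808) (.leaf 17912113))) (.node (.node (.leaf 2539594) (.leaf 11362862)) (.node (.leaf 12304473) (.leaf 1519700)))) (.node (.node (.node (.leaf 7143450) (.leaf 4399831)) (.node (.leaf 16417136) (.leaf 6148691))) (.node (.node (.leaf 533195) (.leaf 12501262)) (.node (.leaf 12697683) (.leaf 17150018)))))) (.node (.node (.node (.node (.node (.node (.leaf 4336) (.leaf 1487272)) (.leaf 954679)) (.node (.leaf 1761298) (.leaf 160142))) (.node (.node (.leaf 16347267) (.leaf 15716587)) (.node (.leaf 6402620) (.leaf 16388673)))) (.node (.node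 (.node (.node (.leaf 7549521) (.leaf 18276549)) (.leaf 11026592)) (.node (.leaf 18330255) (.leaf 13628075))) (.node (.node (.leaf 11940358) (.leaf 13243067)) (.node (.leaf 15249478) (.leaf 9314690))))) (.node (.node (.node (.node (.node (.leaf 762415) (.leaf 15388715)) (.leaf 9711632)) (.node (.leaf 9675378) (.leaf 16802091))) (.node (.node (.leaf 1515982) (.leaf 3846421)) (.node (.leaf 6336648) (.leaf 2425282)))) (.node (.node (.node (.leaf 5333217) (.leaf 16969962)) (.node (.leaf 1667723) (.leaf 17743961))) (.node (.node (.leaf 15028894) (.leaf 5152818)) (.node (.leaf 8790639) (.leaf 10146014)))))))) (.node (.node (.node (.node (.node (.node (.node (.node (.leaf 14598275) (.leaf 188969)) (.leaf 2147003)) (.node (.leaf 6107739) (.leaf 7573973))) (.node (.node (.leaf 1598048) (.leaf 11215472)) (.node (.leaf 794640) (.leaf 13419032)))) (.node (.node (.node (.node (.leaf 16621775) (.leaf 9478651)) (.leaf 13979844)) (.node (.leaf 17383656) (.leaf 13722132))) (.node (.node (.leaf 3449302) (.leaf 15569245)) (.node (.leaf 14680626) (.leaf 12992919))))) (.node (.node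 (.node (.node (.node (.leaf 2855093) (.leaf 8184287)) (.leaf 11977405)) (.node (.leaf 16269867) (.leaf 774823))) (.node (.node (.leaf 12157542) (.leaf 8483231)) (.node (.leaf 7368761) (.leaf 10830551)))) (.node (.node (.node (.leaf 1769590) (.leaf 11264704)) (.node (.leaf 1471164) (.leaf 12735154))) (.node (.node (.leaf 17457172) (.leaf 11427975)) (.node (.leaf 11239458) (.leaf 12886670)))))) (.node (.node (.node (.node (.node (.node (.leaf 10305550) (.leaf 1737219)) (.leaf 8855737)) (.node (.leaf 9585002) (.leaf 12292772))) (.node (.node (.leaf 9199705) (.leaf 4620388)) (.node (.leaf 16945258) (.leaf 8781827)))) (.node (.node (.node (.node (.leaf 16441538) (.leaf 18178163)) (.leaf 4022570)) (.node (.leaf 14021184) (.leaf 16130200))) (.node (.node (.leaf 11764265) (.leaf 13406745)) (.node (.leaf 11489350) (.leaf 12759383))))) (.node (.node (.node (.node (.node (.leaf 5664973) (.leaf 246202)) (.leaf 16855107)) (.node (.leaf 14934171) (.leaf 279091))) (.node (.node (.leaf 4018768) (.leaf 17945206)) (.node (.leaf 13013088) (.leaf 8204710)))) (.node (.node (.node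 (.leaf 12562488) (.leaf 16065117)) (.node (.leaf 10772505) (.leaf 8458465))) (.node (.node (.leaf 3944501) (.leaf 18300950)) (.node (.leaf 45149) (.leaf 3690784))))))) (.node (.node (.node (.node (.node (.node (.node (.leaf 15941815) (.leaf 7311396)) (.leaf 17113701)) (.node (.leaf 5726308) (.leaf 987402))) (.node (.node (.leaf 1896554) (.leaf 6918798)) (.node (.leaf 12173990) (.leaf 5025809)))) (.node (.node (.node (.node (.leaf 11952849) (.leaf 5824957)) (.leaf 14831704)) (.node (.leaf 17100927) (.leaf 7668134))) (.node (.node (.leaf 15774326) (.leaf 6754441)) (.node (.leaf 16994468) (.leaf 8954514))))) (.node (.node (.node (.node (.node (.leaf 9081172) (.leaf 3817645)) (.leaf 4231812)) (.node (.leaf 6717854) (.leaf 9052528))) (.node (.node (.leaf 8917708) (.leaf 9855420)) (.node (.leaf 16408750) (.leaf 8663072)))) (.node (.node (.node (.leaf 12636373) (.leaf 10064379)) (.node (.leaf 9388485) (.leaf 4793023))) (.node (.node (.leaf 8368200) (.leaf 9179374)) (.node (.leaf 13726125) (.leaf 12804293)))))) (.node (.node (.node (.node (.node (.node (.leaf 9417203)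 (.leaf 5570819)) (.leaf 16749220)) (.node (.leaf 13410628) (.leaf 12132598))) (.node (.node (.leaf 2465946) (.leaf 16425514)) (.node (.leaf 10826381) (.leaf 5943807)))) (.node (.node (.node (.node (.leaf 6967306) (.leaf 10359025)) (.leaf 7766563)) (.node (.leaf 66052) (.leaf 4612574))) (.node (.node (.leaf 1261972) (.leaf 5513813)) (.node (.leaf 24898) (.leaf 8265792))))) (.node (.node (.node (.node (.node (.leaf 2883759) (.leaf 14045284)) (.leaf 10486374)) (.node (.leaf 11932338) (.leaf 10695141))) (.node (.node (.leaf 17690806) (.leaf 12333191)) (.node (.leaf 17420949) (.leaf 5882364)))) (.node (.node (.node (.leaf 15626468) (.leaf 6725857)) (.node (.leaf 8794498) (.leaf 12427489))) (.node (.node (.leaf 3350764) (.leaf 5018082)) (.node (.leaf 12619868) (.leaf 11378938)))))))))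

def threeMv4387 : Janko.Tree (ℕ) :=
  (.node (.node (.node (.node (.node (.node (.node (.node (.node (.leaf 336326) (.leaf 1200427)) (.leaf 6394508)) (.node (.leaf 5304833) (.leaf 17211448))) (.node (.node (.leaf 10084905) (.leaf 7561466)) (.node (.leaf 6488076) (.leaf 7835753)))) (.node (.node (.node (.node (.leaf 7717209) (.leaf 17477916)) (.leaf 3780882)) (.node (.leaf 17482413) (.leaf 1249445))) (.node (.node (.leaf 3616937) (.leaf 8548626)) (.node (.leaf 8098359) (.leaf 11014322))))) (.node (.node (.node (.node (.node (.leaf 15724901) (.leaf 16933022)) (.leaf 381496)) (.node (.leaf 16191801) (.leaf 705008))) (.node (.node (.leaf 10494675) (.leaf 12071327)) (.node (.leaf 7283259) (.leaf 8134880)))) (.node (.node (.node (.leaf 4076169) (.leaf 6435428)) (.node (.leaf 10862866) (.leaf 6816043))) (.node (.node (.leaf 9867572) (.leaf 7446651)) (.node (.leaf 7738023) (.leaf 1020393)))))) (.node (.node (.node (.node (.node (.node (.leaf 3010766) (.leaf 6861367)) (.leaf 4530745)) (.node (.leaf 7528928) (.leaf 13049871))) (.node (.node (.leaf 6951064) (.leaf 14037426))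 (.node (.leaf 5451794) (.leaf 13336732)))) (.node (.node (.node (.node (.leaf 8093920) (.leaf 11924114)) (.leaf 11776351)) (.node (.leaf 3097294) (.leaf 16872137))) (.node (.node (.leaf 2429137) (.leaf 8568875)) (.node (.leaf 2580825) (.leaf 10199136))))) (.node (.node (.node (.node (.node (.leaf 15184168) (.leaf 9290102)) (.leaf 9203996)) (.node (.leaf 3334633) (.leaf 13128028))) (.node (.node (.leaf 7545314) (.leaf 737398)) (.node (.leaf 3313713) (.leaf 5910884)))) (.node (.node (.node (.leaf 10686553) (.leaf 14627506)) (.node (.leaf 4710883) (.leaf 11223265))) (.node (.node (.leaf 1282591) (.leaf 7229783)) (.node (.leaf 12296561) (.leaf 17330278))))))) (.node (.node (.node (.node (.node (.node (.node (.leaf 1437963) (.leaf 3613292)) (.leaf 16961995)) (.node (.leaf 14963263) (.leaf 11755895))) (.node (.node (.leaf 6042037) (.leaf 5349746)) (.node (.leaf 5829050) (.leaf 15659036)))) (.node (.node (.node (.node (.leaf 15298702) (.leaf 7217539)) (.leaf 753759)) (.node (.leaf 6377944) (.leaf 9859792))) (.node (.node (.leaf 5358148) (.leaf 7180988)) (.node (.leaf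 15118554) (.leaf 3985980))))) (.node (.node (.node (.node (.node (.leaf 6230726) (.leaf 14996006)) (.leaf 8278309)) (.node (.leaf 4124911) (.leaf 12460499))) (.node (.node (.leaf 2154885) (.leaf 5714572)) (.node (.leaf 12235299) (.leaf 6263379)))) (.node (.node (.node (.leaf 12271758) (.leaf 16789690)) (.node (.leaf 15545044) (.leaf 8294610))) (.node (.node (.leaf 10338362) (.leaf 3101135)) (.node (.leaf 1859683) (.leaf 15823117)))))) (.node (.node (.node (.node (.node (.node (.leaf 13165058) (.leaf 6611553)) (.leaf 14856853)) (.node (.leaf 10203665) (.leaf 10346608))) (.node (.node (.leaf 17846956) (.leaf 6160592)) (.node (.leaf 8912944) (.leaf 3760531)))) (.node (.node (.node (.node (.leaf 17162673) (.leaf 12042313)) (.leaf 4051112)) (.node (.leaf 14053954) (.leaf 876947))) (.node (.node (.leaf 4460544) (.leaf 7659778)) (.node (.leaf 1401504) (.leaf 119289))))) (.node (.node (.node (.node (.node (.leaf 4469263) (.leaf 11538522)) (.leaf 14782551)) (.node (.leaf 12763544) (.leaf 10916075))) (.node (.node (.leaf 4940077) (.leaf 16519426)) (.node (.leaf 352877)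 (.leaf 5902697)))) (.node (.node (.node (.leaf 4833655) (.leaf 12550572)) (.node (.leaf 11219363) (.leaf 5988950))) (.node (.node (.leaf 11137134) (.leaf 15340119)) (.node (.leaf 11010488) (.leaf 13955454)))))))) (.node (.node (.node (.node (.node (.node (.node (.node (.leaf 15548556) (.leaf 7327869)) (.leaf 13156544)) (.node (.leaf 13947284) (.leaf 13939224))) (.node (.node (.leaf 1732981) (.leaf 13681088)) (.node (.leaf 9748913) (.leaf 9294518)))) (.node (.node (.node (.node (.leaf 8769920) (.leaf 11395198)) (.leaf 8016279)) (.node (.leaf 12329490) (.leaf 6087370))) (.node (.node (.leaf 627262) (.leaf 17515165)) (.node (.leaf 3596792) (.leaf 1253744))))) (.node (.node (.node (.node (.node (.leaf 6615151) (.leaf 14958830)) (.leaf 2879594)) (.node (.leaf 10175108) (.leaf 1782354))) (.node (.node (.leaf 553266) (.leaf 10477736)) (.node (.leaf 4772017) (.leaf 12989094)))) (.node (.node (.node (.leaf 17530883) (.leaf 10412092)) (.node (.leaf 9646524) (.leaf 10113540))) (.node (.node (.leaf 2310273) (.leaf 6213745)) (.node (.leaf 15106207) (.leaf 17801872))))))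 (.node (.node (.node (.node (.node (.node (.leaf 14082172) (.leaf 8171941)) (.leaf 8581698)) (.node (.leaf 17576243) (.leaf 6443485))) (.node (.node (.leaf 4960340) (.leaf 4215463)) (.node (.leaf 12001732) (.leaf 2503174)))) (.node (.node (.node (.node (.leaf 2085404) (.leaf 17928714)) (.leaf 8729089)) (.node (.leaf 82008) (.leaf 6271348))) (.node (.node (.leaf 7512238) (.leaf 16679430)) (.node (.leaf 8757928) (.leaf 7233553))))) (.node (.node (.node (.node (.node (.leaf 13738055) (.leaf 17805665)) (.leaf 16982214)) (.node (.leaf 12485234) (.leaf 418245))) (.node (.node (.leaf 1880422) (.leaf 8798224)) (.node (.leaf 15684004) (.leaf 17502770)))) (.node (.node (.node (.leaf 18284629) (.leaf 6296055)) (.node (.leaf 14635134) (.leaf 12116168))) (.node (.node (.leaf 9908236) (.leaf 14106697)) (.node (.leaf 16367744) (.leaf 6591043))))))) (.node (.node (.node (.node (.node (.node (.node (.leaf 10351154) (.leaf 14921744)) (.leaf 9208500)) (.node (.leaf 14295393) (.leaf 12648624))) (.node (.node (.leaf 17014881) (.leaf 10899832)) (.node (.leaf 9773629) (.leaf 11685917))))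 (.node (.node (.node (.node (.leaf 520409) (.leaf 8622178)) (.leaf 11813088)) (.node (.leaf 606765) (.leaf 12816540))) (.node (.node (.leaf 4890636) (.leaf 995698)) (.node (.leaf 11358322) (.leaf 13967547))))) (.node (.node (.node (.node (.node (.leaf 7262835) (.leaf 15565342)) (.leaf 7110987)) (.node (.leaf 15044848) (.leaf 11743794))) (.node (.node (.leaf 12010068) (.leaf 10244317)) (.node (.leaf 5645015) (.leaf 4485191)))) (.node (.node (.node (.leaf 8048808) (.leaf 3125327)) (.node (.leaf 13086876) (.leaf 11792818))) (.node (.node (.leaf 9019396) (.leaf 16228534)) (.node (.leaf 1143214) (.leaf 11620434)))))) (.node (.node (.node (.node (.node (.node (.leaf 8131215) (.leaf 6595031)) (.leaf 17748188)) (.node (.leaf 5145273) (.leaf 18104446))) (.node (.node (.leaf 15794539) (.leaf 7676592)) (.node (.leaf 1827310) (.leaf 6165061)))) (.node (.node (.node (.node (.leaf 12124420) (.leaf 17449210)) (.leaf 2380396)) (.node (.leaf 12796377) (.leaf 16404943))) (.node (.node (.leaf 9904222) (.leaf 2134164)) (.node (.leaf 1114812) (.leaf 17719305))))) (.node (.node (.node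 (.node (.node (.leaf 10592973) (.leaf 3035683)) (.leaf 15667522)) (.node (.leaf 4043083) (.leaf 3920449))) (.node (.node (.leaf 8372950) (.leaf 4137624)) (.node (.leaf 422594) (.leaf 5251317)))) (.node (.node (.node (.leaf 1642964) (.leaf 10256395)) (.node (.leaf 16208003) (.leaf 13672538))) (.node (.node (.leaf 5325513) (.leaf 14328531)) (.node (.leaf 7828089) (.leaf 15409232)))))))))

def threeMv4388 : Janko.Tree (ℕ) :=
  (.node (.node (.node (.node (.node (.node (.node (.node (.node (.leaf 17391707) (.leaf 14455432)) (.leaf 2232962)) (.node (.leaf 10457100) (.leaf 5582960))) (.node (.node (.leaf 5341367) (.leaf 12558865)) (.node (.leaf 15188380) (.leaf 8274519)))) (.node (.node (.node (.node (.leaf 934111) (.leaf 12100302)) (.leaf 7508088)) (.node (.leaf 10502476) (.leaf 12152891))) (.node (.node (.leaf 6361749) (.leaf 17641845)) (.node (.leaf 1671198) (.leaf 9798209))))) (.node (.node (.node (.node (.node (.leaf 4866669) (.leaf 7320095)) (.leaf 2781593)) (.node (.leaf 6926776) (.leaf 2719997))) (.node (.node (.leaf 1167519) (.leaf 1441865)) (.node (.leaf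 17711292) (.leaf 1073798)))) (.node (.node (.node (.leaf 2510923) (.leaf 4301096)) (.node (.leaf 17707099) (.leaf 7188701))) (.node (.node (.leaf 4816924) (.leaf 348744)) (.node (.leaf 10797685) (.leaf 6365458)))))) (.node (.node (.node (.node (.node (.node (.leaf 10649690) (.leaf 1900764)) (.leaf 9302276)) (.node (.leaf 1609939) (.leaf 11051451))) (.node (.node (.leaf 2761428) (.leaf 700930)) (.node (.leaf 12382749) (.leaf 5067206)))) (.node (.node (.node (.node (.leaf 1065366) (.leaf 16257178)) (.leaf 11878424)) (.node (.leaf 15999628) (.leaf 11612176))) (.node (.node (.leaf 3026955) (.leaf 13017284)) (.node (.leaf 5300735) (.leaf 9592896))))) (.node (.node (.node (.node (.node (.leaf 17789327) (.leaf 2187906)) (.leaf 9167097)) (.node (.leaf 1835529) (.leaf 11461272))) (.node (.node (.leaf 14582237) (.leaf 16875932)) (.node (.leaf 16704087) (.leaf 2810434)))) (.node (.node (.node (.leaf 14708914) (.leaf 4178006)) (.node (.leaf 10838330) (.leaf 6201545))) (.node (.node (.leaf 17740491) (.leaf 8012285)) (.node (.leaf 16564676) (.leaf 8515990))))))) (.node (.node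 (.node (.node (.node (.node (.node (.leaf 11288801) (.leaf 7176582)) (.leaf 512694)) (.node (.leaf 5763170) (.leaf 9887844))) (.node (.node (.leaf 4321485) (.leaf 1228818)) (.node (.leaf 12026329) (.leaf 4014161)))) (.node (.node (.node (.node (.leaf 13447361) (.leaf 14143902)) (.leaf 17031470)) (.node (.leaf 2097616) (.leaf 791223))) (.node (.node (.leaf 9216557) (.leaf 962997)) (.node (.leaf 8389267) (.leaf 2011235))))) (.node (.node (.node (.node (.node (.leaf 10973203) (.leaf 6783555)) (.leaf 15585368)) (.node (.leaf 4883151) (.leaf 11432396))) (.node (.node (.leaf 14172503) (.leaf 12481115)) (.node (.leaf 1188147) (.leaf 11706837)))) (.node (.node (.node (.leaf 15385175) (.leaf 16494965)) (.node (.leaf 10682468) (.leaf 156307))) (.node (.node (.leaf 17252449) (.leaf 11292779)) (.node (.leaf 3555820) (.leaf 10416211)))))) (.node (.node (.node (.node (.node (.node (.leaf 15208529) (.leaf 4943974)) (.leaf 14590513)) (.node (.leaf 6062136) (.leaf 14397471))) (.node (.node (.leaf 9048633) (.leaf 6390111)) (.node (.leaf 3043468) (.leaf 11817162)))) (.node (.node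 (.node (.node (.leaf 15672024) (.leaf 11022543)) (.leaf 12419080)) (.node (.leaf 14757965) (.leaf 8032811))) (.node (.node (.leaf 15868049) (.leaf 11391250)) (.node (.leaf 11452497) (.leaf 5038679))))) (.node (.node (.node (.node (.node (.leaf 10281415) (.leaf 11194683)) (.leaf 8487063)) (.node (.leaf 9633948) (.leaf 1573178))) (.node (.node (.leaf 5677547) (.leaf 10723407)) (.node (.leaf 7332193) (.leaf 5354190)))) (.node (.node (.node (.leaf 15098268) (.leaf 1933327)) (.node (.leaf 729438) (.leaf 14069777))) (.node (.node (.leaf 15155785) (.leaf 4039016)) (.node (.leaf 12447867) (.leaf 16244918)))))))) (.node (.node (.node (.node (.node (.node (.node (.node (.leaf 17117778) (.leaf 5169484)) (.leaf 8725163)) (.node (.leaf 9310456) (.leaf 11038986))) (.node (.node (.leaf 16360030) (.leaf 17768452)) (.node (.leaf 17404253) (.leaf 7291426)))) (.node (.node (.node (.node (.leaf 17441118) (.leaf 6603288)) (.leaf 4567506)) (.node (.leaf 5492908) (.leaf 10088996))) (.node (.node (.leaf 14463605) (.leaf 12894731)) (.node (.leaf 14377314) (.leaf 643524))))) (.node (.node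 (.node (.node (.node (.leaf 12259974) (.leaf 8250055)) (.leaf 14668118)) (.node (.leaf 6521510) (.leaf 13115879))) (.node (.node (.leaf 14147794) (.leaf 10690753)) (.node (.leaf 16916878) (.leaf 11780507)))) (.node (.node (.node (.leaf 4276555) (.leaf 15302898)) (.node (.leaf 11714823) (.leaf 4673878))) (.node (.node (.leaf 10735992) (.leaf 2175252)) (.node (.leaf 4030544) (.leaf 7688911)))))) (.node (.node (.node (.node (.node (.node (.leaf 17248591) (.leaf 13807908)) (.leaf 17473837)) (.node (.leaf 8442469) (.leaf 4689993))) (.node (.node (.leaf 5128739) (.leaf 15274704)) (.node (.leaf 17793682) (.leaf 3584647)))) (.node (.node (.node (.node (.leaf 7483742) (.leaf 14499969)) (.leaf 16646325)) (.node (.leaf 13365420) (.leaf 1258124))) (.node (.node (.leaf 8434048) (.leaf 16920595)) (.node (.leaf 9761355) (.leaf 17686849))))) (.node (.node (.node (.node (.node (.leaf 17760494) (.leaf 9728679)) (.leaf 14016821)) (.node (.leaf 10707211) (.leaf 4305029))) (.node (.node (.leaf 12869765) (.leaf 12321458)) (.node (.leaf 5030514) (.leaf 15642936)))) (.node (.node (.node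 (.leaf 3084651) (.leaf 12669065)) (.node (.leaf 3678590) (.leaf 11301177))) (.node (.node (.leaf 2613878) (.leaf 3068309)) (.node (.leaf 1131120) (.leaf 12604061))))))) (.node (.node (.node (.node (.node (.node (.node (.leaf 6787113) (.leaf 17436773)) (.leaf 9445767)) (.node (.leaf 6775326) (.leaf 13099711))) (.node (.node (.leaf 17613127) (.leaf 11948539)) (.node (.leaf 3702987) (.leaf 1594004)))) (.node (.node (.node (.node (.leaf 9380331) (.leaf 12751049)) (.leaf 13718230)) (.node (.leaf 1687977) (.leaf 1884449))) (.node (.node (.leaf 1036896) (.leaf 7557257)) (.node (.leaf 7594259) (.leaf 1950101))))) (.node (.node (.node (.node (.node (.leaf 8261848) (.leaf 6185114)) (.leaf 15049030)) (.node (.leaf 12722344) (.leaf 18223464))) (.node (.node (.leaf 9589146) (.leaf 3776782)) (.node (.leaf 15438412) (.leaf 1773823)))) (.node (.node (.node (.leaf 18039092) (.leaf 5255282)) (.node (.leaf 16867645) (.leaf 9085625))) (.node (.node (.leaf 4169864) (.leaf 3072452)) (.node (.leaf 4047429) (.leaf 15134991)))))) (.node (.node (.node (.node (.node (.node (.leaf 2491050)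 (.leaf 9625987)) (.leaf 11887083)) (.node (.leaf 11248222) (.leaf 9806549))) (.node (.node (.leaf 8552825) (.leaf 5935634)) (.node (.leaf 18145945) (.leaf 11132989)))) (.node (.node (.node (.node (.leaf 6558297) (.leaf 3813518)) (.leaf 18251916)) (.node (.leaf 17142296) (.leaf 7577934))) (.node (.node (.leaf 10317905) (.leaf 11510336)) (.node (.leaf 3895531) (.leaf 275136))))) (.node (.node (.node (.node (.node (.leaf 6438940) (.leaf 2482448)) (.leaf 17469743)) (.node (.leaf 7286989) (.leaf 3932678))) (.node (.node (.leaf 3235985) (.leaf 11501687)) (.node (.leaf 10260930) (.leaf 5554247)))) (.node (.node (.node (.leaf 3682714) (.leaf 6869483)) (.node (.leaf 1126689) (.leaf 8209075))) (.node (.node (.leaf 4665776) (.leaf 14676092)) (.node (.leaf 205332) (.leaf 5526013)))))))))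

def threeMv4389 : Janko.Tree (ℕ) :=
  (.node (.node (.node (.node (.node (.node (.node (.node (.node (.leaf 2560661) (.leaf 14352968)) (.leaf 41276)) (.node (.leaf 2224188) (.leaf 897715))) (.node (.node (.leaf 111227) (.leaf 1016180)) (.node (.leaf 16634258) (.leaf 9191915)))) (.node (.node (.node (.node (.leaf 17490552) (.leaf 12247246)) (.leaf 377176)) (.node (.leaf 14152369) (.leaf 14348693))) (.node (.node (.leaf 15975061) (.leaf 7041183)) (.node (.leaf 467090) (.leaf 16032132))))) (.node (.node (.node (.node (.node (.leaf 10519126) (.leaf 7389835)) (.leaf 8601945)) (.node (.leaf 18080175) (.leaf 9109623))) (.node (.node (.leaf 4579392) (.leaf 17703517)) (.node (.leaf 9916729) (.leaf 2990631)))) (.node (.node (.node (.leaf 16457764) (.leaf 675968)) (.node (.leaf 5804752) (.leaf 13669042))) (.node (.node (.leaf 909727) (.leaf 11997302)) (.node (.leaf 13926724) (.leaf 5812887)))))) (.node (.node (.node (.node (.node (.node (.leaf 6460105) (.leaf 9786014)) (.leaf 15344130)) (.node (.leaf 15765874) (.leaf 586447))) (.node (.node (.leaf 368850) (.leaf 15192566))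 (.node (.leaf 454718) (.leaf 18047359)))) (.node (.node (.node (.node (.leaf 17850701) (.leaf 5210220)) (.leaf 4976922)) (.node (.leaf 13729875) (.leaf 6635589))) (.node (.node (.leaf 13476555) (.leaf 17727496)) (.node (.leaf 8921471) (.leaf 1712730))))) (.node (.node (.node (.node (.node (.leaf 9716402) (.leaf 938344)) (.leaf 12489284)) (.node (.leaf 10703505) (.leaf 8880833))) (.node (.node (.leaf 4739331) (.leaf 14918233)) (.node (.leaf 5562869) (.leaf 17006990)))) (.node (.node (.node (.leaf 7455309) (.leaf 15507499)) (.node (.leaf 6549879) (.leaf 3928319))) (.node (.node (.leaf 1040856) (.leaf 3093127)) (.node (.leaf 16019705) (.leaf 16482986))))))) (.node (.node (.node (.node (.node (.node (.node (.leaf 3129526) (.leaf 12661214)) (.leaf 5956190)) (.node (.leaf 14819648) (.leaf 10985496))) (.node (.node (.leaf 14029317) (.leaf 18248375)) (.node (.leaf 7971416) (.leaf 983394)))) (.node (.node (.node (.node (.leaf 11383367) (.leaf 3706995)) (.leaf 697017)) (.node (.leaf 5046698) (.leaf 10023133))) (.node (.node (.leaf 17183229) (.leaf 17563753)) (.node (.leaf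 10297400) (.leaf 8810777))))) (.node (.node (.node (.node (.node (.leaf 17887432) (.leaf 7733273)) (.leaf 8974634)) (.node (.leaf 15819197) (.leaf 15958291))) (.node (.node (.leaf 3485828) (.leaf 13451565)) (.node (.leaf 3588473) (.leaf 1028218)))) (.node (.node (.node (.leaf 15241434) (.leaf 4141266)) (.node (.leaf 11416032) (.leaf 13693134))) (.node (.node (.leaf 17981818) (.leaf 6824374)) (.node (.leaf 5235233) (.leaf 10171034)))))) (.node (.node (.node (.node (.node (.node (.leaf 880950) (.leaf 7475515)) (.leaf 9982161)) (.node (.leaf 18211432) (.leaf 12755126))) (.node (.node (.leaf 17592783) (.leaf 13701528)) (.node (.leaf 1011903) (.leaf 18268707)))) (.node (.node (.node (.node (.leaf 16048431) (.leaf 10219753)) (.leaf 4272523)) (.node (.leaf 10322112) (.leaf 840226))) (.node (.node (.leaf 6128120) (.leaf 8376569)) (.node (.leaf 9068704) (.leaf 9838837))))) (.node (.node (.node (.node (.node (.leaf 6414407) (.leaf 12607770)) (.leaf 3187201)) (.node (.leaf 70213) (.leaf 15884473))) (.node (.node (.leaf 17244507) (.leaf 18333729)) (.node (.leaf 1683609)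 (.leaf 15220779)))) (.node (.node (.node (.leaf 3739756) (.leaf 14528677)) (.node (.leaf 4542719) (.leaf 11657889))) (.node (.node (.leaf 10371789) (.leaf 16355854)) (.node (.leaf 15458320) (.leaf 14655895)))))))) (.node (.node (.node (.node (.node (.node (.node (.node (.leaf 12370476) (.leaf 7987906)) (.leaf 12792140)) (.node (.leaf 4874968) (.leaf 709322))) (.node (.node (.leaf 7541065) (.leaf 10637702)) (.node (.leaf 8708445) (.leaf 1122763)))) (.node (.node (.node (.node (.leaf 323951) (.leaf 10670191)) (.leaf 10117645)) (.node (.leaf 8983195) (.leaf 11399189))) (.node (.node (.leaf 16642264) (.leaf 14705348)) (.node (.leaf 11481526) (.leaf 17891987))))) (.node (.node (.node (.node (.node (.leaf 16175509) (.leaf 10911922)) (.leaf 2536000)) (.node (.leaf 4505992) (.leaf 3633546))) (.node (.node (.leaf 540815) (.leaf 2704014)) (.node (.leaf 5079442) (.leaf 18084254)))) (.node (.node (.node (.leaf 11252058) (.leaf 5226551)) (.node (.leaf 14586220) (.leaf 4006294))) (.node (.node (.leaf 17109069) (.leaf 3309611)) (.node (.leaf 6984136) (.leaf 9212616)))))) (.node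 (.node (.node (.node (.node (.node (.leaf 13684995) (.leaf 7418515)) (.leaf 14524960)) (.node (.leaf 13197546) (.leaf 9462258))) (.node (.node (.leaf 9158948) (.leaf 4473077)) (.node (.leaf 3621202) (.leaf 17203760)))) (.node (.node (.node (.node (.leaf 7602442) (.leaf 3363364)) (.leaf 13021869)) (.node (.leaf 7131826) (.leaf 86354))) (.node (.node (.leaf 15487376) (.leaf 13660739)) (.node (.leaf 8454718) (.leaf 8888447))))) (.node (.node (.node (.node (.node (.leaf 2699785) (.leaf 10047550)) (.leaf 17756336)) (.node (.leaf 6463788) (.leaf 16158963))) (.node (.node (.leaf 12284462) (.leaf 57874)) (.node (.leaf 3719820) (.leaf 15393106)))) (.node (.node (.node (.leaf 1454713) (.leaf 16015960)) (.node (.leaf 6873588) (.leaf 1655061))) (.node (.node (.leaf 11711022) (.leaf 2695301)) (.node (.leaf 2814134) (.leaf 17584616))))))) (.node (.node (.node (.node (.node (.node (.node (.leaf 2167499) (.leaf 15225115)) (.leaf 14369430)) (.node (.leaf 1536567) (.leaf 2498927))) (.node (.node (.leaf 15786144) (.leaf 14623406)) (.node (.leaf 5796305) (.leaf 11546900)))) (.node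 (.node (.node (.node (.leaf 578052) (.leaf 7057998)) (.leaf 3809403)) (.node (.leaf 12767655) (.leaf 15462953))) (.node (.node (.leaf 8528579) (.leaf 14438512)) (.node (.leaf 3231921) (.leaf 8540425))))) (.node (.node (.node (.node (.node (.leaf 16884071) (.leaf 7701207)) (.leaf 7778639)) (.node (.leaf 14389658) (.leaf 17547653))) (.node (.node (.leaf 13828426) (.leaf 7385714)) (.node (.leaf 10035563) (.leaf 905761)))) (.node (.node (.node (.leaf 3326572) (.leaf 13251165)) (.node (.leaf 10932874) (.leaf 12472876))) (.node (.node (.leaf 8937474) (.leaf 17232464)) (.node (.leaf 6906078) (.leaf 6226028)))))) (.node (.node (.node (.node (.node (.node (.leaf 5623963) (.leaf 8479105)) (.leaf 4091928)) (.node (.leaf 12505745) (.leaf 18161857))) (.node (.node (.leaf 74087) (.leaf 6541490)) (.node (.leaf 10531299) (.leaf 10207599)))) (.node (.node (.node (.node (.leaf 8073572) (.leaf 2121857)) (.leaf 7020660)) (.node (.leaf 10859136) (.leaf 17358999))) (.node (.node (.leaf 15291018) (.leaf 13316701)) (.node (.leaf 1868203) (.leaf 8659199))))) (.node (.node (.node (.node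 (.node (.leaf 15704556) (.leaf 14356600)) (.leaf 757786)) (.node (.leaf 4948369) (.leaf 17572424))) (.node (.node (.leaf 13836600) (.leaf 5087819)) (.node (.leaf 11141614) (.leaf 9576906)))) (.node (.node (.node (.leaf 8245794) (.leaf 4412116)) (.node (.leaf 5833171) (.leaf 2048197))) (.node (.node (.leaf 6046358) (.leaf 11198521)) (.node (.leaf 4968967) (.leaf 7712913)))))))))

def threeMv43810 : Janko.Tree (ℕ) :=
  (.node (.node (.node (.node (.node (.node (.node (.node (.node (.leaf 565832) (.leaf 16097679)) (.leaf 1474727)) (.node (.leaf 13742343) (.leaf 6181023))) (.node (.node (.leaf 5550636) (.leaf 10719675)) (.node (.leaf 11841610) (.leaf 11514287)))) (.node (.node (.node (.node (.leaf 17863170) (.leaf 10608933)) (.leaf 11608762)) (.node (.leaf 18305490) (.leaf 12345829))) (.node (.node (.leaf 16052448) (.leaf 2961648)) (.node (.leaf 9679071) (.leaf 16888174))))) (.node (.node (.node (.node (.node (.leaf 8426079) (.leaf 10277035)) (.leaf 1548716)) (.node (.leaf 2859061) (.leaf 11870907))) (.node (.node (.leaf 979660) (.leaf 12063339)) (.node (.leaf 11006298)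 (.leaf 13038107)))) (.node (.node (.node (.leaf 860786) (.leaf 3567945)) (.node (.leaf 7917752) (.leaf 3879583))) (.node (.node (.leaf 15454738) (.leaf 13894210)) (.node (.leaf 13206027) (.leaf 16572581)))))) (.node (.node (.node (.node (.node (.node (.leaf 17678714) (.leaf 17334954)) (.leaf 9900040)) (.node (.leaf 6029843) (.leaf 4927560))) (.node (.node (.leaf 8221099) (.leaf 14774572)) (.node (.leaf 12112471) (.leaf 8557089)))) (.node (.node (.node (.node (.leaf 17523335) (.leaf 2125946)) (.leaf 2334848)) (.node (.leaf 2208331) (.leaf 492224))) (.node (.node (.leaf 3113532) (.leaf 6811941)) (.node (.leaf 15204819) (.leaf 4493704))))) (.node (.node (.node (.node (.node (.leaf 13333068) (.leaf 12853311)) (.leaf 12161605)) (.node (.leaf 303659) (.leaf 1560650))) (.node (.node (.leaf 2846746) (.leaf 7840265)) (.node (.leaf 2576697) (.leaf 7307522)))) (.node (.node (.node (.leaf 17269041) (.leaf 8155209)) (.node (.leaf 1753096) (.leaf 17285530))) (.node (.node (.leaf 6709612) (.leaf 11907549)) (.node (.leaf 15065731) (.leaf 3375727))))))) (.node (.node (.node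 (.node (.node (.node (.node (.leaf 872875) (.leaf 1462276)) (.leaf 12198258)) (.node (.leaf 16822476) (.leaf 7168332))) (.node (.node (.leaf 9273648) (.leaf 17195086)) (.node (.leaf 14827567) (.leaf 18141750)))) (.node (.node (.node (.node (.leaf 1151474) (.leaf 18019029)) (.leaf 12017973)) (.node (.leaf 3457095) (.leaf 7344767))) (.node (.node (.leaf 15577719) (.leaf 8339985)) (.node (.leaf 8536259) (.leaf 15433983))))) (.node (.node (.node (.node (.node (.leaf 2793937) (.leaf 5103844)) (.leaf 15479324)) (.node (.leaf 17043843) (.leaf 11944190))) (.node (.node (.leaf 9605627) (.leaf 8356200)) (.node (.leaf 655682) (.leaf 10998061)))) (.node (.node (.node (.leaf 2024141) (.leaf 102551)) (.node (.leaf 5427326) (.leaf 1118629))) (.node (.node (.leaf 8847641) (.leaf 4895086)) (.node (.leaf 5378483) (.leaf 10752215)))))) (.node (.node (.node (.node (.node (.node (.leaf 3998282) (.leaf 10027267)) (.leaf 5767360)) (.node (.leaf 1380403) (.leaf 8446175))) (.node (.node (.leaf 17191171) (.leaf 6009394)) (.node (.leaf 11083928) (.leaf 11567197)))) (.node (.node (.node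 (.node (.leaf 6033986) (.leaf 4235627)) (.leaf 12787966)) (.node (.leaf 1421575) (.leaf 11485891))) (.node (.node (.leaf 8585585) (.leaf 5456471)) (.node (.leaf 5698006) (.leaf 16142759))))) (.node (.node (.node (.node (.node (.leaf 9560202) (.leaf 5861389)) (.leaf 4510389)) (.node (.leaf 11116750) (.leaf 7471756))) (.node (.node (.leaf 1532037) (.leaf 3064393)) (.node (.leaf 266670) (.leaf 3051871)))) (.node (.node (.node (.leaf 13603004) (.leaf 741711)) (.node (.leaf 10543449) (.leaf 14004254))) (.node (.node (.leaf 8950374) (.leaf 10269128)) (.node (.leaf 12955997) (.leaf 16716157)))))))) (.node (.node (.node (.node (.node (.node (.node (.node (.leaf 2850914) (.leaf 9408725)) (.leaf 9842788)) (.node (.leaf 4403847) (.leaf 3207523))) (.node (.node (.leaf 9032323) (.leaf 6721894)) (.node (.leaf 9187869) (.leaf 1237332)))) (.node (.node (.node (.node (.leaf 11092143) (.leaf 8061646)) (.leaf 4342246)) (.node (.leaf 6492179) (.leaf 430308))) (.node (.node (.leaf 16806405) (.leaf 6955142)) (.node (.leaf 10428429) (.leaf 9658540))))) (.node (.node (.node (.node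 (.node (.leaf 1909373) (.leaf 15413411)) (.leaf 7832247)) (.node (.leaf 14127247) (.leaf 16171518))) (.node (.node (.leaf 4837919) (.leaf 12476824)) (.node (.leaf 2363442) (.leaf 16126400)))) (.node (.node (.node (.leaf 16584751) (.leaf 7422185)) (.node (.leaf 3981940) (.leaf 5337735))) (.node (.node (.leaf 7954488) (.leaf 15802723)) (.node (.leaf 299450) (.leaf 15401533)))))) (.node (.node (.node (.node (.node (.node (.leaf 13422942) (.leaf 9966186)) (.leaf 549244)) (.node (.leaf 13324856) (.leaf 147809))) (.node (.node (.leaf 7631431) (.leaf 12931297)) (.node (.leaf 14000538) (.leaf 10924638)))) (.node (.node (.node (.node (.leaf 7709324) (.leaf 12362337)) (.leaf 16429663)) (.node (.leaf 16486819) (.leaf 8393))) (.node (.node (.leaf 1831321) (.leaf 2142820)) (.node (.leaf 6082750) (.leaf 2998789))))) (.node (.node (.node (.node (.node (.leaf 13177116) (.leaf 5681282)) (.leaf 14332488)) (.node (.leaf 3748024) (.leaf 8987141))) (.node (.node (.leaf 1741265) (.leaf 3428708)) (.node (.leaf 13504686) (.leaf 16400846)))) (.node (.node (.node (.leaf 15446067) (.leaf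 815563)) (.node (.leaf 9236874) (.leaf 287393))) (.node (.node (.leaf 5074951) (.leaf 6406664)) (.node (.leaf 16650314) (.leaf 12849781))))))) (.node (.node (.node (.node (.node (.node (.node (.leaf 4702457) (.leaf 9826860)) (.leaf 13218401)) (.node (.leaf 16077492) (.leaf 17543617))) (.node (.node (.leaf 16253596) (.leaf 7053847)) (.node (.leaf 5939912) (.leaf 5218987)))) (.node (.node (.node (.node (.leaf 13705502) (.leaf 14811567)) (.leaf 16908643)) (.node (.leaf 15266389) (.leaf 16630404))) (.node (.node (.leaf 6562183) (.leaf 9663023)) (.node (.leaf 14725492) (.leaf 3752585))))) (.node (.node (.node (.node (.node (.leaf 8114580) (.leaf 4129386)) (.leaf 17453548)) (.node (.leaf 9359712) (.leaf 3526979))) (.node (.node (.leaf 5894479) (.leaf 7880939)) (.node (.leaf 11436729) (.leaf 11575784)))) (.node (.node (.node (.leaf 15995561) (.leaf 8163542)) (.node (.leaf 13611580) (.leaf 4337777))) (.node (.node (.leaf 17780992) (.leaf 10265276)) (.node (.leaf 5443987) (.leaf 9511006)))))) (.node (.node (.node (.node (.node (.node (.leaf 8212747) (.leaf 15270467))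 (.leaf 14098591)) (.node (.leaf 7799436) (.leaf 15356228))) (.node (.node (.leaf 1499552) (.leaf 18055760)) (.node (.leaf 7643454) (.leaf 3727776)))) (.node (.node (.node (.node (.leaf 15950454) (.leaf 14873077)) (.leaf 17625193)) (.node (.leaf 3477508) (.leaf 6070881))) (.node (.node (.leaf 15945732) (.leaf 1966479)) (.node (.leaf 16035970) (.leaf 2986712))))) (.node (.node (.node (.node (.node (.leaf 13554220) (.leaf 2515309)) (.leaf 14823772)) (.node (.leaf 11309135) (.leaf 7442700))) (.node (.node (.leaf 2843061) (.leaf 6455578)) (.node (.leaf 14508690) (.leaf 16281826)))) (.node (.node (.node (.leaf 1081427) (.leaf 15515836)) (.node (.leaf 3887712) (.leaf 15708606))) (.node (.node (.leaf 10334534) (.leaf 561726)) (.node (.leaf 17207650) (.leaf 9044572)))))))))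

def threeMv43811 : Janko.Tree (ℕ) :=
  (.node (.node (.node (.node (.node (.node (.node (.node (.node (.leaf 9621606) (.leaf 14880990)) (.leaf 14139555)) (.node (.leaf 7004477) (.leaf 1008311))) (.node (.node (.leaf 4210868) (.leaf 229423)) (.node (.leaf 16085361) (.leaf 14123087)))) (.node (.node (.node (.node (.leaf 17985841) (.leaf 13312179)) (.leaf 7610967)) (.node (.leaf 6238872) (.leaf 8257668))) (.node (.node (.leaf 9548114) (.leaf 10953221)) (.node (.leaf 11150007) (.leaf 6992265))))) (.node (.node (.node (.node (.node (.leaf 3108938) (.leaf 7098378)) (.leaf 2449515)) (.node (.leaf 2404538) (.leaf 13369388))) (.node (.node (.leaf 364772) (.leaf 8499718)) (.node (.leaf 7877263) (.leaf 14401895)))) (.node (.node (.node (.leaf 856294) (.leaf 5661388)) (.node (.leaf 12337364) (.leaf 16318945))) (.node (.node (.leaf 11632903) (.leaf 1085592)) (.node (.leaf 16740540) (.leaf 10109524)))))) (.node (.node (.node (.node (.node (.node (.leaf 17965477) (.leaf 12075380)) (.leaf 16839337)) (.node (.leaf 8228927) (.leaf 13873432))) (.node (.node (.leaf 18075876) (.leaf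 3171026)) (.node (.leaf 8802560) (.leaf 2728507)))) (.node (.node (.node (.node (.leaf 4919532) (.leaf 5178014)) (.leaf 16708029)) (.node (.leaf 13046250) (.leaf 3953032))) (.node (.node (.leaf 635347) (.leaf 7803070)) (.node (.leaf 1892604) (.leaf 11313263))))) (.node (.node (.node (.node (.node (.leaf 9183274) (.leaf 5362350)) (.leaf 8101970)) (.node (.leaf 11345981) (.leaf 14864868))) (.node (.node (.leaf 13307977) (.leaf 4088168)) (.node (.leaf 3395878) (.leaf 2605528)))) (.node (.node (.node (.leaf 2478780) (.leaf 17039650)) (.node (.leaf 12632073) (.leaf 10936481))) (.node (.node (.leaf 11845737) (.leaf 4362766)) (.node (.leaf 11338141) (.leaf 12583110))))))) (.node (.node (.node (.node (.node (.node (.node (.leaf 176645) (.leaf 17072802)) (.leaf 8573399)) (.node (.leaf 9330890) (.leaf 2437314))) (.node (.node (.leaf 3346442) (.leaf 17555916)) (.node (.leaf 15696031) (.leaf 15896923)))) (.node (.node (.node (.node (.leaf 11825608) (.leaf 12096015)) (.leaf 9613645)) (.node (.leaf 2068677) (.leaf 1376543))) (.node (.node (.leaf 15180173) (.leaf 16977929))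 (.node (.leaf 12406836) (.leaf 9224622))))) (.node (.node (.node (.node (.node (.leaf 5919440) (.leaf 10100766)) (.leaf 16687278)) (.node (.leaf 10014814) (.leaf 4174235))) (.node (.node (.leaf 12394908) (.leaf 13328400)) (.node (.leaf 3367043) (.leaf 8609844)))) (.node (.node (.node (.leaf 12456438) (.leaf 14553799)) (.node (.leaf 8319361) (.leaf 11162033))) (.node (.node (.leaf 12149417) (.leaf 458919)) (.node (.leaf 6484690) (.leaf 13075009)))))) (.node (.node (.node (.node (.node (.node (.leaf 6037552) (.leaf 8544848)) (.leaf 15011898)) (.node (.leaf 13385978) (.leaf 17154075))) (.node (.node (.leaf 3060075) (.leaf 9142336)) (.node (.leaf 8306715) (.leaf 12709965)))) (.node (.node (.node (.node (.leaf 10657928) (.leaf 17305865)) (.leaf 3338293)) (.node (.leaf 4854252) (.leaf 2916886))) (.node (.node (.leaf 2277485) (.leaf 98447)) (.node (.leaf 7278629) (.leaf 17842899))))) (.node (.node (.node (.node (.node (.leaf 7590269) (.leaf 1691774)) (.leaf 2101318)) (.node (.leaf 3285073) (.leaf 1528326))) (.node (.node (.leaf 9015439) (.leaf 15688243)) (.node (.leaf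 2802367) (.leaf 17526880)))) (.node (.node (.node (.leaf 8991358) (.leaf 10813976)) (.node (.leaf 14434369) (.leaf 8056847))) (.node (.node (.leaf 12820952) (.leaf 4239376)) (.node (.leaf 4923467) (.leaf 17834392)))))))) (.node (.node (.node (.node (.node (.node (.node (.node (.leaf 12022241) (.leaf 10432767)) (.leaf 15475410)) (.node (.leaf 14360856) (.leaf 8511729))) (.node (.node (.leaf 16728344) (.leaf 16450113)) (.node (.leaf 3973141) (.leaf 17932469)))) (.node (.node (.node (.node (.leaf 18240102) (.leaf 2593094)) (.leaf 15151478)) (.node (.leaf 4768266) (.leaf 18260560))) (.node (.node (.leaf 12771612) (.leaf 18236039)) (.node (.leaf 237630) (.leaf 258597))))) (.node (.node (.node (.node (.node (.leaf 10490520) (.leaf 5460514)) (.leaf 16220235)) (.node (.leaf 13795431) (.leaf 15847491))) (.node (.node (.leaf 12308482) (.leaf 168021)) (.node (.leaf 12984927) (.leaf 3162817)))) (.node (.node (.node (.leaf 9847089) (.leaf 4727288)) (.node (.leaf 1581134) (.leaf 4661375))) (.node (.node (.leaf 10424916) (.leaf 12616254)) (.node (.leaf 7791192) (.leaf 4407912))))))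 (.node (.node (.node (.node (.node (.node (.leaf 14803511) (.leaf 7037449)) (.leaf 950829)) (.node (.leaf 14242363) (.leaf 4374970))) (.node (.node (.leaf 10662189) (.leaf 14102547)) (.node (.leaf 16900452) (.leaf 12227045)))) (.node (.node (.node (.node (.leaf 3048071) (.leaf 6554278)) (.leaf 6099365)) (.node (.leaf 13259215) (.leaf 8814886))) (.node (.node (.leaf 11473541) (.leaf 18194734)) (.node (.leaf 8871958) (.leaf 5399201))))) (.node (.node (.node (.node (.node (.leaf 8347758) (.leaf 692784)) (.leaf 1786570)) (.node (.leaf 11497729) (.leaf 11325474))) (.node (.node (.leaf 8647141) (.leaf 7073970)) (.node (.leaf 13246487) (.leaf 1433719)))) (.node (.node (.node (.leaf 10437169) (.leaf 3899875)) (.node (.leaf 13443472) (.leaf 13959380))) (.node (.node (.leaf 12243324) (.leaf 14065914)) (.node (.leaf 5640650) (.leaf 16691752))))))) (.node (.node (.node (.node (.node (.node (.node (.leaf 11747567) (.leaf 10740418)) (.leaf 10473986)) (.node (.leaf 7049417) (.leaf 831858))) (.node (.node (.leaf 12837394) (.leaf 2036255)) (.node (.leaf 3268631) (.leaf 11203076))))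 (.node (.node (.node (.node (.leaf 7655781) (.leaf 15090168)) (.leaf 11157859)) (.node (.leaf 9028158) (.leaf 7205089))) (.node (.node (.leaf 5599781) (.leaf 17662188)) (.node (.leaf 5518030) (.leaf 4555202))))) (.node (.node (.node (.node (.node (.leaf 12657161) (.leaf 4108674)) (.leaf 14336516)) (.node (.leaf 2290358) (.leaf 4292998))) (.node (.node (.leaf 6472294) (.leaf 1962533)) (.node (.leaf 7807230) (.leaf 16056760)))) (.node (.node (.node (.leaf 11805376) (.leaf 12534217)) (.node (.leaf 14688968) (.leaf 14008467))) (.node (.node (.leaf 9699527) (.leaf 495998)) (.node (.leaf 4719320) (.leaf 3022903)))))) (.node (.node (.node (.node (.node (.node (.leaf 1843791) (.leaf 12275975)) (.leaf 2531937)) (.node (.leaf 12951939) (.leaf 12866015))) (.node (.node (.leaf 15069710) (.leaf 6922405)) (.node (.leaf 1650829) (.leaf 10330127)))) (.node (.node (.node (.node (.leaf 2547838) (.leaf 10007159)) (.leaf 1344036)) (.node (.leaf 12812292) (.leaf 12509357))) (.node (.node (.leaf 3797634) (.leaf 10162742)) (.node (.leaf 17408339) (.leaf 2904346))))) (.node (.node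 (.node (.node (.node (.leaf 4325729) (.leaf 16507061)) (.leaf 16040148)) (.node (.leaf 10846648) (.leaf 13029818))) (.node (.node (.leaf 9912820) (.leaf 8704391)) (.node (.leaf 17080661) (.leaf 16683175)))) (.node (.node (.node (.leaf 1315315) (.leaf 10793200)) (.node (.leaf 13775118) (.leaf 13709550))) (.node (.node (.leaf 3138053) (.leaf 3661936)) (.node (.leaf 5095819) (.leaf 4539048)))))))))

def threeMv43812 : Janko.Tree (ℕ) :=
  (.node (.node (.node (.node (.node (.node (.node (.node (.node (.leaf 647459) (.leaf 4083904)) (.leaf 8081799)) (.node (.leaf 2732707) (.leaf 1323621))) (.node (.node (.leaf 17273245) (.leaf 16929354)) (.node (.leaf 1995128) (.leaf 14226040)))) (.node (.node (.node (.node (.leaf 14753884) (.leaf 11342109)) (.leaf 17240135)) (.node (.leaf 4973090) (.leaf 16588954))) (.node (.node (.leaf 4198859) (.leaf 3646052)) (.node (.leaf 12665265) (.leaf 18288677))))) (.node (.node (.node (.node (.node (.leaf 10080853) (.leaf 1171473)) (.leaf 5878369)) (.node (.leaf 15630604) (.leaf 11100865))) (.node (.node (.leaf 1372487) (.leaf 5100164))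 (.node (.leaf 17588332) (.leaf 10572255)))) (.node (.node (.node (.leaf 10961593) (.leaf 4899050)) (.node (.leaf 3297954) (.leaf 463043))) (.node (.node (.leaf 11694322) (.leaf 4063257)) (.node (.leaf 14459401) (.leaf 13930803)))))) (.node (.node (.node (.node (.node (.node (.leaf 7819422) (.leaf 5050940)) (.leaf 14848666)) (.node (.leaf 2932976) (.leaf 3715522))) (.node (.node (.leaf 12128531) (.leaf 14537399)) (.node (.leaf 4997377) (.leaf 15827115)))) (.node (.node (.node (.node (.leaf 8630407) (.leaf 9556348)) (.leaf 14745738)) (.node (.leaf 6467959) (.leaf 2392246))) (.node (.node (.leaf 12136928) (.leaf 8995045)) (.node (.leaf 11600155) (.leaf 483724))))) (.node (.node (.node (.node (.node (.leaf 9155022) (.leaf 8142977)) (.leaf 1757363)) (.node (.leaf 16941170) (.leaf 10768890))) (.node (.node (.leaf 4821511) (.leaf 6017671)) (.node (.leaf 3695249) (.leaf 6111854)))) (.node (.node (.node (.leaf 2302130) (.leaf 5865932)) (.node (.leaf 7639615) (.leaf 959122))) (.node (.node (.leaf 11071855) (.leaf 10134006)) (.node (.leaf 9810402) (.leaf 17158355)))))))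 (.node (.node (.node (.node (.node (.node (.node (.leaf 1614016) (.leaf 17646021)) (.leaf 1225367)) (.node (.leaf 8298820) (.leaf 15593572))) (.node (.node (.leaf 15041036) (.leaf 8687942)) (.node (.leaf 11784436) (.leaf 12976806)))) (.node (.node (.node (.node (.leaf 295129) (.leaf 14852147)) (.leaf 3858863)) (.node (.leaf 2003549) (.leaf 10195384))) (.node (.node (.leaf 10756553) (.leaf 10273146)) (.node (.leaf 15294780) (.leaf 14733414))))) (.node (.node (.node (.node (.node (.leaf 7336086) (.leaf 11088575)) (.leaf 11334240)) (.node (.leaf 10760488) (.leaf 16843066))) (.node (.node (.leaf 6902177) (.leaf 4633124)) (.node (.leaf 17064186) (.leaf 17129480)))) (.node (.node (.node (.leaf 14131806) (.leaf 14196978)) (.node (.leaf 10727822) (.leaf 835656))) (.node (.node (.leaf 7782959) (.leaf 4161809)) (.node (.leaf 3494345) (.leaf 2724004)))))) (.node (.node (.node (.node (.node (.node (.leaf 16089293) (.leaf 16663016)) (.leaf 9097830)) (.node (.leaf 13054481) (.leaf 16937442))) (.node (.node (.leaf 3330282) (.leaf 16470272)) (.node (.leaf 557782) (.leaf 12575046))))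 (.node (.node (.node (.node (.leaf 15262005) (.leaf 8180253)) (.leaf 12034377)) (.node (.leaf 6848966) (.leaf 17260552))) (.node (.node (.leaf 7967129) (.leaf 12386687)) (.node (.leaf 15741273) (.leaf 7585997))))) (.node (.node (.node (.node (.node (.leaf 16478219) (.leaf 17126023)) (.leaf 8020491)) (.node (.leaf 7397450) (.leaf 7123390))) (.node (.node (.leaf 12599689) (.leaf 9921219)) (.node (.leaf 15557230) (.leaf 12120228)))) (.node (.node (.node (.leaf 14258431) (.leaf 4849909)) (.node (.leaf 2822240) (.leaf 7463406))) (.node (.node (.leaf 5808184) (.leaf 9703935)) (.node (.leaf 2150406) (.leaf 10404567)))))))) (.node (.node (.node (.node (.node (.node (.node (.node (.leaf 2900040) (.leaf 4132922)) (.leaf 3772579)) (.node (.leaf 6369876) (.leaf 9355519))) (.node (.node (.leaf 8896737) (.leaf 9523496)) (.node (.leaf 14639467) (.leaf 307258)))) (.node (.node (.node (.node (.leaf 291136) (.leaf 16547897)) (.leaf 3756186)) (.node (.leaf 10801216) (.leaf 10314218))) (.node (.node (.leaf 14512448) (.leaf 1413694)) (.node (.leaf 782437) (.leaf 17088880))))) (.node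 (.node (.node (.node (.node (.leaf 2388285) (.leaf 8106679)) (.leaf 12529716)) (.node (.leaf 6340647) (.leaf 2634101))) (.node (.node (.leaf 7119267) (.leaf 2875423)) (.node (.leaf 8565264) (.leaf 17498697)))) (.node (.node (.node (.leaf 5034506) (.leaf 13631638)) (.node (.leaf 11448767) (.leaf 2519546))) (.node (.node (.leaf 6767223) (.leaf 1331503)) (.node (.leaf 12439596) (.leaf 2400489)))))) (.node (.node (.node (.node (.node (.node (.leaf 2621978) (.leaf 9801984)) (.leaf 9420950)) (.node (.leaf 2216029) (.leaf 7868727))) (.node (.node (.leaf 7565891) (.leaf 6525178)) (.node (.leaf 15573471) (.leaf 8405291)))) (.node (.node (.node (.node (.leaf 6254758) (.leaf 1430154)) (.leaf 4202922)) (.node (.leaf 11883135) (.leaf 13009412))) (.node (.node (.leaf 3731472) (.leaf 1155487)) (.node (.leaf 9261423) (.leaf 10871211))))) (.node (.node (.node (.node (.node (.leaf 5607821) (.leaf 5022319)) (.leaf 2527283)) (.node (.leaf 3891395) (.leaf 16212568))) (.node (.node (.leaf 16818183) (.leaf 8286328)) (.node (.leaf 11493958) (.leaf 7376923)))) (.node (.node (.node (.leaf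 13275144) (.leaf 135896)) (.node (.leaf 7516778) (.leaf 10056285))) (.node (.node (.leaf 1340052) (.leaf 9871476)) (.node (.leaf 3650091) (.leaf 13320657))))))) (.node (.node (.node (.node (.node (.node (.node (.leaf 9519432) (.leaf 6398357)) (.leaf 18272576)) (.node (.leaf 803526) (.leaf 16204174))) (.node (.node (.leaf 4498103) (.leaf 2785500)) (.node (.leaf 10498509) (.leaf 17375940)))) (.node (.node (.node (.node (.leaf 3793407) (.leaf 6054112)) (.leaf 13845119)) (.node (.leaf 16024171) (.leaf 12873998))) (.node (.node (.leaf 7185015) (.leaf 10059989)) (.node (.leaf 13213707) (.leaf 15094335))))) (.node (.node (.node (.node (.node (.leaf 15798640) (.leaf 15417737)) (.leaf 6684764)) (.node (.leaf 17310008) (.leaf 11276464))) (.node (.node (.leaf 17825928) (.leaf 18063965)) (.node (.leaf 11477715) (.leaf 11096740)))) (.node (.node (.node (.leaf 11145678) (.leaf 14409977)) (.node (.leaf 4100600) (.leaf 7758079))) (.node (.node (.leaf 9449692) (.leaf 12464670)) (.node (.leaf 1822820) (.leaf 14205209)))))) (.node (.node (.node (.node (.node (.node (.leaf 14860934)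 (.leaf 7913528)) (.leaf 10625587)) (.node (.leaf 7450749) (.leaf 16515265))) (.node (.node (.leaf 2384481) (.leaf 6316047)) (.node (.leaf 3293714) (.leaf 3150341)))) (.node (.node (.node (.node (.leaf 16179291) (.leaf 6373837)) (.leaf 14135773)) (.node (.leaf 4587992) (.leaf 3506184))) (.node (.node (.leaf 14651924) (.leaf 10654351)) (.node (.leaf 1405262) (.leaf 15778161))))) (.node (.node (.node (.node (.node (.leaf 4993417) (.leaf 17199470)) (.leaf 16527395)) (.node (.leaf 10183179) (.leaf 1745014))) (.node (.node (.leaf 11121041) (.leaf 5308731)) (.node (.leaf 487436) (.leaf 36921)))) (.node (.node (.node (.leaf 14061982) (.leaf 799260)) (.node (.leaf 14712852) (.leaf 16896524))) (.node (.node (.leaf 10449060) (.leaf 11534778)) (.node (.leaf 569775) (.leaf 4116898)))))))))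

def threeMv43813 : Janko.Tree (ℕ) :=
  (.node (.node (.node (.node (.node (.node (.node (.node (.node (.leaf 13287892) (.leaf 7741918)) (.leaf 15970608)) (.node (.leaf 725140) (.leaf 917721))) (.node (.node (.leaf 6730042) (.leaf 6996067)) (.node (.leaf 12624538) (.leaf 2687635)))) (.node (.node (.node (.node (.leaf 8118790) (.leaf 15327241)) (.leaf 6357342)) (.node (.leaf 14213276) (.leaf 2666950))) (.node (.node (.leaf 7692571) (.leaf 5730489)) (.node (.leaf 15319204) (.leaf 17867405))))) (.node (.node (.node (.node (.node (.leaf 3961044) (.leaf 3481807)) (.leaf 11579646)) (.node (.leaf 12919506) (.leaf 6828097))) (.node (.node (.leaf 13427409) (.leaf 18190665)) (.node (.leaf 1196561) (.leaf 3768554)))) (.node (.node (.node (.leaf 6189497) (.leaf 12230764)) (.node (.leaf 1061243) (.leaf 3629194))) (.node (.node (.leaf 6606971) (.leaf 17264656)) (.node (.leaf 4112888) (.leaf 672040)))))) (.node (.node (.node (.node (.node (.node (.leaf 2896470) (.leaf 14967304)) (.leaf 14721455)) (.node (.leaf 15396936) (.leaf 9720208))) (.node (.node (.leaf 1135150) (.leaf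 3305758)) (.node (.leaf 7266677) (.leaf 5628150)))) (.node (.node (.node (.node (.leaf 1819271) (.leaf 18006422)) (.leaf 16167128)) (.node (.leaf 9486438) (.leaf 7786696))) (.node (.node (.leaf 12288492) (.leaf 17424472)) (.node (.leaf 14238248) (.leaf 2351450))))) (.node (.node (.node (.node (.node (.leaf 2081470) (.leaf 13091523)) (.leaf 7553468)) (.node (.leaf 5472643) (.leaf 2396395))) (.node (.node (.leaf 4514514) (.leaf 13881875)) (.node (.leaf 901435) (.leaf 6578616)))) (.node (.node (.node (.leaf 6705311) (.leaf 5702280)) (.node (.leaf 1417710) (.leaf 5284353))) (.node (.node (.leaf 8343653) (.leaf 7295565)) (.node (.leaf 15110221) (.leaf 4186116))))))) (.node (.node (.node (.node (.node (.node (.node (.leaf 17215711) (.leaf 11563689)) (.leaf 6930788)) (.node (.leaf 946724) (.leaf 7537079))) (.node (.node (.leaf 12747162) (.leaf 18182273)) (.node (.leaf 9400320) (.leaf 13635796)))) (.node (.node (.node (.node (.leaf 1192582) (.leaf 14119242)) (.leaf 8217229)) (.node (.leaf 6529033) (.leaf 17605121))) (.node (.node (.leaf 2777621) (.leaf 590216)) (.node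 (.leaf 16380129) (.leaf 4735145))))) (.node (.node (.node (.node (.node (.leaf 5230814) (.leaf 6959111)) (.leaf 4448547)) (.node (.leaf 7090703) (.leaf 4182435))) (.node (.node (.leaf 16150897) (.leaf 11833651)) (.node (.leaf 3518559) (.leaf 16216128)))) (.node (.node (.node (.leaf 15905432) (.leaf 5841061)) (.node (.leaf 10506401) (.leaf 4956430))) (.node (.node (.leaf 2171291) (.leaf 5206251)) (.node (.leaf 9306263) (.leaf 4592263)))))) (.node (.node (.node (.node (.node (.node (.leaf 13624004) (.leaf 9998629)) (.leaf 15811082)) (.node (.leaf 16134172) (.leaf 6005002))) (.node (.node (.leaf 3711629) (.leaf 2298111)) (.node (.leaf 12079748) (.leaf 9495052)))) (.node (.node (.node (.node (.leaf 11350397) (.leaf 10633598)) (.leaf 12775719)) (.node (.leaf 8122502) (.leaf 2220350))) (.node (.node (.leaf 13595131) (.leaf 11518671)) (.node (.leaf 4288742) (.leaf 3240185))))) (.node (.node (.node (.node (.node (.leaf 12059268) (.leaf 17699543)) (.leaf 14340176)) (.node (.leaf 16396934) (.leaf 15147235))) (.node (.node (.leaf 9863750) (.leaf 17961594)) (.node (.leaf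 14291387) (.leaf 8331802)))) (.node (.node (.node (.leaf 15655432) (.leaf 14373546)) (.node (.leaf 13664832) (.leaf 11079789))) (.node (.node (.leaf 4280918) (.leaf 12943591)) (.node (.leaf 16949900) (.leaf 11993701)))))))) (.node (.node (.node (.node (.node (.node (.node (.node (.leaf 2806132) (.leaf 5394907)) (.leaf 6140039)) (.node (.leaf 13799929) (.leaf 17666535))) (.node (.node (.leaf 2367490) (.leaf 3551803)) (.node (.leaf 14381776) (.leaf 11760134)))) (.node (.node (.node (.node (.leaf 1110165) (.leaf 11165769)) (.leaf 17363250)) (.node (.leaf 10941014) (.leaf 5849812))) (.node (.node (.leaf 16777529) (.leaf 6303939)) (.node (.leaf 3915950) (.leaf 8626669))))) (.node (.node (.node (.node (.node (.leaf 14991841) (.leaf 16117807)) (.leaf 15601733)) (.node (.leaf 14987672) (.leaf 16163209))) (.node (.node (.leaf 10563666) (.leaf 6308281)) (.node (.leaf 16532146) (.leaf 11370629)))) (.node (.node (.node (.leaf 3965019) (.leaf 16138557)) (.node (.leaf 500290) (.leaf 6120061))) (.node (.node (.leaf 4190329) (.leaf 393576)) (.node (.leaf 1749137) (.leaf 1507886))))))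 (.node (.node (.node (.node (.node (.node (.leaf 14884931) (.leaf 8159518)) (.leaf 8089984)) (.node (.leaf 12693866) (.leaf 7025343))) (.node (.node (.leaf 2978282) (.leaf 5374498)) (.node (.leaf 7647625) (.leaf 11800750)))) (.node (.node (.node (.node (.leaf 13238701) (.leaf 10158351)) (.leaf 16060865)) (.node (.leaf 12300598) (.leaf 2994351))) (.node (.node (.leaf 7872999) (.leaf 8409664)) (.node (.leaf 16674963) (.leaf 13541454))))) (.node (.node (.node (.node (.node (.leaf 7045213) (.leaf 8532420)) (.leaf 10789499)) (.node (.leaf 3490049) (.leaf 18280471))) (.node (.node (.leaf 823464) (.leaf 11153667)) (.node (.leaf 8643212) (.leaf 1720970)))) (.node (.node (.node (.leaf 8471192) (.leaf 3277238)) (.node (.leaf 6570306) (.leaf 7897571))) (.node (.node (.leaf 13791236) (.leaf 12861612)) (.node (.leaf 5419659) (.leaf 17047791))))))) (.node (.node (.node (.node (.node (.node (.node (.leaf 6058162) (.leaf 14647640)) (.leaf 1602121)) (.node (.leaf 5108003) (.leaf 12882440))) (.node (.node (.leaf 13676921) (.leaf 15257762)) (.node (.leaf 5431687) (.leaf 7533250))))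 (.node (.node (.node (.node (.leaf 1097908) (.leaf 4764320)) (.leaf 2969712)) (.node (.leaf 2130359) (.leaf 13480309))) (.node (.node (.leaf 13549659) (.leaf 2863804)) (.node (.leaf 11698207) (.leaf 1704232))))) (.node (.node (.node (.node (.node (.leaf 4559303) (.leaf 17551371)) (.leaf 3342925)) (.node (.leaf 10289485) (.leaf 6582553))) (.node (.node (.leaf 9831100) (.leaf 4223318)) (.node (.leaf 8192237) (.leaf 2543812)))) (.node (.node (.node (.leaf 12972416) (.leaf 10216017)) (.node (.leaf 5579445) (.leaf 8819056))) (.node (.node (.leaf 3592735) (.leaf 4243870)) (.node (.leaf 942416) (.leaf 3969274)))))) (.node (.node (.node (.node (.node (.node (.leaf 2589270) (.leaf 3903689)) (.leaf 3211669)) (.node (.leaf 1958446) (.leaf 1953940))) (.node (.node (.leaf 2789646) (.leaf 14168253)) (.node (.leaf 8675870) (.leaf 6877219)))) (.node (.node (.node (.node (.leaf 4678313) (.leaf 7671904)) (.leaf 7823910)) (.node (.leaf 7102922) (.leaf 13181249))) (.node (.node (.leaf 4878382) (.leaf 9232968)) (.node (.leaf 114929) (.leaf 10191135))))) (.node (.node (.node (.node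 (.node (.leaf 16556628) (.leaf 12829383)) (.leaf 5402991)) (.node (.leaf 12686005) (.leaf 9630317))) (.node (.node (.leaf 10076683) (.leaf 5530076)) (.node (.leaf 13923025) (.leaf 4841642)))) (.node (.node (.node (.leaf 7848125) (.leaf 1359977)) (.node (.leaf 17949077) (.leaf 9298619))) (.node (.node (.leaf 9781576) (.leaf 5620021)) (.node (.leaf 17105413) (.leaf 11104301)))))))))

def threeMv43814 : Janko.Tree (ℕ) :=
  (.node (.node (.node (.node (.node (.node (.node (.node (.node (.leaf 10764898) (.leaf 10129644)) (.leaf 11829457)) (.node (.leaf 151676) (.leaf 10715677))) (.node (.node (.leaf 8945724) (.leaf 14451339)) (.node (.leaf 1409403) (.leaf 11211473)))) (.node (.node (.node (.node (.leaf 2674959) (.leaf 18215428)) (.leaf 17371598)) (.node (.leaf 14033523) (.leaf 16069084))) (.node (.node (.leaf 10604747) (.leaf 6779096)) (.node (.leaf 13107759) (.leaf 15917526))))) (.node (.node (.node (.node (.node (.leaf 16445984) (.leaf 4825210)) (.leaf 4903183)) (.node (.leaf 16786097) (.leaf 7303759))) (.node (.node (.leaf 6021516) (.leaf 618656)) (.node (.leaf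 11551066) (.leaf 16454356)))) (.node (.node (.node (.leaf 16658435) (.leaf 8290951)) (.node (.leaf 14979720) (.leaf 3416711))) (.node (.node (.leaf 3322414) (.leaf 3260980)) (.node (.leaf 14955100) (.leaf 11809472)))))) (.node (.node (.node (.node (.node (.node (.leaf 9122410) (.leaf 10945158)) (.leaf 8417531)) (.node (.leaf 6291925) (.leaf 6914271))) (.node (.node (.leaf 4334238) (.leaf 13434971)) (.node (.leaf 17810112) (.leaf 14307563)))) (.node (.node (.node (.node (.leaf 8524256) (.leaf 17465851)) (.leaf 18096737)) (.node (.leaf 385082) (.leaf 3142195))) (.node (.node (.leaf 1278376) (.leaf 6943147)) (.node (.leaf 7340303) (.leaf 16273632))))) (.node (.node (.node (.node (.node (.leaf 5816942) (.leaf 3223631)) (.leaf 2183576)) (.node (.leaf 12927108) (.leaf 1105973))) (.node (.node (.leaf 16986196) (.leaf 15790429)) (.node (.leaf 17952897) (.leaf 14480087)))) (.node (.node (.node (.leaf 6672596) (.leaf 8761702)) (.node (.leaf 8085684) (.leaf 11637414))) (.node (.node (.leaf 16007580) (.leaf 15634798)) (.node (.leaf 32969) (.leaf 6353192))))))) (.node (.node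 (.node (.node (.node (.node (.node (.leaf 5997234) (.leaf 17281308)) (.leaf 9056941)) (.node (.leaf 602128) (.leaf 3559490))) (.node (.node (.leaf 8655349) (.leaf 2892303)) (.node (.leaf 11895426) (.leaf 7975129)))) (.node (.node (.node (.node (.leaf 16003157) (.leaf 5754976)) (.leaf 1876535)) (.node (.leaf 10982008) (.leaf 598742))) (.node (.node (.leaf 14897772) (.leaf 15814868)) (.node (.leaf 15429635) (.leaf 2331114))))) (.node (.node (.node (.node (.node (.leaf 15348186) (.leaf 12103862)) (.leaf 4546954)) (.node (.leaf 8618382) (.leaf 9072983))) (.node (.node (.leaf 1904727) (.leaf 11284903)) (.node (.leaf 12497148) (.leaf 11624955)))) (.node (.node (.node (.leaf 14115349) (.leaf 17396220)) (.node (.leaf 14983865) (.leaf 1032641))) (.node (.node (.leaf 5890394) (.leaf 1090201)) (.node (.leaf 10399837) (.leaf 7762222)))))) (.node (.node (.node (.node (.node (.node (.leaf 9458031) (.leaf 9490761)) (.leaf 975052)) (.node (.leaf 5722316) (.leaf 5657202))) (.node (.node (.leaf 13389864) (.leaf 3244613)) (.node (.leaf 3412081) (.leaf 6632018)))) (.node (.node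 (.node (.node (.leaf 9322961) (.leaf 8315223)) (.leaf 2282014)) (.node (.leaf 15020396) (.leaf 9364099))) (.node (.node (.leaf 7623059) (.leaf 6865507)) (.node (.leaf 14869055) (.leaf 7938373))))) (.node (.node (.node (.node (.node (.leaf 13906374) (.leaf 14176735)) (.leaf 356996)) (.node (.leaf 11305064) (.leaf 5567124))) (.node (.node (.leaf 3461500) (.leaf 17178971)) (.node (.leaf 3723759) (.leaf 6701601)))) (.node (.node (.node (.leaf 13615152) (.leaf 14533305)) (.node (.leaf 9433356) (.leaf 10031798))) (.node (.node (.leaf 7865047) (.leaf 9945238)) (.node (.leaf 18243869) (.leaf 9138846)))))))) (.node (.node (.node (.node (.node (.node (.node (.node (.leaf 2420962) (.leaf 9691620)) (.leaf 4575319)) (.node (.leaf 6795894) (.leaf 18043568))) (.node (.node (.leaf 4846253) (.leaf 15782209)) (.node (.leaf 8807071) (.leaf 8077464)))) (.node (.node (.node (.node (.leaf 3018845) (.leaf 5259830)) (.leaf 14467461)) (.node (.leaf 16314757) (.leaf 13537305))) (.node (.node (.leaf 17957178) (.leaf 5869916)) (.node (.leaf 90294) (.leaf 13152437))))) (.node (.node (.node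 (.node (.node (.leaf 4784168) (.leaf 8737236)) (.leaf 1917487)) (.node (.leaf 10903745) (.leaf 18153793))) (.node (.node (.leaf 2286243) (.leaf 17830086)) (.node (.leaf 2601194) (.leaf 5587359)))) (.node (.node (.node (.leaf 7127602) (.leaf 18129116)) (.node (.leaf 9617904) (.leaf 3215392))) (.node (.node (.leaf 15736876) (.leaf 11874482)) (.node (.leaf 15680200) (.leaf 1274458)))))) (.node (.node (.node (.node (.node (.node (.leaf 7114910) (.leaf 5857945)) (.leaf 9884207)) (.node (.leaf 6423156) (.leaf 13062787))) (.node (.node (.leaf 6652167) (.leaf 18031163)) (.node (.leaf 1810552) (.leaf 14364959)))) (.node (.node (.node (.node (.leaf 3318270) (.leaf 12194341)) (.leaf 17051861)) (.node (.leaf 17461317) (.leaf 2269693))) (.node (.node (.leaf 1335677) (.leaf 1815005)) (.node (.leaf 8495464) (.leaf 10375456))))) (.node (.node (.node (.node (.node (.leaf 17993985) (.leaf 442822)) (.leaf 9011633)) (.node (.leaf 8749339) (.leaf 9990663))) (.node (.node (.leaf 8069766) (.leaf 10179142)) (.node (.leaf 7729488) (.leaf 11108379)))) (.node (.node (.node (.leaf 13132210)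 (.leaf 7946779)) (.node (.leaf 3563821) (.leaf 6246927))) (.node (.node (.leaf 9736625) (.leaf 12526184)) (.node (.leaf 10678858) (.leaf 1311072))))))) (.node (.node (.node (.node (.node (.node (.node (.leaf 5771836) (.leaf 11735608)) (.leaf 2044494)) (.node (.leaf 8831104) (.leaf 9896635))) (.node (.node (.leaf 17633972) (.leaf 5980186)) (.node (.leaf 6897986) (.leaf 1175600)))) (.node (.node (.node (.node (.leaf 3936615) (.leaf 15536233)) (.leaf 6664467)) (.node (.leaf 8024475) (.leaf 1347824))) (.node (.node (.leaf 479712) (.leaf 6300075)) (.node (.leaf 14303448) (.leaf 14926112))))) (.node (.node (.node (.node (.node (.leaf 3547421) (.leaf 2470011)) (.leaf 8614154)) (.node (.leaf 13902245) (.leaf 4596298))) (.node (.node (.leaf 9572970) (.leaf 1069776)) (.node (.leaf 9777829) (.leaf 14316239)))) (.node (.node (.node (.leaf 11592226) (.leaf 11936238)) (.node (.leaf 340557) (.leaf 15175766))) (.node (.node (.leaf 2617641) (.leaf 5321097)) (.node (.leaf 15024330) (.leaf 17658000)))))) (.node (.node (.node (.node (.node (.node (.leaf 3989563) (.leaf 13779361))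 (.leaf 12255708)) (.node (.leaf 250161) (.leaf 5747042))) (.node (.node (.leaf 7962885) (.leaf 16757175)) (.node (.leaf 9351408) (.leaf 5927291)))) (.node (.node (.node (.node (.leaf 61836) (.leaf 6750816)) (.leaf 8065028)) (.node (.leaf 9986307) (.leaf 13139991))) (.node (.node (.leaf 1925293) (.leaf 6889662)) (.node (.leaf 12038679) (.leaf 11890727))))) (.node (.node (.node (.node (.node (.leaf 16503510) (.leaf 17314172)) (.leaf 16224778)) (.node (.leaf 14058151) (.leaf 14041696))) (.node (.node (.leaf 13283884) (.leaf 5149021)) (.node (.leaf 16539666) (.leaf 6565981)))) (.node (.node (.node (.leaf 12182013) (.leaf 16765361)) (.node (.leaf 13353576) (.leaf 3166379))) (.node (.node (.leaf 15856122) (.leaf 12005656)) (.node (.leaf 9482719) (.leaf 16421351)))))))))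

def threeMv43815 : Janko.Tree (ℕ) :=
  (.node (.node (.node (.node (.node (.node (.node (.node (.node (.leaf 16384006) (.leaf 16597451)) (.leaf 11629099)) (.node (.leaf 16298287) (.leaf 13078601))) (.node (.node (.leaf 15217298) (.leaf 15311530)) (.node (.leaf 16294249) (.leaf 12808469)))) (.node (.node (.node (.node (.leaf 2654913) (.leaf 17674778)) (.leaf 15647434)) (.node (.leaf 11260447) (.leaf 192941))) (.node (.node (.leaf 5972270) (.leaf 13643924)) (.node (.leaf 77934) (.leaf 7664070))))) (.node (.node (.node (.node (.node (.leaf 12833476) (.leaf 18137745)) (.leaf 745721)) (.node (.leaf 9978349) (.leaf 16654745))) (.node (.node (.leaf 8397374) (.leaf 5874086)) (.node (.leaf 10785162) (.leaf 13697263)))) (.node (.node (.node (.leaf 15913495) (.leaf 4313813)) (.node (.leaf 9367938) (.leaf 10555535))) (.node (.node (.leaf 7409779) (.leaf 9498970)) (.node (.leaf 3379376) (.leaf 14090800)))))) (.node (.node (.node (.node (.node (.node (.leaf 1221057) (.leaf 471658)) (.leaf 15471248)) (.node (.leaf 6123818) (.leaf 8041022))) (.node (.node (.leaf 2887926) (.leaf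 9875485)) (.node (.leaf 11067914) (.leaf 10744057)))) (.node (.node (.node (.node (.leaf 11206845) (.leaf 5505550)) (.leaf 17535121)) (.node (.leaf 3600450) (.leaf 7721496))) (.node (.node (.leaf 14279050) (.leaf 11457146)) (.node (.leaf 11329981) (.leaf 9343677))))) (.node (.node (.node (.node (.node (.leaf 12374610) (.leaf 13377602)) (.leaf 5390544)) (.node (.leaf 11821344) (.leaf 8303258))) (.node (.node (.leaf 14807573) (.leaf 7815578)) (.node (.leaf 11665967) (.leaf 16773386)))) (.node (.node (.node (.leaf 8786035) (.leaf 7684409)) (.node (.leaf 12726822) (.leaf 4714563))) (.node (.node (.leaf 2662961) (.leaf 6574225)) (.node (.leaf 8044941) (.leaf 13832264))))))) (.node (.node (.node (.node (.node (.node (.node (.leaf 14323790) (.leaf 12595410)) (.leaf 11272833)) (.node (.leaf 2769496) (.leaf 8773721))) (.node (.node (.leaf 2453656) (.leaf 17400077)) (.node (.leaf 12906802) (.leaf 17367480)))) (.node (.node (.node (.node (.leaf 16744759) (.leaf 2629784)) (.leaf 5312897)) (.node (.leaf 10850454) (.leaf 9642296))) (.node (.node (.leaf 10809692) (.leaf 9671166))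 (.node (.leaf 8139372) (.leaf 10629519))))) (.node (.node (.node (.node (.node (.leaf 11170404) (.leaf 10908316)) (.leaf 11673624)) (.node (.leaf 2941554) (.leaf 5382701))) (.node (.node (.leaf 4502186) (.leaf 17003040)) (.node (.leaf 14737932) (.leaf 9347170)))) (.node (.node (.node (.leaf 2912405) (.leaf 9744664)) (.node (.leaf 14631220) (.leaf 14193099))) (.node (.node (.leaf 721428) (.leaf 713370)) (.node (.leaf 3605184) (.leaf 10293779)))))) (.node (.node (.node (.node (.node (.node (.leaf 16609293) (.leaf 12935602)) (.leaf 2355822)) (.node (.leaf 17084795) (.leaf 11866370))) (.node (.node (.leaf 3842758) (.leaf 17609042)) (.node (.leaf 11129172) (.leaf 16552371)))) (.node (.node (.node (.node (.leaf 262345) (.leaf 10097225)) (.leaf 16560759)) (.node (.leaf 7016485) (.leaf 4600246))) (.node (.node (.leaf 13558203) (.leaf 3006687)) (.node (.leaf 6193235) (.leaf 8237351))))) (.node (.node (.node (.node (.node (.leaf 3994237) (.leaf 12800323)) (.leaf 6451511)) (.node (.leaf 3104926) (.leaf 8852009))) (.node (.node (.leaf 10342668) (.leaf 8327722)) (.node (.leaf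 12591607) (.leaf 14299221)))) (.node (.node (.node (.leaf 5718362) (.leaf 5922846)) (.node (.leaf 13202130) (.leaf 7467702))) (.node (.node (.leaf 3657801) (.leaf 9552515)) (.node (.leaf 15163946) (.leaf 10154362)))))))) (.node (.node (.node (.node (.node (.node (.node (.node (.leaf 14049573) (.leaf 7070048)) (.leaf 17940964)) (.node (.leaf 2835070) (.leaf 7499959))) (.node (.node (.leaf 9134198) (.leaf 3280917)) (.node (.leaf 15335819) (.leaf 1265889)))) (.node (.node (.node (.node (.leaf 5071414) (.leaf 13640370)) (.leaf 12066846)) (.node (.leaf 12030656) (.leaf 3821959))) (.node (.node (.leaf 2179188) (.leaf 3834130)) (.node (.leaf 13394541) (.leaf 16568936))))) (.node (.node (.node (.node (.node (.leaf 1466614) (.leaf 6537448)) (.leaf 14672415)) (.node (.leaf 14078330) (.leaf 4636706))) (.node (.node (.leaf 17293396) (.leaf 8884361)) (.node (.leaf 1183852) (.leaf 5759154)))) (.node (.node (.node (.leaf 8859816) (.leaf 5542071)) (.node (.leaf 4760087) (.leaf 10805721))) (.node (.node (.leaf 8241479) (.leaf 12840963)) (.node (.leaf 5951836) (.leaf 14684856))))))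 (.node (.node (.node (.node (.node (.node (.leaf 9171537) (.leaf 1053310)) (.leaf 7201041)) (.node (.leaf 18121283) (.leaf 8110314))) (.node (.node (.leaf 15613994) (.leaf 1306836)) (.node (.leaf 14729261) (.leaf 6938985)))) (.node (.node (.node (.node (.leaf 13001159) (.leaf 16327242)) (.leaf 2322714)) (.node (.leaf 3383666) (.leaf 15082089))) (.node (.node (.leaf 14422049) (.leaf 7745582)) (.node (.leaf 8778222) (.leaf 7299126))))) (.node (.node (.node (.node (.node (.leaf 4010250) (.leaf 5173731)) (.leaf 11862259)) (.node (.leaf 7208960) (.leaf 5448311))) (.node (.node (.leaf 1163592) (.leaf 15605873)) (.node (.leaf 12890377) (.leaf 5140694)))) (.node (.node (.node (.leaf 1675324) (.leaf 921869)) (.node (.leaf 213556) (.leaf 7811420))) (.node (.node (.leaf 13496583) (.leaf 10019197)) (.node (.leaf 8560979) (.leaf 10235963))))))) (.node (.node (.node (.node (.node (.node (.node (.leaf 9650897) (.leaf 9683650)) (.leaf 14013051)) (.node (.leaf 6803967) (.leaf 18293244))) (.node (.node (.leaf 4805222) (.leaf 14180671)) (.node (.leaf 8667513) (.leaf 16306472))))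 (.node (.node (.node (.node (.leaf 9384579) (.leaf 2752929)) (.leaf 13803978)) (.node (.leaf 4383360) (.leaf 13168732))) (.node (.node (.leaf 5820775) (.leaf 6410337)) (.node (.leaf 9151145) (.leaf 6947123))))) (.node (.node (.node (.node (.node (.leaf 1872407) (.leaf 7492076)) (.leaf 6172772)) (.node (.leaf 4055641) (.leaf 10441181))) (.node (.node (.leaf 2105863) (.leaf 17784847)) (.node (.leaf 1216689) (.leaf 16924749)))) (.node (.node (.node (.leaf 2039966) (.leaf 3408227)) (.node (.leaf 15966699) (.leaf 16892400))) (.node (.node (.leaf 16810526) (.leaf 10776820)) (.node (.leaf 14762264) (.leaf 17097101)))))) (.node (.node (.node (.node (.node (.node (.leaf 16376329) (.leaf 11354288)) (.leaf 17060054)) (.node (.leaf 15524192) (.leaf 13267387))) (.node (.node (.leaf 11555276) (.leaf 537285)) (.node (.leaf 6763080) (.leaf 5386503)))) (.node (.node (.node (.node (.leaf 868955) (.leaf 1618161)) (.leaf 9932969)) (.node (.leaf 16847331) (.leaf 201055))) (.node (.node (.leaf 9228497) (.leaf 14909509)) (.node (.leaf 4694136) (.leaf 3907722))))) (.node (.node (.node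 (.node (.node (.leaf 2257526) (.leaf 17510978)) (.leaf 4915222)) (.node (.leaf 4550938) (.leaf 127459))) (.node (.node (.leaf 16974098) (.leaf 5345516)) (.node (.leaf 13136024) (.leaf 2715733)))) (.node (.node (.node (.leaf 14659788) (.leaf 1606132)) (.node (.leaf 18072065) (.leaf 10383782))) (.node (.node (.leaf 7094767) (.leaf 2027934)) (.node (.leaf 4629152) (.leaf 18026616)))))))))

/-- a table -/
def threeMv438 : Janko.Tree (ℕ) := (.node (.node (.node (.node threeMv4380 threeMv4388) (.node threeMv4384 threeMv43812)) (.node (.node threeMv4382 threeMv43810) (.node threeMv4386 threeMv43814))) (.node (.node (.node threeMv4381 threeMv4389) (.node threeMv4385 threeMv43813)) (.node (.node threeMv4383 threeMv43811) (.node threeMv4387 threeMv43815))))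

theorem three_mv4380 : ((List.range 640).all fun i => movesOK baseB threeCert threeGens threeT 4480 threeV438 threeMv438 (Nat.add 0 i)) = true := by decide +kernel

theorem three_mv4381 : ((List.range 640).all fun i => movesOK baseB threeCert threeGens threeT 4480 threeV438 threeMv438 (Nat.add 640 i)) = true := by decide +kernel

theorem three_mv4382 : ((List.range 640).all fun i => movesOK baseB threeCert threeGens threeT 4480 threeV438 threeMv438 (Nat.add 1280 i)) = true := by decide +kernel

theorem three_mv4383 : ((List.range 640).all fun i => movesOK baseB threeCert threeGens threeT 4480 threeV438 threeMv438 (Nat.add 1920 i)) = true := by decide +kernel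

theorem three_mv4384 : ((List.range 640).all fun i => movesOK baseB threeCert threeGens threeT 4480 threeV438 threeMv438 (Nat.add 2560 i)) = true := by decide +kernel

theorem three_mv4385 : ((List.range 640).all fun i => movesOK baseB threeCert threeGens threeT 4480 threeV438 threeMv438 (Nat.add 3200 i)) = true := by decide +kernel

theorem three_mv4386 : ((List.range 640).all fun i => movesOK baseB threeCert threeGens threeT 4480 threeV438 threeMv438 (Nat.add 3840 i)) = true := by decide +kernel

theorem three_mv438 : ∀ i < 4480, movesOK baseB threeCert threeGens threeT 4480 threeV438 threeMv438 i = true := by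
  intro i hi
  exact (if h1920 : i < 1920 then (if h640 : i < 640 then (by have := List.all_eq_true.1 three_mv4380 (i - 0) (List.mem_range.2 (by omega)); rwa [show Nat.add 0 (i - 0) = i from Nat.add_sub_cancel' (by omega)] at this) else (if h1280 : i < 1280 then (by have := List.all_eq_true.1 three_mv4381 (i - 640) (List.mem_range.2 (by omega)); rwa [show Nat.add 640 (i - 640) = i from Nat.add_sub_cancel' (by omega)] at this) else (by have := List.all_eq_true.1 three_mv4382 (i - 1280) (List.mem_range.2 (by omega)); rwa [show Nat.add 1280 (i - 1280) = i from Nat.add_sub_cancel' (by omega)] at this))) else (if h3200 : i < 3200 then (if h2560 : i < 2560 then (by have := List.all_eq_true.1 three_mv4383 (i - 1920) (List.mem_range.2 (by omega)); rwa [show Nat.add 1920 (i - 1920) = i from Nat.add_sub_cancel' (by omega)] at this) else (by have := List.all_eq_true.1 three_mv4384 (i - 2560) (List.mem_range.2 (by omega)); rwa [show Nat.add 2560 (i - 2560) = i from Nat.add_sub_cancel' (by omega)] at this)) else (if h3840 : i < 3840 then (by have := List.all_eq_true.1 three_mv4385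 (i - 3200) (List.mem_range.2 (by omega)); rwa [show Nat.add 3200 (i - 3200) = i from Nat.add_sub_cancel' (by omega)] at this) else (by have := List.all_eq_true.1 three_mv4386 (i - 3840) (List.mem_range.2 (by omega)); rwa [show Nat.add 3840 (i - 3840) = i from Nat.add_sub_cancel' (by omega)] at this))))

/-- an element -/
def threeV536 : ℕ := 0x349da7e63a64c8c13da713ef6668403034382c924f9388711305611182a197d371a60726314c60821bb9410a2e38a086d688f9aece78a3812b46624d030802175fe673b02daaa3619696e374587d6c97521e8eaa80515436137a9092cbb010a21a741b3261cc473c1da08c1f9408a6f4d1dd9e0316145608f53c2db40f48a74cd111cbc0caec4a87572986fc3056e8199fda848643a880e056bccd26a2c83446e14688862b3808e90b06530b97e3b063957420431c9b21154bad28ab6b159fa0e1c07944bd7198920062f9514a6e1e44854fe5f2209a167c2c44d021791d8c8a273bcc06125bdca444253ec828340068f0251ec4212d85ab0048e96f0c9ba4f183285a6c4da1c52571aaa8b6273e85c42bc722855e5879398a6fc4117a00ac5c1a2067c65848e6ae35c3d089e02925e8010a1e5b600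

theorem three_v536 : ((List.range 275).all fun k => Nat.beq (PermNine.pg threeV536 k) (imgW threeGens (threeCert.wd 536) k)) = true := by decide +kernel

def threeMv5360 : Janko.Tree (ℕ) :=
  (.node (.node (.node (.node (.node (.node (.node (.node (.node (.leaf 536) (.leaf 7385795)) (.leaf 14832279)) (.node (.leaf 11989556) (.leaf 2712069))) (.node (.node (.leaf 18162172) (.leaf 16445885)) (.node (.leaf 12690003) (.leaf 14537262)))) (.node (.node (.node (.node (.leaf 1847941) (.leaf 2109525)) (.leaf 17481897)) (.node (.leaf 13398357) (.leaf 10187155))) (.node (.node (.leaf 131764) (.leaf 3797561)) (.node (.leaf 9834782) (.leaf 16826385))))) (.node (.node (.node (.node (.node (.leaf 3007090) (.leaf 10711557)) (.leaf 14864645)) (.node (.leaf 3355289) (.leaf 18080325))) (.node (.node (.leaf 12612211) (.leaf 6799760)) (.node (.leaf 11530875) (.leaf 4301241)))) (.node (.node (.node (.leaf 6553680) (.leaf 7279145)) (.node (.leaf 13337204) (.leaf 13693512))) (.node (.node (.leaf 4260005) (.leaf 9236691)) (.node (.leaf 9191788) (.leaf 6115413)))))) (.node (.node (.node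 (.node (.node (.node (.leaf 5653081) (.leaf 9773540)) (.leaf 17052093)) (.node (.leaf 12042534) (.leaf 12952122))) (.node (.node (.leaf 12787986) (.leaf 13672846)) (.node (.leaf 4129391) (.leaf 12181900)))) (.node (.node (.node (.node (.leaf 3682485) (.leaf 2789876)) (.leaf 10973240)) (.node (.leaf 3203461) (.leaf 3969041))) (.node (.node (.leaf 234185) (.leaf 4448714)) (.node (.leaf 7336630) (.leaf 4125042))))) (.node (.node (.node (.node (.node (.leaf 12133021) (.leaf 3575934)) (.leaf 9077248)) (.node (.leaf 10555725) (.leaf 2117664))) (.node (.node (.leaf 5955744) (.leaf 5468746)) (.node (.leaf 5689874) (.leaf 9367690)))) (.node (.node (.node (.leaf 9678883) (.leaf 12959784)) (.node (.leaf 6750672) (.leaf 9597320))) (.node (.node (.leaf 9933211) (.leaf 3178937)) (.node (.leaf 2589371) (.leaf 9859438))))))) (.node (.node (.node (.node (.node (.node (.node (.leaf 11563151) (.leaf 14450864)) (.leaf 7377345)) (.node (.leaf 11694448) (.leaf 4714753))) (.node (.node (.leaf 9548093) (.leaf 3228260)) (.node (.leaf 1319506) (.leaf 11100337)))) (.node (.node (.node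 (.node (.leaf 11030827) (.leaf 7565521)) (.leaf 8745127)) (.node (.leaf 5373966) (.leaf 11321955))) (.node (.node (.leaf 5755600) (.leaf 1462541)) (.node (.leaf 10277377) (.leaf 8339895))))) (.node (.node (.node (.node (.node (.leaf 13586463) (.leaf 11231448)) (.leaf 3752462)) (.node (.leaf 11891139) (.leaf 14590075))) (.node (.node (.leaf 1990697) (.leaf 16335118)) (.node (.leaf 5382335) (.leaf 5935153)))) (.node (.node (.node (.leaf 2965822) (.leaf 4817526)) (.node (.leaf 13545552) (.leaf 15815252))) (.node (.node (.leaf 2027958) (.leaf 11555307)) (.node (.leaf 7979183) (.leaf 2879722)))))) (.node (.node (.node (.node (.node (.node (.leaf 11633197) (.leaf 14614885)) (.leaf 13181569)) (.node (.leaf 9879683) (.leaf 11055298))) (.node (.node (.leaf 7209029) (.leaf 17613083)) (.node (.leaf 17600993) (.leaf 12517385)))) (.node (.node (.node (.node (.leaf 2347010) (.leaf 10735872)) (.leaf 14627093)) (.node (.leaf 13464169) (.leaf 8343573))) (.node (.node (.leaf 7508535) (.leaf 15417751)) (.node (.leaf 3744108) (.leaf 8532566))))) (.node (.node (.node (.node (.node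 (.leaf 7709215) (.leaf 6537667)) (.leaf 319677)) (.node (.leaf 12640298) (.leaf 4158036))) (.node (.node (.leaf 8671521) (.leaf 17609052)) (.node (.leaf 14209360) (.leaf 17318402)))) (.node (.node (.node (.leaf 1966125) (.leaf 8286403)) (.node (.leaf 13922382) (.leaf 3347000))) (.node (.node (.leaf 8520137) (.leaf 4501808)) (.node (.leaf 1671601) (.leaf 15503709)))))))) (.node (.node (.node (.node (.node (.node (.node (.node (.leaf 7516796) (.leaf 14106848)) (.leaf 17060249)) (.node (.leaf 6938792) (.leaf 18325547))) (.node (.node (.leaf 6480428) (.leaf 15769918)) (.node (.leaf 9777664) (.leaf 7340282)))) (.node (.node (.node (.node (.leaf 8192228) (.leaf 7184725)) (.leaf 1470789)) (.node (.leaf 8495310) (.leaf 5530044))) (.node (.node (.leaf 4608193) (.leaf 3244706)) (.node (.leaf 8478872) (.leaf 770052))))) (.node (.node (.node (.node (.node (.leaf 15687995) (.leaf 12395173)) (.leaf 10785197)) (.node (.leaf 11116706) (.leaf 9412960))) (.node (.node (.leaf 1659383) (.leaf 10408498)) (.node (.leaf 2707825) (.leaf 5615827)))) (.node (.node (.node (.leaf 7852477)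 (.leaf 4338046)) (.node (.leaf 6643879) (.leaf 9663177))) (.node (.node (.leaf 483627) (.leaf 7819884)) (.node (.leaf 18014861) (.leaf 11514522)))))) (.node (.node (.node (.node (.node (.node (.leaf 2826755) (.leaf 3059766)) (.leaf 8946375)) (.node (.leaf 667871) (.leaf 417799))) (.node (.node (.leaf 2134407) (.leaf 5128847)) (.node (.leaf 10777077) (.leaf 2338821)))) (.node (.node (.node (.node (.leaf 9752780) (.leaf 2683145)) (.leaf 12570769)) (.node (.leaf 4756132) (.leaf 1835267))) (.node (.node (.leaf 12615884) (.leaf 15970727)) (.node (.leaf 11247930) (.leaf 3051852))))) (.node (.node (.node (.node (.node (.leaf 18330088) (.leaf 6979910)) (.leaf 10183302)) (.node (.leaf 1872140) (.leaf 5083217))) (.node (.node (.leaf 13341013) (.leaf 17121422)) (.node (.leaf 4059179) (.leaf 9035829)))) (.node (.node (.node (.leaf 10444857) (.leaf 17912490)) (.node (.leaf 13472149) (.leaf 5194452))) (.node (.node (.leaf 11707037) (.leaf 9060552)) (.node (.leaf 15016165) (.leaf 11186893))))))) (.node (.node (.node (.node (.node (.node (.node (.leaf 2867869) (.leaf 1736709))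 (.leaf 5300283)) (.node (.leaf 11902994) (.leaf 8114323))) (.node (.node (.leaf 4993516) (.leaf 3719509)) (.node (.leaf 3887113) (.leaf 13984434)))) (.node (.node (.node (.node (.leaf 13103530) (.leaf 8929933)) (.leaf 2236681)) (.node (.leaf 18272264) (.leaf 479733))) (.node (.node (.leaf 5824557) (.leaf 2838792)) (.node (.leaf 16495195) (.leaf 5673673))))) (.node (.node (.node (.node (.node (.leaf 7766568) (.leaf 9633921)) (.leaf 3662213)) (.node (.leaf 2736565) (.leaf 1282663))) (.node (.node (.leaf 6885604) (.leaf 8769809)) (.node (.leaf 5661023) (.leaf 14852532)))) (.node (.node (.node (.leaf 4407960) (.leaf 6676909)) (.node (.leaf 8581432) (.leaf 3055752))) (.node (.node (.leaf 9556037) (.leaf 13668379)) (.node (.leaf 8282120) (.leaf 16450119)))))) (.node (.node (.node (.node (.node (.node (.leaf 2794012) (.leaf 11092598)) (.leaf 14135476)) (.node (.leaf 2281839) (.leaf 9089234))) (.node (.node (.leaf 2543809) (.leaf 10945208)) (.node (.leaf 12046813) (.leaf 13734083)))) (.node (.node (.node (.node (.leaf 10170674) (.leaf 12746972)) (.leaf 160196)) (.node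 (.leaf 6844886) (.leaf 3723516))) (.node (.node (.leaf 4272435) (.leaf 9269925)) (.node (.leaf 8225078) (.leaf 4866691))))) (.node (.node (.node (.node (.node (.leaf 5149325) (.leaf 8540673)) (.leaf 16708181)) (.node (.leaf 9093492) (.leaf 8004051))) (.node (.node (.leaf 758078) (.leaf 12403263)) (.node (.leaf 13070532) (.leaf 15163930)))) (.node (.node (.node (.leaf 10130104) (.leaf 5636694)) (.node (.leaf 4760122) (.leaf 3715116))) (.node (.node (.leaf 1572875) (.leaf 10023373)) (.node (.leaf 16244912) (.leaf 14504154)))))))))

def threeMv5361 : Janko.Tree (ℕ) :=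
  (.node (.node (.node (.node (.node (.node (.node (.node (.node (.leaf 8942137) (.leaf 3326417)) (.leaf 11379176)) (.node (.leaf 9577096) (.leaf 2846896))) (.node (.node (.leaf 6086745) (.leaf 8180027)) (.node (.leaf 11841979) (.leaf 15925522)))) (.node (.node (.node (.node (.leaf 12587494) (.leaf 6713900)) (.leaf 14959294)) (.node (.leaf 17678428) (.leaf 11133331))) (.node (.node (.leaf 9110224) (.leaf 2495027)) (.node (.leaf 10330713) (.leaf 9322875))))) (.node (.node (.node (.node (.node (.leaf 10911964) (.leaf 13156358)) (.leaf 17379546)) (.node (.leaf 14446996) (.leaf 14963310))) (.node (.node (.leaf 7397868) (.leaf 4444716)) (.node (.leaf 11071944) (.leaf 10215786)))) (.node (.node (.node (.leaf 13038174) (.leaf 9429084)) (.node (.leaf 12857693) (.leaf 13291861))) (.node (.node (.leaf 17228296) (.leaf 5354053)) (.node (.leaf 14528568) (.leaf 5926996)))))) (.node (.node (.node (.node (.node (.node (.leaf 4043372) (.leaf 17437008)) (.leaf 15233701)) (.node (.leaf 12628492) (.leaf 8880362))) (.node (.node (.leaf 16327074) (.leaf 8253635)) (.node (.leaf 6181021)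 (.leaf 11428154)))) (.node (.node (.node (.node (.leaf 16044505) (.leaf 17031189)) (.leaf 9187480)) (.node (.leaf 12153094) (.leaf 365184))) (.node (.node (.leaf 8200575) (.leaf 8249448)) (.node (.leaf 708943) (.leaf 3813878))))) (.node (.node (.node (.node (.node (.leaf 5071104) (.leaf 6705750)) (.leaf 7606547)) (.node (.leaf 14623232) (.leaf 5714394))) (.node (.node (.leaf 1151600) (.leaf 17993793)) (.node (.leaf 12009876) (.leaf 10285736)))) (.node (.node (.node (.leaf 774508) (.leaf 13816520)) (.node (.leaf 4317706) (.leaf 10104872))) (.node (.node (.leaf 18301590) (.leaf 12325182)) (.node (.leaf 7442555) (.leaf 6353309))))))) (.node (.node (.node (.node (.node (.node (.node (.leaf 135403) (.leaf 2425538)) (.leaf 2932957)) (.node (.leaf 10563822) (.leaf 5947576))) (.node (.node (.leaf 426148) (.leaf 13656650)) (.node (.leaf 14861015) (.leaf 5025953)))) (.node (.node (.node (.node (.leaf 36875) (.leaf 14000205)) (.leaf 14901677)) (.node (.leaf 5980269) (.leaf 12267978))) (.node (.node (.leaf 10641884) (.leaf 13369900)) (.node (.leaf 5321377) (.leaf 12038665)))))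 (.node (.node (.node (.node (.node (.leaf 16502945) (.leaf 5697659)) (.leaf 4763667)) (.node (.leaf 11403774) (.leaf 14348468))) (.node (.node (.leaf 14114904) (.leaf 17105095)) (.node (.leaf 3305614) (.leaf 1086086)))) (.node (.node (.node (.leaf 16560357) (.leaf 8806473)) (.node (.leaf 10387764) (.leaf 4411987))) (.node (.node (.leaf 16040534) (.leaf 17457752)) (.node (.leaf 12906786) (.leaf 17875095)))))) (.node (.node (.node (.node (.node (.node (.leaf 6668415) (.leaf 1310917)) (.leaf 2798047)) (.node (.leaf 3891582) (.leaf 12828717))) (.node (.node (.leaf 15585907) (.leaf 10883073)) (.node (.leaf 16359791) (.leaf 4886634)))) (.node (.node (.node (.node (.leaf 12792250) (.leaf 11235348)) (.leaf 14746183)) (.node (.leaf 16810483) (.leaf 13418585))) (.node (.node (.leaf 12779542) (.leaf 2162723)) (.node (.leaf 18104997) (.leaf 17342949))))) (.node (.node (.node (.node (.node (.leaf 10138045) (.leaf 18215236)) (.leaf 8093913)) (.node (.leaf 17531159) (.leaf 13189600))) (.node (.node (.leaf 15720542) (.leaf 10846577)) (.node (.leaf 2584581) (.leaf 11649310))))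 (.node (.node (.node (.leaf 1978979) (.leaf 3494213)) (.node (.leaf 14131294) (.leaf 14328259))) (.node (.node (.leaf 17895536) (.leaf 1777758)) (.node (.leaf 9208099) (.leaf 3215455)))))))) (.node (.node (.node (.node (.node (.node (.node (.node (.leaf 18026572) (.leaf 17879425)) (.leaf 5812657)) (.node (.leaf 4858111) (.leaf 13275559))) (.node (.node (.leaf 1348060) (.leaf 7446730)) (.node (.leaf 5239072) (.leaf 13938711)))) (.node (.node (.node (.node (.leaf 10351062) (.leaf 2842844)) (.leaf 18284838)) (.node (.leaf 4997385) (.leaf 13701337))) (.node (.node (.leaf 5489021) (.leaf 16298259)) (.node (.leaf 14434450) (.leaf 6164595))))) (.node (.node (.node (.node (.node (.leaf 8753622) (.leaf 8466558)) (.leaf 16781488)) (.node (.leaf 5591649) (.leaf 1454300))) (.node (.node (.leaf 2990584) (.leaf 5132433)) (.node (.leaf 10809812) (.leaf 2166798)))) (.node (.node (.node (.leaf 17997887) (.leaf 10064591)) (.node (.leaf 6783075) (.leaf 7860443))) (.node (.node (.leaf 9736640) (.leaf 6127768)) (.node (.leaf 840102) (.leaf 4788674)))))) (.node (.node (.node (.node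 (.node (.node (.leaf 6312268) (.leaf 17339061)) (.leaf 16069055)) (.node (.leaf 766008) (.leaf 15008282))) (.node (.node (.leaf 12251465) (.leaf 9175517)) (.node (.leaf 18153830) (.leaf 9974319)))) (.node (.node (.node (.node (.leaf 15339698) (.leaf 1393177)) (.leaf 7741951)) (.node (.leaf 8171821) (.leaf 13963582))) (.node (.node (.leaf 3801634) (.leaf 4145380)) (.node (.leaf 10441369) (.leaf 10084751))))) (.node (.node (.node (.node (.node (.leaf 9539593) (.leaf 594075)) (.leaf 45655)) (.node (.leaf 15421804) (.leaf 9245314))) (.node (.node (.leaf 17985626) (.leaf 8061259)) (.node (.leaf 4985455) (.leaf 5849593)))) (.node (.node (.node (.leaf 4780207) (.leaf 33389)) (.node (.leaf 11432306) (.leaf 1257479))) (.node (.node (.leaf 12443999) (.leaf 8811179)) (.node (.leaf 11448409) (.leaf 4800583))))))) (.node (.node (.node (.node (.node (.node (.node (.leaf 16581048) (.leaf 16884182)) (.leaf 13689035)) (.node (.leaf 3322308) (.leaf 2535868))) (.node (.node (.leaf 9806262) (.leaf 8147493)) (.node (.leaf 8089808) (.leaf 7573567)))) (.node (.node (.node (.node (.leaf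 14750014) (.leaf 9470197)) (.leaf 10392213)) (.node (.leaf 14278833) (.leaf 17760600))) (.node (.node (.leaf 14655660) (.leaf 4256205)) (.node (.leaf 16593257) (.leaf 11677899))))) (.node (.node (.node (.node (.node (.leaf 12210588) (.leaf 15966433)) (.leaf 4506297)) (.node (.leaf 16670866) (.leaf 10690695))) (.node (.node (.leaf 7016637) (.leaf 1785925)) (.node (.leaf 15180230) (.leaf 11395761)))) (.node (.node (.node (.leaf 4874614) (.leaf 8589724)) (.node (.leaf 13480187) (.leaf 14893419))) (.node (.node (.leaf 16638181) (.leaf 14312024)) (.node (.leaf 16785523) (.leaf 6647978)))))) (.node (.node (.node (.node (.node (.node (.leaf 14766802) (.leaf 14729227)) (.leaf 8852009)) (.node (.leaf 1130760) (.leaf 14217915))) (.node (.node (.leaf 11075688) (.leaf 7155981)) (.node (.leaf 6754859) (.leaf 6467934)))) (.node (.node (.node (.node (.leaf 5599300) (.leaf 6947021)) (.leaf 9900299)) (.node (.leaf 13611434) (.leaf 1507519))) (.node (.node (.leaf 10015216) (.leaf 655831)) (.node (.leaf 8098435) (.leaf 16191650))))) (.node (.node (.node (.node (.node (.leaf 14889642)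 (.leaf 5484718)) (.leaf 4403619)) (.node (.leaf 16691764) (.leaf 2330662))) (.node (.node (.leaf 10514958) (.leaf 18022897)) (.node (.leaf 1929331) (.leaf 1389161)))) (.node (.node (.node (.leaf 5390653) (.leaf 1016197)) (.node (.leaf 5095838) (.leaf 1843685))) (.node (.node (.leaf 13513016) (.leaf 9957696)) (.node (.leaf 6386050) (.leaf 17375524)))))))))

def threeMv5362 : Janko.Tree (ℕ) :=
  (.node (.node (.node (.node (.node (.node (.node (.node (.node (.leaf 15343785) (.leaf 11178685)) (.leaf 13205814)) (.node (.leaf 11489378) (.leaf 6062650))) (.node (.node (.leaf 16716341) (.leaf 10166702)) (.node (.leaf 1716372) (.leaf 10297685)))) (.node (.node (.node (.node (.leaf 14545284) (.leaf 1904907)) (.leaf 15655252)) (.node (.leaf 946759) (.leaf 184699))) (.node (.node (.leaf 1802486) (.leaf 14459073)) (.node (.leaf 6681103) (.leaf 8614251))))) (.node (.node (.node (.node (.node (.leaf 15290722) (.leaf 4726967)) (.leaf 786842)) (.node (.leaf 4165789) (.leaf 13230805))) (.node (.node (.leaf 11576001) (.leaf 16077462)) (.node (.leaf 12754981) (.leaf 2085027))))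 (.node (.node (.node (.leaf 13394095) (.leaf 10231883)) (.node (.leaf 12357753) (.leaf 3567916))) (.node (.node (.leaf 17367336) (.leaf 15253551)) (.node (.leaf 13021335) (.leaf 17797638)))))) (.node (.node (.node (.node (.node (.node (.leaf 15802974) (.leaf 11325580)) (.leaf 3842308)) (.node (.leaf 2437273) (.leaf 16990300))) (.node (.node (.leaf 5116573) (.leaf 7287448)) (.node (.leaf 9306118) (.leaf 6873323)))) (.node (.node (.node (.node (.leaf 15950240) (.leaf 11305106)) (.leaf 11813034)) (.node (.leaf 16851664) (.leaf 11924138))) (.node (.node (.leaf 17350802) (.leaf 11936398)) (.node (.leaf 967184) (.leaf 6758798))))) (.node (.node (.node (.node (.node (.leaf 7635245) (.leaf 9023898)) (.leaf 17416323)) (.node (.leaf 13947564) (.leaf 13648019))) (.node (.node (.leaf 2883969) (.leaf 9691504)) (.node (.leaf 12677135) (.leaf 12619904)))) (.node (.node (.node (.leaf 610773) (.leaf 17248687)) (.node (.leaf 4497530) (.leaf 4182060))) (.node (.node (.leaf 7143638) (.leaf 7885372)) (.node (.leaf 1925171) (.leaf 15557179))))))) (.node (.node (.node (.node (.node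 (.node (.node (.leaf 17715901) (.leaf 9163316)) (.leaf 10617061)) (.node (.leaf 9449674) (.leaf 16392735))) (.node (.node (.leaf 17498486) (.leaf 15462953)) (.node (.leaf 2035939) (.leaf 7876950)))) (.node (.node (.node (.node (.leaf 17203858) (.leaf 4415566)) (.leaf 4804862)) (.node (.leaf 18288925) (.leaf 15597651))) (.node (.node (.leaf 13590580) (.leaf 10379825)) (.node (.leaf 4435990) (.leaf 5554328))))) (.node (.node (.node (.node (.node (.leaf 15864221) (.leaf 16974327)) (.leaf 18034905)) (.node (.leaf 14512469) (.leaf 17281137))) (.node (.node (.leaf 3170521) (.leaf 5431565)) (.node (.leaf 11768105) (.leaf 9032259)))) (.node (.node (.node (.leaf 12206564) (.leaf 13353210)) (.node (.leaf 3076604) (.leaf 1020268))) (.node (.node (.leaf 16179369) (.leaf 16417433)) (.node (.leaf 11817486) (.leaf 11366897)))))) (.node (.node (.node (.node (.node (.node (.leaf 10666182) (.leaf 1618382)) (.leaf 2502695)) (.node (.leaf 7098999) (.leaf 14037117))) (.node (.node (.leaf 9527767) (.leaf 11727377)) (.node (.leaf 15757395) (.leaf 8749218)))) (.node (.node (.node (.node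 (.leaf 3973521) (.leaf 11850307)) (.leaf 9482312)) (.node (.leaf 10961331) (.leaf 1569474))) (.node (.node (.leaf 11665872) (.leaf 8421434)) (.node (.leaf 13627818) (.leaf 3604503))))) (.node (.node (.node (.node (.node (.leaf 11415956) (.leaf 1553048)) (.leaf 14008387)) (.node (.leaf 3960845) (.leaf 7889073))) (.node (.node (.leaf 3035384) (.leaf 16114080)) (.node (.leaf 5283864) (.leaf 13779595)))) (.node (.node (.node (.leaf 16277847) (.leaf 12435459)) (.node (.leaf 2969898) (.leaf 5435523))) (.node (.node (.leaf 8831578) (.leaf 8511586)) (.node (.leaf 13316117) (.leaf 17494327)))))))) (.node (.node (.node (.node (.node (.node (.node (.node (.leaf 15155214) (.leaf 11829342)) (.leaf 15360246)) (.node (.leaf 13127821) (.leaf 13643826))) (.node (.node (.leaf 8082053) (.leaf 9908271)) (.node (.leaf 9503429) (.leaf 14602282)))) (.node (.node (.node (.node (.leaf 4895048) (.leaf 475510)) (.leaf 13996454)) (.node (.leaf 14057591) (.leaf 15086002))) (.node (.node (.leaf 2601037) (.leaf 17158160)) (.node (.leaf 8442231) (.leaf 10068622))))) (.node (.node (.node (.node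 (.node (.leaf 14951052) (.leaf 2105975)) (.leaf 2245244)) (.node (.leaf 13050150) (.leaf 11022597))) (.node (.node (.leaf 8155668) (.leaf 14123246)) (.node (.leaf 11641509) (.leaf 13861149)))) (.node (.node (.node (.leaf 3330352) (.leaf 13729984)) (.node (.leaf 8917179) (.leaf 13427258))) (.node (.node (.leaf 15167588) (.leaf 8921758)) (.node (.leaf 3400070) (.leaf 5054744)))))) (.node (.node (.node (.node (.node (.node (.leaf 2674808) (.leaf 7504420)) (.leaf 10011192)) (.node (.leaf 13451657) (.leaf 2335422))) (.node (.node (.leaf 16134217) (.leaf 17347200)) (.node (.leaf 3175089) (.leaf 1114229)))) (.node (.node (.node (.node (.leaf 6742281) (.leaf 2507459)) (.leaf 4280458)) (.node (.leaf 180897) (.leaf 7000356))) (.node (.node (.leaf 12423673) (.leaf 6017039)) (.node (.leaf 18276626) (.leaf 9101631))))) (.node (.node (.node (.node (.node (.leaf 16605596) (.leaf 10842781)) (.leaf 11612198)) (.node (.leaf 2363822) (.leaf 4555199))) (.node (.node (.leaf 9666958) (.leaf 5304471)) (.node (.leaf 17556013) (.leaf 4829643)))) (.node (.node (.node (.leaf 2121871)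 (.leaf 17842695)) (.node (.leaf 3732038) (.leaf 10473689))) (.node (.node (.leaf 14319725) (.leaf 3678866)) (.node (.leaf 17424898) (.leaf 11874574))))))) (.node (.node (.node (.node (.node (.node (.node (.leaf 6910171) (.leaf 1331741)) (.leaf 10645971)) (.node (.leaf 5857738) (.leaf 9134402))) (.node (.node (.leaf 15102492) (.leaf 3883125)) (.node (.leaf 13058479) (.leaf 684686)))) (.node (.node (.node (.node (.leaf 1708643) (.leaf 18338092)) (.leaf 409629)) (.node (.leaf 15958261) (.leaf 573509))) (.node (.node (.leaf 12939431) (.leaf 15303091)) (.node (.leaf 6996445) (.leaf 13201904))))) (.node (.node (.node (.node (.node (.leaf 422152) (.leaf 4223042)) (.leaf 9117855)) (.node (.leaf 9982088) (.leaf 1356427))) (.node (.node (.leaf 7103114) (.leaf 315463)) (.node (.leaf 5120276) (.leaf 13750381)))) (.node (.node (.node (.leaf 11772198) (.leaf 2998515)) (.node (.leaf 9417151) (.leaf 4645058))) (.node (.node (.leaf 12091444) (.leaf 3313967)) (.node (.leaf 10264853) (.leaf 3895822)))))) (.node (.node (.node (.node (.node (.node (.leaf 5001448) (.leaf 4227112))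 (.leaf 6230232)) (.node (.leaf 11604500) (.leaf 2548187))) (.node (.node (.leaf 5771703) (.leaf 5517691)) (.node (.leaf 1024050) (.leaf 5972030)))) (.node (.node (.node (.node (.leaf 10531205) (.leaf 11862671)) (.leaf 15594129)) (.node (.leaf 15589554) (.leaf 4567442))) (.node (.node (.leaf 7971292) (.leaf 13583040)) (.node (.leaf 16052224) (.leaf 4330009))))) (.node (.node (.node (.node (.node (.leaf 16490862) (.leaf 565734)) (.leaf 6410612)) (.node (.leaf 11854020) (.leaf 41190))) (.node (.node (.leaf 15880868) (.leaf 15942245)) (.node (.leaf 13542022) (.leaf 17285552)))) (.node (.node (.node (.leaf 4685873) (.leaf 5550747)) (.node (.leaf 9183757) (.leaf 7147730))) (.node (.node (.leaf 3334147) (.leaf 8991120)) (.node (.leaf 4841850) (.leaf 1663282)))))))))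

def threeMv5363 : Janko.Tree (ℕ) :=
  (.node (.node (.node (.node (.node (.node (.node (.node (.node (.leaf 446958) (.leaf 8008050)) (.leaf 1819039)) (.node (.leaf 2667211) (.leaf 18043313))) (.node (.node (.leaf 17257015) (.leaf 1536414)) (.node (.leaf 5960404) (.leaf 14692888)))) (.node (.node (.node (.node (.leaf 7782912) (.leaf 10047559)) (.leaf 7229964)) (.node (.leaf 11219410) (.leaf 4051281))) (.node (.node (.leaf 7135674) (.leaf 7622839)) (.node (.leaf 10154472) (.leaf 15077802))))) (.node (.node (.node (.node (.node (.leaf 3773053) (.leaf 18194789)) (.leaf 3531045)) (.node (.leaf 11928176) (.leaf 6091200))) (.node (.node (.leaf 5620218) (.leaf 8782275)) (.node (.leaf 5427485) (.leaf 2351503)))) (.node (.node (.node (.leaf 16171592) (.leaf 9277568)) (.node (.leaf 4571252) (.leaf 10924671))) (.node (.node (.leaf 17174705) (.leaf 11301513)) (.node (.leaf 17776652) (.leaf 16318820)))))) (.node (.node (.node (.node (.node (.node (.leaf 729229) (.leaf 3104944)) (.leaf 5763228)) (.node (.leaf 1327633) (.leaf 2564455))) (.node (.node (.leaf 2634120) (.leaf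 16142602)) (.node (.leaf 11169815) (.leaf 15237321)))) (.node (.node (.node (.node (.leaf 2261150) (.leaf 4739639)) (.leaf 12993101)) (.node (.leaf 16531777) (.leaf 8303039))) (.node (.node (.leaf 16253286) (.leaf 12300649)) (.node (.leaf 7049896) (.leaf 14635221))))) (.node (.node (.node (.node (.node (.leaf 5886376) (.leaf 11993481)) (.leaf 15901065)) (.node (.leaf 14270541) (.leaf 14090958))) (.node (.node (.leaf 13976216) (.leaf 10506671)) (.node (.leaf 11944533) (.leaf 1974517)))) (.node (.node (.node (.leaf 1482856) (.leaf 17080605)) (.node (.leaf 13140490) (.leaf 18256238))) (.node (.node (.leaf 4911642) (.leaf 10412403)) (.node (.leaf 11088591) (.leaf 13758634))))))) (.node (.node (.node (.node (.node (.node (.node (.leaf 18047187) (.leaf 5759355)) (.leaf 324139)) (.node (.leaf 11894848) (.leaf 16024040))) (.node (.node (.leaf 16347376) (.leaf 9892261)) (.node (.leaf 9675438) (.leaf 17625227)))) (.node (.node (.node (.node (.leaf 6202017) (.leaf 17801295)) (.leaf 1503621)) (.node (.leaf 5611662) (.leaf 11702284))) (.node (.node (.leaf 15806904) (.leaf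 8368791)) (.node (.leaf 11960379) (.leaf 13009337))))) (.node (.node (.node (.node (.node (.leaf 14479670) (.leaf 10469954)) (.leaf 13971827)) (.node (.leaf 2785954) (.leaf 2269473))) (.node (.node (.leaf 4178434) (.leaf 15696362)) (.node (.leaf 15844055) (.leaf 1667174)))) (.node (.node (.node (.leaf 18124849) (.leaf 18305186)) (.node (.leaf 3383611) (.leaf 15397222))) (.node (.node (.leaf 13455640) (.leaf 6512926)) (.node (.leaf 500265) (.leaf 13553817)))))) (.node (.node (.node (.node (.node (.node (.leaf 3699270) (.leaf 18088211)) (.leaf 12227176)) (.node (.leaf 18182350) (.leaf 9863254))) (.node (.node (.leaf 8032266) (.leaf 495801)) (.node (.leaf 4915415) (.leaf 7827758)))) (.node (.node (.node (.node (.leaf 16138965) (.leaf 11952434)) (.leaf 119384)) (.node (.leaf 4600104) (.leaf 16818610))) (.node (.node (.leaf 17637982) (.leaf 7029029)) (.node (.leaf 11801227) (.leaf 10453658))))) (.node (.node (.node (.node (.node (.leaf 14172631) (.leaf 16662962)) (.leaf 1093715)) (.node (.leaf 262164) (.leaf 4379144))) (.node (.node (.leaf 9552128) (.leaf 11825162))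 (.node (.leaf 15475267) (.leaf 4964807)))) (.node (.node (.node (.leaf 4374933) (.leaf 14758296)) (.node (.leaf 7413936) (.leaf 17395744))) (.node (.node (.leaf 2609778) (.leaf 15728713)) (.node (.leaf 8618628) (.leaf 14045409)))))))) (.node (.node (.node (.node (.node (.node (.node (.node (.leaf 9658960) (.leaf 9531557)) (.leaf 6451662)) (.node (.leaf 16130487) (.leaf 13594749))) (.node (.node (.leaf 2052107) (.leaf 16195906)) (.node (.leaf 6631825) (.leaf 7360665)))) (.node (.node (.node (.node (.leaf 12247116) (.leaf 17560165)) (.leaf 7057717)) (.node (.leaf 4440394) (.leaf 17830602))) (.node (.node (.leaf 11883211) (.leaf 7954502)) (.node (.leaf 258075) (.leaf 17134259))))) (.node (.node (.node (.node (.node (.leaf 8139296) (.leaf 5841080)) (.leaf 1343757)) (.node (.leaf 12366542) (.leaf 3936737))) (.node (.node (.leaf 2478525) (.leaf 602627)) (.node (.leaf 5784019) (.leaf 6258890)))) (.node (.node (.node (.leaf 10490394) (.leaf 10965090)) (.node (.leaf 12055048) (.leaf 15151110))) (.node (.node (.leaf 3957280) (.leaf 8262093)) (.node (.leaf 1683905) (.leaf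 15209107)))))) (.node (.node (.node (.node (.node (.node (.leaf 11915929) (.leaf 7131682)) (.leaf 14078575)) (.node (.leaf 14098904) (.leaf 15859995))) (.node (.node (.leaf 10449583) (.leaf 5341185)) (.node (.leaf 18076323) (.leaf 14488154)))) (.node (.node (.node (.node (.leaf 1782057) (.leaf 9683670)) (.leaf 14540961)) (.node (.leaf 4583625) (.leaf 11436148))) (.node (.node (.leaf 15192240) (.leaf 13562269)) (.node (.leaf 14733938) (.leaf 7856448))))) (.node (.node (.node (.node (.node (.leaf 1884839) (.leaf 3846681)) (.leaf 14954848)) (.node (.leaf 4203217) (.leaf 17087))) (.node (.node (.leaf 17154554) (.leaf 250389)) (.node (.leaf 20591) (.leaf 8483173)))) (.node (.node (.node (.leaf 12820491) (.leaf 5046784)) (.node (.leaf 10498573) (.leaf 8450223))) (.node (.node (.leaf 12243125) (.leaf 5038603)) (.node (.leaf 13877430) (.leaf 11509794))))))) (.node (.node (.node (.node (.node (.node (.node (.leaf 17543636) (.leaf 6615219)) (.leaf 14029352)) (.node (.leaf 12624421) (.leaf 15483262))) (.node (.node (.leaf 17592633) (.leaf 8708108)) (.node (.leaf 11264247)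 (.leaf 5349738)))) (.node (.node (.node (.node (.leaf 15020399) (.leaf 17461837)) (.leaf 14996031)) (.node (.leaf 5443980) (.leaf 10060115))) (.node (.node (.leaf 8626595) (.leaf 10702913)) (.node (.leaf 7881225) (.leaf 9716216))))) (.node (.node (.node (.node (.node (.leaf 16618130) (.leaf 9523628)) (.leaf 6967646)) (.node (.leaf 2552012) (.leaf 2740498))) (.node (.node (.leaf 16859274) (.leaf 12743264)) (.node (.leaf 4358559) (.leaf 16871772)))) (.node (.node (.node (.leaf 15667691) (.leaf 14094767)) (.node (.leaf 14917754) (.leaf 16306612))) (.node (.node (.leaf 2060413) (.leaf 2720189)) (.node (.leaf 11837789) (.leaf 10547917)))))) (.node (.node (.node (.node (.node (.node (.leaf 1614082) (.leaf 9970321)) (.leaf 9794142)) (.node (.leaf 15491550) (.leaf 11690694))) (.node (.node (.leaf 1798560) (.leaf 14152224)) (.node (.leaf 18092589) (.leaf 156227)))) (.node (.node (.node (.node (.leaf 14737637) (.leaf 3617043)) (.leaf 18321937)) (.node (.leaf 1171874) (.leaf 16072836))) (.node (.node (.leaf 16355851) (.leaf 2130452)) (.node (.leaf 10203362) (.leaf 4362608)))))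 (.node (.node (.node (.node (.node (.leaf 3072649) (.leaf 17854537)) (.leaf 18248017)) (.node (.leaf 10113257) (.leaf 5197919))) (.node (.node (.leaf 14721499) (.leaf 8642909)) (.node (.leaf 10281592) (.leaf 13492752)))) (.node (.node (.node (.leaf 488123) (.leaf 3805185)) (.node (.leaf 12710293) (.leaf 15700631))) (.node (.node (.leaf 15241822) (.leaf 15401450)) (.node (.leaf 10629185) (.leaf 15626965)))))))))

def threeMv5364 : Janko.Tree (ℕ) :=
  (.node (.node (.node (.node (.node (.node (.node (.node (.node (.leaf 12943730) (.leaf 53303)) (.leaf 2695298)) (.node (.leaf 5570599) (.leaf 13676609))) (.node (.node (.leaf 78147) (.leaf 3527206)) (.node (.leaf 12812727) (.leaf 17727840)))) (.node (.node (.node (.node (.leaf 9826819) (.leaf 14688753)) (.leaf 1409635)) (.node (.leaf 11546962) (.leaf 9335101))) (.node (.node (.leaf 14365035) (.leaf 8925687)) (.node (.leaf 15692241) (.leaf 3453290))))) (.node (.node (.node (.node (.node (.leaf 15212723) (.leaf 13770854)) (.leaf 11473402)) (.node (.leaf 4735007) (.leaf 16163103))) (.node (.node (.leaf 14389379) (.leaf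 9745077)) (.node (.leaf 4080256) (.leaf 10133574)))) (.node (.node (.node (.leaf 16437885) (.leaf 5833369)) (.node (.leaf 4612303) (.leaf 4018514))) (.node (.node (.leaf 6463952) (.leaf 12075053)) (.node (.leaf 4825315) (.leaf 14356595)))))) (.node (.node (.node (.node (.node (.node (.leaf 15335559) (.leaf 10056234)) (.leaf 2064894)) (.node (.leaf 1982664) (.leaf 7561236))) (.node (.node (.leaf 9105637) (.leaf 9617875)) (.node (.leaf 1069696) (.leaf 12702012)))) (.node (.node (.node (.node (.leaf 11493499) (.leaf 5853782)) (.leaf 11571504)) (.node (.leaf 13508834) (.leaf 15851582))) (.node (.node (.leaf 3240535) (.leaf 1749169)) (.node (.leaf 7618698) (.leaf 15389212))))) (.node (.node (.node (.node (.node (.leaf 11252334) (.leaf 2187447)) (.leaf 4161937)) (.node (.leaf 12141050) (.leaf 4485210))) (.node (.node (.leaf 11608588) (.leaf 307789)) (.node (.leaf 13115631) (.leaf 1446508)))) (.node (.node (.node (.leaf 831501) (.leaf 15265836)) (.node (.leaf 3952830) (.leaf 1790433))) (.node (.node (.leaf 12890207) (.leaf 6005443)) (.node (.leaf 12272329) (.leaf 10952902)))))))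 (.node (.node (.node (.node (.node (.node (.node (.leaf 13484654) (.leaf 16924941)) (.leaf 4190666)) (.node (.leaf 1376869) (.leaf 18231469))) (.node (.node (.leaf 4289161) (.leaf 5722655)) (.node (.leaf 4297410) (.leaf 7873080)))) (.node (.node (.node (.node (.leaf 5246978) (.leaf 1532181)) (.leaf 1372205)) (.node (.leaf 6430812) (.leaf 6963785))) (.node (.node (.leaf 12591191) (.leaf 6722241)) (.node (.leaf 13632055) (.leaf 8704309))))) (.node (.node (.node (.node (.node (.leaf 10347150) (.leaf 13029940)) (.leaf 15229056)) (.node (.leaf 1892463) (.leaf 1429785))) (.node (.node (.leaf 12448222) (.leaf 3523106)) (.node (.leaf 15605847) (.leaf 17125481)))) (.node (.node (.node (.leaf 90695) (.leaf 15786019)) (.node (.leaf 9781488) (.leaf 14303353))) (.node (.node (.leaf 16572997) (.leaf 4751365)) (.node (.leaf 17064416) (.leaf 3186934)))))) (.node (.node (.node (.node (.node (.node (.leaf 4513878) (.leaf 11223691)) (.leaf 17178971)) (.node (.leaf 2953658) (.leaf 1859655))) (.node (.node (.leaf 2097609) (.leaf 2412742)) (.node (.leaf 14500180) (.leaf 1303124))))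 (.node (.node (.node (.node (.leaf 16720326) (.leaf 6484098)) (.leaf 9846796)) (.node (.leaf 5124360) (.leaf 14811649))) (.node (.node (.leaf 5107957) (.leaf 6447373)) (.node (.leaf 17215527) (.leaf 13177288))))) (.node (.node (.node (.node (.node (.leaf 1126611) (.leaf 4526776)) (.leaf 2982199)) (.node (.leaf 14377598) (.leaf 9855070))) (.node (.node (.leaf 5701652) (.leaf 6811831)) (.node (.leaf 7225363) (.leaf 15613957)))) (.node (.node (.node (.leaf 3379670) (.leaf 15544404)) (.node (.leaf 9498975) (.leaf 659627))) (.node (.node (.leaf 13296300) (.leaf 4239929)) (.node (.leaf 5640252) (.leaf 6795328)))))))) (.node (.node (.node (.node (.node (.node (.node (.node (.leaf 15979222) (.leaf 17748421)) (.leaf 3429051)) (.node (.leaf 3063981) (.leaf 7070013))) (.node (.node (.leaf 10600933) (.leaf 10567710)) (.node (.leaf 5509158) (.leaf 7934612)))) (.node (.node (.node (.node (.leaf 3449229) (.leaf 11698301)) (.leaf 16687319)) (.node (.leaf 4215124) (.leaf 17420343))) (.node (.node (.leaf 8528522) (.leaf 2908446)) (.node (.leaf 18227624) (.leaf 17326748))))) (.node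 (.node (.node (.node (.node (.leaf 3555681) (.leaf 17330201)) (.leaf 143739)) (.node (.leaf 1724681) (.leaf 3588146))) (.node (.node (.leaf 14582064) (.leaf 10007214)) (.node (.leaf 13046069) (.leaf 2699527)))) (.node (.node (.node (.leaf 9372376) (.leaf 10575979)) (.node (.leaf 5608150) (.leaf 13865264))) (.node (.node (.leaf 15295141) (.leaf 5312862)) (.node (.leaf 15065340) (.leaf 5456055)))))) (.node (.node (.node (.node (.node (.node (.leaf 16732755) (.leaf 13795786)) (.leaf 6283705)) (.node (.leaf 7315574) (.leaf 13247002))) (.node (.node (.leaf 10891895) (.leaf 15561431)) (.node (.leaf 9797977) (.leaf 5177619)))) (.node (.node (.node (.node (.leaf 13459960) (.leaf 1216555)) (.leaf 1687684)) (.node (.leaf 14164502) (.leaf 9351331))) (.node (.node (.leaf 2580591) (.leaf 5190299)) (.node (.leaf 5419279) (.leaf 3653794))))) (.node (.node (.node (.node (.node (.leaf 3580183) (.leaf 864873)) (.leaf 12353959)) (.node (.leaf 4370642) (.leaf 14254174))) (.node (.node (.leaf 1101958) (.leaf 16351865)) (.node (.leaf 5525565) (.leaf 8106704)))) (.node (.node (.node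 (.leaf 15520458) (.leaf 14016759)) (.node (.leaf 2216293) (.leaf 18117087))) (.node (.node (.leaf 13263535) (.leaf 9535881)) (.node (.leaf 6533331) (.leaf 10821756))))))) (.node (.node (.node (.node (.node (.node (.node (.leaf 4489926) (.leaf 5226933)) (.leaf 6664312)) (.node (.leaf 4616679) (.leaf 9298192))) (.node (.node (.leaf 6836682) (.leaf 17932930)) (.node (.leaf 2753050) (.leaf 16269896)))) (.node (.node (.node (.node (.leaf 9568860) (.leaf 5337205)) (.leaf 6197726)) (.node (.leaf 11141380) (.leaf 17773250))) (.node (.node (.leaf 11911455) (.leaf 9851029)) (.node (.leaf 16654842) (.leaf 286817))))) (.node (.node (.node (.node (.node (.leaf 17588245) (.leaf 15499712)) (.leaf 1106282)) (.node (.leaf 5230952) (.leaf 1183939))) (.node (.node (.leaf 16314664) (.leaf 2781527)) (.node (.leaf 3711363) (.leaf 4731590)))) (.node (.node (.node (.leaf 561208) (.leaf 13893802)) (.node (.leaf 614988) (.leaf 12542394))) (.node (.node (.leaf 13307928) (.leaf 18112571)) (.node (.leaf 8364284) (.leaf 16466002)))))) (.node (.node (.node (.node (.node (.node (.leaf 16372411)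 (.leaf 9343601)) (.leaf 8863751)) (.node (.leaf 6922524) (.leaf 14643885))) (.node (.node (.leaf 4538847) (.leaf 823939)) (.node (.leaf 4588010) (.leaf 16822290)))) (.node (.node (.node (.node (.leaf 213067) (.leaf 13185418)) (.leaf 10100901)) (.node (.leaf 13869662) (.leaf 6984331))) (.node (.node (.leaf 11809454) (.leaf 1286289)) (.node (.leaf 2519164) (.leaf 1065580))))) (.node (.node (.node (.node (.node (.leaf 6263096) (.leaf 14819630)) (.leaf 3236315)) (.node (.leaf 2654308) (.leaf 14700806))) (.node (.node (.leaf 10428744) (.leaf 4174413)) (.node (.leaf 2200011) (.leaf 2228289)))) (.node (.node (.node (.leaf 11297143) (.leaf 17231936)) (.node (.leaf 7275106) (.leaf 10862933))) (.node (.node (.leaf 2265217) (.leaf 331899)) (.node (.leaf 12923079) (.leaf 11289249)))))))))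

def threeMv5365 : Janko.Tree (ℕ) :=
  (.node (.node (.node (.node (.node (.node (.node (.node (.node (.leaf 10948630) (.leaf 12165772)) (.leaf 4595780)) (.node (.leaf 16745046) (.leaf 16257574))) (.node (.node (.leaf 11669773) (.leaf 5890676)) (.node (.leaf 12534122) (.leaf 12001848)))) (.node (.node (.node (.node (.leaf 5681671) (.leaf 5394818)) (.leaf 16093402)) (.node (.leaf 8900895) (.leaf 13905947))) (.node (.node (.leaf 10334465) (.leaf 12882617)) (.node (.leaf 10367146) (.leaf 16888517))))) (.node (.node (.node (.node (.node (.leaf 7471204) (.leaf 17515107)) (.leaf 4460850)) (.node (.leaf 14520509) (.leaf 12161044))) (.node (.node (.leaf 12194042) (.leaf 5866111)) (.node (.leaf 13558286) (.leaf 12669598)))) (.node (.node (.node (.leaf 2912627) (.leaf 4366903)) (.node (.leaf 524548) (.leaf 11919559))) (.node (.node (.leaf 17101332) (.leaf 4350626)) (.node (.leaf 15311263) (.leaf 16274120)))))) (.node (.node (.node (.node (.node (.node (.leaf 11411777) (.leaf 5685773)) (.leaf 360591)) (.node (.leaf 696983) (.leaf 15638870))) (.node (.node (.leaf 2379869)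 (.leaf 9114230)) (.node (.leaf 11113030) (.leaf 7832083)))) (.node (.node (.node (.node (.leaf 15323228) (.leaf 2241130)) (.leaf 12562855)) (.node (.leaf 8151581) (.leaf 13725710))) (.node (.node (.leaf 17211978) (.leaf 13566477)) (.node (.leaf 5259724) (.leaf 10117546))))) (.node (.node (.node (.node (.node (.leaf 3277291) (.leaf 12087905)) (.leaf 3862571)) (.node (.leaf 5874011) (.leaf 15368208))) (.node (.node (.leaf 11440684) (.leaf 15040689)) (.node (.leaf 8409259) (.leaf 4821041)))) (.node (.node (.node (.leaf 10895802) (.leaf 8823272)) (.node (.leaf 5087928) (.leaf 12050569))) (.node (.node (.leaf 1298937) (.leaf 11714594)) (.node (.leaf 14266440) (.leaf 438514))))))) (.node (.node (.node (.node (.node (.node (.node (.leaf 9195620) (.leaf 4354496)) (.leaf 13832261)) (.node (.leaf 3482156) (.leaf 5050741))) (.node (.node (.leaf 18252376) (.leaf 18202639)) (.node (.leaf 5996872) (.leaf 5829318)))) (.node (.node (.node (.node (.leaf 6123740) (.leaf 8298633)) (.leaf 11788733)) (.node (.leaf 17649744) (.leaf 17432984))) (.node (.node (.leaf 17887530) (.leaf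 15548574)) (.node (.leaf 5079094) (.leaf 291388))))) (.node (.node (.node (.node (.node (.leaf 28940) (.leaf 2093394)) (.leaf 18235460)) (.node (.leaf 17904111) (.leaf 12472873))) (.node (.node (.leaf 10223767) (.leaf 7991553)) (.node (.leaf 7958544) (.leaf 1806425)))) (.node (.node (.node (.leaf 16585010) (.leaf 11878571)) (.node (.leaf 5951836) (.leaf 11354351))) (.node (.node (.leaf 13033757) (.leaf 6152249)) (.node (.leaf 15675487) (.leaf 3539570)))))) (.node (.node (.node (.node (.node (.node (.leaf 11780160) (.leaf 3875481)) (.leaf 2691178)) (.node (.leaf 17883649) (.leaf 15380520))) (.node (.node (.leaf 14471345) (.leaf 1753323)) (.node (.leaf 8572987) (.leaf 5546128)))) (.node (.node (.node (.node (.leaf 3547302) (.leaf 459478)) (.leaf 1233427)) (.node (.leaf 9421409) (.leaf 1933668))) (.node (.node (.leaf 10678501) (.leaf 4276897)) (.node (.leaf 6021562) (.leaf 14180561))))) (.node (.node (.node (.node (.node (.leaf 8766159) (.leaf 1073529)) (.leaf 15298607)) (.node (.leaf 11898894) (.leaf 3506473))) (.node (.node (.leaf 17093277) (.leaf 13095361))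 (.node (.leaf 4333984) (.leaf 6791633)))) (.node (.node (.node (.leaf 2150489) (.leaf 2253014)) (.node (.leaf 7643697) (.leaf 627049))) (.node (.node (.leaf 10269120) (.leaf 9941093)) (.node (.leaf 16814591) (.leaf 7815692)))))))) (.node (.node (.node (.node (.node (.node (.node (.node (.leaf 15540396) (.leaf 2904158)) (.leaf 6132179)) (.node (.leaf 17040088) (.leaf 16380532))) (.node (.node (.leaf 10858941) (.leaf 5845281)) (.node (.leaf 6324671) (.leaf 18051291)))) (.node (.node (.node (.node (.leaf 4088166) (.leaf 14971420)) (.leaf 12308855)) (.node (.leaf 2974376) (.leaf 14922327))) (.node (.node (.leaf 4096434) (.leaf 3613148)) (.node (.leaf 17252502) (.leaf 9724175))))) (.node (.node (.node (.node (.node (.leaf 14619273) (.leaf 6119981)) (.leaf 8999413)) (.node (.leaf 4198794) (.leaf 3878922))) (.node (.node (.leaf 3965603) (.leaf 16499046)) (.node (.leaf 17891834) (.leaf 16564480)))) (.node (.node (.node (.leaf 17793388) (.leaf 7663942)) (.node (.leaf 7737748) (.leaf 2179192))) (.node (.node (.leaf 6709685) (.leaf 12513736)) (.node (.leaf 15868042) (.leaf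 995759)))))) (.node (.node (.node (.node (.node (.node (.leaf 1041062) (.leaf 9261517)) (.leaf 16421500)) (.node (.leaf 17142171) (.leaf 2625911))) (.node (.node (.leaf 630792) (.leaf 15778503)) (.node (.leaf 15516091) (.leaf 15794480)))) (.node (.node (.node (.node (.leaf 5423529) (.leaf 7458958)) (.leaf 6992553)) (.node (.leaf 16323230) (.leaf 12496978))) (.node (.node (.leaf 16753289) (.leaf 13013528)) (.node (.leaf 2760995) (.leaf 4890726))))) (.node (.node (.node (.node (.node (.leaf 17240254) (.leaf 17846401)) (.leaf 15352172)) (.node (.leaf 4989587) (.leaf 15995260))) (.node (.node (.leaf 1306662) (.leaf 4477613)) (.node (.leaf 15684180) (.leaf 17858607)))) (.node (.node (.node (.leaf 12996742) (.leaf 17109405)) (.node (.leaf 3420477) (.leaf 971380))) (.node (.node (.leaf 930397) (.leaf 15094430)) (.node (.leaf 12259602) (.leaf 3117184))))))) (.node (.node (.node (.node (.node (.node (.node (.leaf 3363060) (.leaf 2056786)) (.leaf 6943092)) (.node (.leaf 5992695) (.leaf 8184127))) (.node (.node (.leaf 8888341) (.leaf 13279490)) (.node (.leaf 12869887)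 (.leaf 2101308)))) (.node (.node (.node (.node (.leaf 12865594) (.leaf 8938051)) (.leaf 13242771)) (.node (.leaf 17969332) (.leaf 7319798))) (.node (.node (.leaf 1274296) (.leaf 7729403)) (.node (.leaf 4034923) (.leaf 15946311))))) (.node (.node (.node (.node (.node (.leaf 741911) (.leaf 10940910)) (.leaf 13713751)) (.node (.leaf 9638193) (.leaf 680293))) (.node (.node (.leaf 12034308) (.leaf 13967824)) (.node (.leaf 8524282) (.leaf 12734996)))) (.node (.node (.node (.leaf 7410343) (.leaf 8680122)) (.node (.leaf 2171237) (.leaf 16376123))) (.node (.node (.leaf 12825092) (.leaf 11243710)) (.node (.leaf 5984617) (.leaf 13099094)))))) (.node (.node (.node (.node (.node (.node (.leaf 9670926) (.leaf 17826483)) (.leaf 12878463)) (.node (.leaf 4776441) (.leaf 9384176))) (.node (.node (.leaf 1880241) (.leaf 9937034)) (.node (.leaf 6303783) (.leaf 6500968)))) (.node (.node (.node (.node (.leaf 3600908) (.leaf 14422084)) (.leaf 7295101)) (.node (.leaf 8425846) (.leaf 13717523))) (.node (.node (.leaf 11534579) (.leaf 8446419)) (.node (.leaf 13025620) (.leaf 15413874)))))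 (.node (.node (.node (.node (.node (.leaf 4927542) (.leaf 10727590)) (.leaf 6779229)) (.node (.leaf 8413677) (.leaf 11997804))) (.node (.node (.leaf 2875891) (.leaf 5058651)) (.node (.leaf 6398249) (.leaf 3121808)))) (.node (.node (.node (.leaf 12095762) (.leaf 1229059)) (.node (.leaf 7389892) (.leaf 5222915))) (.node (.node (.leaf 2032199) (.leaf 10608850)) (.node (.leaf 12963858) (.leaf 4559166)))))))))

def threeMv5366 : Janko.Tree (ℕ) :=
  (.node (.node (.node (.node (.node (.node (.node (.node (.node (.leaf 16080988) (.leaf 12636390)) (.leaf 13578474)) (.node (.leaf 5169307) (.leaf 2621466))) (.node (.node (.leaf 17535045) (.leaf 4690287)) (.node (.leaf 5075150) (.leaf 16302720)))) (.node (.node (.node (.node (.leaf 139798) (.leaf 10220130)) (.leaf 836006)) (.node (.leaf 17781381) (.leaf 13091214))) (.node (.node (.leaf 7688626) (.leaf 2208423)) (.node (.leaf 16544062) (.leaf 6517077))))) (.node (.node (.node (.node (.node (.leaf 18055779) (.leaf 15126843)) (.leaf 12595574)) (.node (.leaf 2158616) (.leaf 2183239))) (.node (.node (.leaf 17596636) (.leaf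 9400992)) (.node (.leaf 11149989) (.leaf 12386784)))) (.node (.node (.node (.leaf 15217287) (.leaf 14393846)) (.node (.leaf 10383595) (.leaf 10760465))) (.node (.node (.leaf 12599903) (.leaf 18068181)) (.node (.leaf 5521796) (.leaf 15479266)))))) (.node (.node (.node (.node (.node (.node (.leaf 11477510) (.leaf 14910049)) (.leaf 4673931)) (.node (.leaf 11674183) (.leaf 16704084))) (.node (.node (.leaf 7176476) (.leaf 2404612)) (.node (.leaf 6037815) (.leaf 876557)))) (.node (.node (.node (.node (.leaf 504524) (.leaf 8143329)) (.leaf 14287050)) (.node (.leaf 4170141) (.leaf 8892666))) (.node (.node (.leaf 13918248) (.leaf 209502)) (.node (.leaf 12653116) (.leaf 16015726))))) (.node (.node (.node (.node (.node (.leaf 11165830) (.leaf 168225)) (.leaf 14332042)) (.node (.leaf 14791234) (.leaf 11907438))) (.node (.node (.leaf 12775738) (.leaf 18341903)) (.node (.leaf 328148) (.leaf 5296281)))) (.node (.node (.node (.leaf 9712025) (.leaf 8659272)) (.node (.leaf 688263) (.leaf 942574))) (.node (.node (.leaf 4956720) (.leaf 10658309)) (.node (.leaf 7160231) (.leaf 9150481)))))))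 (.node (.node (.node (.node (.node (.node (.node (.leaf 14233924) (.leaf 7418247)) (.leaf 15753865)) (.node (.leaf 2597200) (.leaf 17130091))) (.node (.node (.leaf 13078697) (.leaf 15659101)) (.node (.leaf 7090750) (.leaf 10035926)))) (.node (.node (.node (.node (.leaf 5837099) (.leaf 11084367)) (.leaf 3027384)) (.node (.leaf 1868033) (.leaf 17088632))) (.node (.node (.leaf 12058743) (.leaf 4973236)) (.node (.leaf 7848042) (.leaf 1413544))))) (.node (.node (.node (.node (.node (.leaf 7582187) (.leaf 2642157)) (.leaf 13087165)) (.node (.leaf 3780794) (.leaf 16085274))) (.node (.node (.leaf 123423) (.leaf 3142219)) (.node (.leaf 8491306) (.leaf 16429707)))) (.node (.node (.node (.leaf 8069232) (.leaf 11460654)) (.node (.leaf 10969696) (.leaf 8212798))) (.node (.node (.leaf 17916060) (.leaf 9466184)) (.node (.leaf 13168923) (.leaf 3350770)))))) (.node (.node (.node (.node (.node (.node (.leaf 8741521) (.leaf 13836422)) (.leaf 11120981)) (.node (.leaf 6893757) (.leaf 4420194))) (.node (.node (.leaf 4920021) (.leaf 11276561)) (.node (.leaf 9220291) (.leaf 5005951))))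 (.node (.node (.node (.node (.leaf 1823441) (.leaf 6287434)) (.leaf 3916392)) (.node (.leaf 17920091) (.leaf 2474383))) (.node (.node (.leaf 14553737) (.leaf 12730931)) (.node (.leaf 11558948) (.leaf 8257713))))) (.node (.node (.node (.node (.node (.leaf 4940188) (.leaf 9048704)) (.leaf 12022109)) (.node (.leaf 15954562) (.leaf 4112778))) (.node (.node (.leaf 3039241) (.leaf 1036994)) (.node (.leaf 10244586) (.leaf 5821083)))) (.node (.node (.node (.leaf 6504622) (.leaf 4481448)) (.node (.leaf 405961) (.leaf 9785601))) (.node (.node (.leaf 6070921) (.leaf 16441742)) (.node (.leaf 11342315) (.leaf 2515634)))))))) (.node (.node (.node (.node (.node (.node (.node (.node (.leaf 14782645) (.leaf 4153617)) (.leaf 12149000)) (.node (.leaf 16937154) (.leaf 14406071))) (.node (.node (.leaf 14524630) (.leaf 5091525)) (.node (.leaf 18219498) (.leaf 3510329)))) (.node (.node (.node (.node (.leaf 14926337) (.leaf 9359362)) (.leaf 1110152)) (.node (.leaf 6058685) (.leaf 13721648))) (.node (.node (.leaf 8975003) (.leaf 999549)) (.node (.leaf 704897) (.leaf 12390843))))) (.node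 (.node (.node (.node (.node (.leaf 5378351) (.leaf 9396396)) (.leaf 12521704)) (.node (.leaf 15647121) (.leaf 1999177))) (.node (.node (.leaf 3248409) (.leaf 14041345)) (.node (.leaf 10318526) (.leaf 9044498)))) (.node (.node (.node (.leaf 1458470) (.leaf 17445078)) (.node (.leaf 9818626) (.leaf 7684466))) (.node (.node (.leaf 393449) (.leaf 7406272)) (.node (.leaf 9249174) (.leaf 7451040)))))) (.node (.node (.node (.node (.node (.node (.leaf 352384) (.leaf 8163404)) (.leaf 12911187)) (.node (.leaf 6492777) (.leaf 16916683))) (.node (.node (.leaf 5918863) (.leaf 8602265)) (.node (.leaf 9978266) (.leaf 8348155)))) (.node (.node (.node (.node (.leaf 17313981) (.leaf 18178589)) (.leaf 7577928)) (.node (.leaf 9843393) (.leaf 3437130))) (.node (.node (.leaf 3080561) (.leaf 9519715)) (.node (.leaf 8396925) (.leaf 10793499))))) (.node (.node (.node (.node (.node (.leaf 7393495) (.leaf 16621900)) (.leaf 5137007)) (.node (.leaf 6455803) (.leaf 18158184))) (.node (.node (.leaf 14381350) (.leaf 3854705)) (.node (.leaf 6250583) (.leaf 8052916)))) (.node (.node (.node (.leaf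 5033984) (.leaf 8594121)) (.node (.leaf 3989974) (.leaf 5706021))) (.node (.node (.leaf 15630667) (.leaf 2556442)) (.node (.leaf 1385141) (.leaf 1888274))))))) (.node (.node (.node (.node (.node (.node (.node (.leaf 1315066) (.leaf 5476485)) (.leaf 9495186)) (.node (.leaf 14401793) (.leaf 9584648))) (.node (.node (.leaf 11739716) (.leaf 6427206)) (.node (.leaf 16699643) (.leaf 10526806)))) (.node (.node (.node (.node (.leaf 15257938) (.leaf 8994867)) (.leaf 2113829)) (.node (.leaf 8565219) (.leaf 8110396))) (.node (.node (.leaf 6521411) (.leaf 1626238)) (.node (.leaf 17785557) (.leaf 6423018))))) (.node (.node (.node (.node (.node (.leaf 5558315) (.leaf 3924625)) (.leaf 2359372)) (.node (.leaf 14442625) (.leaf 17735969))) (.node (.node (.leaf 4067406) (.leaf 13783089)) (.node (.leaf 15577802) (.leaf 10674247)))) (.node (.node (.node (.leaf 389417) (.leaf 1691820)) (.node (.leaf 14012745) (.leaf 10813862))) (.node (.node (.leaf 381118) (.leaf 12280087)) (.node (.leaf 7078542) (.leaf 266917)))))) (.node (.node (.node (.node (.node (.node (.leaf 2937241) (.leaf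 10854742)) (.leaf 10518978)) (.node (.leaf 14200873) (.leaf 14295469))) (.node (.node (.leaf 15122942) (.leaf 8561188)) (.node (.leaf 14713210) (.leaf 17617308)))) (.node (.node (.node (.node (.leaf 9072754) (.leaf 10829912)) (.leaf 7217646)) (.node (.leaf 164124) (.leaf 15565231))) (.node (.node (.leaf 8028576) (.leaf 12099703)) (.node (.leaf 13943092) (.leaf 15618759))))) (.node (.node (.node (.node (.node (.leaf 7025017) (.leaf 12861590)) (.leaf 9167541)) (.node (.leaf 8392824) (.leaf 16097631))) (.node (.node (.leaf 8651289) (.leaf 4469150)) (.node (.leaf 5407316) (.leaf 17822365)))) (.node (.node (.node (.leaf 16486594) (.leaf 4768336)) (.node (.leaf 7787075) (.leaf 8127022))) (.node (.node (.leaf 14463002) (.leaf 7123043)) (.node (.leaf 507939) (.leaf 15331618)))))))))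

def threeMv5367 : Janko.Tree (ℕ) :=
  (.node (.node (.node (.node (.node (.node (.node (.node (.node (.leaf 18198715) (.leaf 11407529)) (.leaf 5157550)) (.node (.leaf 11125280) (.leaf 12607643))) (.node (.node (.leaf 5214683) (.leaf 15200386)) (.node (.leaf 14905437) (.leaf 5677121)))) (.node (.node (.node (.node (.leaf 6041788) (.leaf 13844920)) (.leaf 6853289)) (.node (.leaf 12902902) (.leaf 13910176))) (.node (.node (.leaf 9146553) (.leaf 3145914)) (.node (.leaf 643493) (.leaf 1757744))))) (.node (.node (.node (.node (.node (.leaf 2945544) (.leaf 17686808)) (.leaf 2273577)) (.node (.leaf 10510608) (.leaf 13537610))) (.node (.node (.leaf 12316703) (.leaf 18280770)) (.node (.leaf 3031696) (.leaf 5402889)))) (.node (.node (.node (.leaf 7180336) (.leaf 1191959)) (.node (.leaf 17867050) (.leaf 2851430))) (.node (.node (.leaf 6185130) (.leaf 2155118)) (.node (.leaf 17978054) (.leaf 13300156)))))) (.node (.node (.node (.node (.node (.node (.leaf 3088479) (.leaf 4796547)) (.leaf 4452440)) (.node (.leaf 13414652) (.leaf 3998350))) (.node (.node (.leaf 6160399) (.leaf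 11723152)) (.node (.leaf 12145236) (.leaf 10289512)))) (.node (.node (.node (.node (.leaf 9699631) (.leaf 6701068)) (.leaf 12255519)) (.node (.leaf 8716958) (.leaf 2388553))) (.node (.node (.leaf 14877208) (.leaf 926328)) (.node (.leaf 6775392) (.leaf 10207272))))) (.node (.node (.node (.node (.node (.leaf 815188) (.leaf 15634953)) (.leaf 9203756)) (.node (.leaf 11215429) (.leaf 1277996))) (.node (.node (.leaf 6214158) (.leaf 8372730)) (.node (.leaf 1601686) (.leaf 2568202)))) (.node (.node (.node (.leaf 10109096) (.leaf 13599312)) (.node (.leaf 5734972) (.leaf 2138238))) (.node (.node (.leaf 7020780) (.leaf 7352359)) (.node (.leaf 8405044) (.leaf 15307232))))))) (.node (.node (.node (.node (.node (.node (.node (.leaf 7639741) (.leaf 8380650)) (.leaf 14840414)) (.node (.leaf 2420946) (.leaf 5255245))) (.node (.node (.leaf 3702979) (.leaf 10314080)) (.node (.leaf 17371217) (.leaf 10211358)))) (.node (.node (.node (.node (.leaf 6238475) (.leaf 4604418)) (.leaf 581999)) (.node (.leaf 8655509) (.leaf 5943326))) (.node (.node (.leaf 12698012) (.leaf 7074458)) (.node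 (.leaf 2196132) (.leaf 8556875))))) (.node (.node (.node (.node (.node (.leaf 15708631) (.leaf 9052544)) (.leaf 17973776)) (.node (.leaf 5280420) (.leaf 7762368))) (.node (.node (.leaf 17187432) (.leaf 9629854)) (.node (.leaf 17957230) (.leaf 2809977)))) (.node (.node (.node (.leaf 1188407) (.leaf 6148248)) (.node (.leaf 12603748) (.leaf 14316216))) (.node (.node (.leaf 3830032) (.leaf 14815467)) (.node (.leaf 15622720) (.leaf 15921281)))))) (.node (.node (.node (.node (.node (.node (.leaf 275122) (.leaf 15774314)) (.leaf 15819041)) (.node (.leaf 1769764) (.leaf 9748817))) (.node (.node (.leaf 16667235) (.leaf 9355470)) (.node (.leaf 13709557) (.leaf 3137549)))) (.node (.node (.node (.node (.leaf 6365698) (.leaf 13062310)) (.leaf 8909233)) (.node (.leaf 17789008) (.leaf 16999056))) (.node (.node (.leaf 5587002) (.leaf 7946659)) (.node (.leaf 647677) (.leaf 7803410))))) (.node (.node (.node (.node (.node (.leaf 1081958) (.leaf 1122393)) (.leaf 13377871)) (.node (.leaf 16126129) (.leaf 13529580))) (.node (.node (.leaf 6594965) (.leaf 2617860)) (.node (.leaf 13251247)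 (.leaf 12439998)))) (.node (.node (.node (.leaf 5669144) (.leaf 3338408)) (.node (.leaf 6189612) (.leaf 14225885))) (.node (.node (.leaf 5317243) (.leaf 12104381)) (.node (.leaf 9756985) (.leaf 3375332)))))))) (.node (.node (.node (.node (.node (.node (.node (.node (.leaf 6341250) (.leaf 16208448)) (.leaf 10371306)) (.node (.leaf 8986845) (.leaf 10072180))) (.node (.node (.leaf 3092697) (.leaf 10580524)) (.node (.leaf 14938703) (.leaf 11161793)))) (.node (.node (.node (.node (.leaf 4010593) (.leaf 7013058)) (.leaf 10543203)) (.node (.leaf 12763204) (.leaf 14062129))) (.node (.node (.leaf 1491280) (.leaf 12661017)) (.node (.leaf 7434277) (.leaf 16642277))))) (.node (.node (.node (.node (.node (.leaf 9789548) (.leaf 8188354)) (.leaf 12849841)) (.node (.leaf 12013836) (.leaf 635306))) (.node (.node (.leaf 10457221) (.leaf 18260439)) (.node (.leaf 5480912) (.leaf 18141569)))) (.node (.node (.node (.leaf 8057507) (.leaf 16892415)) (.node (.leaf 15991251) (.leaf 9646570))) (.node (.node (.leaf 1528458) (.leaf 6373600)) (.node (.leaf 9122355) (.leaf 18108711))))))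 (.node (.node (.node (.node (.node (.node (.leaf 7700792) (.leaf 3289298)) (.leaf 1262121)) (.node (.leaf 11371201) (.leaf 16409148))) (.node (.node (.leaf 8724542) (.leaf 3551662)) (.node (.leaf 1012356) (.leaf 13197506)))) (.node (.node (.node (.node (.leaf 12345392) (.leaf 5649058)) (.leaf 7721565)) (.node (.leaf 18133345) (.leaf 414151))) (.node (.node (.leaf 5709905) (.leaf 8691859)) (.node (.leaf 13488464) (.leaf 4014655))))) (.node (.node (.node (.node (.node (.leaf 3928640) (.leaf 9515350)) (.leaf 17576079)) (.node (.leaf 2863496) (.leaf 10420827))) (.node (.node (.leaf 6218117) (.leaf 12722242)) (.node (.leaf 13312595) (.leaf 18309609)))) (.node (.node (.node (.leaf 9961600) (.leaf 11981251)) (.node (.leaf 3260653) (.leaf 4264014))) (.node (.node (.leaf 356602) (.leaf 16310277)) (.node (.leaf 13164958) (.leaf 17641928))))))) (.node (.node (.node (.node (.node (.node (.node (.leaf 15090387) (.leaf 6869606)) (.leaf 8827068)) (.node (.leaf 15987266) (.leaf 13775419))) (.node (.node (.leaf 2011212) (.leaf 17469727)) (.node (.leaf 8544290) (.leaf 13217825))))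 (.node (.node (.node (.node (.leaf 217591) (.leaf 463090)) (.leaf 7983644)) (.node (.leaf 13934828) (.leaf 5746940))) (.node (.node (.leaf 14705191) (.leaf 3690685)) (.node (.leaf 6975527) (.leaf 9265155))))) (.node (.node (.node (.node (.node (.leaf 14807749) (.leaf 12968319)) (.leaf 1499544)) (.node (.leaf 5775548) (.leaf 8970589))) (.node (.node (.leaf 1053020) (.leaf 7200992)) (.node (.leaf 1622421) (.leaf 14659626)))) (.node (.node (.node (.leaf 15495829) (.leaf 7487729)) (.node (.leaf 14290975) (.leaf 5329326))) (.node (.node (.leaf 10535575) (.leaf 3821695)) (.node (.leaf 4546862) (.leaf 16159425)))))) (.node (.node (.node (.node (.node (.node (.leaf 13607487) (.leaf 762077)) (.leaf 5263739)) (.node (.leaf 10125844) (.leaf 6242958))) (.node (.node (.leaf 2662735) (.leaf 1339858)) (.node (.leaf 7262929) (.leaf 7733918)))) (.node (.node (.node (.node (.leaf 6107584) (.leaf 5603635)) (.leaf 4932111)) (.node (.leaf 9625789) (.leaf 10920126))) (.node (.node (.leaf 16462220) (.leaf 3850488)) (.node (.leaf 13705547) (.leaf 14275074))))) (.node (.node (.node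 (.node (.node (.leaf 16454122) (.leaf 5145008)) (.leaf 18268468)) (.node (.leaf 16065120) (.leaf 11628919))) (.node (.node (.leaf 3129708) (.leaf 2081392)) (.node (.leaf 2470400) (.leaf 1089834)))) (.node (.node (.node (.leaf 13193710) (.leaf 4464880)) (.node (.leaf 10801516) (.leaf 6496351))) (.node (.node (.leaf 18149614) (.leaf 12083854)) (.node (.leaf 5906926) (.leaf 17117391)))))))))

def threeMv5368 : Janko.Tree (ℕ) :=
  (.node (.node (.node (.node (.node (.node (.node (.node (.node (.leaf 1294791) (.leaf 8274216)) (.leaf 11805309)) (.node (.leaf 11591796) (.leaf 4100187))) (.node (.node (.leaf 8237775) (.leaf 8553086)) (.node (.leaf 12898793) (.leaf 7631069)))) (.node (.node (.node (.node (.leaf 5251538) (.leaf 13017346)) (.leaf 69711)) (.node (.leaf 2962032) (.leaf 9257158))) (.node (.node (.leaf 6598871) (.leaf 2220677)) (.node (.leaf 15872327) (.leaf 14475832))))) (.node (.node (.node (.node (.node (.leaf 5968258) (.leaf 16413121)) (.leaf 5534082)) (.node (.leaf 1712724) (.leaf 1077664))) (.node (.node (.leaf 14483617) (.leaf 10715538)) (.node (.leaf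 13791713) (.leaf 9253274)))) (.node (.node (.node (.leaf 720951) (.leaf 12845127)) (.node (.leaf 15110431) (.leaf 15138946))) (.node (.node (.leaf 17076853) (.leaf 17190996)) (.node (.leaf 15602319) (.leaf 2126317)))))) (.node (.node (.node (.node (.node (.node (.leaf 16290508) (.leaf 3944542)) (.leaf 5808631)) (.node (.leaf 1523927) (.leaf 2941071))) (.node (.node (.leaf 10256702) (.leaf 16036090)) (.node (.leaf 12509410) (.leaf 8794202)))) (.node (.node (.node (.node (.leaf 12526223) (.leaf 17305963)) (.leaf 5869635)) (.node (.leaf 15749334) (.leaf 17358902))) (.node (.node (.leaf 3469817) (.leaf 5513240)) (.node (.leaf 14193030) (.leaf 8102167))))) (.node (.node (.node (.node (.node (.leaf 12767586) (.leaf 2077122)) (.leaf 12136674)) (.node (.leaf 6103760) (.leaf 16061113))) (.node (.node (.leaf 8847913) (.leaf 4620316)) (.node (.leaf 9363797) (.leaf 17322382)))) (.node (.node (.node (.leaf 12632770) (.leaf 7590329)) (.node (.leaf 3293654) (.leaf 3519092))) (.node (.node (.leaf 6881521) (.leaf 13664651)) (.node (.leaf 11506255) (.leaf 492103))))))) (.node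 (.node (.node (.node (.node (.node (.node (.leaf 3182839) (.leaf 1421878)) (.leaf 8872607)) (.node (.leaf 1007813) (.leaf 9506944))) (.node (.node (.leaf 5029924) (.leaf 17449365)) (.node (.leaf 790960) (.leaf 5767640)))) (.node (.node (.node (.node (.leaf 1212553) (.leaf 12976390)) (.leaf 13570420)) (.node (.leaf 8434212) (.leaf 11337755))) (.node (.node (.leaf 4862374) (.leaf 12759320)) (.node (.leaf 8835799) (.leaf 15270097))))) (.node (.node (.node (.node (.node (.leaf 10997778) (.leaf 9888130)) (.leaf 10818241)) (.node (.leaf 4882525) (.leaf 4039148))) (.node (.node (.leaf 3309576) (.leaf 17489926)) (.node (.leaf 2326691) (.leaf 10399772)))) (.node (.node (.node (.leaf 17441173) (.leaf 7311563)) (.node (.leaf 18170104) (.leaf 6549548))) (.node (.node (.leaf 17805731) (.leaf 16220775)) (.node (.leaf 15905419) (.leaf 16425230)))))) (.node (.node (.node (.node (.node (.node (.leaf 9347419) (.leaf 1733309)) (.leaf 13254863)) (.node (.leaf 18096709) (.leaf 7373181))) (.node (.node (.leaf 516123) (.leaf 9015568)) (.node (.leaf 938094) (.leaf 5910840)))) (.node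 (.node (.node (.node (.leaf 11542608) (.leaf 8499855)) (.leaf 9028015)) (.node (.leaf 15847479) (.leaf 4092428))) (.node (.node (.leaf 9454088) (.leaf 1548676)) (.node (.leaf 1606319) (.leaf 10981911))))) (.node (.node (.node (.node (.node (.leaf 14184761) (.leaf 5210652)) (.leaf 13123822)) (.node (.leaf 5665232) (.leaf 12341816))) (.node (.node (.leaf 2834881) (.leaf 9056593)) (.node (.leaf 8913606) (.leaf 3838322)))) (.node (.node (.node (.leaf 15036702) (.leaf 2859715)) (.node (.leaf 2007050) (.leaf 4702634))) (.node (.node (.leaf 692719) (.leaf 8175718)) (.node (.leaf 12566684) (.leaf 16679449)))))))) (.node (.node (.node (.node (.node (.node (.node (.node (.leaf 17260781) (.leaf 11387057)) (.leaf 13742385)) (.node (.leaf 14168655) (.leaf 12751352))) (.node (.node (.leaf 3068038) (.leaf 17289837)) (.node (.leaf 8400905) (.leaf 9511332)))) (.node (.node (.node (.node (.leaf 15176239) (.leaf 716838)) (.leaf 11469328)) (.node (.leaf 13738066) (.leaf 14836274))) (.node (.node (.leaf 17150074) (.leaf 3760143)) (.node (.leaf 11047329) (.leaf 6332579))))) (.node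 (.node (.node (.node (.node (.leaf 17519001) (.leaf 13234239)) (.leaf 7807199)) (.node (.leaf 6611181) (.leaf 7692929))) (.node (.node (.leaf 13766760) (.leaf 3199520)) (.node (.leaf 7533132) (.leaf 2318917)))) (.node (.node (.node (.leaf 16146577) (.leaf 14872815)) (.node (.leaf 1180082) (.leaf 4530361))) (.node (.node (.leaf 8585756) (.leaf 13849075)) (.node (.leaf 11362768) (.leaf 14308000)))))) (.node (.node (.node (.node (.node (.node (.leaf 3015025) (.leaf 11526306)) (.leaf 3637838)) (.node (.leaf 1417766) (.leaf 13447804))) (.node (.node (.leaf 8204805) (.leaf 16806126)) (.node (.leaf 5411091) (.leaf 2023960)))) (.node (.node (.node (.node (.leaf 3572069) (.leaf 4637154)) (.leaf 6210077)) (.node (.leaf 10871423) (.leaf 6066238))) (.node (.node (.leaf 11645378) (.leaf 10027292)) (.node (.leaf 4026591) (.leaf 9650590))))) (.node (.node (.node (.node (.node (.leaf 15962446) (.leaf 1269771)) (.leaf 9273481)) (.node (.leaf 14143838) (.leaf 2375954))) (.node (.node (.leaf 15733298) (.leaf 1741088)) (.node (.leaf 7266825) (.leaf 2757203)))) (.node (.node (.node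 (.leaf 16658942) (.leaf 7524547)) (.node (.leaf 6271570) (.leaf 6414604))) (.node (.node (.leaf 10199387) (.leaf 14491915)) (.node (.leaf 2994562) (.leaf 6013581))))))) (.node (.node (.node (.node (.node (.node (.node (.leaf 7942184) (.leaf 13930879)) (.leaf 15061603)) (.node (.leaf 11059278) (.leaf 1167525))) (.node (.node (.leaf 17629625) (.leaf 1696047)) (.node (.leaf 7717212) (.leaf 8012016)))) (.node (.node (.node (.node (.leaf 5243565) (.leaf 6865083)) (.leaf 303186)) (.node (.leaf 13144201) (.leaf 14066032))) (.node (.node (.leaf 15114624) (.leaf 9290389)) (.node (.leaf 7570104) (.leaf 15057216))))) (.node (.node (.node (.node (.node (.leaf 12800138) (.leaf 2367997)) (.leaf 7676218)) (.node (.leaf 856609) (.leaf 14844209))) (.node (.node (.leaf 950475) (.leaf 2040241)) (.node (.leaf 651775) (.leaf 12374545)))) (.node (.node (.node (.leaf 13210028) (.leaf 10191127)) (.node (.leaf 3318399) (.leaf 15508056))) (.node (.node (.leaf 9740358) (.leaf 5579432)) (.node (.leaf 18072205) (.leaf 12234848)))))) (.node (.node (.node (.node (.node (.node (.leaf 9224642)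 (.leaf 3834502)) (.leaf 9007759)) (.node (.leaf 11239429) (.leaf 6406347))) (.node (.node (.leaf 14639604) (.leaf 7454848)) (.node (.leaf 1204854) (.leaf 7528488)))) (.node (.node (.node (.node (.leaf 12030373) (.leaf 3674745)) (.leaf 6918579)) (.node (.leaf 5333691) (.leaf 17981666))) (.node (.node (.leaf 15081832) (.leaf 5575053)) (.node (.leaf 13111414) (.leaf 16368243))))) (.node (.node (.node (.node (.node (.leaf 848318) (.leaf 2687280)) (.leaf 3994248)) (.node (.leaf 14696553) (.leaf 8843837))) (.node (.node (.leaf 4694239) (.leaf 11501599)) (.node (.leaf 197214) (.leaf 2659030)))) (.node (.node (.node (.leaf 16879869) (.leaf 2433713)) (.node (.leaf 14532625) (.leaf 9605146))) (.node (.node (.leaf 7865024) (.leaf 7037241)) (.node (.leaf 12452032) (.leaf 5325415)))))))))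

def threeMv5369 : Janko.Tree (ℕ) :=
  (.node (.node (.node (.node (.node (.node (.node (.node (.node (.leaf 13320582) (.leaf 5632068)) (.leaf 10633601)) (.node (.leaf 10772763) (.leaf 7221881))) (.node (.node (.leaf 16912886) (.leaf 12501000)) (.node (.leaf 14803102) (.leaf 3019433)))) (.node (.node (.node (.node (.leaf 1380925) (.leaf 14414018)) (.leaf 9986317)) (.node (.leaf 5628195) (.leaf 9728537))) (.node (.node (.leaf 5726833) (.leaf 15938181)) (.node (.leaf 4063330) (.leaf 13873253))))) (.node (.node (.node (.node (.node (.leaf 11211430) (.leaf 10310026)) (.leaf 16875677)) (.node (.leaf 4211231) (.leaf 9425405))) (.node (.node (.leaf 11153555) (.leaf 434228)) (.node (.leaf 12214806) (.leaf 12173456)))) (.node (.node (.node (.leaf 2887994) (.leaf 14229634)) (.node (.leaf 5804585) (.leaf 795242))) (.node (.node (.leaf 17478088) (.leaf 2175479)) (.node (.leaf 7045375) (.leaf 11002312)))))) (.node (.node (.node (.node (.node (.node (.leaf 6095168) (.leaf 2257518)) (.leaf 15884652)) (.node (.leaf 3809749) (.leaf 12189700))) (.node (.node (.leaf 4218990) (.leaf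 8638894)) (.node (.leaf 8729016) (.leaf 6914402)))) (.node (.node (.node (.node (.leaf 15274472) (.leaf 6299892)) (.leaf 15315662)) (.node (.leaf 7614592) (.leaf 3727853))) (.node (.node (.leaf 9765014) (.leaf 5345792)) (.node (.leaf 9896285) (.leaf 8417415))))) (.node (.node (.node (.node (.node (.leaf 5644732) (.leaf 2986048)) (.leaf 4653217)) (.node (.leaf 958512) (.leaf 6828456))) (.node (.node (.leaf 7790691) (.leaf 15171647)) (.node (.leaf 2322703) (.leaf 4432294)))) (.node (.node (.node (.leaf 10301939) (.leaf 7811444)) (.node (.leaf 3191143) (.leaf 5493201))) (.node (.node (.leaf 10174603) (.leaf 4943879)) (.node (.leaf 12738599) (.leaf 14647601))))))) (.node (.node (.node (.node (.node (.node (.node (.leaf 737561) (.leaf 5182144)) (.leaf 10002824)) (.node (.leaf 6860802) (.leaf 954982))) (.node (.node (.leaf 11866581) (.leaf 7053972)) (.node (.leaf 17695271) (.leaf 16167130)))) (.node (.node (.node (.node (.leaf 5931352) (.leaf 10904170)) (.leaf 16552240)) (.node (.leaf 1225045) (.leaf 14340533))) (.node (.node (.leaf 1028345) (.leaf 12808422)) (.node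 (.leaf 16405108) (.leaf 111074))))) (.node (.node (.node (.node (.node (.leaf 3232170) (.leaf 17302168)) (.leaf 7348555)) (.node (.leaf 15741390) (.leaf 7626766))) (.node (.node (.leaf 17182815) (.leaf 8065041)) (.node (.leaf 16843176) (.leaf 3486066)))) (.node (.node (.node (.leaf 4550673) (.leaf 4149268)) (.node (.leaf 278871) (.leaf 9318520))) (.node (.node (.leaf 4022619) (.leaf 14975427)) (.node (.leaf 8790254) (.leaf 9622022)))))) (.node (.node (.node (.node (.node (.node (.leaf 12575333) (.leaf 17047915)) (.leaf 17674524)) (.node (.leaf 12432068) (.leaf 3224044))) (.node (.node (.leaf 9409083) (.leaf 10915860)) (.node (.leaf 4386972) (.leaf 6221938)))) (.node (.node (.node (.node (.leaf 1479352) (.leaf 1237673)) (.leaf 6111769)) (.node (.leaf 14684276) (.leaf 13914686))) (.node (.node (.leaf 1897172) (.leaf 12538156)) (.node (.leaf 16056903) (.leaf 4427860))))) (.node (.node (.node (.node (.node (.leaf 12681725) (.leaf 16736460)) (.leaf 7426314)) (.node (.leaf 9543934) (.leaf 6660228))) (.node (.node (.leaf 7770520) (.leaf 16863255)) (.node (.leaf 1515780)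 (.leaf 2306082)))) (.node (.node (.node (.leaf 672272) (.leaf 4936275)) (.node (.leaf 16089656) (.leaf 13328518))) (.node (.node (.leaf 3473647) (.leaf 18145401)) (.node (.leaf 8294672) (.leaf 1589841)))))))) (.node (.node (.node (.node (.node (.node (.node (.node (.leaf 2527599) (.leaf 8667232)) (.leaf 4116908)) (.node (.leaf 17023658) (.leaf 12685867))) (.node (.node (.leaf 14934496) (.leaf 13238440)) (.node (.leaf 2650838) (.leaf 1720494)))) (.node (.node (.node (.node (.leaf 1610115) (.leaf 6144150)) (.leaf 4948163)) (.node (.leaf 8761806) (.leaf 14188820))) (.node (.node (.leaf 12583003) (.leaf 4395504)) (.node (.leaf 7197016) (.leaf 13287592))))) (.node (.node (.node (.node (.node (.leaf 3649764) (.leaf 5796065)) (.leaf 528883)) (.node (.leaf 15245534) (.leaf 3154499))) (.node (.node (.leaf 16601768) (.leaf 12886271)) (.node (.leaf 897299) (.leaf 7365304)))) (.node (.node (.node (.leaf 6673065) (.leaf 15581396)) (.node (.leaf 3657807) (.leaf 7987411))) (.node (.node (.leaf 9490531) (.leaf 4268598)) (.node (.leaf 5624501) (.leaf 18297169)))))) (.node (.node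 (.node (.node (.node (.node (.leaf 10719574) (.leaf 1495488)) (.leaf 17633691)) (.node (.leaf 344137) (.leaf 2289877))) (.node (.node (.leaf 17264955) (.leaf 12718300)) (.node (.leaf 15831085) (.leaf 4677666)))) (.node (.node (.node (.node (.leaf 8687704) (.leaf 15712967)) (.leaf 18018877)) (.node (.leaf 15536617) (.leaf 14778497))) (.node (.node (.leaf 7921903) (.leaf 11079873)) (.node (.leaf 8319019) (.leaf 2732438))))) (.node (.node (.node (.node (.node (.leaf 2678996) (.leaf 17502239)) (.leaf 15012202)) (.node (.leaf 10141786) (.leaf 299481))) (.node (.node (.leaf 6685262) (.leaf 9293880)) (.node (.leaf 7107243) (.leaf 3920565)))) (.node (.node (.node (.leaf 16433210) (.leaf 10326138)) (.node (.leaf 12956172) (.leaf 18100856))) (.node (.node (.leaf 12378438) (.leaf 4346425)) (.node (.leaf 3166711) (.leaf 6545505))))))) (.node (.node (.node (.node (.node (.node (.node (.leaf 4518405) (.leaf 10322190)) (.leaf 4903000)) (.node (.leaf 16478333) (.leaf 12468270))) (.node (.node (.leaf 9601730) (.leaf 13897837)) (.node (.leaf 11653616) (.leaf 17949229)))) (.node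 (.node (.node (.node (.leaf 2871470) (.leaf 5730708)) (.leaf 13828608)) (.node (.leaf 14054053) (.leaf 8896550))) (.node (.node (.leaf 4473241) (.leaf 8954364)) (.node (.leaf 843905) (.leaf 16576787))))) (.node (.node (.node (.node (.node (.leaf 3498124) (.leaf 1908744)) (.leaf 6627706)) (.node (.leaf 17277167) (.leaf 4969014))) (.node (.node (.leaf 15765922) (.leaf 2748747)) (.node (.leaf 5542424) (.leaf 7668018)))) (.node (.node (.node (.leaf 106584) (.leaf 10305655)) (.node (.leaf 7008480) (.leaf 385537))) (.node (.node (.leaf 14361086) (.leaf 3977232)) (.node (.leaf 16150674) (.leaf 16994781)))))) (.node (.node (.node (.node (.node (.node (.leaf 2441431) (.leaf 4846010)) (.leaf 10698947)) (.node (.leaf 4747572) (.leaf 10375770))) (.node (.node (.leaf 5816456) (.leaf 3265010)) (.node (.leaf 6787129) (.leaf 2613355)))) (.node (.node (.node (.node (.leaf 1585749) (.leaf 10559811)) (.leaf 3194961)) (.node (.leaf 16536242) (.leaf 13853040))) (.node (.node (.leaf 1638402) (.leaf 4698525)) (.node (.leaf 6607372) (.leaf 6586712))))) (.node (.node (.node (.node (.node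 (.leaf 13066603) (.leaf 11202778)) (.leaf 102989)) (.node (.leaf 16285762) (.leaf 10662186))) (.node (.node (.leaf 2724376) (.leaf 4313385)) (.node (.leaf 4682362) (.leaf 9830756)))) (.node (.node (.node (.leaf 8712585) (.leaf 15446180)) (.node (.leaf 11624660) (.leaf 2343516))) (.node (.node (.leaf 17310410) (.leaf 11313629)) (.node (.leaf 8777849) (.leaf 1519893)))))))))

def threeMv53610 : Janko.Tree (ℕ) :=
  (.node (.node (.node (.node (.node (.node (.node (.node (.node (.leaf 4305244) (.leaf 12984543)) (.leaf 8430104)) (.node (.leaf 4960859) (.leaf 9376051))) (.node (.node (.leaf 4723070) (.leaf 9572600)) (.node (.leaf 17473946) (.leaf 2191872)))) (.node (.node (.node (.node (.leaf 7356700) (.leaf 17404240)) (.leaf 6049851)) (.node (.leaf 9920841) (.leaf 893353))) (.node (.node (.leaf 1876032) (.leaf 10805694)) (.node (.leaf 9822301) (.leaf 3207212))))) (.node (.node (.node (.node (.node (.leaf 16970129) (.leaf 5140813)) (.leaf 6955658)) (.node (.leaf 11268792) (.leaf 471514))) (.node (.node (.leaf 7213716) (.leaf 14725793)) (.node (.leaf 10158274) (.leaf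 15487017)))) (.node (.node (.node (.leaf 13148578) (.leaf 15888996)) (.node (.leaf 9171596) (.leaf 9802057))) (.node (.node (.leaf 11939859) (.leaf 2531617)) (.node (.leaf 7512267) (.leaf 9810300)))))) (.node (.node (.node (.node (.node (.node (.leaf 2957485) (.leaf 6988218)) (.leaf 4850033)) (.node (.leaf 6578723) (.leaf 6574214))) (.node (.node (.leaf 13602847) (.leaf 10781322)) (.node (.leaf 16228535) (.leaf 16847077)))) (.node (.node (.node (.node (.leaf 12485301) (.leaf 17162651)) (.leaf 11182318)) (.node (.leaf 12407409) (.leaf 11272500))) (.node (.node (.leaf 4657158) (.leaf 15917430)) (.node (.leaf 6557805) (.leaf 10740069))))) (.node (.node (.node (.node (.node (.leaf 14205359) (.leaf 12108136)) (.leaf 11792661)) (.node (.leaf 4809074) (.leaf 10879642))) (.node (.node (.leaf 7065873) (.leaf 8958662)) (.node (.leaf 339980) (.leaf 16363727)))) (.node (.node (.node (.leaf 16401042) (.leaf 1729000)) (.node (.leaf 1134931) (.leaf 1474748))) (.node (.node (.leaf 8233105) (.leaf 4575830)) (.node (.leaf 4055153) (.leaf 17272865))))))) (.node (.node (.node (.node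 (.node (.node (.node (.leaf 5988963) (.leaf 11764201)) (.leaf 5922966)) (.node (.leaf 4923836) (.leaf 13222236))) (.node (.node (.leaf 7237838) (.leaf 1405218)) (.node (.leaf 15442632) (.leaf 12529919)))) (.node (.node (.node (.node (.leaf 2539530) (.leaf 13345332)) (.leaf 348863)) (.node (.leaf 3793566) (.leaf 4649217))) (.node (.node (.leaf 6443291) (.leaf 12873938)) (.node (.leaf 2928936) (.leaf 9704062))))) (.node (.node (.node (.node (.node (.leaf 11358210) (.leaf 15827382)) (.leaf 1057229)) (.node (.leaf 11018906) (.leaf 11743823))) (.node (.node (.leaf 18240015) (.leaf 3899584)) (.node (.leaf 10236061) (.leaf 1986948)))) (.node (.node (.node (.leaf 7303590) (.leaf 7139983)) (.node (.leaf 16384099) (.leaf 3564014))) (.node (.node (.leaf 10248887) (.leaf 13172854)) (.node (.leaf 7205521) (.leaf 12198233)))))) (.node (.node (.node (.node (.node (.node (.leaf 7438586) (.leaf 8470557)) (.leaf 7233624)) (.node (.leaf 12480572) (.leaf 15552523))) (.node (.node (.leaf 12018372) (.leaf 8700283)) (.node (.leaf 16986580) (.leaf 16674945)))) (.node (.node (.node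 (.node (.leaf 1048770) (.leaf 13226155)) (.leaf 16216758)) (.node (.leaf 15511869) (.leaf 15278247))) (.node (.node (.leaf 8905302) (.leaf 819641)) (.node (.leaf 15761426) (.leaf 9339019))))) (.node (.node (.node (.node (.node (.leaf 15450607) (.leaf 14586256)) (.leaf 2232414)) (.node (.leaf 12694078) (.leaf 14262974))) (.node (.node (.leaf 8049331) (.leaf 14398033)) (.node (.leaf 11206682) (.leaf 1265816)))) (.node (.node (.node (.leaf 2277542) (.leaf 15671638)) (.node (.leaf 9990391) (.leaf 10588657))) (.node (.node (.leaf 7270837) (.leaf 7750282)) (.node (.leaf 7893163) (.leaf 11886620)))))))) (.node (.node (.node (.node (.node (.node (.node (.node (.leaf 15356612) (.leaf 778388)) (.leaf 14991789)) (.node (.leaf 5370082) (.leaf 5165581))) (.node (.node (.leaf 7430238) (.leaf 8241619)) (.node (.leaf 9916684) (.leaf 13885837)))) (.node (.node (.node (.node (.leaf 15405565) (.leaf 8884634)) (.leaf 983385)) (.node (.leaf 987253) (.leaf 10825748))) (.node (.node (.leaf 17851011) (.leaf 11391167)) (.node (.leaf 4980980) (.leaf 8610080))))) (.node (.node (.node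 (.node (.node (.leaf 14082744) (.leaf 8020559)) (.leaf 1220958)) (.node (.leaf 7549558) (.leaf 11419810))) (.node (.node (.leaf 1442462) (.leaf 8962343)) (.node (.leaf 6934664) (.leaf 12328968)))) (.node (.node (.node (.leaf 12489295) (.leaf 270372)) (.node (.leaf 467138) (.leaf 7282788))) (.node (.node (.leaf 1466642) (.leaf 16769717)) (.node (.leaf 11620900) (.leaf 5288445)))))) (.node (.node (.node (.node (.node (.node (.leaf 4104568) (.leaf 14070213)) (.leaf 14516557)) (.node (.leaf 8966192) (.leaf 9994897))) (.node (.node (.leaf 14455206) (.leaf 98846)) (.node (.leaf 13136253) (.leaf 6729889)))) (.node (.node (.node (.node (.leaf 13443477) (.leaf 1400849)) (.leaf 7713405)) (.node (.leaf 1630543) (.leaf 10797274))) (.node (.node (.leaf 13926971) (.leaf 901456)) (.node (.leaf 9302189) (.leaf 3285101))))) (.node (.node (.node (.node (.node (.leaf 10748242) (.leaf 798858)) (.leaf 7839971)) (.node (.leaf 9478180) (.leaf 17621066))) (.node (.node (.leaf 8802558) (.leaf 5202470)) (.node (.leaf 6901791) (.leaf 16507028)))) (.node (.node (.node (.leaf 749950) (.leaf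 17084691)) (.node (.leaf 3907973) (.leaf 17580438))) (.node (.node (.leaf 585849) (.leaf 6001022)) (.node (.leaf 1450528) (.leaf 1565276))))))) (.node (.node (.node (.node (.node (.node (.node (.leaf 9965807) (.leaf 4952622)) (.leaf 4718811)) (.node (.leaf 16646525) (.leaf 17363524))) (.node (.node (.leaf 14671974) (.leaf 10875198)) (.node (.leaf 15982754) (.leaf 4633127)))) (.node (.node (.node (.node (.leaf 7082693) (.leaf 16613900)) (.leaf 242225)) (.node (.leaf 205267) (.leaf 11064006))) (.node (.node (.leaf 15106513) (.leaf 12456376)) (.node (.leaf 618955) (.leaf 17666127))))) (.node (.node (.node (.node (.node (.leaf 2462028) (.leaf 9126416)) (.leaf 5218867)) (.node (.leaf 3747945) (.leaf 1642572))) (.node (.node (.leaf 5902970) (.leaf 15438064)) (.node (.leaf 1761281) (.leaf 3687040)))) (.node (.node (.node (.leaf 16904834) (.leaf 13951018)) (.node (.leaf 16105795) (.leaf 9474363))) (.node (.node (.leaf 7926471) (.leaf 17355051)) (.node (.leaf 12726353) (.leaf 1176087)))))) (.node (.node (.node (.node (.node (.node (.leaf 16789564) (.leaf 17015349)) (.leaf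 5882484)) (.node (.leaf 9486701) (.leaf 6816000))) (.node (.node (.leaf 12079740) (.leaf 3109349)) (.node (.leaf 16212340) (.leaf 2822218)))) (.node (.node (.node (.node (.leaf 7483418) (.leaf 2408620)) (.leaf 10039776)) (.node (.leaf 18190861) (.leaf 15798926))) (.node (.node (.leaf 3645941) (.leaf 11731126)) (.node (.leaf 3858965) (.leaf 3043987))))) (.node (.node (.node (.node (.node (.leaf 15999198) (.leaf 5460385)) (.leaf 12231249)) (.node (.leaf 16539781) (.leaf 2044077))) (.node (.node (.leaf 7164330) (.leaf 7541303)) (.node (.leaf 2572818) (.leaf 1438211)))) (.node (.node (.node (.leaf 12333695) (.leaf 2429093)) (.node (.leaf 94342) (.leaf 14549355))) (.node (.node (.leaf 13697516) (.leaf 13074915)) (.node (.leaf 7647447) (.leaf 10359383)))))))))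

def threeMv53611 : Janko.Tree (ℕ) :=
  (.node (.node (.node (.node (.node (.node (.node (.node (.node (.leaf 13439491) (.leaf 73760)) (.leaf 7299253)) (.node (.leaf 12817075) (.leaf 8933795))) (.node (.node (.leaf 5161331) (.leaf 7245866)) (.node (.leaf 8359962) (.leaf 16953945)))) (.node (.node (.node (.node (.leaf 14324299) (.leaf 17412348)) (.leaf 311885)) (.node (.leaf 6688981) (.leaf 3695110))) (.node (.node (.leaf 13992521) (.leaf 17699155)) (.node (.leaf 7188869) (.leaf 14147881))))) (.node (.node (.node (.node (.node (.leaf 7696648) (.leaf 16597533)) (.leaf 12554348)) (.node (.leaf 17719473) (.leaf 14754294))) (.node (.node (.leaf 11260546) (.leaf 17989832)) (.node (.leaf 16199942) (.leaf 15975067)))) (.node (.node (.node (.leaf 8798449) (.leaf 17236188)) (.node (.leaf 13365392) (.leaf 15045159))) (.node (.node (.leaf 17171023) (.leaf 4628484)) (.node (.leaf 2142748) (.leaf 4661329)))))) (.node (.node (.node (.node (.node (.node (.leaf 16728254) (.leaf 7344304)) (.leaf 2576935)) (.node (.leaf 8355893) (.leaf 15855758))) (.node (.node (.leaf 4231685)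 (.leaf 24799)) (.node (.leaf 12321157) (.leaf 11444495)))) (.node (.node (.node (.node (.leaf 7172454) (.leaf 1511958)) (.leaf 14868593)) (.node (.leaf 3097299) (.leaf 1249369))) (.node (.node (.leaf 17220178) (.leaf 7725357)) (.node (.leaf 8077851) (.leaf 10789259))))) (.node (.node (.node (.node (.node (.leaf 4833965) (.leaf 4853832)) (.leaf 3756470)) (.node (.leaf 12218819) (.leaf 13386208))) (.node (.node (.leaf 7905351) (.leaf 9404698)) (.node (.leaf 14369228) (.leaf 14709271)))) (.node (.node (.node (.leaf 8696201) (.leaf 17952879)) (.node (.leaf 2605562) (.leaf 16867472))) (.node (.node (.leaf 14930284) (.leaf 17068622)) (.node (.leaf 12025929) (.leaf 1253494))))))) (.node (.node (.node (.node (.node (.node (.node (.leaf 176151) (.leaf 11051354)) (.leaf 3461462)) (.node (.leaf 3403985) (.leaf 17908158))) (.node (.node (.leaf 4654) (.leaf 2400869)) (.node (.leaf 6349367) (.leaf 1061519)))) (.node (.node (.node (.node (.leaf 6652161) (.leaf 15822852)) (.leaf 9613591)) (.node (.leaf 14246186) (.leaf 18010138))) (.node (.node (.leaf 11636940) (.leaf 8310959))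 (.node (.leaf 14086470) (.leaf 3629161))))) (.node (.node (.node (.node (.node (.leaf 10764757) (.leaf 3133887)) (.leaf 61495)) (.node (.leaf 17723629) (.leaf 18211223))) (.node (.node (.leaf 14741953) (.leaf 201108)) (.node (.leaf 14573628) (.leaf 1921723)))) (.node (.node (.node (.leaf 9707989) (.leaf 15454654)) (.node (.leaf 6848634) (.leaf 57731))) (.node (.node (.leaf 16609420) (.leaf 127425)) (.node (.leaf 12645018) (.leaf 8462499)))))) (.node (.node (.node (.node (.node (.node (.leaf 5739220) (.leaf 12493246)) (.leaf 15737327)) (.node (.leaf 5976092) (.leaf 14827595))) (.node (.node (.leaf 15782318) (.leaf 4292728)) (.node (.leaf 4047473) (.leaf 8630800)))) (.node (.node (.node (.node (.leaf 1937499) (.leaf 12415)) (.leaf 1433733)) (.node (.leaf 6570439) (.leaf 12382723))) (.node (.node (.leaf 8220712) (.leaf 13107813)) (.node (.leaf 17465962) (.leaf 15528474))))) (.node (.node (.node (.node (.node (.leaf 14999640) (.leaf 6820258)) (.leaf 2895883)) (.node (.leaf 16028234) (.leaf 5567166))) (.node (.node (.leaf 11145686) (.leaf 451044)) (.node (.leaf 16794165)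 (.leaf 10723628)))) (.node (.node (.node (.leaf 7115449) (.leaf 13390046)) (.node (.leaf 7381409) (.leaf 6639697))) (.node (.node (.leaf 2069197) (.leaf 11129342)) (.node (.leaf 13652644) (.leaf 16945813)))))))) (.node (.node (.node (.node (.node (.node (.node (.node (.leaf 5496967) (.leaf 5538057)) (.leaf 2249302)) (.node (.leaf 13574338) (.leaf 17817765))) (.node (.node (.leaf 7757976) (.leaf 10596355)) (.node (.leaf 3441102) (.leaf 15098058)))) (.node (.node (.node (.node (.leaf 8208989) (.leaf 8818796)) (.leaf 15680023)) (.node (.leaf 11068118) (.leaf 14336645))) (.node (.node (.leaf 13902156) (.leaf 13521577)) (.node (.leaf 9945644) (.leaf 4710443))))) (.node (.node (.node (.node (.node (.leaf 15934015) (.leaf 10146020)) (.leaf 13615219)) (.node (.leaf 86095) (.leaf 6320517))) (.node (.node (.leaf 9457922) (.leaf 10097130)) (.node (.leaf 10694663) (.leaf 3739969)))) (.node (.node (.node (.leaf 230036) (.leaf 7086749)) (.node (.leaf 1245766) (.leaf 10686964))) (.node (.node (.leaf 1774029) (.leaf 13623659)) (.node (.leaf 18174277) (.leaf 14385647)))))) (.node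 (.node (.node (.node (.node (.node (.leaf 1962285) (.leaf 11600483)) (.leaf 11833741)) (.node (.leaf 4534514) (.leaf 8475035))) (.node (.node (.leaf 1745596) (.leaf 13131940)) (.node (.leaf 10838736) (.leaf 13475977)))) (.node (.node (.node (.node (.leaf 16101599) (.leaf 676236)) (.leaf 10994073)) (.node (.leaf 15893177) (.leaf 10637478))) (.node (.node (.leaf 16908981) (.leaf 1581704)) (.node (.leaf 2298141) (.leaf 16941479))))) (.node (.node (.node (.node (.node (.leaf 9928758) (.leaf 17936750)) (.leaf 10932638)) (.node (.leaf 10043495) (.leaf 557661))) (.node (.node (.leaf 7798819) (.leaf 4076129)) (.node (.leaf 16777358) (.leaf 12550693)))) (.node (.node (.node (.leaf 5271943) (.leaf 8229265)) (.node (.leaf 1794476) (.leaf 5173284))) (.node (.node (.leaf 16474277) (.leaf 12178081)) (.node (.leaf 12006038) (.leaf 15569555))))))) (.node (.node (.node (.node (.node (.node (.node (.leaf 6435367) (.leaf 7938061)) (.leaf 18006090)) (.node (.leaf 10088542) (.leaf 6488791))) (.node (.node (.leaf 12915181) (.leaf 5267545)) (.node (.leaf 1159779) (.leaf 14111031))))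 (.node (.node (.node (.node (.leaf 10625489) (.leaf 12546704)) (.leaf 13959750)) (.node (.leaf 1360376) (.leaf 2855140))) (.node (.node (.leaf 14663946) (.leaf 14033592)) (.node (.leaf 13324307) (.leaf 18293157))))) (.node (.node (.node (.node (.node (.leaf 17711227) (.leaf 11821732)) (.leaf 10478262)) (.node (.leaf 10743824) (.leaf 8315498))) (.node (.node (.leaf 6316726) (.leaf 16634214)) (.node (.leaf 17658265) (.leaf 2715927)))) (.node (.node (.node (.leaf 4510422) (.leaf 10260878)) (.node (.leaf 17137844) (.leaf 14987752))) (.node (.node (.leaf 13349592) (.leaf 3621561)) (.node (.leaf 11686364) (.leaf 15319049)))))) (.node (.node (.node (.node (.node (.node (.leaf 13820050) (.leaf 12927453)) (.leaf 3433050)) (.node (.leaf 1540400) (.leaf 15724668))) (.node (.node (.leaf 10604917) (.leaf 4563108)) (.node (.leaf 17707185) (.leaf 13804236)))) (.node (.node (.node (.node (.leaf 7258516) (.leaf 9953724)) (.leaf 13258942)) (.node (.leaf 9097892) (.leaf 2916950))) (.node (.node (.leaf 14570136) (.leaf 663563)) (.node (.leaf 3666016) (.leaf 9564550))))) (.node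 (.node (.node (.node (.node (.leaf 12263984) (.leaf 17269458)) (.leaf 15147093)) (.node (.leaf 16003399) (.leaf 14508574))) (.node (.node (.leaf 15716517) (.leaf 16265234)) (.node (.leaf 12157420) (.leaf 14885149)))) (.node (.node (.node (.leaf 2646610) (.leaf 962846)) (.node (.leaf 12128384) (.leaf 7332041))) (.node (.node (.leaf 12894913) (.leaf 2285927)) (.node (.leaf 15929383) (.leaf 18030633)))))))))

def threeMv53612 : Janko.Tree (ℕ) :=
  (.node (.node (.node (.node (.node (.node (.node (.node (.node (.leaf 12362238) (.leaf 12464688)) (.leaf 16019936)) (.node (.leaf 3273424) (.leaf 5398861))) (.node (.node (.leaf 13955602) (.leaf 16457986)) (.node (.leaf 6267572) (.leaf 873144)))) (.node (.node (.node (.node (.leaf 15610387) (.leaf 5235055)) (.leaf 3112979)) (.node (.leaf 9445773) (.leaf 14942746))) (.node (.node (.leaf 3932805) (.leaf 11583806)) (.node (.leaf 11006629) (.leaf 12836873))))) (.node (.node (.node (.node (.node (.leaf 17195490) (.leaf 6602904)) (.leaf 4784430)) (.node (.leaf 1901113) (.leaf 18121160))) (.node (.node (.leaf 13746702) (.leaf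 16183438)) (.node (.leaf 549187) (.leaf 10539511)))) (.node (.node (.node (.leaf 3002938) (.leaf 2454001)) (.node (.leaf 8839191) (.leaf 14467074))) (.node (.node (.leaf 6877710) (.leaf 3981828)) (.node (.leaf 7913741) (.leaf 3371596)))))) (.node (.node (.node (.node (.node (.node (.leaf 9839253) (.leaf 18137120)) (.leaf 14118943)) (.node (.leaf 10768889) (.leaf 11485378))) (.node (.node (.leaf 12649005) (.leaf 17961603)) (.node (.leaf 3416333) (.leaf 5308494)))) (.node (.node (.node (.node (.leaf 17764382) (.leaf 13787141)) (.leaf 4977336)) (.node (.leaf 7950795) (.leaf 17297708))) (.node (.node (.leaf 10486437) (.leaf 9437746)) (.node (.leaf 14676522) (.leaf 10432607))))) (.node (.node (.node (.node (.node (.leaf 15003983) (.leaf 13410338)) (.leaf 16548030)) (.node (.leaf 1323495) (.leaf 8597572))) (.node (.node (.leaf 7032955) (.leaf 6931087)) (.node (.leaf 9314972) (.leaf 14594304)))) (.node (.node (.node (.leaf 17645930) (.leaf 336122)) (.node (.leaf 16281724) (.leaf 827534))) (.node (.node (.leaf 17604973) (.leaf 11711164)) (.node (.leaf 1351811) (.leaf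 532622))))))) (.node (.node (.node (.node (.node (.node (.node (.leaf 12288496) (.leaf 13283816)) (.leaf 6419140)) (.node (.leaf 1970865) (.leaf 18038800))) (.node (.node (.leaf 6193623) (.leaf 11457135)) (.node (.leaf 16519739) (.leaf 10707659)))) (.node (.node (.node (.node (.leaf 7672002) (.leaf 15118883)) (.leaf 700790)) (.node (.leaf 7659658) (.leaf 13811871))) (.node (.node (.leaf 8982641) (.leaf 13533851)) (.node (.leaf 15790641) (.leaf 8569194))))) (.node (.node (.node (.node (.node (.leaf 2204120) (.leaf 11846132)) (.leaf 15024495)) (.node (.leaf 9154575) (.leaf 6656433))) (.node (.node (.leaf 7967259) (.leaf 17453409)) (.node (.leaf 18333740) (.leaf 17945283)))) (.node (.node (.node (.leaf 979413) (.leaf 13434945)) (.node (.leaf 10850438) (.leaf 8487172))) (.node (.node (.leaf 9330843) (.leaf 17924789)) (.node (.leaf 11330141) (.leaf 1487562)))))) (.node (.node (.node (.node (.node (.node (.leaf 11350487) (.leaf 15745682)) (.leaf 6746816)) (.node (.leaf 12771580) (.leaf 12124579))) (.node (.node (.leaf 9019503) (.leaf 11797168)) (.node (.leaf 6328505)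 (.leaf 3490221)))) (.node (.node (.node (.node (.leaf 3424389) (.leaf 11035158)) (.leaf 6766642)) (.node (.leaf 8454292) (.leaf 15409613))) (.node (.node (.leaf 13505230) (.leaf 577972)) (.node (.leaf 14856834) (.leaf 1544892))))) (.node (.node (.node (.node (.node (.leaf 17428671) (.leaf 17809669)) (.leaf 1425797)) (.node (.leaf 7909828) (.leaf 11096486))) (.node (.node (.leaf 11948458) (.leaf 14156433)) (.node (.leaf 17703126) (.leaf 5021774)))) (.node (.node (.node (.leaf 3871209) (.leaf 8323420)) (.node (.leaf 6635931) (.leaf 14823608))) (.node (.node (.leaf 6083070) (.leaf 9883867)) (.node (.leaf 18244104) (.leaf 16695833)))))))) (.node (.node (.node (.node (.node (.node (.node (.node (.leaf 13800096) (.leaf 17056129)) (.leaf 1810716)) (.node (.leaf 10363047) (.leaf 6951580))) (.node (.node (.leaf 2211928) (.leaf 14241870)) (.node (.leaf 12559000) (.leaf 17928411)))) (.node (.node (.node (.node (.leaf 5505212) (.leaf 11014729)) (.leaf 9592953)) (.node (.leaf 7327892) (.leaf 914063))) (.node (.node (.leaf 1200717) (.leaf 7897112)) (.node (.leaf 2482326)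 (.leaf 8245595))))) (.node (.node (.node (.node (.node (.leaf 7843872) (.leaf 6234358)) (.leaf 12988480)) (.node (.leaf 1851932) (.leaf 6824280))) (.node (.node (.leaf 6697615) (.leaf 17506703)) (.node (.leaf 13763212) (.leaf 7536922)))) (.node (.node (.node (.leaf 5914827) (.leaf 8331421)) (.node (.leaf 2314294) (.leaf 2294317))) (.node (.node (.leaf 3784716) (.leaf 4141181)) (.node (.leaf 5894371) (.leaf 12222903)))))) (.node (.node (.node (.node (.node (.node (.leaf 11424048) (.leaf 5276345)) (.leaf 6718105)) (.node (.leaf 713359) (.leaf 2773143))) (.node (.node (.leaf 17027273) (.leaf 1364461)) (.node (.leaf 11587737) (.leaf 5447751)))) (.node (.node (.node (.node (.leaf 10907829) (.leaf 14004784)) (.leaf 8536695)) (.node (.leaf 2372085) (.leaf 7127136))) (.node (.node (.leaf 17690710) (.leaf 6803956)) (.node (.leaf 3367458) (.leaf 12337212))))) (.node (.node (.node (.node (.node (.leaf 4391475) (.leaf 1196521)) (.leaf 16949923)) (.node (.leaf 8855937) (.leaf 6344897))) (.node (.node (.leaf 10494590) (.leaf 8950147)) (.node (.leaf 17863011) (.leaf 10031381))))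 (.node (.node (.node (.leaf 4194877) (.leaf 10338887)) (.node (.leaf 14795395) (.leaf 15282895))) (.node (.node (.leaf 15049089) (.leaf 4309121)) (.node (.leaf 10019038) (.leaf 14373445))))))) (.node (.node (.node (.node (.node (.node (.node (.leaf 6529204) (.leaf 6439331)) (.leaf 10584488)) (.node (.leaf 7475383) (.leaf 5562525))) (.node (.node (.leaf 1958220) (.leaf 9379937)) (.node (.leaf 6459860) (.leaf 13160452)))) (.node (.node (.node (.node (.leaf 10293803) (.leaf 9310281)) (.leaf 909764)) (.node (.leaf 16650313) (.leaf 2458306))) (.node (.node (.leaf 12415181) (.leaf 13988481)) (.node (.leaf 11735248) (.leaf 10670259))))) (.node (.node (.node (.node (.node (.leaf 15028304) (.leaf 11752047)) (.leaf 5657193)) (.node (.leaf 1098315) (.leaf 9912515))) (.node (.node (.leaf 7307694) (.leaf 5583568)) (.node (.leaf 4743281) (.leaf 5018181)))) (.node (.node (.node (.leaf 6390170) (.leaf 8438014)) (.node (.leaf 18063579) (.leaf 17965379))) (.node (.node (.leaf 13517230) (.leaf 13640143)) (.node (.leaf 14127643) (.leaf 13549915)))))) (.node (.node (.node (.node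 (.node (.node (.leaf 15032640) (.leaf 10395888)) (.leaf 14237787)) (.node (.leaf 2703770) (.leaf 10621494))) (.node (.node (.leaf 5366194) (.leaf 16294090)) (.node (.leaf 16900517) (.leaf 14426191)))) (.node (.node (.node (.node (.leaf 8036837) (.leaf 7545008)) (.leaf 16343648)) (.node (.leaf 5750785) (.leaf 7999516))) (.node (.node (.leaf 14102688) (.leaf 9687166)) (.node (.leaf 10080539) (.leaf 15704088))))) (.node (.node (.node (.node (.node (.leaf 81965) (.leaf 1044906)) (.leaf 9159035)) (.node (.leaf 12853388) (.leaf 17572104))) (.node (.node (.leaf 10985557) (.leaf 5103659)) (.node (.leaf 11481091) (.leaf 5743247)))) (.node (.node (.node (.leaf 6808155) (.leaf 10052052)) (.node (.leaf 430491) (.leaf 11333810))) (.node (.node (.leaf 9949510) (.leaf 15262109)) (.node (.leaf 12071623) (.leaf 3158634)))))))))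

def threeMv53613 : Janko.Tree (ℕ) :=
  (.node (.node (.node (.node (.node (.node (.node (.node (.node (.leaf 7254245) (.leaf 3268741)) (.leaf 6172835)) (.node (.leaf 1118865) (.leaf 12186229))) (.node (.node (.leaf 15376947) (.leaf 12066923)) (.node (.leaf 148106) (.leaf 782778)))) (.node (.node (.node (.node (.leaf 1703987) (.leaf 14983224)) (.leaf 536626)) (.node (.leaf 4665767) (.leaf 3100767))) (.node (.node (.leaf 3788981) (.leaf 397593)) (.node (.leaf 14967512) (.leaf 12783832))))) (.node (.node (.node (.node (.node (.leaf 2355696) (.leaf 13496999)) (.leaf 10989623)) (.node (.leaf 2814217) (.leaf 1139051))) (.node (.node (.leaf 10272987) (.leaf 5718069)) (.node (.leaf 12120340) (.leaf 17662637)))) (.node (.node (.node (.leaf 16240925) (.leaf 7463078)) (.node (.leaf 8024722) (.leaf 2490940))) (.node (.node (.leaf 13381850) (.leaf 16527694)) (.node (.leaf 12841400) (.leaf 3162404)))))) (.node (.node (.node (.node (.node (.node (.leaf 5009983) (.leaf 3022946)) (.leaf 1560912)) (.node (.leaf 16961881) (.leaf 6378091))) (.node (.node (.leaf 1855779) (.leaf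 9228433)) (.node (.leaf 4321475) (.leaf 14250344)))) (.node (.node (.node (.node (.leaf 14630923) (.leaf 9327071)) (.leaf 4341873)) (.node (.leaf 8647088) (.leaf 5067287))) (.node (.node (.leaf 5464174) (.leaf 7422407)) (.node (.leaf 7655964) (.leaf 221842))))) (.node (.node (.node (.node (.node (.leaf 14761998) (.leaf 15663761)) (.leaf 6254882)) (.node (.leaf 8134756) (.leaf 11280491))) (.node (.node (.leaf 3735764) (.leaf 17207898)) (.node (.leaf 16740951) (.leaf 9232909)))) (.node (.node (.node (.leaf 860617) (.leaf 545379)) (.node (.leaf 13525014) (.leaf 4252284))) (.node (.node (.leaf 8663204) (.leaf 8773831)) (.node (.leaf 1651124) (.leaf 10887445))))))) (.node (.node (.node (.node (.node (.node (.node (.leaf 12304444) (.leaf 1814925)) (.leaf 17567822)) (.node (.leaf 4133259) (.leaf 11968697))) (.node (.node (.leaf 9212244) (.leaf 15249947)) (.node (.leaf 6033922) (.leaf 7241901)))) (.node (.node (.node (.node (.leaf 11748004) (.leaf 16773327)) (.leaf 8736931)) (.node (.leaf 13406215) (.leaf 14606608))) (.node (.node (.leaf 17683079) (.leaf 4244072)) (.node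 (.leaf 17011016) (.leaf 15913582))))) (.node (.node (.node (.node (.node (.leaf 9179451) (.leaf 3867140)) (.leaf 13856811)) (.node (.leaf 9560521) (.leaf 2744893))) (.node (.node (.leaf 11518596) (.leaf 9588937)) (.node (.leaf 11227296) (.leaf 15131032)))) (.node (.node (.node (.leaf 6692940) (.leaf 17871082)) (.node (.leaf 2450023) (.leaf 114968))) (.node (.node (.leaf 7963323) (.leaf 1143460)) (.node (.leaf 14352467) (.leaf 16683193)))))) (.node (.node (.node (.node (.node (.node (.leaf 18264171) (.leaf 9580649)) (.leaf 17113154)) (.node (.leaf 6176854) (.leaf 10650238))) (.node (.node (.leaf 12411289) (.leaf 512663)) (.node (.leaf 7110974) (.leaf 15811236)))) (.node (.node (.node (.node (.leaf 4542871) (.leaf 12706129)) (.leaf 10523224)) (.node (.leaf 8085964) (.leaf 6590821))) (.node (.node (.leaf 15364105) (.leaf 6905955)) (.node (.leaf 7168473) (.leaf 2769364))))) (.node (.node (.node (.node (.node (.leaf 16711696) (.leaf 2830746)) (.leaf 3826085)) (.node (.leaf 6291555) (.leaf 13824010))) (.node (.node (.leaf 7500364) (.leaf 402067)) (.node (.leaf 9392729)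 (.leaf 8733003)))) (.node (.node (.node (.leaf 17400075) (.leaf 2560175)) (.node (.leaf 1593638) (.leaf 13152788))) (.node (.node (.leaf 6971881) (.leaf 12505247)) (.node (.leaf 12370382) (.leaf 12202655)))))))) (.node (.node (.node (.node (.node (.node (.node (.node (.leaf 5595515) (.leaf 14344518)) (.leaf 7918167)) (.node (.leaf 8159513) (.leaf 9441769))) (.node (.node (.leaf 9867808) (.leaf 3219801)) (.node (.leaf 10731862) (.leaf 11870455)))) (.node (.node (.node (.node (.leaf 6308262) (.leaf 14410173)) (.leaf 17486466)) (.node (.leaf 10121659) (.leaf 14074180))) (.node (.node (.leaf 16154701) (.leaf 8376940)) (.node (.leaf 7975243) (.leaf 1995352))))) (.node (.node (.node (.node (.node (.leaf 14021226) (.leaf 9130012)) (.leaf 8648)) (.node (.leaf 5111854) (.leaf 11104693))) (.node (.node (.leaf 8265762) (.leaf 13980148)) (.node (.leaf 4670124) (.leaf 16982257)))) (.node (.node (.node (.leaf 9240973) (.leaf 7496272)) (.node (.leaf 17670772) (.leaf 9871825))) (.node (.node (.leaf 11109004) (.leaf 4624761)) (.node (.leaf 14221882) (.leaf 17900143)))))) (.node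 (.node (.node (.node (.node (.node (.leaf 4591745) (.leaf 2900026)) (.leaf 7250633)) (.node (.leaf 49683) (.leaf 14025418))) (.node (.node (.leaf 15286521) (.leaf 10866998)) (.node (.leaf 13882038) (.leaf 8269871)))) (.node (.node (.node (.node (.leaf 8814973) (.leaf 12665122)) (.leaf 4399143)) (.node (.leaf 2801740) (.leaf 172082))) (.node (.node (.leaf 14283071) (.leaf 7119250)) (.node (.leaf 8859692) (.leaf 9904324))))) (.node (.node (.node (.node (.node (.leaf 1831460) (.leaf 1647155)) (.leaf 11199164)) (.node (.leaf 881330) (.leaf 569453))) (.node (.node (.leaf 7041727) (.leaf 6890089)) (.node (.leaf 8131141) (.leaf 11538680)))) (.node (.node (.node (.leaf 16920668) (.leaf 2925225)) (.node (.leaf 5362006) (.leaf 13754542))) (.node (.node (.leaf 12657354) (.leaf 16724182)) (.node (.leaf 6959259) (.leaf 803505))))))) (.node (.node (.node (.node (.node (.node (.node (.leaf 442884) (.leaf 14049917)) (.leaf 8978964)) (.node (.leaf 17940995) (.leaf 3818102))) (.node (.node (.leaf 2728391) (.leaf 6382010)) (.node (.leaf 16966212) (.leaf 12292483)))) (.node (.node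 (.node (.node (.leaf 6046194) (.leaf 6369601)) (.leaf 4456725)) (.node (.leaf 2465924) (.leaf 1675876))) (.node (.node (.leaf 13332981) (.leaf 17523040)) (.node (.leaf 2392588) (.leaf 1032728))))) (.node (.node (.node (.node (.node (.leaf 11137095) (.leaf 17551450)) (.leaf 12935276)) (.node (.leaf 2949142) (.leaf 13119712))) (.node (.node (.leaf 13304158) (.leaf 4206937)) (.node (.leaf 10342448) (.leaf 922222)))) (.node (.node (.node (.leaf 3776798) (.leaf 8548515)) (.node (.leaf 14799269) (.leaf 975247))) (.node (.node (.leaf 16625821) (.leaf 17510687)) (.node (.leaf 3543371) (.leaf 14565474)))))) (.node (.node (.node (.node (.node (.node (.leaf 9285819) (.leaf 8634445)) (.leaf 8876644)) (.node (.leaf 15532361) (.leaf 377025))) (.node (.node (.leaf 11383211) (.leaf 6054334)) (.node (.leaf 3358949) (.leaf 15372578)))) (.node (.node (.node (.node (.leaf 15876475) (.leaf 16756821)) (.leaf 2765405)) (.node (.leaf 807336) (.leaf 7491896))) (.node (.node (.leaf 9732096) (.leaf 6029825)) (.node (.leaf 3641782) (.leaf 11755696))))) (.node (.node (.node (.node (.node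 (.leaf 14946859) (.leaf 4001852)) (.leaf 5472571)) (.node (.leaf 9924974) (.leaf 4120626))) (.node (.node (.leaf 3707338) (.leaf 4772064)) (.node (.leaf 13890011) (.leaf 17035420)))) (.node (.node (.node (.leaf 540869) (.leaf 12419317)) (.node (.leaf 6279296) (.leaf 15572997))) (.node (.node (.leaf 15188115) (.leaf 3444791)) (.node (.leaf 6525305) (.leaf 12947793)))))))))

def threeMv53614 : Janko.Tree (ℕ) :=
  (.node (.node (.node (.node (.node (.node (.node (.node (.node (.leaf 9199957) (.leaf 6361724)) (.leaf 4813218)) (.node (.leaf 2511512) (.leaf 4837859))) (.node (.node (.leaf 17584613) (.leaf 16855300)) (.node (.leaf 15143251) (.leaf 16748826)))) (.node (.node (.node (.node (.leaf 17539156) (.leaf 3211975)) (.leaf 15835192)) (.node (.leaf 3768916) (.leaf 10162607))) (.node (.node (.leaf 1163670) (.leaf 17244816)) (.node (.leaf 12931234) (.leaf 1864220))))) (.node (.node (.node (.node (.node (.leaf 14418094) (.leaf 3514653)) (.leaf 3396008)) (.node (.leaf 8675558) (.leaf 3584456))) (.node (.node (.leaf 9433116) (.leaf 12062929)) (.node (.leaf 598361) (.leaf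 8290943)))) (.node (.node (.node (.leaf 5386941) (.leaf 10592880)) (.node (.leaf 5501302) (.leaf 13619923))) (.node (.node (.leaf 17006631) (.leaf 14786952)) (.node (.leaf 14770352) (.leaf 3392083)))))) (.node (.node (.node (.node (.node (.node (.leaf 6561927) (.leaf 17097070)) (.leaf 6926368)) (.node (.leaf 9642702) (.leaf 1946306))) (.node (.node (.leaf 2921127) (.leaf 2630245)) (.node (.leaf 10092768) (.leaf 10465598)))) (.node (.node (.node (.node (.leaf 1577417) (.leaf 1679399)) (.leaf 10354726)) (.node (.leaf 12980371) (.leaf 4030938))) (.node (.node (.leaf 12714282) (.leaf 520477)) (.node (.leaf 1396868) (.leaf 16048227))))) (.node (.node (.node (.node (.node (.leaf 14881283) (.leaf 15052976)) (.leaf 1916964)) (.node (.leaf 17293932) (.leaf 9998864))) (.node (.node (.leaf 8868383) (.leaf 6025242)) (.node (.leaf 16761427) (.leaf 9216249)))) (.node (.node (.node (.leaf 16187411) (.leaf 10756456)) (.node (.leaf 14897868) (.leaf 7774753))) (.node (.node (.leaf 17388037) (.leaf 7557319)) (.node (.leaf 753696) (.leaf 12832930))))))) (.node (.node (.node (.node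 (.node (.node (.node (.leaf 7651905) (.leaf 11399172)) (.leaf 17527357)) (.node (.leaf 10437257) (.leaf 18186585))) (.node (.node (.leaf 9720415) (.leaf 15327890)) (.node (.leaf 11931906) (.leaf 11027025)))) (.node (.node (.node (.node (.leaf 14430591) (.leaf 17166863)) (.leaf 18059967)) (.node (.leaf 6840523) (.leaf 1335844))) (.node (.node (.leaf 8122975) (.leaf 6619497)) (.node (.leaf 11309064) (.leaf 8073447))))) (.node (.node (.node (.node (.node (.leaf 5779903) (.leaf 8384656)) (.leaf 5206403)) (.node (.leaf 3559508) (.leaf 6832366))) (.node (.node (.leaf 3592793) (.leaf 11374638)) (.node (.leaf 16470419) (.leaf 14495763)))) (.node (.node (.node (.leaf 10654110) (.leaf 7520737)) (.node (.leaf 2892463) (.leaf 8118762))) (.node (.node (.leaf 9282145) (.leaf 933923)) (.node (.leaf 16523498) (.leaf 7467517)))))) (.node (.node (.node (.node (.node (.node (.leaf 8196550) (.leaf 18317658)) (.leaf 2593295)) (.node (.leaf 3903706) (.leaf 12284199))) (.node (.node (.leaf 4792503) (.leaf 9875917)) (.node (.leaf 8216685) (.leaf 16007893)))) (.node (.node (.node (.node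 (.leaf 9761214) (.leaf 9142989)) (.leaf 7778803)) (.node (.leaf 14258658) (.leaf 2445438))) (.node (.node (.leaf 14914227) (.leaf 11039002)) (.node (.leaf 2416806) (.leaf 4493355))))) (.node (.node (.node (.node (.node (.leaf 12673591) (.leaf 14299312)) (.leaf 6738402)) (.node (.leaf 2396299) (.leaf 2310689))) (.node (.node (.leaf 16339228) (.leaf 16011751)) (.node (.leaf 2384217) (.leaf 5292371)))) (.node (.node (.node (.leaf 11293261) (.leaf 2072869)) (.node (.leaf 13361160) (.leaf 10228033))) (.node (.node (.leaf 14213185) (.leaf 16224892)) (.node (.leaf 3912403) (.leaf 6508624)))))))) (.node (.node (.node (.node (.node (.node (.node (.node (.leaf 6156353) (.leaf 11010352)) (.leaf 14610742)) (.node (.leaf 6476235) (.leaf 5440121))) (.node (.node (.leaf 1700388) (.leaf 11964802)) (.node (.leaf 8757928) (.leaf 6734290)))) (.node (.node (.node (.node (.leaf 13373487) (.leaf 3596402)) (.leaf 8622144)) (.node (.leaf 6074774) (.leaf 14680570))) (.node (.node (.leaf 15134746) (.leaf 10957459)) (.node (.leaf 3609028) (.leaf 13660850))))) (.node (.node (.node (.node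 (.node (.leaf 13267153) (.leaf 3412550)) (.leaf 4706524)) (.node (.leaf 10076735) (.leaf 7094986))) (.node (.node (.leaf 14160324) (.leaf 7598548)) (.node (.leaf 3670303) (.leaf 15426050)))) (.node (.node (.node (.leaf 11043289) (.leaf 13402317)) (.node (.leaf 11285177) (.leaf 5452051))) (.node (.node (.leaf 17756707) (.leaf 13681111)) (.node (.leaf 5693809) (.leaf 16630045)))))) (.node (.node (.node (.node (.node (.node (.leaf 2638359) (.leaf 18346559)) (.leaf 15433870)) (.node (.leaf 14438429) (.leaf 8577152))) (.node (.node (.leaf 10977971) (.leaf 18313671)) (.node (.leaf 6856792) (.leaf 11956390)))) (.node (.node (.node (.node (.leaf 10936799) (.leaf 16957573)) (.leaf 6205591)) (.node (.leaf 4878903) (.leaf 10195283))) (.node (.node (.leaf 11550793) (.leaf 10613181)) (.node (.leaf 6295576) (.leaf 282833))))) (.node (.node (.node (.node (.node (.leaf 18166319) (.leaf 17383743)) (.leaf 11661944)) (.node (.leaf 2805872) (.leaf 8016122))) (.node (.node (.leaf 5788178) (.leaf 1155455)) (.node (.leaf 18223656) (.leaf 3502298)))) (.node (.node (.node (.leaf 14651742)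 (.leaf 2003356)) (.node (.leaf 725378) (.leaf 6357075))) (.node (.node (.leaf 11464741) (.leaf 17814016)) (.node (.leaf 7746050) (.leaf 2015353))))))) (.node (.node (.node (.node (.node (.node (.node (.leaf 11345927) (.leaf 6763194)) (.leaf 7324309)) (.node (.leaf 10928613) (.leaf 10834324))) (.node (.node (.leaf 1598021) (.leaf 4186214)) (.node (.leaf 733236) (.leaf 7291272)))) (.node (.node (.node (.node (.leaf 225875) (.leaf 11973215)) (.leaf 13422945)) (.node (.leaf 15897106) (.leaf 12116311))) (.node (.node (.leaf 17019153) (.leaf 11194986)) (.node (.leaf 7594682) (.leaf 246047))))) (.node (.node (.node (.node (.node (.leaf 16978376) (.leaf 7795157)) (.leaf 17391667)) (.node (.leaf 13053977) (.leaf 2978202))) (.node (.node (.leaf 13685434) (.leaf 15159545)) (.node (.leaf 18207312) (.leaf 15458521)))) (.node (.node (.node (.leaf 553589) (.leaf 16331196)) (.node (.leaf 16838800) (.leaf 15384731))) (.node (.node (.leaf 11784857) (.leaf 373375)) (.node (.leaf 16896538) (.leaf 14668478)))))) (.node (.node (.node (.node (.node (.node (.leaf 2224552) (.leaf 12398897))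 (.leaf 868784)) (.node (.leaf 18083845) (.leaf 7004217))) (.node (.node (.leaf 1146961) (.leaf 295400)) (.node (.leaf 11497929) (.leaf 12169689)))) (.node (.node (.node (.node (.leaf 17654381) (.leaf 2048351)) (.leaf 852428)) (.node (.leaf 1954221) (.leaf 17199800))) (.node (.node (.leaf 3150050) (.leaf 4579761)) (.node (.leaf 8720735) (.leaf 10404206))))) (.node (.node (.node (.node (.node (.leaf 9609453) (.leaf 5153020)) (.leaf 238211)) (.node (.leaf 16388407) (.leaf 15196253))) (.node (.node (.leaf 2302637) (.leaf 6009119)) (.node (.leaf 15429707) (.leaf 14716986)))) (.node (.node (.node (.leaf 2089053) (.leaf 4898930)) (.node (.leaf 15650948) (.leaf 12919368))) (.node (.node (.leaf 16032021) (.leaf 6275349)) (.node (.leaf 4284452) (.leaf 16798309)))))))))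

def threeMv53615 : Janko.Tree (ℕ) :=
  (.node (.node (.node (.node (.node (.node (.node (.node (.node (.leaf 13041706) (.leaf 7754126)) (.leaf 15392922)) (.node (.leaf 7586362) (.leaf 16118080))) (.node (.node (.leaf 7061852) (.leaf 3633503)) (.node (.leaf 6471931) (.leaf 8786281)))) (.node (.node (.node (.node (.leaf 2499145) (.leaf 13431429)) (.leaf 4641311)) (.node (.leaf 254304) (.leaf 11452827))) (.node (.node (.leaf 10551460) (.leaf 7704788)) (.node (.leaf 15466551) (.leaf 10150399))))) (.node (.node (.node (.node (.node (.leaf 13271256) (.leaf 1913526)) (.leaf 9388481)) (.node (.leaf 17834158) (.leaf 17408574))) (.node (.node (.leaf 6623506) (.leaf 17740485)) (.node (.leaf 10683061) (.leaf 9040336)))) (.node (.node (.node (.leaf 1634426) (.leaf 15073785)) (.node (.leaf 8389332) (.leaf 6898379))) (.node (.node (.leaf 5013803) (.leaf 17002905)) (.node (.leaf 6136017) (.leaf 3047706)))))) (.node (.node (.node (.node (.node (.node (.leaf 16122041) (.leaf 11759951)) (.leaf 4108887)) (.node (.leaf 3408548) (.leaf 14140098))) (.node (.node (.leaf 16929450)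 (.leaf 2818732)) (.node (.leaf 6725664) (.leaf 9462141)))) (.node (.node (.node (.node (.leaf 12804155) (.leaf 13500491)) (.leaf 9138261)) (.node (.leaf 5898391) (.leaf 454759))) (.node (.node (.leaf 6402139) (.leaf 7602192)) (.node (.leaf 17838155) (.leaf 9011217))))) (.node (.node (.node (.node (.node (.leaf 10424704) (.leaf 14598253)) (.leaf 3301722)) (.node (.leaf 15471151) (.leaf 3297561))) (.node (.node (.leaf 1827305) (.leaf 3387652)) (.node (.leaf 15221308) (.leaf 14848605)))) (.node (.node (.node (.leaf 17564261) (.leaf 5042247)) (.node (.leaf 13357650) (.leaf 4522104))) (.node (.node (.leaf 11317710) (.leaf 17146329)) (.node (.leaf 14561422) (.leaf 884992))))))) (.node (.node (.node (.node (.node (.node (.node (.leaf 3535416) (.leaf 17768830)) (.leaf 8515740)) (.node (.leaf 11682309) (.leaf 11616963))) (.node (.node (.leaf 16765249) (.leaf 4907568)) (.node (.leaf 9064967) (.leaf 13840686)))) (.node (.node (.node (.node (.leaf 3010893) (.leaf 14196934)) (.leaf 6566523)) (.node (.leaf 16249401) (.leaf 16396391))) (.node (.node (.leaf 5792414) (.leaf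 16568400)) (.node (.leaf 14979235) (.leaf 17334350))))) (.node (.node (.node (.node (.node (.leaf 12238859) (.leaf 7553364)) (.leaf 13468239)) (.node (.leaf 17072369) (.leaf 6079081))) (.node (.node (.leaf 11522604) (.leaf 16261175)) (.node (.leaf 12427767) (.leaf 17752182)))) (.node (.node (.node (.leaf 16233016) (.leaf 12350084)) (.node (.leaf 6770919) (.leaf 9654318))) (.node (.node (.leaf 152266) (.leaf 10461743)) (.node (.leaf 15348211) (.leaf 3457382)))))) (.node (.node (.node (.node (.node (.node (.leaf 2146663) (.leaf 4383352)) (.leaf 10252289)) (.node (.leaf 15184148) (.leaf 1368734))) (.node (.node (.leaf 1003892) (.leaf 622716)) (.node (.leaf 4072090) (.leaf 16830652)))) (.node (.node (.node (.node (.leaf 17224301) (.leaf 11985283)) (.leaf 8335475)) (.node (.leaf 17044029) (.leaf 66257))) (.node (.node (.leaf 3764339) (.leaf 1950114)) (.node (.leaf 7152222) (.leaf 4424067))))) (.node (.node (.node (.node (.node (.leaf 10899616) (.leaf 5415057)) (.leaf 7401937)) (.node (.leaf 7868537) (.leaf 16588835))) (.node (.node (.leaf 8352460) (.leaf 8167858))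 (.node (.leaf 368901) (.leaf 3281172)))) (.node (.node (.node (.leaf 3477629) (.leaf 10752396)) (.node (.leaf 5800472) (.leaf 12460246))) (.node (.node (.leaf 5862070) (.leaf 6582538)) (.node (.leaf 11596214) (.leaf 1655165)))))))) (.node (.node (.node (.node (.node (.node (.node (.node (.leaf 16482872) (.leaf 8503908)) (.leaf 5964402)) (.node (.leaf 7835732) (.leaf 1208758))) (.node (.node (.leaf 2523389) (.leaf 14176964)) (.node (.leaf 15909235) (.leaf 1942156)))) (.node (.node (.node (.node (.leaf 991761) (.leaf 4084077)) (.leaf 1765730)) (.node (.leaf 15204615) (.leaf 12111968))) (.node (.node (.leaf 11719323) (.leaf 12796435)) (.node (.leaf 12476672) (.leaf 3949013))))) (.node (.node (.node (.node (.node (.leaf 7901239) (.leaf 7610554)) (.leaf 10240576)) (.node (.leaf 16556454) (.leaf 2019965))) (.node (.node (.leaf 12276109) (.leaf 1839255)) (.node (.leaf 12579152) (.leaf 17732257)))) (.node (.node (.node (.leaf 11567560) (.leaf 7479582)) (.node (.leaf 7995990) (.leaf 10502257))) (.node (.node (.leaf 3625640) (.leaf 16801899)) (.node (.leaf 14774502) (.leaf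 15225284)))))) (.node (.node (.node (.node (.node (.node (.leaf 6140447) (.leaf 7930392)) (.leaf 6336631)) (.node (.leaf 11256175) (.leaf 905847))) (.node (.node (.leaf 2486855) (.leaf 15643184)) (.node (.leaf 9081184) (.leaf 1241604)))) (.node (.node (.node (.node (.leaf 16236671) (.leaf 11580062)) (.leaf 16204185)) (.node (.leaf 8278629) (.leaf 7369316))) (.node (.node (.leaf 10481722) (.leaf 3256630)) (.node (.leaf 17547348) (.leaf 8040772))))) (.node (.node (.node (.node (.node (.leaf 2670861) (.leaf 11157678)) (.leaf 917919)) (.node (.leaf 606436) (.leaf 12296312))) (.node (.node (.leaf 15069649) (.leaf 6541609)) (.node (.leaf 1556744) (.leaf 16109854)))) (.node (.node (.node (.leaf 12312946) (.leaf 4248089)) (.node (.leaf 2777339) (.leaf 9085005))) (.node (.node (.leaf 3940386) (.leaf 16175299)) (.node (.leaf 10416360) (.leaf 18002240))))))) (.node (.node (.node (.node (.node (.node (.node (.leaf 16933552) (.leaf 3125477)) (.leaf 745943)) (.node (.leaf 10178805) (.leaf 8507774))) (.node (.node (.leaf 11977083) (.leaf 4235947)) (.node (.leaf 4006551) (.leaf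 8327280)))) (.node (.node (.node (.node (.leaf 6168822) (.leaf 15839957)) (.leaf 9695280)) (.node (.leaf 3342634) (.leaf 5358255))) (.node (.node (.leaf 5063008) (.leaf 15524331)) (.node (.leaf 13636080) (.leaf 13001323))))) (.node (.node (.node (.node (.node (.leaf 7680398) (.leaf 4870783)) (.leaf 8683983)) (.node (.leaf 13005175) (.leaf 8458525))) (.node (.node (.leaf 5939681) (.leaf 6226111)) (.node (.leaf 4325608) (.leaf 1290444)))) (.node (.node (.node (.leaf 12972446) (.leaf 3252421)) (.node (.leaf 8044802) (.leaf 7192793))) (.node (.node (.leaf 5100046) (.leaf 6393902)) (.node (.leaf 4137370) (.leaf 16510979)))))) (.node (.node (.node (.node (.node (.node (.leaf 5186139) (.leaf 7823624)) (.leaf 16515460)) (.node (.leaf 3465363) (.leaf 5878018))) (.node (.node (.leaf 6099563) (.leaf 6246604)) (.node (.leaf 13214418) (.leaf 3084400)))) (.node (.node (.node (.node (.leaf 11776609) (.leaf 18129346)) (.leaf 9003254)) (.node (.leaf 3985832) (.leaf 11657887))) (.node (.node (.leaf 639685) (.leaf 10571909)) (.node (.leaf 14578247) (.leaf 14557815))))) (.node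 (.node (.node (.node (.node (.leaf 17744494) (.leaf 589951)) (.leaf 889174)) (.node (.leaf 16835136) (.leaf 9769513))) (.node (.node (.leaf 811465) (.leaf 13082624)) (.node (.leaf 11858019) (.leaf 9068881)))) (.node (.node (.node (.leaf 11190388) (.leaf 192969)) (.node (.leaf 8307390) (.leaf 188990))) (.node (.node (.leaf 9814020) (.leaf 8605922)) (.node (.leaf 11174039) (.leaf 13808205)))))))))

/-- a table -/
def threeMv536 : Janko.Tree (ℕ) := (.node (.node (.node (.node threeMv5360 threeMv5368) (.node threeMv5364 threeMv53612)) (.node (.node threeMv5362 threeMv53610) (.node threeMv5366 threeMv53614))) (.node (.node (.node threeMv5361 threeMv5369) (.node threeMv5365 threeMv53613)) (.node (.node threeMv5363 threeMv53611) (.node threeMv5367 threeMv53615))))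

theorem three_mv5360 : ((List.range 640).all fun i => movesOK baseB threeCert threeGens threeT 4480 threeV536 threeMv536 (Nat.add 0 i)) = true := by decide +kernel

theorem three_mv5361 : ((List.range 640).all fun i => movesOK baseB threeCert threeGens threeT 4480 threeV536 threeMv536 (Nat.add 640 i)) = true := by decide +kernel

theorem three_mv5362 : ((List.range 640).all fun i => movesOK baseB threeCert threeGens threeT 4480 threeV536 threeMv536 (Nat.add 1280 i)) = true := by decide +kernel

theorem three_mv5363 : ((List.range 640).all fun i => movesOK baseB threeCert threeGens threeT 4480 threeV536 threeMv536 (Nat.add 1920 i)) = true := by decide +kernel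

theorem three_mv5364 : ((List.range 640).all fun i => movesOK baseB threeCert threeGens threeT 4480 threeV536 threeMv536 (Nat.add 2560 i)) = true := by decide +kernel

theorem three_mv5365 : ((List.range 640).all fun i => movesOK baseB threeCert threeGens threeT 4480 threeV536 threeMv536 (Nat.add 3200 i)) = true := by decide +kernel

theorem three_mv5366 : ((List.range 640).all fun i => movesOK baseB threeCert threeGens threeT 4480 threeV536 threeMv536 (Nat.add 3840 i)) = true := by decide +kernel

theorem three_mv536 : ∀ i < 4480, movesOK baseB threeCert threeGens threeT 4480 threeV536 threeMv536 i = true := by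
  intro i hi
  exact (if h1920 : i < 1920 then (if h640 : i < 640 then (by have := List.all_eq_true.1 three_mv5360 (i - 0) (List.mem_range.2 (by omega)); rwa [show Nat.add 0 (i - 0) = i from Nat.add_sub_cancel' (by omega)] at this) else (if h1280 : i < 1280 then (by have := List.all_eq_true.1 three_mv5361 (i - 640) (List.mem_range.2 (by omega)); rwa [show Nat.add 640 (i - 640) = i from Nat.add_sub_cancel' (by omega)] at this) else (by have := List.all_eq_true.1 three_mv5362 (i - 1280) (List.mem_range.2 (by omega)); rwa [show Nat.add 1280 (i - 1280) = i from Nat.add_sub_cancel' (by omega)] at this))) else (if h3200 : i < 3200 then (if h2560 : i < 2560 then (by have := List.all_eq_true.1 three_mv5363 (i - 1920) (List.mem_range.2 (by omega)); rwa [show Nat.add 1920 (i - 1920) = i from Nat.add_sub_cancel' (by omega)] at this) else (by have := List.all_eq_true.1 three_mv5364 (i - 2560) (List.mem_range.2 (by omega)); rwa [show Nat.add 2560 (i - 2560) = i from Nat.add_sub_cancel' (by omega)] at this)) else (if h3840 : i < 3840 then (by have := List.all_eq_true.1 three_mv5365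 (i - 3200) (List.mem_range.2 (by omega)); rwa [show Nat.add 3200 (i - 3200) = i from Nat.add_sub_cancel' (by omega)] at this) else (by have := List.all_eq_true.1 three_mv5366 (i - 3840) (List.mem_range.2 (by omega)); rwa [show Nat.add 3840 (i - 3840) = i from Nat.add_sub_cancel' (by omega)] at this))))

/-- an element -/
def threeV556 : ℕ := 0x169403a052e57a96533b072dc5b1f1f8e908940fe156c960d218213de00532342186054506dc69e253ba229c3723868945b868ec1f31ba9088c4b8cc62f600a94e238729adaa917ac49ceb556b920edf078b9748f87935e4b869bee18363c95cc820601d5321368b346ee040408a4a90e831161436098dec8539ecbacb6a1943ced84821450a15abe1c9866305366d6f40546615438906b467931fa56151ccfa092005dba3f49440461085b28043d5735d92bc069c9ff0358171d02c05a2112126c2853b0d7898890492f859b4eb12b490e1c141a98c5e0c91554b21812caaf32390c0c90273e9624477b08828d59b98765b3c1f93e67682ec4f04498c9022f279e85aab4a96452be12144783542a0842746719934fe628f9f10511151f20362038e106521a10c776b31dc2f07a1800edb562fc0800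

theorem three_v556 : ((List.range 275).all fun k => Nat.beq (PermNine.pg threeV556 k) (imgW threeGens (threeCert.wd 556) k)) = true := by decide +kernel

def threeMv5560 : Janko.Tree (ℕ) :=
  (.node (.node (.node (.node (.node (.node (.node (.node (.node (.leaf 556) (.leaf 7189166)) (.leaf 5828776)) (.node (.leaf 1950068) (.leaf 3248726))) (.node (.node (.leaf 2507141) (.leaf 3457404)) (.node (.leaf 5165146) (.leaf 13754697)))) (.node (.node (.node (.node (.leaf 1482876) (.leaf 17256519)) (.leaf 11846150)) (.node (.leaf 1278359) (.leaf 7487641))) (.node (.node (.leaf 11563355) (.leaf 3625210)) (.node (.leaf 14745843) (.leaf 12464743))))) (.node (.node (.node (.node (.node (.leaf 5788046) (.leaf 17470040)) (.leaf 7241826)) (.node (.leaf 8626201) (.leaf 11973183))) (.node (.node (.leaf 12607492) (.leaf 16900172)) (.node (.leaf 13083259) (.leaf 5370251)))) (.node (.node (.node (.leaf 4128903) (.leaf 1929235)) (.node (.leaf 14844030) (.leaf 11452802))) (.node (.node (.leaf 6939158) (.leaf 3301485)) (.node (.leaf 4161767) (.leaf 3420203)))))) (.node (.node (.node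 (.node (.node (.node (.leaf 5124099) (.leaf 4280489)) (.leaf 3105048)) (.node (.leaf 9687755) (.leaf 9994931))) (.node (.node (.leaf 9134384) (.leaf 893627)) (.node (.leaf 1573376) (.leaf 13681186)))) (.node (.node (.node (.node (.leaf 17174671) (.leaf 17183209)) (.leaf 1339894)) (.node (.leaf 1163615) (.leaf 10174857))) (.node (.node (.leaf 4518084) (.leaf 10928178)) (.node (.leaf 11858229) (.leaf 5861740))))) (.node (.node (.node (.node (.node (.leaf 8921808) (.leaf 1897023)) (.leaf 10818065)) (.node (.leaf 7446769) (.leaf 11670040))) (.node (.node (.leaf 2892289) (.leaf 13934915)) (.node (.leaf 8086170) (.leaf 7401508)))) (.node (.node (.node (.leaf 13959805) (.leaf 2773182)) (.node (.leaf 12046721) (.leaf 582313))) (.node (.node (.leaf 3195057) (.leaf 6599113)) (.node (.leaf 14639375) (.leaf 8909247))))))) (.node (.node (.node (.node (.node (.node (.node (.leaf 3146054) (.leaf 3518785)) (.leaf 4063621)) (.node (.leaf 7074506) (.leaf 3465805))) (.node (.node (.leaf 15679557) (.leaf 8528540)) (.node (.leaf 15950372) (.leaf 14041473)))) (.node (.node (.node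 (.node (.leaf 5865606) (.leaf 6975626)) (.leaf 1262231)) (.node (.leaf 5373954) (.leaf 6930836))) (.node (.node (.leaf 807128) (.leaf 3547443)) (.node (.leaf 544819) (.leaf 12923589))))) (.node (.node (.node (.node (.node (.leaf 11997524) (.leaf 13783407)) (.leaf 15295161)) (.node (.leaf 8692309) (.leaf 10588884))) (.node (.node (.leaf 6504994) (.leaf 5456270)) (.node (.leaf 18289254) (.leaf 278539)))) (.node (.node (.node (.leaf 1101924) (.leaf 6611254)) (.node (.leaf 5566654) (.leaf 9724468))) (.node (.node (.leaf 3478042) (.leaf 12881946)) (.node (.leaf 5894235) (.leaf 5939290)))))) (.node (.node (.node (.node (.node (.node (.leaf 3760839) (.leaf 3715518)) (.leaf 11022967)) (.node (.leaf 6767140) (.leaf 17989965))) (.node (.node (.leaf 14209370) (.leaf 13410958)) (.node (.leaf 2986046) (.leaf 10023334)))) (.node (.node (.node (.node (.leaf 2727997) (.leaf 6382116)) (.leaf 15700147)) (.node (.leaf 10420315) (.leaf 12964072))) (.node (.node (.leaf 16404680) (.leaf 4731036)) (.node (.leaf 15167549) (.leaf 323933))))) (.node (.node (.node (.node (.node (.leaf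 9302735) (.leaf 6459618)) (.leaf 6561824)) (.node (.leaf 4838034) (.leaf 18149480))) (.node (.node (.leaf 361045) (.leaf 4854340)) (.node (.leaf 2490433) (.leaf 13770896)))) (.node (.node (.node (.leaf 1966162) (.leaf 9756882)) (.node (.leaf 2388182) (.leaf 14656170))) (.node (.node (.leaf 7377606) (.leaf 8356215)) (.node (.leaf 16147077) (.leaf 4432048)))))))) (.node (.node (.node (.node (.node (.node (.node (.node (.leaf 14086546) (.leaf 6984261)) (.leaf 5685501)) (.node (.leaf 3670542) (.leaf 2409057))) (.node (.node (.leaf 11931755) (.leaf 3207685)) (.node (.leaf 14540944) (.leaf 9834997)))) (.node (.node (.node (.node (.leaf 15016048) (.leaf 6902089)) (.leaf 6365467)) (.node (.leaf 14991875) (.leaf 4170426))) (.node (.node (.leaf 17883369) (.leaf 17150447)) (.node (.leaf 12148967) (.leaf 15028300))))) (.node (.node (.node (.node (.node (.leaf 17821841) (.leaf 3678579)) (.leaf 8638752)) (.node (.leaf 8962354) (.leaf 12230767))) (.node (.node (.leaf 17793100) (.leaf 2560075)) (.node (.leaf 3965172) (.leaf 15892488)))) (.node (.node (.node (.leaf 3641358)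 (.leaf 11895317)) (.node (.leaf 9978455) (.leaf 7983548))) (.node (.node (.leaf 2937162) (.leaf 13025491)) (.node (.leaf 17166892) (.leaf 16265395)))))) (.node (.node (.node (.node (.node (.node (.leaf 7102759) (.leaf 11145917)) (.leaf 5533757)) (.node (.leaf 14479481) (.leaf 8741325))) (.node (.node (.leaf 16912480) (.leaf 14377465)) (.node (.leaf 11723046) (.leaf 12915234)))) (.node (.node (.node (.node (.leaf 4342335) (.leaf 6623275)) (.leaf 3445449)) (.node (.leaf 4210746) (.leaf 9679398))) (.node (.node (.leaf 4100514) (.leaf 18292783)) (.node (.leaf 15438126) (.leaf 7770613))))) (.node (.node (.node (.node (.node (.leaf 9953642) (.leaf 2327072)) (.leaf 1691906)) (.node (.leaf 10301520) (.leaf 10141765))) (.node (.node (.leaf 4968718) (.leaf 13795641)) (.node (.leaf 3940367) (.leaf 4706810)))) (.node (.node (.node (.leaf 4768118) (.leaf 14971569)) (.node (.leaf 299501) (.leaf 2654730))) (.node (.node (.leaf 12874394) (.leaf 15229155)) (.node (.leaf 1114464) (.leaf 201346))))))) (.node (.node (.node (.node (.node (.node (.node (.leaf 7307767) (.leaf 17441374))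 (.leaf 3768601)) (.node (.leaf 901688) (.leaf 3543310))) (.node (.node (.leaf 14271073) (.leaf 6877505)) (.node (.leaf 12824930) (.leaf 3437100)))) (.node (.node (.node (.node (.leaf 5878310) (.leaf 11473384)) (.leaf 17498632)) (.node (.leaf 12706344) (.leaf 9670736))) (.node (.node (.leaf 5501517) (.leaf 12034391)) (.node (.leaf 15319579) (.leaf 14684552))))) (.node (.node (.node (.node (.node (.leaf 1605668) (.leaf 2236985)) (.leaf 3150234)) (.node (.leaf 6697491) (.leaf 2871485))) (.node (.node (.leaf 10809680) (.leaf 7249924)) (.node (.leaf 17920096) (.leaf 12530212)))) (.node (.node (.node (.leaf 4616766) (.leaf 6856828)) (.node (.leaf 8515784) (.leaf 8048784))) (.node (.node (.leaf 17486463) (.leaf 9728534)) (.node (.leaf 11342460) (.leaf 16450037)))))) (.node (.node (.node (.node (.node (.node (.leaf 18239749) (.leaf 10006633)) (.leaf 2916621)) (.node (.leaf 9212426) (.leaf 62127))) (.node (.node (.leaf 12411426) (.leaf 10945134)) (.node (.leaf 6029619) (.leaf 14189071)))) (.node (.node (.node (.node (.leaf 14094720) (.leaf 9507177)) (.leaf 7639225))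 (.node (.leaf 3031043) (.leaf 13382043))) (.node (.node (.leaf 16130320) (.leaf 17576106)) (.node (.leaf 2994283) (.leaf 1892480))))) (.node (.node (.node (.node (.node (.leaf 9543861) (.leaf 13832379)) (.leaf 1654953)) (.node (.leaf 15024617) (.leaf 11817609))) (.node (.node (.leaf 3498581) (.leaf 9535718)) (.node (.leaf 6242783) (.leaf 17617282)))) (.node (.node (.node (.leaf 4149749) (.leaf 13464007)) (.node (.leaf 11268480) (.leaf 17170863))) (.node (.node (.leaf 6554062) (.leaf 15073439)) (.node (.leaf 10404020) (.leaf 971061)))))))))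

def threeMv5561 : Janko.Tree (ℕ) :=
  (.node (.node (.node (.node (.node (.node (.node (.node (.node (.leaf 2273551) (.leaf 8982909)) (.leaf 5202041)) (.node (.leaf 4805035) (.leaf 1052924))) (.node (.node (.leaf 14897291) (.leaf 1651234)) (.node (.leaf 7725188) (.leaf 5673261)))) (.node (.node (.node (.node (.leaf 2846900) (.leaf 13709544)) (.leaf 12701971)) (.node (.leaf 1196046) (.leaf 7598751))) (.node (.node (.leaf 3662375) (.leaf 15585597)) (.node (.leaf 17084797) (.leaf 2982406))))) (.node (.node (.node (.node (.node (.leaf 9015888) (.leaf 18121386)) (.leaf 5841240)) (.node (.leaf 2138409) (.leaf 7831663))) (.node (.node (.leaf 12931264) (.leaf 17940978)) (.node (.leaf 17740015) (.leaf 16330923)))) (.node (.node (.node (.leaf 1368453) (.leaf 237986)) (.node (.leaf 2564620) (.leaf 2744770))) (.node (.node (.leaf 18317864) (.leaf 11067400)) (.node (.leaf 5173368) (.leaf 12603974)))))) (.node (.node (.node (.node (.node (.node (.leaf 16474492) (.leaf 5697908)) (.leaf 5403232)) (.node (.leaf 8933678) (.leaf 9007464))) (.node (.node (.leaf 5054700) (.leaf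 10416808)) (.node (.leaf 7643255) (.leaf 1036555)))) (.node (.node (.node (.node (.leaf 221427) (.leaf 6763105)) (.leaf 15900838)) (.node (.leaf 6373586) (.leaf 10719351))) (.node (.node (.leaf 17424934) (.leaf 7745913)) (.node (.leaf 9179625) (.leaf 13456037))))) (.node (.node (.node (.node (.node (.leaf 6455429) (.leaf 8573443)) (.leaf 709256)) (.node (.leaf 7147982) (.leaf 1172111))) (.node (.node (.leaf 1609841) (.leaf 10904186)) (.node (.leaf 1286427) (.leaf 5042379)))) (.node (.node (.node (.leaf 11137214) (.leaf 14607029)) (.node (.leaf 6476396) (.leaf 18305105))) (.node (.node (.leaf 13185610) (.leaf 12324895)) (.node (.leaf 7197096) (.leaf 6471834))))))) (.node (.node (.node (.node (.node (.node (.node (.leaf 135880) (.leaf 2134319)) (.leaf 7033161)) (.node (.leaf 16195864) (.leaf 10850409))) (.node (.node (.leaf 9347780) (.leaf 13091017)) (.node (.leaf 10707494) (.leaf 12219080)))) (.node (.node (.node (.node (.leaf 13320621) (.leaf 10797469)) (.leaf 10527037)) (.node (.leaf 614902) (.leaf 2719819))) (.node (.node (.leaf 15659592) (.leaf 2118185))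 (.node (.leaf 4440497) (.leaf 664195))))) (.node (.node (.node (.node (.node (.leaf 14566035) (.leaf 17044140)) (.leaf 17719637)) (.node (.leaf 17609023) (.leaf 9654526))) (.node (.node (.leaf 15565261) (.leaf 3060140)) (.node (.leaf 12697829) (.leaf 1380405)))) (.node (.node (.node (.leaf 1253871) (.leaf 11121188)) (.node (.leaf 2859281) (.leaf 5992766))) (.node (.node (.leaf 10432519) (.leaf 2642163)) (.node (.leaf 14139704) (.leaf 5234717)))))) (.node (.node (.node (.node (.node (.node (.leaf 11588124) (.leaf 3682949)) (.leaf 14741798)) (.node (.leaf 381448) (.leaf 5562811))) (.node (.node (.leaf 11539000) (.leaf 10883079)) (.node (.leaf 5288076) (.leaf 15741165)))) (.node (.node (.node (.node (.leaf 15483394) (.leaf 7201401)) (.leaf 7340567)) (.node (.leaf 8274059) (.leaf 8598137))) (.node (.node (.leaf 8114812) (.leaf 6480269)) (.node (.leaf 5853836) (.leaf 5141125))))) (.node (.node (.node (.node (.node (.leaf 15454904) (.leaf 11579634)) (.leaf 18072167)) (.node (.leaf 2367966) (.leaf 3588507))) (.node (.node (.leaf 14717102) (.leaf 16806616)) (.node (.leaf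 2663005) (.leaf 7897135)))) (.node (.node (.node (.leaf 4374888) (.leaf 16753305)) (.node (.leaf 15798889) (.leaf 3564045))) (.node (.node (.leaf 2843139) (.leaf 11772546)) (.node (.leaf 12137043) (.leaf 5489255)))))))) (.node (.node (.node (.node (.node (.node (.node (.node (.leaf 9470019) (.leaf 14983836)) (.leaf 13365951)) (.node (.leaf 14512643) (.leaf 7627098))) (.node (.node (.leaf 15273986) (.leaf 4980998)) (.node (.leaf 16834891) (.leaf 1249311)))) (.node (.node (.node (.node (.leaf 4247938) (.leaf 4067445)) (.leaf 12746771)) (.node (.leaf 12140733) (.leaf 13701242))) (.node (.node (.leaf 16650947) (.leaf 4661536)) (.node (.leaf 1790199) (.leaf 14131866))))) (.node (.node (.node (.node (.node (.leaf 17633924) (.leaf 6451268)) (.leaf 3326266)) (.node (.leaf 16323012) (.leaf 16138392))) (.node (.node (.leaf 8802813) (.leaf 11899088)) (.node (.leaf 2818400) (.leaf 1348081)))) (.node (.node (.node (.leaf 13345072) (.leaf 15581899)) (.node (.leaf 1204891) (.leaf 14578193))) (.node (.node (.leaf 15315637) (.leaf 6270995)) (.node (.leaf 14762589) (.leaf 5591101))))))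 (.node (.node (.node (.node (.node (.node (.leaf 12533773) (.leaf 10310275)) (.leaf 7856316)) (.node (.leaf 17711726) (.leaf 2339136))) (.node (.node (.leaf 10461710) (.leaf 9076806)) (.node (.leaf 2683272) (.leaf 9277900)))) (.node (.node (.node (.node (.leaf 1085812) (.leaf 13459929)) (.leaf 13627661)) (.node (.leaf 12026114) (.leaf 13963295))) (.node (.node (.leaf 2028098) (.leaf 2265379)) (.node (.leaf 1228924) (.leaf 13402642))))) (.node (.node (.node (.node (.node (.leaf 4948338) (.leaf 8753870)) (.leaf 13439416)) (.node (.leaf 12735066) (.leaf 45134))) (.node (.node (.leaf 4604197) (.leaf 8282328)) (.node (.leaf 14622758) (.leaf 5607699)))) (.node (.node (.node (.leaf 17834539) (.leaf 1294603)) (.node (.leaf 2617396) (.leaf 15020405))) (.node (.node (.leaf 17813643) (.leaf 15818899)) (.node (.leaf 450735) (.leaf 1724718))))))) (.node (.node (.node (.node (.node (.node (.node (.leaf 11186828) (.leaf 778392)) (.leaf 10162848)) (.node (.leaf 11637407) (.leaf 15782379))) (.node (.node (.leaf 7713471) (.leaf 14267063)) (.node (.leaf 4546675) (.leaf 843854))))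 (.node (.node (.node (.node (.leaf 13938785) (.leaf 69936)) (.leaf 4935901)) (.node (.leaf 5452456) (.leaf 8540225))) (.node (.node (.leaf 14549555) (.leaf 7585985)) (.node (.leaf 11509913) (.leaf 8368186))))) (.node (.node (.node (.node (.node (.leaf 6152849) (.leaf 17666366)) (.leaf 10768568)) (.node (.leaf 2515102) (.leaf 3883140))) (.node (.node (.leaf 15180021) (.leaf 561615)) (.node (.leaf 2822494) (.leaf 1155178)))) (.node (.node (.node (.leaf 3781203) (.leaf 13689189)) (.node (.leaf 557713) (.leaf 16269929))) (.node (.node (.leaf 2015507) (.leaf 8212872)) (.node (.leaf 11178207) (.leaf 1012260)))))) (.node (.node (.node (.node (.node (.node (.leaf 18051411) (.leaf 872599)) (.leaf 8851725)) (.node (.leaf 3448864) (.leaf 6897680))) (.node (.node (.leaf 10408390) (.leaf 20750)) (.node (.leaf 6754571) (.leaf 6349042)))) (.node (.node (.node (.node (.leaf 18133279) (.leaf 5382847)) (.leaf 9900587)) (.node (.leaf 14508474) (.leaf 10170725))) (.node (.node (.leaf 7463362) (.leaf 13586946)) (.node (.leaf 16151225) (.leaf 16191536))))) (.node (.node (.node (.node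 (.node (.leaf 5349488) (.leaf 1359877)) (.leaf 12624336)) (.node (.leaf 16945383) (.leaf 9601597))) (.node (.node (.leaf 15200373) (.leaf 8929609)) (.node (.leaf 9961741) (.leaf 1781976)))) (.node (.node (.node (.leaf 6431200) (.leaf 848063)) (.node (.leaf 8856043) (.leaf 610829))) (.node (.node (.leaf 4378887) (.leaf 9003722)) (.node (.leaf 14938229) (.leaf 2105792)))))))))

def threeMv5562 : Janko.Tree (ℕ) :=
  (.node (.node (.node (.node (.node (.node (.node (.node (.node (.leaf 9031832) (.leaf 8065641)) (.leaf 7692866)) (.node (.leaf 5058962) (.leaf 3293218))) (.node (.node (.leaf 17375683) (.leaf 2998438)) (.node (.leaf 18125041) (.leaf 17842664)))) (.node (.node (.node (.node (.leaf 9085523) (.leaf 4780713)) (.leaf 5292290)) (.node (.leaf 1081920) (.leaf 12305062))) (.node (.node (.leaf 13210045) (.leaf 1475072)) (.node (.leaf 9081468) (.leaf 8827491))))) (.node (.node (.node (.node (.node (.leaf 16564910) (.leaf 4165864)) (.leaf 12132413)) (.node (.leaf 17310129) (.leaf 7094690))) (.node (.node (.leaf 10805823) (.leaf 4891278)) (.node (.leaf 13222075)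 (.leaf 541028)))) (.node (.node (.node (.leaf 11907387) (.leaf 17248642)) (.node (.leaf 4944223) (.leaf 5587231))) (.node (.node (.leaf 12394542) (.leaf 10539043)) (.node (.leaf 14828083) (.leaf 11202596)))))) (.node (.node (.node (.node (.node (.node (.leaf 10068023) (.leaf 17207978)) (.leaf 10248492)) (.node (.leaf 10449142) (.leaf 5226709))) (.node (.node (.leaf 17530986) (.leaf 10281649)) (.node (.leaf 319499) (.leaf 598420)))) (.node (.node (.node (.node (.leaf 6422732) (.leaf 4620712)) (.leaf 1749283)) (.node (.leaf 11829380) (.leaf 3256487))) (.node (.node (.leaf 6603305) (.leaf 8421635)) (.node (.leaf 17428827) (.leaf 1024249))))) (.node (.node (.node (.node (.node (.leaf 14192694) (.leaf 13615441)) (.leaf 6234761)) (.node (.leaf 5066923) (.leaf 9335484))) (.node (.node (.leaf 5955626) (.leaf 13422627)) (.node (.leaf 10072542) (.leaf 7221693)))) (.node (.node (.node (.leaf 14618701) (.leaf 9969768)) (.node (.leaf 6578205) (.leaf 15188035))) (.node (.node (.leaf 4059223) (.leaf 15311057)) (.node (.leaf 5034035) (.leaf 8053211))))))) (.node (.node (.node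 (.node (.node (.node (.node (.leaf 1073439) (.leaf 12935727)) (.leaf 3227973)) (.node (.leaf 7229839) (.leaf 11366508))) (.node (.node (.leaf 9634268) (.leaf 1290397)) (.node (.leaf 5391026) (.leaf 17776946)))) (.node (.node (.node (.node (.leaf 1732761) (.leaf 14401844)) (.leaf 4198715)) (.node (.leaf 6947200) (.leaf 17317937))) (.node (.node (.leaf 16097399) (.leaf 4481525)) (.node (.leaf 10088983) (.leaf 7950702))))) (.node (.node (.node (.node (.node (.leaf 12038279) (.leaf 1736961)) (.leaf 17461439)) (.node (.leaf 4264583) (.leaf 12927522))) (.node (.node (.leaf 7688661) (.leaf 6840700)) (.node (.leaf 8954181) (.leaf 8920)))) (.node (.node (.node (.leaf 4751867) (.leaf 9912846)) (.node (.leaf 8352337) (.leaf 13066435))) (.node (.node (.leaf 4493603) (.leaf 16425141)) (.node (.leaf 13566316) (.leaf 12722465)))))) (.node (.node (.node (.node (.node (.node (.leaf 11456683) (.leaf 8798394)) (.leaf 8032673)) (.node (.leaf 8409169) (.leaf 16818193))) (.node (.node (.leaf 1110514) (.leaf 16569035)) (.node (.leaf 1757488) (.leaf 3637937)))) (.node (.node (.node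 (.node (.leaf 8233401) (.leaf 7422533)) (.leaf 311904)) (.node (.leaf 823866) (.leaf 11776622))) (.node (.node (.leaf 1462910) (.leaf 11805338)) (.node (.leaf 9769395) (.leaf 4272652))))) (.node (.node (.node (.node (.node (.leaf 11825701) (.leaf 7258127)) (.leaf 7127269)) (.node (.leaf 7021128) (.leaf 5521959))) (.node (.node (.leaf 17093318) (.leaf 283317)) (.node (.leaf 9921105) (.leaf 6963234)))) (.node (.node (.node (.leaf 15478858) (.leaf 4309324)) (.node (.leaf 1306864) (.leaf 16249283))) (.node (.node (.leaf 6746766) (.leaf 14610447)) (.node (.leaf 2740311) (.leaf 7553353)))))))) (.node (.node (.node (.node (.node (.node (.node (.node (.leaf 16822278) (.leaf 5513626)) (.leaf 16429390)) (.node (.leaf 12161225) (.leaf 4051176))) (.node (.node (.leaf 5984687) (.leaf 18321716)) (.node (.leaf 1471084) (.leaf 13152559)))) (.node (.node (.node (.node (.leaf 17723489) (.leaf 16372174)) (.leaf 14778755)) (.node (.leaf 4092160) (.leaf 7828092))) (.node (.node (.leaf 10604725) (.leaf 2900407)) (.node (.leaf 6173053) (.leaf 270839))))) (.node (.node (.node (.node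 (.node (.leaf 6873269) (.leaf 16716350)) (.leaf 4288817)) (.node (.leaf 2548145) (.leaf 8782247))) (.node (.node (.leaf 8405519) (.leaf 17981886)) (.node (.leaf 11391091) (.leaf 14065996)))) (.node (.node (.node (.leaf 17683000) (.leaf 14835973)) (.node (.leaf 17379958) (.leaf 9998863))) (.node (.node (.leaf 7733715) (.leaf 786910)) (.node (.leaf 17019003) (.leaf 2363631)))))) (.node (.node (.node (.node (.node (.node (.leaf 10273011) (.leaf 8835180)) (.leaf 2454094)) (.node (.leaf 14254429) (.leaf 14672148))) (.node (.node (.leaf 10453352) (.leaf 16597186)) (.node (.leaf 9147014) (.leaf 8192668)))) (.node (.node (.node (.node (.leaf 8216897) (.leaf 2097511)) (.leaf 17039920)) (.node (.leaf 12288396) (.leaf 11227443))) (.node (.node (.leaf 4346392) (.leaf 14799527)) (.node (.leaf 9142385) (.leaf 5206677))))) (.node (.node (.node (.node (.node (.leaf 1888645) (.leaf 3551735)) (.leaf 7954815)) (.node (.leaf 16327193) (.leaf 1417473))) (.node (.node (.leaf 303114) (.leaf 253953)) (.node (.leaf 7795191) (.leaf 86498)))) (.node (.node (.node (.leaf 17535185) (.leaf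 14688896)) (.node (.leaf 5013914) (.leaf 12419627))) (.node (.node (.leaf 6550108) (.leaf 17367420)) (.node (.leaf 3412374) (.leaf 13561963))))))) (.node (.node (.node (.node (.node (.node (.node (.leaf 5480812) (.leaf 15323380)) (.leaf 10313878)) (.node (.leaf 9818170) (.leaf 2359688))) (.node (.node (.leaf 3137943) (.leaf 13307915)) (.node (.leaf 14643907) (.leaf 15708863)))) (.node (.node (.node (.node (.leaf 16560239) (.leaf 16757365)) (.leaf 4514203)) (.node (.leaf 15057587) (.leaf 17195442))) (.node (.node (.leaf 16408915) (.leaf 2318846)) (.node (.leaf 18334077) (.leaf 635493))))) (.node (.node (.node (.node (.node (.leaf 274936) (.leaf 11125152)) (.leaf 9117705)) (.node (.leaf 4366906) (.leaf 7172557))) (.node (.node (.leaf 327758) (.leaf 5009832)) (.node (.leaf 3961262) (.leaf 14074451)))) (.node (.node (.node (.leaf 12456644) (.leaf 10494188)) (.node (.leaf 15147598) (.leaf 3904068))) (.node (.node (.leaf 17191511) (.leaf 1028580)) (.node (.leaf 1728629) (.leaf 10535309)))))) (.node (.node (.node (.node (.node (.node (.leaf 5873788) (.leaf 11592105))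 (.leaf 5095937)) (.node (.leaf 16298052) (.leaf 4792681))) (.node (.node (.leaf 12857852) (.leaf 16531515)) (.node (.leaf 15999236) (.leaf 9417357)))) (.node (.node (.node (.node (.leaf 7246222) (.leaf 15970753)) (.leaf 16110244)) (.node (.leaf 3502148) (.leaf 4534398))) (.node (.node (.leaf 11620617) (.leaf 14701107)) (.node (.leaf 9011217) (.leaf 10563624))))) (.node (.node (.node (.node (.node (.leaf 1176029) (.leaf 16970025)) (.leaf 10731609)) (.node (.leaf 520647) (.leaf 4305020))) (.node (.node (.leaf 291523) (.leaf 287282)) (.node (.leaf 14262323) (.leaf 10395866)))) (.node (.node (.node (.leaf 11239607) (.leaf 3096876)) (.node (.leaf 17416432) (.leaf 4984912))) (.node (.node (.leaf 8123088) (.leaf 1343535)) (.node (.leaf 10076625) (.leaf 1458351)))))))))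

def threeMv5563 : Janko.Tree (ℕ) :=
  (.node (.node (.node (.node (.node (.node (.node (.node (.node (.leaf 18264209) (.leaf 499851)) (.leaf 6389919)) (.node (.leaf 11260085) (.leaf 8938041))) (.node (.node (.leaf 17826445) (.leaf 6107785)) (.node (.leaf 6770746) (.leaf 14692908)))) (.node (.node (.node (.node (.leaf 14856239) (.leaf 7663720)) (.leaf 4334132)) (.node (.leaf 12743141) (.leaf 12657328))) (.node (.node (.leaf 16760886) (.leaf 5259963)) (.node (.leaf 12349498) (.leaf 4887151))))) (.node (.node (.node (.node (.node (.leaf 9491120) (.leaf 1401182)) (.leaf 11551326)) (.node (.leaf 15417442) (.leaf 13357366))) (.node (.node (.leaf 2371858) (.leaf 13181654)) (.node (.leaf 13406789) (.leaf 1597695)))) (.node (.node (.node (.leaf 1544561) (.leaf 15012043)) (.node (.leaf 713092) (.leaf 4293054))) (.node (.node (.leaf 1311065) (.leaf 8372457)) (.node (.leaf 14819546) (.leaf 11514081)))))) (.node (.node (.node (.node (.node (.node (.leaf 421980) (.leaf 8651331)) (.leaf 3985925)) (.node (.leaf 11494093) (.leaf 5771449))) (.node (.node (.leaf 5620295) (.leaf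 14180986)) (.node (.leaf 9629952) (.leaf 9253092)))) (.node (.node (.node (.node (.leaf 5030139) (.leaf 14520869)) (.leaf 1860212)) (.node (.leaf 10953291) (.leaf 13652281))) (.node (.node (.leaf 6115576) (.leaf 3621006)) (.node (.leaf 5541907) (.leaf 5222859))))) (.node (.node (.node (.node (.node (.leaf 17670510) (.leaf 9269445)) (.leaf 9703880)) (.node (.leaf 2294458) (.leaf 3723606))) (.node (.node (.leaf 9351303) (.leaf 5890578)) (.node (.leaf 6447396) (.leaf 16277676)))) (.node (.node (.node (.leaf 1048753) (.leaf 6988241)) (.node (.leaf 1077599) (.leaf 1237398))) (.node (.node (.leaf 17072836) (.leaf 2073092)) (.node (.leaf 602553) (.leaf 12112035))))))) (.node (.node (.node (.node (.node (.node (.node (.leaf 8995403) (.leaf 1954482)) (.leaf 16121947)) (.node (.leaf 10027305) (.leaf 8101956))) (.node (.node (.leaf 18108470) (.leaf 8335429)) (.node (.leaf 241890) (.leaf 14598774)))) (.node (.node (.node (.node (.leaf 9990416) (.leaf 5460316)) (.leaf 17223900)) (.node (.leaf 1630407) (.leaf 12808346))) (.node (.node (.leaf 17133606) (.leaf 15929903)) (.node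 (.leaf 1548292) (.leaf 7373259))))) (.node (.node (.node (.node (.node (.leaf 4522001) (.leaf 10051599)) (.leaf 11436296)) (.node (.leaf 3310073) (.leaf 7237674))) (.node (.node (.leaf 9949844) (.leaf 2658747)) (.node (.leaf 8245892) (.leaf 8057424)))) (.node (.node (.node (.leaf 6299901) (.leaf 14422338)) (.node (.leaf 15106076) (.leaf 17752445))) (.node (.node (.leaf 15995183) (.leaf 16699888)) (.node (.leaf 16790049) (.leaf 13824588)))))) (.node (.node (.node (.node (.node (.node (.leaf 6185349) (.leaf 2790083)) (.leaf 14975075)) (.node (.leaf 5648755) (.leaf 9027617))) (.node (.node (.leaf 8790074) (.leaf 2441667)) (.node (.leaf 2736175) (.leaf 13705350)))) (.node (.node (.node (.node (.leaf 13176937) (.leaf 12730378)) (.leaf 5595206)) (.node (.leaf 18182691) (.leaf 12984898))) (.node (.node (.leaf 10842348) (.leaf 3711104)) (.node (.leaf 8249964) (.leaf 2433639))))) (.node (.node (.node (.node (.node (.leaf 4018836) (.leaf 6795909)) (.leaf 14323833)) (.node (.leaf 5652817) (.leaf 4132892))) (.node (.node (.leaf 9593474) (.leaf 926348)) (.node (.leaf 12620328)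 (.leaf 1097943)))) (.node (.node (.node (.leaf 1970671) (.leaf 7360905)) (.node (.leaf 8442190) (.leaf 8188590))) (.node (.node (.leaf 11383341) (.leaf 16826852)) (.node (.leaf 15061647) (.leaf 1933892)))))))) (.node (.node (.node (.node (.node (.node (.node (.node (.leaf 2113844) (.leaf 10543502)) (.leaf 17371608)) (.node (.leaf 3604944) (.leaf 11629084))) (.node (.node (.leaf 12096094) (.leaf 4329889)) (.node (.leaf 18076341) (.leaf 10367343)))) (.node (.node (.node (.node (.leaf 934307) (.leaf 4870755)) (.leaf 17658074)) (.node (.leaf 7475301) (.leaf 6713418))) (.node (.node (.leaf 13013690) (.leaf 9248978)) (.node (.leaf 16933491) (.leaf 3289730))))) (.node (.node (.node (.node (.node (.leaf 11087950) (.leaf 8917334)) (.leaf 12525728)) (.node (.leaf 17068515) (.leaf 18301355))) (.node (.node (.leaf 15286667) (.leaf 8139167)) (.node (.leaf 4612446) (.leaf 14533023)))) (.node (.node (.node (.leaf 8180170) (.leaf 9937123)) (.node (.leaf 10572319) (.leaf 155854))) (.node (.node (.leaf 4956380) (.leaf 9208359)) (.node (.leaf 229698) (.leaf 10215994)))))) (.node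 (.node (.node (.node (.node (.node (.leaf 7118985) (.leaf 16741068)) (.leaf 6591106)) (.node (.leaf 4567379) (.leaf 8340157))) (.node (.node (.leaf 4465207) (.leaf 13737987)) (.node (.leaf 6370002) (.leaf 1257880)))) (.node (.node (.node (.node (.leaf 15667315) (.leaf 909515)) (.leaf 6357072)) (.node (.leaf 11256218) (.leaf 9056552))) (.node (.node (.leaf 15372833) (.leaf 16588822)) (.node (.leaf 782596) (.leaf 8720772))))) (.node (.node (.node (.node (.node (.leaf 17645683) (.leaf 16609432)) (.leaf 15237840)) (.node (.leaf 11489878) (.leaf 12943691))) (.node (.node (.leaf 5275804) (.leaf 442708)) (.node (.leaf 10949161) (.leaf 10371116)))) (.node (.node (.node (.leaf 17363297) (.leaf 1872464)) (.node (.leaf 1536565) (.leaf 15392896))) (.node (.node (.leaf 1143341) (.leaf 17293533)) (.node (.leaf 2457764) (.leaf 7541030))))))) (.node (.node (.node (.node (.node (.node (.node (.leaf 11821559) (.leaf 6725927)) (.leaf 13418577)) (.node (.leaf 9375955) (.leaf 1446181))) (.node (.node (.leaf 15634519) (.leaf 6926337)) (.node (.leaf 15159769) (.leaf 987499)))) (.node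 (.node (.node (.node (.leaf 14487553) (.leaf 9052282)) (.leaf 14250532)) (.node (.leaf 14279145) (.leaf 14872882))) (.node (.node (.leaf 4719191) (.leaf 13279678)) (.node (.leaf 4825272) (.leaf 11571377))))) (.node (.node (.node (.node (.node (.leaf 6546027) (.leaf 12309014)) (.leaf 7959096)) (.node (.leaf 1004138) (.leaf 8265994))) (.node (.node (.leaf 17748688) (.leaf 5255744)) (.node (.leaf 1008267) (.leaf 16208072)))) (.node (.node (.node (.leaf 1388926) (.leaf 1507630)) (.node (.leaf 4632888) (.leaf 3162794))) (.node (.node (.leaf 13193389) (.leaf 13767092)) (.node (.leaf 15917760) (.leaf 3633832)))))) (.node (.node (.node (.node (.node (.node (.leaf 13148438) (.leaf 10232165)) (.leaf 7721044)) (.node (.leaf 5296769) (.leaf 4972763))) (.node (.node (.leaf 15495341) (.leaf 11657387)) (.node (.leaf 17031660) (.leaf 14233632)))) (.node (.node (.node (.node (.leaf 16749259) (.leaf 16355592)) (.leaf 10560143)) (.node (.leaf 13373718) (.leaf 3654032))) (.node (.node (.leaf 18297321) (.leaf 8237663)) (.node (.leaf 10261053) (.leaf 6861133))))) (.node (.node (.node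 (.node (.node (.leaf 16339301) (.leaf 13844576)) (.leaf 13062390)) (.node (.leaf 11878699) (.leaf 8413659))) (.node (.node (.leaf 2191482) (.leaf 7323668)) (.node (.leaf 10756696) (.leaf 8016579)))) (.node (.node (.node (.leaf 13606922) (.leaf 16040643)) (.node (.leaf 1208875) (.leaf 9831115))) (.node (.node (.leaf 12173890) (.leaf 14852743)) (.node (.leaf 9892457) (.leaf 12439567)))))))))

def threeMv5564 : Janko.Tree (ℕ) :=
  (.node (.node (.node (.node (.node (.node (.node (.node (.node (.leaf 13447453) (.leaf 7254464)) (.leaf 8155755)) (.node (.leaf 4755745) (.leaf 3695254))) (.node (.node (.leaf 9658810) (.leaf 14283066)) (.node (.leaf 1167865) (.leaf 5210332)))) (.node (.node (.node (.node (.leaf 16204290) (.leaf 10297712)) (.leaf 3571841)) (.node (.leaf 7623018) (.leaf 13377979))) (.node (.node (.leaf 16306750) (.leaf 3531367)) (.node (.leaf 1090069) (.leaf 17219630))))) (.node (.node (.node (.node (.node (.leaf 2085007) (.leaf 15598188)) (.leaf 18022485)) (.node (.leaf 4735294) (.leaf 9339297))) (.node (.node (.leaf 385310) (.leaf 14868974)) (.node (.leaf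 13296033) (.leaf 7139674)))) (.node (.node (.node (.leaf 16683502) (.leaf 6644432)) (.node (.leaf 6893932) (.leaf 930132))) (.node (.node (.leaf 15442261) (.leaf 12075090)) (.node (.leaf 7549651) (.leaf 14893332)))))) (.node (.node (.node (.node (.node (.node (.leaf 5935286) (.leaf 16892417)) (.leaf 16880322)) (.node (.leaf 3379828) (.leaf 17785545))) (.node (.node (.leaf 13468040) (.leaf 700707)) (.node (.leaf 5681755) (.leaf 9441656)))) (.node (.node (.node (.node (.leaf 4469213) (.leaf 7737724)) (.leaf 15937677)) (.node (.leaf 7889343) (.leaf 13660560))) (.node (.node (.leaf 1491376) (.leaf 9707913)) (.node (.leaf 7618926) (.leaf 15130782))))) (.node (.node (.node (.node (.node (.leaf 16634216) (.leaf 14524799)) (.leaf 7864787)) (.node (.leaf 5312988) (.leaf 13414627))) (.node (.node (.leaf 17158183) (.leaf 16728165)) (.node (.leaf 13230312) (.leaf 12792105)))) (.node (.node (.node (.leaf 4833561) (.leaf 9040338)) (.node (.leaf 1299017) (.leaf 7410241))) (.node (.node (.leaf 15855907) (.leaf 16105611)) (.node (.leaf 18113098) (.leaf 5518005))))))) (.node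 (.node (.node (.node (.node (.node (.node (.leaf 6345029) (.leaf 16925225)) (.leaf 9814467)) (.node (.leaf 9752890) (.leaf 11952696))) (.node (.node (.leaf 8986955) (.leaf 8425985)) (.node (.leaf 17023187) (.leaf 13021288)))) (.node (.node (.node (.node (.leaf 17678611) (.leaf 9072870)) (.leaf 12804305)) (.node (.leaf 2035960) (.leaf 15606137))) (.node (.node (.leaf 6062508) (.leaf 4386980)) (.node (.leaf 10186996) (.leaf 1561163))))) (.node (.node (.node (.node (.node (.leaf 2003174) (.leaf 10649857)) (.leaf 12386930)) (.node (.leaf 16187805) (.leaf 8815308))) (.node (.node (.leaf 16175399) (.leaf 17691305)) (.node (.leaf 13779442) (.leaf 9261523)))) (.node (.node (.node (.leaf 14783145) (.leaf 1864404)) (.node (.leaf 1688111) (.leaf 14303352))) (.node (.node (.leaf 12832952) (.leaf 1712688)) (.node (.leaf 14909686) (.leaf 1876014)))))) (.node (.node (.node (.node (.node (.node (.leaf 9642295) (.leaf 2781657)) (.leaf 1618164)) (.node (.leaf 17986156) (.leaf 9711914))) (.node (.node (.leaf 18161759) (.leaf 1855781)) (.node (.leaf 18116745) (.leaf 225801))))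 (.node (.node (.node (.node (.leaf 1663337) (.leaf 9064529)) (.leaf 9846921)) (.node (.leaf 262230) (.leaf 11100565))) (.node (.node (.leaf 606902) (.leaf 7090545)) (.node (.leaf 12493125) (.leaf 1454238))))) (.node (.node (.node (.node (.node (.leaf 12247147) (.leaf 765965)) (.leaf 15733323)) (.node (.leaf 10813487) (.leaf 3916012))) (.node (.node (.leaf 6844841) (.leaf 13213744)) (.node (.leaf 7225472) (.leaf 15613982)))) (.node (.node (.node (.leaf 4473458) (.leaf 8483291)) (.node (.leaf 4641369) (.leaf 16503494))) (.node (.node (.leaf 6832469) (.leaf 12817042)) (.node (.leaf 16810355) (.leaf 17707142)))))))) (.node (.node (.node (.node (.node (.node (.node (.node (.leaf 1032274) (.leaf 2830702)) (.leaf 17211703)) (.node (.leaf 11948133) (.leaf 18207262))) (.node (.node (.leaf 14241913) (.leaf 10567685)) (.node (.leaf 12153142) (.leaf 839682)))) (.node (.node (.node (.node (.leaf 4657489) (.leaf 12759631)) (.leaf 11887087)) (.node (.leaf 16744521) (.leaf 9130166))) (.node (.node (.leaf 10617148) (.leaf 12775519)) (.node (.leaf 11850331) (.leaf 15126724)))))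 (.node (.node (.node (.node (.node (.leaf 5108064) (.leaf 17686600)) (.leaf 18047076)) (.node (.leaf 16585395) (.leaf 13504739))) (.node (.node (.leaf 4702928) (.leaf 17236152)) (.node (.leaf 14217493) (.leaf 2478302)))) (.node (.node (.node (.leaf 16707760) (.leaf 5091916)) (.node (.leaf 15536550) (.leaf 8897110))) (.node (.node (.leaf 9044133) (.leaf 4997449)) (.node (.leaf 11956435) (.leaf 11141142)))))) (.node (.node (.node (.node (.node (.node (.leaf 4559463) (.leaf 11338414)) (.leaf 15651452)) (.node (.leaf 2572898) (.leaf 17281553))) (.node (.node (.leaf 496147) (.leaf 18309213)) (.node (.leaf 6210254) (.leaf 9093528)))) (.node (.node (.node (.node (.leaf 18157848) (.leaf 5931325)) (.leaf 5914870)) (.node (.leaf 3567655) (.leaf 2896472))) (.node (.node (.leaf 15122627) (.leaf 10113683)) (.node (.leaf 14246433) (.leaf 14102552))))) (.node (.node (.node (.node (.node (.leaf 8904837) (.leaf 1884620)) (.leaf 13664315)) (.node (.leaf 3404004) (.leaf 4530346))) (.node (.node (.leaf 1703967) (.leaf 14307746)) (.node (.leaf 8151681) (.leaf 11686613)))) (.node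 (.node (.node (.leaf 9232439) (.leaf 10195053)) (.node (.leaf 9867544) (.leaf 6701527))) (.node (.node (.leaf 16085605) (.leaf 11469413)) (.node (.leaf 1159828) (.leaf 17346839))))))) (.node (.node (.node (.node (.node (.node (.node (.leaf 1523816) (.leaf 12853938)) (.leaf 10838615)) (.node (.leaf 1770072) (.leaf 11661527))) (.node (.node (.leaf 13558130) (.leaf 8884653)) (.node (.leaf 1991337) (.leaf 14357162)))) (.node (.node (.node (.node (.leaf 8745229) (.leaf 12763445)) (.leaf 16089805)) (.node (.leaf 16335281) (.leaf 17855106))) (.node (.node (.leaf 6804124) (.leaf 1233092)) (.node (.leaf 17494487) (.leaf 11477567))))) (.node (.node (.node (.node (.node (.leaf 168476) (.leaf 17322479)) (.leaf 17539302)) (.node (.leaf 9924738) (.leaf 37489))) (.node (.node (.leaf 3047845) (.leaf 17187193)) (.node (.leaf 11940282) (.leaf 11928237)))) (.node (.node (.node (.leaf 11210817) (.leaf 3969084)) (.node (.leaf 5378167) (.leaf 7123306))) (.node (.node (.leaf 10690672) (.leaf 8142998)) (.node (.leaf 7647514) (.leaf 16465965)))))) (.node (.node (.node (.node (.node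 (.node (.leaf 17900089) (.leaf 7426761)) (.leaf 8863745)) (.node (.leaf 6934864) (.leaf 6496613))) (.node (.node (.leaf 7316153) (.leaf 5644799)) (.node (.leaf 9880240) (.leaf 73730)))) (.node (.node (.node (.node (.leaf 4489747) (.leaf 3936863)) (.leaf 13353389)) (.node (.leaf 11063474) (.leaf 16843062))) (.node (.node (.leaf 12300818) (.leaf 7082636)) (.node (.leaf 16667063) (.leaf 9826932))))) (.node (.node (.node (.node (.node (.leaf 11625026) (.leaf 7876745)) (.leaf 8974757)) (.node (.leaf 14483624) (.leaf 12001511))) (.node (.node (.leaf 5550601) (.leaf 12894332)) (.node (.leaf 14934290) (.leaf 9548062)))) (.node (.node (.node (.leaf 18342076) (.leaf 4383245)) (.node (.leaf 13071002) (.leaf 1364103))) (.node (.node (.leaf 11866464) (.leaf 6312396)) (.node (.leaf 15860236) (.leaf 307351)))))))))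

def threeMv5565 : Janko.Tree (ℕ) :=
  (.node (.node (.node (.node (.node (.node (.node (.node (.node (.leaf 7155830) (.leaf 16769599)) (.leaf 7099027)) (.node (.leaf 5325271) (.leaf 5927091))) (.node (.node (.leaf 13369350) (.leaf 11284837)) (.node (.leaf 331943) (.leaf 13582669)))) (.node (.node (.node (.node (.leaf 6570325) (.leaf 17650184)) (.leaf 2732429)) (.node (.leaf 8876619) (.leaf 8302788))) (.node (.node (.leaf 8229470) (.leaf 12189912)) (.node (.leaf 14758455) (.leaf 5537807))))) (.node (.node (.node (.node (.node (.leaf 10277359) (.leaf 15499524)) (.leaf 12628179)) (.node (.leaf 18100377) (.leaf 4268536))) (.node (.node (.leaf 17457578) (.leaf 1180315)) (.node (.leaf 2310580) (.leaf 16380354)))) (.node (.node (.node (.leaf 6213993) (.leaf 4923830)) (.node (.leaf 3007161) (.leaf 10612830))) (.node (.node (.leaf 11759966) (.leaf 2597195)) (.node (.leaf 12329306) (.leaf 16273643)))))) (.node (.node (.node (.node (.node (.node (.leaf 16113672) (.leaf 8454772)) (.leaf 3015199)) (.node (.leaf 11358615) (.leaf 1265703))) (.node (.node (.leaf 2379864) (.leaf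 4506022)) (.node (.leaf 12886450) (.leaf 13111992)))) (.node (.node (.node (.node (.leaf 16982295) (.leaf 16347604)) (.leaf 2286230)) (.node (.leaf 7160478) (.leaf 14061860))) (.node (.node (.leaf 8470866) (.leaf 8003749)) (.node (.leaf 11547057) (.leaf 11460859))))) (.node (.node (.node (.node (.node (.leaf 5755461) (.leaf 2154573)) (.leaf 151603)) (.node (.leaf 467658) (.leaf 10399993))) (.node (.node (.leaf 16863940) (.leaf 2023722)) (.node (.leaf 4596163) (.leaf 15245941)))) (.node (.node (.node (.leaf 2413013) (.leaf 7234084)) (.node (.leaf 9478342) (.leaf 4579639))) (.node (.node (.leaf 6045847) (.leaf 13533747)) (.node (.leaf 10687096) (.leaf 5738588))))))) (.node (.node (.node (.node (.node (.node (.node (.leaf 3862760) (.leaf 2421099)) (.leaf 17760641)) (.node (.leaf 12423542) (.leaf 15421728))) (.node (.node (.leaf 8499291) (.leaf 14004862)) (.node (.leaf 3318469) (.leaf 8389212)))) (.node (.node (.node (.node (.leaf 3260714) (.leaf 7893090)) (.leaf 11194934)) (.node (.leaf 17846929) (.leaf 11231334))) (.node (.node (.leaf 13431324) (.leaf 8106249))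 (.node (.leaf 14143516) (.leaf 3088580))))) (.node (.node (.node (.node (.node (.leaf 18199208) (.leaf 11190966)) (.leaf 6484336)) (.node (.leaf 17560068) (.leaf 9941143))) (.node (.node (.leaf 12959934) (.leaf 14774480)) (.node (.leaf 9121981) (.leaf 106590)))) (.node (.node (.node (.leaf 4800988) (.leaf 5190343)) (.node (.leaf 2449605) (.leaf 16351644))) (.node (.node (.leaf 12284049) (.leaf 725664)) (.node (.leaf 13492467) (.leaf 7508377)))))) (.node (.node (.node (.node (.node (.node (.leaf 13988443) (.leaf 12091436)) (.leaf 2990483)) (.node (.leaf 3211472) (.leaf 1921458))) (.node (.node (.leaf 4252248) (.leaf 979344)) (.node (.leaf 17567835) (.leaf 12406845)))) (.node (.node (.node (.node (.leaf 11665961) (.leaf 2793602)) (.leaf 11748003)) (.node (.leaf 9158771) (.leaf 16658450))) (.node (.node (.leaf 4907052) (.leaf 3064045)) (.node (.leaf 16838916) (.leaf 10760213))))) (.node (.node (.node (.node (.node (.leaf 6717554) (.leaf 139463)) (.leaf 18141794)) (.node (.leaf 11079807) (.leaf 11645102))) (.node (.node (.leaf 3023165) (.leaf 376908)) (.node (.leaf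 9449911) (.leaf 16212201)))) (.node (.node (.node (.leaf 15376831) (.leaf 13078901)) (.node (.leaf 6558161) (.leaf 3650136))) (.node (.node (.leaf 17953451) (.leaf 13259021)) (.node (.leaf 5632575) (.leaf 2519535)))))))) (.node (.node (.node (.node (.node (.node (.node (.node (.leaf 4829251) (.leaf 11440400)) (.leaf 12956366)) (.node (.leaf 9773422) (.leaf 15224893))) (.node (.node (.leaf 13132467) (.leaf 12054960)) (.node (.leaf 12898356) (.leaf 463249)))) (.node (.node (.node (.node (.leaf 6070514) (.leaf 10289515)) (.leaf 17510870)) (.node (.leaf 14381292) (.leaf 14110848))) (.node (.node (.leaf 692461) (.leaf 7971306)) (.node (.leaf 9342997) (.leaf 14287355))))) (.node (.node (.node (.node (.node (.leaf 1843491) (.leaf 3989668)) (.leaf 8999495)) (.node (.leaf 9576851) (.leaf 2060881))) (.node (.node (.leaf 6881877) (.leaf 13550073)) (.node (.leaf 7184702) (.leaf 533207)))) (.node (.node (.node (.leaf 2687582) (.leaf 17838771)) (.node (.leaf 18104411) (.leaf 10600963))) (.node (.node (.leaf 9220232) (.leaf 6582779)) (.node (.leaf 5554503) (.leaf 3072533))))))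 (.node (.node (.node (.node (.node (.node (.leaf 9609501) (.leaf 15352028)) (.leaf 9621838)) (.node (.leaf 1495725) (.leaf 7397424))) (.node (.node (.leaf 14082520) (.leaf 12837516)) (.node (.leaf 14594116) (.leaf 770560)))) (.node (.node (.node (.node (.leaf 7659544) (.leaf 7975562)) (.leaf 14573973)) (.node (.leaf 4788781) (.leaf 11129527))) (.node (.node (.leaf 10359434) (.leaf 3223829)) (.node (.leaf 3170438) (.leaf 11018847))))) (.node (.node (.node (.node (.node (.leaf 14729838) (.leaf 5394944)) (.leaf 17125971)) (.node (.leaf 13947166) (.leaf 3813913))) (.node (.node (.leaf 6169165) (.leaf 696334)) (.node (.leaf 3121389) (.leaf 13017223)))) (.node (.node (.node (.leaf 15380818) (.leaf 17338795)) (.node (.leaf 16253581) (.leaf 16712022))) (.node (.node (.leaf 14172859) (.leaf 5546374)) (.node (.leaf 14311455) (.leaf 2724236))))))) (.node (.node (.node (.node (.node (.node (.node (.leaf 1274462) (.leaf 16486929)) (.leaf 12579367)) (.node (.leaf 14291405) (.leaf 754030))) (.node (.node (.leaf 5882474) (.leaf 11743301)) (.node (.leaf 16704000) (.leaf 6086863))))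 (.node (.node (.node (.node (.leaf 15638984) (.leaf 12595383)) (.leaf 14348946)) (.node (.leaf 17801454) (.leaf 12157520))) (.node (.node (.leaf 217329) (.leaf 17547726)) (.node (.leaf 12378813) (.leaf 15946229))))) (.node (.node (.node (.node (.node (.leaf 741662) (.leaf 623220)) (.leaf 17420600)) (.node (.leaf 10392013) (.leaf 7581824))) (.node (.node (.leaf 11731281) (.leaf 7000464)) (.node (.leaf 2932749) (.leaf 5050835)))) (.node (.node (.node (.leaf 14434890) (.leaf 4452426)) (.node (.leaf 8081702) (.leaf 16630184))) (.node (.node (.leaf 6488223) (.leaf 2748674)) (.node (.leaf 2171057) (.leaf 7004414)))))) (.node (.node (.node (.node (.node (.node (.leaf 13828679) (.leaf 2109593)) (.leaf 2941217)) (.node (.leaf 8675591) (.leaf 18248318))) (.node (.node (.leaf 8696034) (.leaf 10040006)) (.node (.leaf 5960384) (.leaf 11264222)))) (.node (.node (.node (.node (.leaf 3764549) (.leaf 10104880)) (.leaf 6398506)) (.node (.leaf 10633505) (.leaf 14921757))) (.node (.node (.leaf 3797388) (.leaf 4813354)) (.node (.leaf 12124674) (.leaf 16871890))))) (.node (.node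 (.node (.node (.node (.leaf 2552381) (.leaf 5267633)) (.leaf 7262294)) (.node (.leaf 13578947) (.leaf 655678))) (.node (.node (.leaf 13685443) (.leaf 4203206)) (.node (.leaf 9916994) (.leaf 7164411)))) (.node (.node (.node (.leaf 2175111) (.leaf 7672407)) (.node (.leaf 11006546) (.leaf 16003212))) (.node (.node (.leaf 10129411) (.leaf 11964744)) (.node (.leaf 14024970) (.leaf 344525)))))))))

def threeMv5566 : Janko.Tree (ℕ) :=
  (.node (.node (.node (.node (.node (.node (.node (.node (.node (.leaf 10792977) (.leaf 12185635)) (.leaf 5198144)) (.node (.leaf 2396274) (.leaf 12612228))) (.node (.node (.leaf 1908933) (.leaf 4747287)) (.node (.leaf 2863457) (.leaf 3371234)))) (.node (.node (.node (.node (.leaf 17715851) (.leaf 3252637)) (.leaf 15003824)) (.node (.leaf 10727521) (.leaf 10621409))) (.node (.node (.leaf 2760826) (.leaf 7757879)) (.node (.leaf 15307374) (.leaf 8544781))))) (.node (.node (.node (.node (.node (.leaf 6865204) (.leaf 15810789)) (.leaf 18043325)) (.node (.leaf 7061818) (.leaf 10859013))) (.node (.node (.leaf 2076876) (.leaf 18268447)) (.node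 (.leaf 5431855) (.leaf 9060371)))) (.node (.node (.node (.leaf 2351528) (.leaf 9474601)) (.node (.leaf 3338301) (.leaf 16142344))) (.node (.node (.leaf 13677106) (.leaf 12546714)) (.node (.leaf 13509253) (.leaf 1974454)))))) (.node (.node (.node (.node (.node (.node (.leaf 15941721) (.leaf 8012003)) (.leaf 4776464)) (.node (.leaf 10379845) (.leaf 6509191))) (.node (.node (.leaf 7266485) (.leaf 4231877)) (.node (.leaf 4498082) (.leaf 7393449)))) (.node (.node (.node (.node (.leaf 13820394) (.leaf 12271814)) (.leaf 15815214)) (.node (.leaf 13697594) (.leaf 3432770))) (.node (.node (.leaf 8892789) (.leaf 17543364)) (.node (.leaf 13275138) (.leaf 16015498))))) (.node (.node (.node (.node (.node (.leaf 3142021) (.leaf 737546)) (.leaf 57984)) (.node (.leaf 15098372) (.leaf 1581510))) (.node (.node (.leaf 11616791) (.leaf 2048192)) (.node (.leaf 2826565) (.leaf 4666013)))) (.node (.node (.node (.leaf 12993203) (.leaf 3842548)) (.node (.leaf 10998351) (.leaf 4940296))) (.node (.node (.leaf 3748281) (.leaf 1405090)) (.node (.leaf 5525783) (.leaf 5218736))))))) (.node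 (.node (.node (.node (.node (.node (.node (.leaf 15151549) (.leaf 258098)) (.leaf 6516823)) (.node (.leaf 12079651) (.leaf 8163386))) (.node (.node (.leaf 10375183) (.leaf 3281161)) (.node (.leaf 11944489) (.leaf 13730310)))) (.node (.node (.node (.node (.leaf 6783160) (.leaf 14123559)) (.leaf 9551992)) (.node (.leaf 12632326) (.leaf 18137118))) (.node (.node (.leaf 9237052) (.leaf 13054050)) (.node (.leaf 10080755) (.leaf 8688083))))) (.node (.node (.node (.node (.node (.leaf 13324719) (.leaf 12194456)) (.leaf 15724808)) (.node (.leaf 1774137) (.leaf 4014122))) (.node (.node (.leaf 6156775) (.leaf 811442)) (.node (.leaf 4116755) (.leaf 8462576)))) (.node (.node (.node (.leaf 10265073) (.leaf 16011501)) (.node (.leaf 8561353) (.leaf 12259992))) (.node (.node (.leaf 9359809) (.leaf 6852895)) (.node (.leaf 17408446) (.leaf 12939610)))))) (.node (.node (.node (.node (.node (.node (.leaf 12910593) (.leaf 573612)) (.leaf 10097255)) (.node (.leaf 5784268) (.leaf 15986740))) (.node (.node (.leaf 16670812) (.leaf 17993782)) (.node (.leaf 3756593) (.leaf 14791220))))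 (.node (.node (.node (.node (.leaf 3776904) (.leaf 8306817)) (.leaf 13517508)) (.node (.leaf 7012540) (.leaf 17027331))) (.node (.node (.leaf 14328401) (.leaf 18231598)) (.node (.leaf 2208200) (.leaf 1671295))))) (.node (.node (.node (.node (.node (.leaf 14443089) (.leaf 4764293)) (.leaf 3850884)) (.node (.leaf 9265614) (.leaf 6082830))) (.node (.node (.leaf 3039391) (.leaf 14946417)) (.node (.leaf 8822877) (.leaf 8024530)))) (.node (.node (.node (.leaf 2753141) (.leaf 11674037)) (.node (.leaf 3699081) (.leaf 6992011))) (.node (.node (.leaf 1134635) (.leaf 7467643)) (.node (.leaf 8061137) (.leaf 4919873)))))))) (.node (.node (.node (.node (.node (.node (.node (.node (.leaf 1720821) (.leaf 14463059)) (.leaf 7406024)) (.node (.leaf 8380471) (.leaf 975001))) (.node (.node (.leaf 17580465) (.leaf 10043427)) (.node (.leaf 10735909) (.leaf 7922045)))) (.node (.node (.node (.node (.leaf 13161130) (.leaf 3826288)) (.leaf 2498900)) (.node (.leaf 5734738) (.leaf 13721762))) (.node (.node (.leaf 9388266) (.leaf 6263114)) (.node (.leaf 2204356) (.leaf 8811039))))) (.node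 (.node (.node (.node (.node (.leaf 5980263) (.leaf 9166948)) (.leaf 9957616)) (.node (.leaf 5022241) (.leaf 15036540))) (.node (.node (.leaf 12583076) (.leaf 14811781)) (.node (.leaf 11980890) (.leaf 3752316)))) (.node (.node (.node (.leaf 16720174) (.leaf 10469671)) (.node (.leaf 4399540) (.leaf 5419597))) (.node (.node (.leaf 11632854) (.leaf 8479057)) (.node (.leaf 11612865) (.leaf 9945749)))))) (.node (.node (.node (.node (.node (.node (.leaf 352275) (.leaf 12738612)) (.leaf 418178)) (.node (.leaf 8089906) (.leaf 9162818))) (.node (.node (.leaf 5951561) (.leaf 6664602)) (.node (.leaf 5833036) (.leaf 508397)))) (.node (.node (.node (.node (.leaf 18194655) (.leaf 18178327)) (.leaf 618562)) (.node (.leaf 119371) (.leaf 14876764))) (.node (.node (.leaf 757973) (.leaf 16687416)) (.node (.leaf 13205927) (.leaf 25266))))) (.node (.node (.node (.node (.node (.leaf 14966907) (.leaf 1564728)) (.leaf 15953940)) (.node (.leaf 791163) (.leaf 1392781))) (.node (.node (.leaf 5329292) (.leaf 7962931)) (.node (.leaf 7787112) (.leaf 16523418)))) (.node (.node (.node (.leaf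 8134756) (.leaf 10645732)) (.node (.leaf 17388129) (.leaf 13611298))) (.node (.node (.leaf 3838138) (.leaf 2544244)) (.node (.leaf 6742135) (.leaf 860832))))))) (.node (.node (.node (.node (.node (.node (.node (.leaf 16044078) (.leaf 14053801)) (.leaf 15835668)) (.node (.leaf 17965571) (.leaf 1372358))) (.node (.node (.leaf 15303080) (.leaf 14860565)) (.node (.leaf 12202519) (.leaf 9572547)))) (.node (.node (.node (.node (.leaf 17662087) (.leaf 143779)) (.leaf 78323)) (.node (.leaf 3461234) (.leaf 14127623))) (.node (.node (.leaf 7717402) (.leaf 16241021)) (.node (.leaf 12861443) (.leaf 1319311))))) (.node (.node (.node (.node (.node (.leaf 8646996) (.leaf 11784420)) (.leaf 12787752)) (.node (.leaf 942752) (.leaf 14586290))) (.node (.node (.leaf 17895529) (.leaf 17433067)) (.node (.leaf 12550171) (.leaf 15327852)))) (.node (.node (.node (.leaf 6140374) (.leaf 9240954)) (.node (.leaf 172527) (.leaf 5128358))) (.node (.node (.leaf 4591913) (.leaf 12280349)) (.node (.leaf 5689706) (.leaf 4043278)))))) (.node (.node (.node (.node (.node (.node (.leaf 3736219) (.leaf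 98730)) (.leaf 8552944)) (.node (.leaf 15044695) (.leaf 1020586))) (.node (.node (.leaf 3489910) (.leaf 5923477)) (.node (.leaf 7631509) (.leaf 15663650)))) (.node (.node (.node (.node (.leaf 17973963) (.leaf 15560979)) (.leaf 5284346)) (.node (.leaf 3182982) (.leaf 2756701))) (.node (.node (.leaf 15904988) (.leaf 2531422)) (.node (.leaf 17297745) (.leaf 6791741))))) (.node (.node (.node (.node (.node (.leaf 4358287) (.leaf 7561374)) (.leaf 17392098)) (.node (.leaf 11379270) (.leaf 3285611))) (.node (.node (.leaf 17052029) (.leaf 1327117)) (.node (.leaf 8434009) (.leaf 590472)))) (.node (.node (.node (.leaf 16994508) (.leaf 1900581)) (.node (.leaf 7168034) (.leaf 2589367))) (.node (.node (.leaf 16867962) (.leaf 14369061)) (.node (.leaf 15032916) (.leaf 17732178)))))))))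

def threeMv5567 : Janko.Tree (ℕ) :=
  (.node (.node (.node (.node (.node (.node (.node (.node (.node (.leaf 676394) (.leaf 10846625)) (.leaf 16027659)) (.node (.leaf 17506412) (.leaf 2621831))) (.node (.node (.leaf 16286016) (.leaf 3084453)) (.node (.leaf 13218249) (.leaf 15511838)))) (.node (.node (.node (.node (.leaf 13140367) (.leaf 17773159)) (.leaf 12214572)) (.node (.leaf 1946227) (.leaf 15851612))) (.node (.node (.leaf 6627688) (.leaf 131269)) (.node (.leaf 14020924) (.leaf 6693008))))) (.node (.node (.node (.node (.node (.leaf 1826857) (.leaf 17383643)) (.leaf 4470)) (.node (.leaf 4690243) (.leaf 6660272))) (.node (.node (.leaf 6394117) (.leaf 11985435)) (.node (.leaf 5702060) (.leaf 8655228)))) (.node (.node (.node (.leaf 7107273) (.leaf 6202023)) (.node (.leaf 17403922) (.leaf 950299))) (.node (.node (.leaf 406054) (.leaf 17584685)) (.node (.leaf 8299155) (.leaf 6078658)))))) (.node (.node (.node (.node (.node (.node (.leaf 15880538) (.leaf 12365886)) (.leaf 10179052)) (.node (.leaf 13385827) (.leaf 11706406))) (.node (.node (.leaf 13922802) (.leaf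 6619719)) (.node (.leaf 12513301) (.leaf 17912089)))) (.node (.node (.node (.node (.leaf 10973760) (.leaf 14500450)) (.leaf 13668632)) (.node (.leaf 8946321) (.leaf 6160899))) (.node (.node (.leaf 13984225) (.leaf 11415725)) (.node (.leaf 14713137) (.leaf 8437987))))) (.node (.node (.node (.node (.node (.leaf 815148) (.leaf 2306075)) (.leaf 9203796)) (.node (.leaf 316005) (.leaf 5243520))) (.node (.node (.leaf 1593640) (.leaf 12071437)) (.node (.leaf 7180653) (.leaf 1798752)))) (.node (.node (.node (.leaf 15786265) (.leaf 8843271)) (.node (.leaf 5333191) (.leaf 4723340))) (.node (.node (.leaf 5120123) (.leaf 10154139)) (.node (.leaf 2695456) (.leaf 7364639))))))) (.node (.node (.node (.node (.node (.node (.node (.leaf 9896386) (.leaf 4284540)) (.leaf 10211662)) (.node (.leaf 16929333) (.leaf 11219605))) (.node (.node (.leaf 17076920) (.leaf 8593772)) (.node (.leaf 8467055) (.leaf 8548855)))) (.node (.node (.node (.node (.leaf 12710024) (.leaf 2953315)) (.leaf 14418194)) (.node (.leaf 15233500) (.leaf 6849098))) (.node (.node (.leaf 6951598) (.leaf 4325895))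 (.node (.leaf 3068007) (.leaf 10002748))))) (.node (.node (.node (.node (.node (.leaf 14885530) (.leaf 18034986)) (.leaf 1532014)) (.node (.leaf 5628057) (.leaf 647176))) (.node (.node (.leaf 11223222) (.leaf 6566160)) (.node (.leaf 7565370) (.leaf 3592351)))) (.node (.node (.node (.leaf 17203399) (.leaf 5361811)) (.node (.leaf 16257068) (.leaf 14316142))) (.node (.node (.leaf 3829783) (.leaf 5026423)) (.node (.leaf 5820462) (.leaf 17334693)))))) (.node (.node (.node (.node (.node (.node (.leaf 729425) (.leaf 14148206)) (.leaf 12390765)) (.node (.leaf 4407547) (.leaf 4976832))) (.node (.node (.leaf 7815362) (.leaf 1425753)) (.node (.leaf 17830424) (.leaf 2302233)))) (.node (.node (.node (.node (.leaf 9503370) (.leaf 9384200)) (.leaf 16515210)) (.node (.leaf 5144883) (.leaf 5476732))) (.node (.node (.leaf 14164296) (.leaf 15065726)) (.node (.leaf 13267509) (.leaf 8098369))))) (.node (.node (.node (.node (.node (.leaf 5251573) (.leaf 4895146)) (.leaf 13648120)) (.node (.leaf 17342726) (.leaf 13529786))) (.node (.node (.leaf 16228523) (.leaf 6099489)) (.node (.leaf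 2269508) (.leaf 16724126)))) (.node (.node (.node (.leaf 15848088) (.leaf 5792456)) (.node (.leaf 6189592) (.leaf 7860725))) (.node (.node (.leaf 14057911) (.leaf 4628619)) (.node (.leaf 10355117) (.leaf 15114760)))))))) (.node (.node (.node (.node (.node (.node (.node (.node (.leaf 6267314) (.leaf 15413428)) (.leaf 15544751)) (.node (.leaf 2245133) (.leaf 7086294))) (.node (.node (.leaf 14721104) (.leaf 10580504)) (.node (.leaf 8327825) (.leaf 7991824)))) (.node (.node (.node (.node (.leaf 12243140) (.leaf 5661270)) (.leaf 16855566)) (.node (.leaf 18038896) (.leaf 13914114))) (.node (.node (.leaf 3424921) (.leaf 13594816)) (.node (.leaf 7434297) (.leaf 18001946))))) (.node (.node (.node (.node (.node (.leaf 7577927) (.leaf 14561286)) (.leaf 8880175)) (.node (.leaf 8446191) (.leaf 15934111))) (.node (.node (.leaf 15446557) (.leaf 13226545)) (.node (.leaf 204825) (.leaf 9327247)))) (.node (.node (.node (.leaf 15347761) (.leaf 17056012)) (.node (.leaf 4125025) (.leaf 14996145))) (.node (.node (.leaf 3601001) (.leaf 5509453)) (.node (.leaf 6967605) (.leaf 2240758))))))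 (.node (.node (.node (.node (.node (.node (.leaf 4026611) (.leaf 15806535)) (.leaf 9568588)) (.node (.leaf 1741023) (.leaf 3350860))) (.node (.node (.leaf 10011112) (.leaf 17637854)) (.node (.leaf 16454025) (.leaf 1999383)))) (.node (.node (.node (.node (.leaf 10658334) (.leaf 4600132)) (.leaf 8860151)) (.node (.leaf 1511505) (.leaf 11780519))) (.node (.node (.leaf 15589718) (.leaf 4850295)) (.node (.leaf 569681) (.leaf 13263387))))) (.node (.node (.node (.node (.node (.leaf 5099612) (.leaf 7058036)) (.leaf 11993468)) (.node (.leaf 6316356) (.leaf 5636211))) (.node (.node (.leaf 13361872) (.leaf 16392680)) (.node (.leaf 1355819) (.leaf 10830178)))) (.node (.node (.node (.leaf 7279209) (.leaf 6906232)) (.node (.leaf 1200233) (.leaf 4858496))) (.node (.node (.leaf 7700497) (.leaf 3392102)) (.node (.leaf 3584322) (.leaf 3846357))))))) (.node (.node (.node (.node (.node (.node (.node (.leaf 1302989) (.leaf 12120692)) (.leaf 15737514)) (.node (.leaf 13001183) (.leaf 11702800))) (.node (.node (.leaf 7115310) (.leaf 17301668)) (.node (.leaf 15753856) (.leaf 6320216))))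 (.node (.node (.node (.node (.leaf 3363458) (.leaf 14766105)) (.leaf 14221462)) (.node (.leaf 11272673) (.leaf 9097574))) (.node (.node (.leaf 16302183) (.leaf 17101500)) (.node (.leaf 17956872) (.leaf 5136824))))) (.node (.node (.node (.node (.node (.leaf 1941801) (.leaf 8577396)) (.leaf 9761421)) (.node (.leaf 12357633) (.leaf 3396167))) (.node (.node (.leaf 12587389) (.leaf 18223107)) (.node (.leaf 3002653) (.leaf 7331944)))) (.node (.node (.node (.leaf 2568591) (.leaf 13631742)) (.node (.leaf 4412071) (.leaf 2974057))) (.node (.node (.leaf 16457893) (.leaf 13033940)) (.node (.leaf 6492353) (.leaf 4428354)))))) (.node (.node (.node (.node (.node (.node (.leaf 2044242) (.leaf 2462344)) (.leaf 8900924)) (.node (.leaf 7311633) (.leaf 7275172))) (.node (.node (.leaf 7213086) (.leaf 9699949)) (.node (.leaf 9392313) (.leaf 3743795)))) (.node (.node (.node (.node (.leaf 10498765) (.leaf 10871387)) (.leaf 5230730)) (.node (.leaf 18059916) (.leaf 8700222))) (.node (.node (.leaf 10547388) (.leaf 9330873)) (.node (.leaf 15085874) (.leaf 9871713))))) (.node (.node (.node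 (.node (.node (.leaf 6647963) (.leaf 5665280)) (.leaf 11035036)) (.node (.leaf 9101732) (.leaf 12661314))) (.node (.node (.leaf 10985549) (.leaf 6807941)) (.node (.leaf 1745401) (.leaf 7356573)))) (.node (.node (.node (.leaf 3879490) (.leaf 2437162)) (.node (.leaf 9228830) (.leaf 13058455))) (.node (.node (.leaf 13500923) (.leaf 18067881)) (.node (.leaf 3076303) (.leaf 7131801)))))))))

def threeMv5568 : Janko.Tree (ℕ) :=
  (.node (.node (.node (.node (.node (.node (.node (.node (.node (.leaf 10293304) (.leaf 5640784)) (.leaf 11935783)) (.node (.leaf 17244482) (.leaf 3474002))) (.node (.node (.leaf 12005664) (.leaf 8872388)) (.node (.leaf 6377860) (.leaf 6775430)))) (.node (.node (.node (.node (.leaf 946381) (.leaf 15553167)) (.leaf 18026570)) (.node (.leaf 17154578) (.leaf 12353799))) (.node (.node (.leaf 12321312) (.leaf 1699992)) (.node (.leaf 13009072) (.leaf 7774433))))) (.node (.node (.node (.node (.node (.leaf 13480596) (.leaf 15921667)) (.leaf 8716521)) (.node (.leaf 12206110) (.leaf 6041761))) (.node (.node (.leaf 5193779) (.leaf 1696360)) (.node (.leaf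 5943513) (.leaf 14955062)))) (.node (.node (.node (.leaf 7766058) (.leaf 12951938)) (.node (.leaf 6222380) (.leaf 13734472))) (.node (.node (.leaf 2257325) (.leaf 3875435)) (.node (.leaf 11649156) (.leaf 5214316)))))) (.node (.node (.node (.node (.node (.node (.leaf 11002353) (.leaf 4911348)) (.leaf 9171622)) (.node (.leaf 213090) (.leaf 8868356))) (.node (.node (.leaf 7590327) (.leaf 10789189)) (.node (.leaf 16224443) (.leaf 12227191)))) (.node (.node (.node (.node (.leaf 8991273) (.leaf 13156504)) (.leaf 3657728)) (.node (.leaf 16888284) (.leaf 3514522))) (.node (.node (.leaf 6402671) (.leaf 16851652)) (.node (.leaf 794740) (.leaf 12726769))))) (.node (.node (.node (.node (.node (.leaf 11969056) (.leaf 2646121)) (.leaf 8262101)) (.node (.leaf 3732123) (.leaf 10084966))) (.node (.node (.leaf 14135387) (.leaf 18096705)) (.node (.leaf 6737951) (.leaf 17515061)))) (.node (.node (.node (.leaf 5398933) (.leaf 2392095)) (.node (.leaf 12591548) (.leaf 16908669))) (.node (.node (.leaf 2707605) (.leaf 9257601)) (.node (.leaf 4313628) (.leaf 9224343))))))) (.node (.node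 (.node (.node (.node (.node (.node (.leaf 5726741) (.leaf 16102017)) (.leaf 10518694)) (.node (.leaf 7025359) (.leaf 18284649))) (.node (.node (.leaf 1323733) (.leaf 13029542)) (.node (.leaf 5071444) (.leaf 13336797)))) (.node (.node (.node (.node (.leaf 1212428) (.leaf 11055730)) (.leaf 2330720)) (.node (.leaf 7299579) (.leaf 17121716))) (.node (.node (.leaf 2785489) (.leaf 17908290)) (.node (.leaf 17113578) (.leaf 5616146))))) (.node (.node (.node (.node (.node (.leaf 6053899) (.leaf 7778358)) (.leaf 9175120)) (.node (.leaf 4882520) (.leaf 586219))) (.node (.node (.leaf 4862499) (.leaf 8384702)) (.node (.leaf 17629876) (.leaf 13390133)))) (.node (.node (.node (.leaf 16973854) (.leaf 4682016)) (.node (.leaf 1216699) (.leaf 4006007))) (.node (.node (.leaf 17269114) (.leaf 16368140)) (.node (.leaf 3629455) (.leaf 12198487)))))) (.node (.node (.node (.node (.node (.node (.leaf 2232837) (.leaf 1187886)) (.leaf 1429680)) (.node (.leaf 11305272) (.leaf 15872544))) (.node (.node (.leaf 2224276) (.leaf 528489)) (.node (.leaf 8766039) (.leaf 3383453)))) (.node (.node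 (.node (.node (.leaf 14459231) (.leaf 2249368)) (.leaf 12989017)) (.node (.leaf 1995289) (.leaf 5316717))) (.node (.node (.leaf 1409455) (.leaf 7483590)) (.node (.leaf 721529) (.leaf 3264997))))) (.node (.node (.node (.node (.node (.leaf 2851375) (.leaf 14696676)) (.leaf 16162876)) (.node (.leaf 17789061) (.leaf 11714859))) (.node (.node (.leaf 16314907) (.leaf 13971757)) (.node (.leaf 14864394) (.leaf 4022908)))) (.node (.node (.node (.leaf 13197818) (.leaf 5902659)) (.node (.leaf 2277716) (.leaf 2703436))) (.node (.node (.leaf 3231878) (.leaf 1352001)) (.node (.leaf 15262212) (.leaf 16679192)))))))) (.node (.node (.node (.node (.node (.node (.node (.node (.leaf 10854690) (.leaf 8950225)) (.leaf 14336398)) (.node (.leaf 10924153) (.leaf 954474))) (.node (.node (.leaf 7499972) (.leaf 8634949)) (.node (.leaf 1819344) (.leaf 13996552)))) (.node (.node (.node (.node (.leaf 2613316) (.leaf 12239169)) (.leaf 12402858)) (.node (.leaf 10825735) (.leaf 10035575))) (.node (.node (.leaf 11600419) (.leaf 393825)) (.node (.leaf 434419) (.leaf 17473672))))) (.node (.node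 (.node (.node (.node (.leaf 10940610) (.leaf 2019883)) (.leaf 16052447)) (.node (.leaf 10092728) (.leaf 8397024))) (.node (.node (.leaf 12268099) (.leaf 3789204)) (.node (.leaf 14979799) (.leaf 11739647)))) (.node (.node (.node (.leaf 8257719) (.leaf 13840626)) (.node (.leaf 11031044) (.leaf 13451972))) (.node (.node (.leaf 5300731) (.leaf 7320250)) (.node (.leaf 3854674) (.leaf 11354664)))))) (.node (.node (.node (.node (.node (.node (.leaf 8671429) (.leaf 6009180)) (.leaf 15081520)) (.node (.leaf 13443460) (.leaf 16929))) (.node (.node (.leaf 13877344) (.leaf 11407957)) (.node (.leaf 1225109) (.leaf 11293317)))) (.node (.node (.node (.node (.leaf 9454063) (.leaf 12771509)) (.leaf 6635701)) (.node (.leaf 18313680) (.leaf 3191282))) (.node (.node (.leaf 13521278) (.leaf 4337697)) (.node (.leaf 356380) (.leaf 6197811))))) (.node (.node (.node (.node (.node (.leaf 16577147) (.leaf 15258007)) (.leaf 9273356)) (.node (.leaf 7492202) (.leaf 9105854))) (.node (.node (.leaf 9322525) (.leaf 4550726)) (.node (.leaf 2384405) (.leaf 14115173)))) (.node (.node (.node (.leaf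 14045363) (.leaf 17010710)) (.node (.leaf 12128712) (.leaf 8757510))) (.node (.node (.leaf 13951254) (.leaf 10473546)) (.node (.leaf 7799008) (.leaf 18063799))))))) (.node (.node (.node (.node (.node (.node (.node (.leaf 1684061) (.leaf 3727418)) (.leaf 8269979)) (.node (.leaf 16183716) (.leaf 6308364))) (.node (.node (.leaf 6979918) (.leaf 11043537)) (.node (.leaf 3367357) (.leaf 17064493)))) (.node (.node (.node (.node (.leaf 13398100) (.leaf 549359)) (.leaf 2957572)) (.node (.leaf 9425544) (.leaf 15278783))) (.node (.node (.leaf 16675168) (.leaf 16949523)) (.node (.leaf 7570030) (.leaf 5447754))))) (.node (.node (.node (.node (.node (.leaf 8183814) (.leaf 5116445)) (.leaf 18276766)) (.node (.leaf 9540013) (.leaf 5767577))) (.node (.node (.leaf 14184653) (.leaf 4685854)) (.node (.leaf 7901831) (.leaf 8774318)))) (.node (.node (.node (.leaf 3154160) (.leaf 10191389)) (.node (.leaf 6443308) (.leaf 16364131))) (.node (.node (.leaf 11182455) (.leaf 180895)) (.node (.leaf 9310330) (.leaf 127539)))))) (.node (.node (.node (.node (.node (.node (.leaf 16548341) (.leaf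 17805713)) (.leaf 12849627)) (.node (.leaf 2039910) (.leaf 12558467))) (.node (.node (.leaf 8126802) (.leaf 2482247)) (.node (.leaf 5836890) (.leaf 11309411)))) (.node (.node (.node (.node (.leaf 4698188) (.leaf 17228348)) (.leaf 897642)) (.node (.leaf 6058330) (.leaf 11084193))) (.node (.node (.leaf 8749118) (.leaf 8172135)) (.node (.leaf 14962903) (.leaf 12222537))))) (.node (.node (.node (.node (.node (.leaf 10424777) (.leaf 1659347)) (.leaf 11317787)) (.node (.leaf 17727769) (.leaf 10252787))) (.node (.node (.leaf 9486464) (.leaf 11501886)) (.node (.leaf 2867436) (.leaf 11153956)))) (.node (.node (.node (.leaf 8667716) (.leaf 16134798)) (.node (.leaf 15282740) (.leaf 16552157))) (.node (.node (.leaf 9192146) (.leaf 15577720)) (.node (.leaf 4501682) (.leaf 4214875)))))))))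

def threeMv5569 : Janko.Tree (ℕ) :=
  (.node (.node (.node (.node (.node (.node (.node (.node (.node (.leaf 1183879) (.leaf 8278451)) (.leaf 5722681)) (.node (.leaf 2404516) (.leaf 15474707))) (.node (.node (.leaf 2425459) (.leaf 9884312)) (.node (.leaf 6734173) (.leaf 15720487)))) (.node (.node (.node (.node (.leaf 15339898) (.leaf 7192639)) (.leaf 14393992)) (.node (.leaf 4878532) (.leaf 12255545))) (.node (.node (.leaf 164519) (.leaf 9715788)) (.node (.leaf 8520101) (.leaf 2855151))))) (.node (.node (.node (.node (.node (.leaf 1786477) (.leaf 17109313)) (.leaf 11387300)) (.node (.leaf 5570756) (.leaf 5472268))) (.node (.node (.leaf 15696133) (.leaf 7438574)) (.node (.leaf 9466030) (.leaf 4141559)))) (.node (.node (.node (.leaf 1151396) (.leaf 13426918)) (.node (.leaf 5804301) (.leaf 7635569))) (.node (.node (.leaf 3133876) (.leaf 2052488)) (.node (.leaf 651300) (.leaf 295119)))))) (.node (.node (.node (.node (.node (.node (.leaf 13472360) (.leaf 3702825)) (.leaf 1413213)) (.node (.leaf 16179558) (.leaf 11555346))) (.node (.node (.leaf 5169212) (.leaf 8978627))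 (.node (.leaf 14078383) (.leaf 7532878)))) (.node (.node (.node (.node (.leaf 2167049) (.leaf 1716326)) (.leaf 3740213)) (.node (.leaf 7049772) (.leaf 17006998))) (.node (.node (.leaf 12570660) (.leaf 8761602)) (.node (.leaf 159943) (.leaf 5157345))))) (.node (.node (.node (.node (.node (.leaf 10961309) (.leaf 6685258)) (.leaf 2281943)) (.node (.leaf 15450536) (.leaf 5427201))) (.node (.node (.leaf 2416887) (.leaf 7528657)) (.node (.leaf 2011666) (.leaf 16646329)))) (.node (.node (.node (.leaf 5046826) (.leaf 10203396)) (.node (.leaf 13992526) (.leaf 2466297))) (.node (.node (.leaf 13893855) (.leaf 5775480)) (.node (.leaf 17129776) (.leaf 9605196))))))) (.node (.node (.node (.node (.node (.node (.node (.leaf 17588767) (.leaf 16691808)) (.leaf 15889020)) (.node (.leaf 16200199) (.leaf 12681357))) (.node (.node (.leaf 4145672) (.leaf 1761997)) (.node (.leaf 6537511) (.leaf 15528596)))) (.node (.node (.node (.node (.leaf 18170214) (.leaf 11276357)) (.leaf 14647300)) (.node (.leaf 6652393) (.leaf 115100))) (.node (.node (.leaf 12263926) (.leaf 13774985)) (.node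 (.leaf 3539097) (.leaf 5497529))))) (.node (.node (.node (.node (.node (.leaf 4096611) (.leaf 10711574)) (.leaf 6680804)) (.node (.leaf 15077885) (.leaf 12653185))) (.node (.node (.leaf 18088631) (.leaf 16785607)) (.node (.leaf 14107001) (.leaf 15192606)))) (.node (.node (.node (.leaf 11371028) (.leaf 2032238)) (.node (.leaf 15335526) (.leaf 1094011))) (.node (.node (.leaf 15630881) (.leaf 8794585)) (.node (.leaf 2502829) (.leaf 8737099)))))) (.node (.node (.node (.node (.node (.node (.leaf 6275790) (.leaf 11325813)) (.leaf 17936450)) (.node (.leaf 12178059) (.leaf 11883052))) (.node (.node (.leaf 102808) (.leaf 10915843)) (.node (.leaf 11681862) (.leaf 5800470)))) (.node (.node (.node (.node (.leaf 1479278) (.leaf 14430346)) (.leaf 2216377)) (.node (.leaf 15925398) (.leaf 13726133))) (.node (.node (.leaf 17564120) (.leaf 10609297)) (.node (.leaf 3051887) (.leaf 16478278))))) (.node (.node (.node (.node (.node (.leaf 12751053) (.leaf 15331429)) (.leaf 17252742)) (.node (.leaf 983125) (.leaf 13136084))) (.node (.node (.leaf 16056487) (.leaf 2904600)) (.node (.leaf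 10531503) (.leaf 17593043)))) (.node (.node (.node (.leaf 10347168) (.leaf 9638496)) (.node (.leaf 9650845) (.leaf 17735840))) (.node (.node (.leaf 12616278) (.leaf 1679806)) (.node (.leaf 8294423) (.leaf 16437597)))))))) (.node (.node (.node (.node (.node (.node (.node (.node (.leaf 9408810) (.leaf 2064532)) (.leaf 6971981)) (.node (.leaf 6439008) (.leaf 12685579))) (.node (.node (.leaf 7291207) (.leaf 14590440)) (.node (.leaf 12317330) (.leaf 90457)))) (.node (.node (.node (.node (.leaf 2887836) (.leaf 14794777)) (.leaf 856223)) (.node (.leaf 11833424) (.leaf 15139245))) (.node (.node (.leaf 2712092) (.leaf 3322450)) (.node (.leaf 8130573) (.leaf 6656082))))) (.node (.node (.node (.node (.node (.leaf 14569766) (.leaf 17867436)) (.leaf 10911767)) (.node (.leaf 15487078) (.leaf 1802710))) (.node (.node (.leaf 3117612) (.leaf 6574630)) (.node (.leaf 9929215) (.leaf 16543971)))) (.node (.node (.node (.leaf 13881660) (.leaf 10031519)) (.node (.leaf 9732175) (.leaf 5693612))) (.node (.node (.leaf 536835) (.leaf 13127683)) (.node (.leaf 2801946) (.leaf 3617221))))))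 (.node (.node (.node (.node (.node (.node (.leaf 13898069) (.leaf 4543182)) (.leaf 594348)) (.node (.leaf 16732191) (.leaf 16765192))) (.node (.node (.leaf 762023) (.leaf 5947826)) (.node (.leaf 13287607) (.leaf 14201058)))) (.node (.node (.node (.node (.leaf 15884869) (.leaf 5743241)) (.leaf 14197242)) (.node (.leaf 5849349) (.leaf 9511417))) (.node (.node (.leaf 14770213) (.leaf 5132290)) (.node (.leaf 11596106) (.leaf 9458006))))) (.node (.node (.node (.node (.node (.leaf 9433306) (.leaf 15966275)) (.leaf 9973779)) (.node (.leaf 13434948) (.leaf 6095105))) (.node (.node (.leaf 17600545) (.leaf 11199122)) (.node (.leaf 1601698) (.leaf 16625835)))) (.node (.node (.node (.leaf 1487446) (.leaf 10326233)) (.node (.leaf 8474988) (.leaf 4739422))) (.node (.node (.leaf 7557802) (.leaf 3482022)) (.node (.leaf 10334930) (.leaf 733230))))))) (.node (.node (.node (.node (.node (.node (.node (.leaf 3408022) (.leaf 7524652)) (.leaf 9560097)) (.node (.leaf 16158764) (.leaf 4239431))) (.node (.node (.leaf 13570258) (.leaf 364762)) (.node (.leaf 8376971) (.leaf 3596359))))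 (.node (.node (.node (.node (.leaf 13303881) (.leaf 9625885)) (.leaf 479254)) (.node (.leaf 16998832) (.leaf 14237772))) (.node (.node (.leaf 1982892) (.leaf 6955390)) (.node (.leaf 14881123) (.leaf 884899))))) (.node (.node (.node (.node (.node (.leaf 3080223) (.leaf 2121793)) (.leaf 3174749)) (.node (.leaf 17015055) (.leaf 2949760))) (.node (.node (.leaf 13873504) (.leaf 12275863)) (.node (.leaf 7614860) (.leaf 11247862)))) (.node (.node (.node (.leaf 15356001) (.leaf 14016754)) (.node (.leaf 12427561) (.leaf 2638307))) (.node (.node (.leaf 4645206) (.leaf 14930340)) (.node (.leaf 7803293) (.leaf 2056316)))))) (.node (.node (.node (.node (.node (.node (.leaf 10891613) (.leaf 16556096)) (.leaf 17933008)) (.node (.leaf 10510744) (.leaf 2253528))) (.node (.node (.leaf 8839298) (.leaf 16154910)) (.node (.leaf 6787109) (.leaf 1147083)))) (.node (.node (.node (.node (.leaf 16171343) (.leaf 9908701)) (.leaf 3932878)) (.node (.leaf 438440) (.leaf 8110362))) (.node (.node (.leaf 7852168) (.leaf 1540545)) (.node (.leaf 4321324) (.leaf 12509515))))) (.node (.node (.node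 (.node (.node (.leaf 14295507) (.leaf 16261682)) (.leaf 2527386)) (.node (.leaf 2126058) (.leaf 2400574))) (.node (.node (.leaf 16601107) (.leaf 8159678)) (.node (.leaf 10125871) (.leaf 14627420)))) (.node (.node (.node (.leaf 4108702) (.leaf 2716080)) (.node (.leaf 999452) (.leaf 1958077))) (.node (.node (.leaf 4727249) (.leaf 8958018)) (.node (.leaf 6336516) (.leaf 14737947)))))))))

def threeMv55610 : Janko.Tree (ℕ) :=
  (.node (.node (.node (.node (.node (.node (.node (.node (.node (.leaf 13574672) (.leaf 14037126)) (.leaf 8430124)) (.node (.leaf 10744173) (.leaf 4403832))) (.node (.node (.leaf 14447064) (.leaf 14901849)) (.node (.leaf 15827278) (.leaf 3092714)))) (.node (.node (.node (.node (.leaf 15692365) (.leaf 5796429)) (.leaf 5087287)) (.node (.leaf 7217284) (.leaf 10748164))) (.node (.node (.leaf 16400624) (.leaf 2629702)) (.node (.leaf 6205678) (.leaf 10551327))))) (.node (.node (.node (.node (.node (.leaf 17768700) (.leaf 16126029)) (.leaf 11768167)) (.node (.leaf 6226364) (.leaf 1614063))) (.node (.node (.leaf 2585276) (.leaf 16953916)) (.node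 (.leaf 6676573) (.leaf 4821241)))) (.node (.node (.node (.leaf 471437) (.leaf 8556818)) (.node (.leaf 8684126) (.leaf 18018363))) (.node (.node (.leaf 7029156) (.leaf 12017773)) (.node (.leaf 2929331) (.leaf 10994228)))))) (.node (.node (.node (.node (.node (.node (.leaf 9666605) (.leaf 10236607)) (.leaf 11891131)) (.node (.leaf 6037721) (.leaf 11113095))) (.node (.node (.leaf 10662463) (.leaf 16036103)) (.node (.leaf 3043585) (.leaf 17879661)))) (.node (.node (.node (.node (.leaf 8176099) (.leaf 18346436)) (.leaf 3900097)) (.node (.leaf 15093843) (.leaf 5468590))) (.node (.node (.leaf 1130754) (.leaf 8073401)) (.node (.leaf 6181301) (.leaf 4186827))))) (.node (.node (.node (.node (.node (.leaf 14467758) (.leaf 3981995)) (.leaf 15524062)) (.node (.leaf 15647235) (.leaf 17612887))) (.node (.node (.leaf 10342574) (.leaf 12554769)) (.node (.leaf 11915985) (.leaf 14385816)))) (.node (.node (.node (.leaf 3186721) (.leaf 8069835)) (.node (.leaf 4088333) (.leaf 11542736))) (.node (.node (.leaf 1450706) (.leaf 49732)) (.node (.leaf 11464838) (.leaf 4846073))))))) (.node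 (.node (.node (.node (.node (.node (.node (.leaf 14013104) (.leaf 9289877)) (.leaf 10969578)) (.node (.leaf 9982105) (.leaf 6823993))) (.node (.node (.leaf 13251103) (.leaf 12345508)) (.node (.leaf 3686707) (.leaf 15401418)))) (.node (.node (.node (.node (.leaf 9019581) (.leaf 1642851)) (.leaf 1040810)) (.node (.leaf 17756287) (.leaf 15184079))) (.node (.node (.leaf 5997060) (.leaf 3998174)) (.node (.leaf 7905839) (.leaf 9187498))))) (.node (.node (.node (.node (.node (.leaf 4477532) (.leaf 6333136)) (.leaf 14545381)) (.node (.leaf 16076849) (.leaf 10703245))) (.node (.node (.leaf 459033) (.leaf 9740705)) (.node (.leaf 17080613) (.leaf 2150968)))) (.node (.node (.node (.leaf 2470223) (.leaf 15221441)) (.node (.leaf 2880074) (.leaf 14553719))) (.node (.node (.leaf 8659342) (.leaf 9413102)) (.node (.leaf 1556557) (.leaf 16416790)))))) (.node (.node (.node (.node (.node (.node (.leaf 11047531) (.leaf 3428833)) (.leaf 10244593)) (.node (.leaf 12103706) (.leaf 17858957))) (.node (.node (.leaf 12100127) (.leaf 14119063)) (.node (.leaf 6615046) (.leaf 3375295)))) (.node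 (.node (.node (.node (.leaf 1847371) (.leaf 11104596)) (.leaf 14274717)) (.node (.leaf 14708805) (.leaf 13861383))) (.node (.node (.leaf 868893) (.leaf 12767581)) (.node (.leaf 14475634) (.leaf 13124118))))) (.node (.node (.node (.node (.node (.leaf 5017762) (.leaf 13328927)) (.leaf 426170)) (.node (.leaf 17818086) (.leaf 7283066))) (.node (.node (.leaf 14352822) (.leaf 14987822)) (.node (.leaf 8769686) (.leaf 12865754)))) (.node (.node (.node (.leaf 6193325) (.leaf 17285366)) (.node (.leaf 1192037) (.leaf 13238285))) (.node (.node (.leaf 369342) (.leaf 17216079)) (.node (.leaf 17977356) (.leaf 9519635)))))))) (.node (.node (.node (.node (.node (.node (.node (.node (.leaf 1806429) (.leaf 16978348)) (.leaf 5308740)) (.node (.leaf 15204896) (.leaf 6291917))) (.node (.node (.leaf 704638) (.leaf 10018972)) (.node (.leaf 7295358) (.leaf 12116242)))) (.node (.node (.node (.node (.leaf 11395478) (.leaf 10699192)) (.leaf 5149075)) (.node (.leaf 14889420) (.leaf 5341229))) (.node (.node (.leaf 10219663) (.leaf 6889852)) (.node (.leaf 10555956) (.leaf 9495149))))) (.node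 (.node (.node (.node (.node (.leaf 2445521) (.leaf 13168932)) (.leaf 2539638)) (.node (.leaf 7881184) (.leaf 6812049))) (.node (.node (.leaf 2347611) (.leaf 4784176)) (.node (.leaf 4669973) (.leaf 7885519)))) (.node (.node (.node (.leaf 18145338) (.leaf 15803034)) (.node (.leaf 5001402) (.leaf 13541752))) (.node (.node (.leaf 1823255) (.leaf 16798100)) (.node (.leaf 3612937) (.leaf 6689176)))))) (.node (.node (.node (.node (.node (.node (.leaf 7271126) (.leaf 12382824)) (.leaf 6414732)) (.node (.leaf 10990085) (.leaf 12845500))) (.node (.node (.leaf 5492760) (.leaf 17260762)) (.node (.leaf 13537304) (.leaf 4047361)))) (.node (.node (.node (.node (.leaf 4555334) (.leaf 17314223)) (.leaf 2297992)) (.node (.leaf 5386926) (.leaf 17961445))) (.node (.node (.leaf 17359551) (.leaf 4391137)) (.node (.leaf 917793) (.leaf 13590716))))) (.node (.node (.node (.node (.node (.leaf 13673104) (.leaf 5886361)) (.leaf 3858989)) (.node (.leaf 6050414) (.leaf 15052812))) (.node (.node (.leaf 2691213) (.leaf 8393201)) (.node (.leaf 17891968) (.leaf 14667806)))) (.node (.node (.node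 (.leaf 14807444) (.leaf 7344214)) (.node (.leaf 7925768) (.leaf 2187279))) (.node (.node (.leaf 13271738) (.leaf 7008862)) (.node (.leaf 3973247) (.leaf 17653927))))))) (.node (.node (.node (.node (.node (.node (.node (.leaf 9429405) (.leaf 17277376)) (.leaf 3354835)) (.node (.leaf 15503865) (.leaf 1912967))) (.node (.node (.leaf 12919160) (.leaf 15642952)) (.node (.leaf 246108) (.leaf 5976281)))) (.node (.node (.node (.node (.leaf 12009599) (.leaf 6012953)) (.leaf 6434958)) (.node (.leaf 6910259) (.leaf 5718519))) (.node (.node (.leaf 5911176) (.leaf 1778025)) (.node (.leaf 9789740) (.leaf 17502226))))) (.node (.node (.node (.node (.node (.leaf 17264945) (.leaf 1105964)) (.leaf 16539871)) (.node (.leaf 3957220) (.leaf 17998026))) (.node (.node (.leaf 10387551) (.leaf 7667825)) (.node (.leaf 10654301) (.leaf 6463723)))) (.node (.node (.node (.leaf 8503829) (.leaf 4030650)) (.node (.leaf 12337247) (.leaf 9986351))) (.node (.node (.leaf 6136265) (.leaf 13496441)) (.node (.leaf 16024093) (.leaf 991370)))))) (.node (.node (.node (.node (.node (.node (.leaf 8007949)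 (.leaf 4952482)) (.leaf 2314506)) (.node (.leaf 3112977) (.leaf 11530240))) (.node (.node (.leaf 4350636) (.leaf 3129997)) (.node (.leaf 15618205) (.leaf 7016623)))) (.node (.node (.node (.node (.leaf 11960767) (.leaf 12648806)) (.leaf 10965358)) (.node (.leaf 15712303) (.leaf 6165188))) (.node (.node (.leaf 3646023) (.leaf 2838926)) (.node (.leaf 9282016) (.leaf 6594993))))) (.node (.node (.node (.node (.node (.leaf 6759088) (.leaf 17969219)) (.leaf 13172964)) (.node (.leaf 9151032) (.leaf 488037))) (.node (.node (.leaf 15684009) (.leaf 16592983)) (.node (.leaf 4538479) (.leaf 16236676)))) (.node (.node (.node (.leaf 10412474) (.leaf 12251339)) (.node (.leaf 6340934) (.leaf 3346914))) (.node (.node (.leaf 5530243) (.leaf 6406744)) (.node (.leaf 8077798) (.leaf 3494413)))))))))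

def threeMv55611 : Janko.Tree (ℕ) :=
  (.node (.node (.node (.node (.node (.node (.node (.node (.node (.leaf 9245337) (.leaf 15155425)) (.leaf 5407210)) (.node (.leaf 12468598) (.leaf 4460983))) (.node (.node (.leaf 7909657) (.leaf 1515977)) (.node (.leaf 8777837) (.leaf 11051109)))) (.node (.node (.node (.node (.leaf 9318544) (.leaf 10146267)) (.leaf 9838911)) (.node (.leaf 16359530) (.leaf 12599365))) (.node (.node (.leaf 6066684) (.leaf 18214973)) (.node (.leaf 16777311) (.leaf 17199158))))) (.node (.node (.node (.node (.node (.leaf 13488247) (.leaf 10821973)) (.leaf 11313250)) (.node (.leaf 9048192) (.leaf 14602528))) (.node (.node (.leaf 4206869) (.leaf 12976252)) (.node (.leaf 4362254) (.leaf 10670362)))) (.node (.node (.node (.leaf 17179247) (.leaf 11092110)) (.node (.leaf 8458423) (.leaf 4678261))) (.node (.node (.leaf 14614612) (.leaf 12480711)) (.node (.leaf 5161410) (.leaf 11604457)))))) (.node (.node (.node (.node (.node (.node (.leaf 11288874) (.leaf 10330601)) (.leaf 1880234)) (.node (.leaf 12451916) (.leaf 3949251))) (.node (.node (.leaf 10772878)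 (.leaf 16081178)) (.node (.leaf 3179027) (.leaf 14397937)))) (.node (.node (.node (.node (.leaf 13312377) (.leaf 5599926)) (.leaf 11026753)) (.node (.leaf 10428715) (.leaf 14749968))) (.node (.node (.leaf 15745484) (.leaf 6295699)) (.node (.leaf 8364563) (.leaf 10780915))))) (.node (.node (.node (.node (.node (.leaf 1851515) (.leaf 11403444)) (.leaf 6709677)) (.node (.leaf 14815754) (.leaf 4485606))) (.node (.node (.leaf 7512435) (.leaf 3994223)) (.node (.leaf 12542042) (.leaf 5677304)))) (.node (.node (.node (.leaf 2577029) (.leaf 4084277)) (.node (.leaf 5366143) (.leaf 4153348))) (.node (.node (.leaf 12292405) (.leaf 4796827)) (.node (.leaf 5574772) (.leaf 1708700))))))) (.node (.node (.node (.node (.node (.node (.node (.leaf 176400) (.leaf 14725206)) (.leaf 5464195)) (.node (.leaf 5062694) (.leaf 11698713))) (.node (.node (.leaf 8941950) (.leaf 13603405)) (.node (.leaf 15143101) (.leaf 7782840)))) (.node (.node (.node (.node (.leaf 5411456) (.leaf 16642541)) (.leaf 9613853)) (.node (.leaf 7684654) (.leaf 16773418))) (.node (.node (.leaf 4395458) (.leaf 12370255))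 (.node (.leaf 65867) (.leaf 8028537))))) (.node (.node (.node (.node (.node (.leaf 9617977) (.leaf 3707032)) (.leaf 13041702)) (.node (.leaf 1122604) (.leaf 16957937))) (.node (.node (.leaf 8786530) (.leaf 16581022)) (.node (.leaf 9785518) (.leaf 12996930)))) (.node (.node (.node (.leaf 11813509) (.leaf 922179)) (.node (.leaf 13791237) (.leaf 9199982))) (.node (.node (.leaf 17641752) (.leaf 16483010)) (.node (.leaf 16117966) (.leaf 15360377)))))) (.node (.node (.node (.node (.node (.node (.leaf 16535891) (.leaf 7749690)) (.leaf 8614239)) (.node (.leaf 14917858) (.leaf 7872702))) (.node (.node (.leaf 12784186) (.leaf 14168580)) (.node (.leaf 15049226) (.leaf 18006690)))) (.node (.node (.node (.node (.leaf 16433384) (.leaf 446499)) (.leaf 10936915)) (.node (.leaf 1069424) (.leaf 17146379))) (.node (.node (.leaf 13164696) (.leaf 18080406)) (.node (.leaf 9888336) (.leaf 14848342))))) (.node (.node (.node (.node (.node (.leaf 10465815) (.leaf 11071771)) (.leaf 13975886)) (.node (.leaf 8417422) (.leaf 5898752))) (.node (.node (.leaf 17105514) (.leaf 8196193)) (.node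 (.leaf 53916) (.leaf 10875364)))) (.node (.node (.node (.leaf 2322736) (.leaf 15368504)) (.node (.leaf 9822398) (.leaf 15516283))) (.node (.node (.leaf 8712857) (.leaf 13979693)) (.node (.leaf 13906308) (.leaf 5181642)))))))) (.node (.node (.node (.node (.node (.node (.node (.node (.leaf 15896748) (.leaf 15749403)) (.leaf 18251823)) (.node (.leaf 41140) (.leaf 5153060))) (.node (.node (.leaf 11559159) (.leaf 10596372)) (.node (.leaf 3469910) (.leaf 5005437)))) (.node (.node (.node (.node (.leaf 6533615) (.leaf 17674378)) (.leaf 2228472)) (.node (.leaf 12063144) (.leaf 8487133))) (.node (.node (.leaf 11923680) (.leaf 3506628)) (.node (.leaf 16343439) (.leaf 18083998))))) (.node (.node (.node (.node (.node (.leaf 13201645) (.leaf 17871334)) (.leaf 17572560)) (.node (.leaf 15540551) (.leaf 14905408))) (.node (.node (.leaf 16093567) (.leaf 8807040)) (.node (.leaf 8708102) (.leaf 9736603)))) (.node (.node (.node (.leaf 7942565) (.leaf 12677421)) (.node (.leaf 13103501) (.leaf 8147263))) (.node (.node (.leaf 4874587) (.leaf 15196776)) (.node (.leaf 7459452) (.leaf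 15508172)))))) (.node (.node (.node (.node (.node (.node (.leaf 12313092) (.leaf 3244249)) (.leaf 5345903)) (.node (.leaf 14099153) (.leaf 6132151))) (.node (.node (.leaf 7303248) (.leaf 2183747)) (.node (.leaf 8601721) (.leaf 17621373)))) (.node (.node (.node (.node (.leaf 16941257) (.leaf 29016)) (.leaf 16294565)) (.node (.leaf 15270307) (.leaf 18203108))) (.node (.node (.leaf 14451097) (.leaf 13394058)) (.node (.leaf 9806083) (.leaf 1421329))))) (.node (.node (.node (.node (.node (.leaf 6918633) (.leaf 8819221)) (.leaf 512344)) (.node (.leaf 10576015) (.leaf 5968359))) (.node (.node (.leaf 8225425) (.leaf 2609546)) (.node (.leaf 7385545) (.leaf 7037160)))) (.node (.node (.node (.leaf 12902496) (.leaf 3166613)) (.node (.leaf 389409) (.leaf 7869037))) (.node (.node (.leaf 266754) (.leaf 4624478)) (.node (.leaf 2130335) (.leaf 3920337))))))) (.node (.node (.node (.node (.node (.node (.node (.leaf 9675189) (.leaf 3400314)) (.leaf 15118566)) (.node (.leaf 7479566) (.leaf 3887743))) (.node (.node (.leaf 15007774) (.leaf 17781374)) (.node (.leaf 8208803) (.leaf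 13718169)))) (.node (.node (.node (.node (.leaf 15462994) (.leaf 12083358)) (.leaf 1835115)) (.node (.leaf 17765033) (.leaf 15766177))) (.node (.node (.leaf 11334030) (.leaf 1569325)) (.node (.leaf 680152) (.leaf 11862657))))) (.node (.node (.node (.node (.node (.leaf 4526701) (.leaf 209191)) (.leaf 4899030)) (.node (.leaf 4235719) (.leaf 3911849))) (.node (.node (.leaf 5075218) (.leaf 803512)) (.node (.leaf 9515024) (.leaf 10457605)))) (.node (.node (.node (.leaf 16961794) (.leaf 7811623)) (.node (.leaf 11526678) (.leaf 11444718))) (.node (.node (.leaf 8315401) (.leaf 11809062)) (.node (.leaf 15548826) (.leaf 7537095)))))) (.node (.node (.node (.node (.node (.node (.leaf 1335503) (.leaf 13246778)) (.leaf 13918451)) (.node (.leaf 12030595) (.leaf 9069123))) (.node (.node (.leaf 3219941) (.leaf 8966180)) (.node (.leaf 16662561) (.leaf 4649544)))) (.node (.node (.node (.node (.leaf 17703512) (.leaf 852465)) (.leaf 12472993)) (.node (.leaf 13857254) (.leaf 8847708))) (.node (.node (.leaf 627040) (.leaf 15864531)) (.node (.leaf 638982) (.leaf 1765939))))) (.node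 (.node (.node (.node (.node (.leaf 3313886) (.leaf 3834067)) (.leaf 5972356)) (.node (.leaf 14635086) (.leaf 5705965))) (.node (.node (.leaf 17035932) (.leaf 16319118)) (.node (.leaf 13848816) (.leaf 684372)))) (.node (.node (.node (.leaf 17596868) (.leaf 14999583)) (.node (.leaf 6127820) (.leaf 15430319))) (.node (.node (.leaf 11485482) (.leaf 9720449)) (.node (.leaf 11678300) (.leaf 18338445)))))))))

def threeMv55612 : Janko.Tree (ℕ) :=
  (.node (.node (.node (.node (.node (.node (.node (.node (.node (.leaf 4575447) (.leaf 15728863)) (.leaf 10207635)) (.node (.leaf 11719129) (.leaf 1867872))) (.node (.node (.leaf 455164) (.leaf 3895900)) (.node (.leaf 94648) (.leaf 17240199)))) (.node (.node (.node (.node (.leaf 4964731) (.leaf 16388286)) (.leaf 4694699)) (.node (.leaf 15655154) (.leaf 12181844))) (.node (.node (.leaf 9932868) (.leaf 11583519)) (.node (.leaf 6246494) (.leaf 10834153))))) (.node (.node (.node (.node (.node (.leaf 13836353) (.leaf 3416641)) (.leaf 11117012)) (.node (.leaf 10445299) (.leaf 17305632))) (.node (.node (.leaf 913961) (.leaf 4424195))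 (.node (.leaf 18055512) (.leaf 12067471)))) (.node (.node (.node (.leaf 7041281) (.leaf 8725043)) (.node (.leaf 2593206) (.leaf 827749))) (.node (.node (.leaf 10683008) (.leaf 17605297)) (.node (.leaf 7914025) (.leaf 14704981)))))) (.node (.node (.node (.node (.node (.node (.leaf 9482538) (.leaf 13787257)) (.leaf 10920523)) (.node (.leaf 9114130) (.leaf 4173894))) (.node (.node (.leaf 18325986) (.leaf 14000470)) (.node (.leaf 17351112) (.leaf 8495299)))) (.node (.node (.node (.node (.leaf 5484685) (.leaf 17088518)) (.leaf 13005064)) (.node (.leaf 15868360) (.leaf 7823683))) (.node (.node (.leaf 16445483) (.leaf 17482423)) (.node (.leaf 188562) (.leaf 3805275))))) (.node (.node (.node (.node (.node (.leaf 9462265) (.leaf 10879685)) (.leaf 491972)) (.node (.leaf 2261047) (.leaf 14028897))) (.node (.node (.leaf 8524081) (.leaf 13763055)) (.node (.leaf 14009026) (.leaf 6639763)))) (.node (.node (.node (.leaf 864503) (.leaf 2674713)) (.node (.leaf 13299827) (.leaf 14204942))) (.node (.node (.leaf 12108415) (.leaf 8311407)) (.node (.leaf 12484657) (.leaf 15291003)))))))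 (.node (.node (.node (.node (.node (.node (.node (.leaf 5578853) (.leaf 18211248)) (.leaf 15909324)) (.node (.leaf 1978625) (.leaf 5337169))) (.node (.node (.leaf 2007678) (.leaf 401467)) (.node (.leaf 6353383) (.leaf 6426978)))) (.node (.node (.node (.node (.leaf 10441341) (.leaf 8630517)) (.leaf 10764652)) (.node (.leaf 1397392) (.leaf 13811721))) (.node (.node (.leaf 16781469) (.leaf 12341335)) (.node (.leaf 10150474) (.leaf 6418728))))) (.node (.node (.node (.node (.node (.leaf 7430657) (.leaf 9437912)) (.leaf 5177917)) (.node (.leaf 10477678) (.leaf 15831764))) (.node (.node (.leaf 5624112) (.leaf 2093357)) (.node (.leaf 7545361) (.leaf 14410372)))) (.node (.node (.node (.leaf 10900168) (.leaf 5083235)) (.node (.leaf 12718710) (.leaf 13742257))) (.node (.node (.leaf 12022077) (.leaf 716935)) (.node (.leaf 6025613) (.leaf 1937447)))))) (.node (.node (.node (.node (.node (.node (.leaf 250495) (.leaf 3453132)) (.leaf 4071797)) (.node (.leaf 18186412) (.leaf 7819735))) (.node (.node (.leaf 1220781) (.leaf 4448333)) (.node (.leaf 14803520) (.leaf 2581060))))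 (.node (.node (.node (.node (.leaf 3240620) (.leaf 9400643)) (.leaf 4588003)) (.node (.leaf 17060489) (.leaf 13750478))) (.node (.node (.leaf 13189808) (.leaf 2355787)) (.node (.leaf 1060944) (.leaf 1585428))))) (.node (.node (.node (.node (.node (.leaf 7610598) (.leaf 1045176)) (.leaf 10907972)) (.node (.leaf 2142504) (.leaf 16498874))) (.node (.node (.leaf 4276234) (.leaf 13693646)) (.node (.leaf 1553036) (.leaf 4809426)))) (.node (.node (.node (.leaf 16638072) (.leaf 16244874)) (.node (.leaf 9797911) (.leaf 17625207))) (.node (.node (.leaf 13525419) (.leaf 10522833)) (.node (.leaf 6287736) (.leaf 16695576)))))))) (.node (.node (.node (.node (.node (.node (.node (.node (.leaf 14340633) (.leaf 10056115)) (.leaf 16904508)) (.node (.leaf 12435976) (.leaf 3306144))) (.node (.node (.leaf 2211933) (.leaf 2179149)) (.node (.leaf 13074991) (.leaf 6144413)))) (.node (.node (.node (.node (.leaf 3203455) (.leaf 4444238)) (.leaf 3027579)) (.node (.leaf 13889578) (.leaf 2670757))) (.node (.node (.leaf 6123946) (.leaf 15602199)) (.node (.leaf 10977299) (.leaf 6959458)))))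 (.node (.node (.node (.node (.node (.leaf 3666203) (.leaf 9183715)) (.leaf 9863525)) (.node (.leaf 831895) (.leaf 12755124))) (.node (.node (.leaf 4915761) (.leaf 4223417)) (.node (.leaf 11321391) (.leaf 16494751)))) (.node (.node (.node (.leaf 9781272) (.leaf 4842085)) (.node (.leaf 8888729) (.leaf 4993509))) (.node (.node (.leaf 3784841) (.leaf 15241299)) (.node (.leaf 7995846) (.leaf 16220551)))))) (.node (.node (.node (.node (.node (.node (.leaf 13095120) (.leaf 2961737)) (.leaf 938399)) (.node (.leaf 5779757) (.leaf 10223938))) (.node (.node (.leaf 14049696) (.leaf 14631552)) (.node (.leaf 397457) (.leaf 15958509)))) (.node (.node (.node (.node (.leaf 9355721) (.leaf 10637526)) (.leaf 4190234)) (.node (.leaf 2634057) (.leaf 9314383))) (.node (.node (.leaf 11158042) (.leaf 3359254)) (.node (.leaf 6521012) (.leaf 6005044))))) (.node (.node (.node (.node (.node (.leaf 11903660) (.leaf 5247666)) (.leaf 11764320)) (.node (.leaf 6230733) (.leaf 148152))) (.node (.node (.leaf 10166522) (.leaf 16876165)) (.node (.leaf 14413946) (.leaf 10064202)))) (.node (.node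 (.node (.leaf 11989231) (.leaf 10338805)) (.node (.leaf 17928905) (.leaf 6258911))) (.node (.node (.leaf 6730118) (.leaf 10362900)) (.node (.leaf 10592620) (.leaf 16376511))))))) (.node (.node (.node (.node (.node (.node (.node (.leaf 15983126) (.leaf 4297067)) (.leaf 17289701)) (.node (.leaf 5320916) (.leaf 12980306))) (.node (.node (.leaf 14652055) (.leaf 6410458)) (.node (.leaf 17695351) (.leaf 1139073)))) (.node (.node (.node (.node (.leaf 33371) (.leaf 8093781)) (.leaf 18166021)) (.node (.leaf 3215536) (.leaf 8204631))) (.node (.node (.leaf 16310733) (.leaf 413729)) (.node (.leaf 4256188) (.leaf 15249707))))) (.node (.node (.node (.node (.node (.leaf 15794202) (.leaf 7729196)) (.leaf 9421387)) (.node (.leaf 15610459) (.leaf 10100979))) (.node (.node (.leaf 197086) (.leaf 4583832)) (.node (.leaf 2158772) (.leaf 959075)))) (.node (.node (.node (.leaf 8401615) (.leaf 16019778)) (.node (.leaf 16613461) (.leaf 4415893))) (.node (.node (.leaf 9855449) (.leaf 184459)) (.node (.leaf 13853284) (.leaf 11096107)))))) (.node (.node (.node (.node (.node (.node (.leaf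 8347755) (.leaf 15671429)) (.leaf 13865170)) (.node (.leaf 14581997) (.leaf 13656324))) (.node (.node (.leaf 6074697) (.leaf 9810548)) (.node (.leaf 11010208) (.leaf 4182459)))) (.node (.node (.node (.node (.leaf 7205201) (.leaf 6996052)) (.leaf 7451160)) (.node (.leaf 5750791) (.leaf 12906592))) (.node (.node (.leaf 16072752) (.leaf 4456809)) (.node (.leaf 7496189) (.leaf 1437841))))) (.node (.node (.node (.node (.node (.leaf 15979052) (.leaf 17744598)) (.leaf 5657133)) (.node (.leaf 16990769) (.leaf 9024105))) (.node (.node (.leaf 3109331) (.leaf 2805915)) (.node (.leaf 8643168) (.leaf 18190569)))) (.node (.node (.node (.leaf 11497628) (.leaf 17444989)) (.node (.leaf 12575435) (.leaf 3387413))) (.node (.node (.leaf 2765420) (.leaf 8290928)) (.node (.leaf 11301193) (.leaf 7135693)))))))))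

def threeMv55613 : Janko.Tree (ℕ) :=
  (.node (.node (.node (.node (.node (.node (.node (.node (.node (.leaf 16793636) (.leaf 15135071)) (.leaf 7413952)) (.node (.leaf 10350872) (.leaf 16802320))) (.node (.node (.leaf 1986657) (.leaf 15254110)) (.node (.leaf 13484240) (.leaf 7680200)))) (.node (.node (.node (.node (.leaf 2965938) (.leaf 16847361)) (.leaf 3772506)) (.node (.leaf 15491639) (.leaf 2875884))) (.node (.node (.leaf 11108793) (.leaf 6668855)) (.node (.leaf 877075) (.leaf 2535660))))) (.node (.node (.node (.node (.node (.leaf 11977162) (.leaf 12296859)) (.leaf 4563106)) (.node (.leaf 11522358) (.leaf 14925850))) (.node (.node (.leaf 335993) (.leaf 13869154)) (.node (.leaf 17002701) (.leaf 1270459)))) (.node (.node (.node (.leaf 11755992) (.leaf 3609247)) (.node (.leaf 15622443) (.leaf 7209644))) (.node (.node (.leaf 14090726) (.leaf 13759170)) (.node (.leaf 8508057) (.leaf 14365130)))))) (.node (.node (.node (.node (.node (.node (.leaf 11215539) (.leaf 3035614)) (.leaf 15876112)) (.node (.leaf 1814789) (.leaf 6324499))) (.node (.node (.leaf 10895419)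 (.leaf 6255059)) (.node (.leaf 7836087) (.leaf 9646693)))) (.node (.node (.node (.node (.leaf 10862912) (.leaf 15299073)) (.leaf 1376850)) (.node (.leaf 745830) (.leaf 4989264))) (.node (.node (.leaf 8564954) (.leaf 18227645)) (.node (.leaf 7655705) (.leaf 1315432))))) (.node (.node (.node (.node (.node (.leaf 7934457) (.leaf 15164064)) (.leaf 10801279)) (.node (.leaf 1925120) (.leaf 9691830))) (.node (.node (.leaf 483956) (.leaf 17047765)) (.node (.leaf 17117722) (.leaf 1917160)))) (.node (.node (.node (.leaf 16605409) (.leaf 7471489)) (.node (.leaf 4112964) (.leaf 2511493))) (.node (.node (.leaf 5763653) (.leaf 15434205)) (.node (.leaf 10490504) (.leaf 11727360))))))) (.node (.node (.node (.node (.node (.node (.node (.leaf 13640267) (.leaf 4509877)) (.leaf 6705350)) (.node (.leaf 13512833) (.leaf 819927))) (.node (.node (.leaf 4653464) (.leaf 15974756)) (.node (.leaf 4317511) (.leaf 8913622)))) (.node (.node (.node (.node (.leaf 9851095) (.leaf 13807620)) (.leaf 16421426)) (.node (.leaf 6828735) (.leaf 10227947))) (.node (.node (.leaf 1646668) (.leaf 3273003))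 (.node (.leaf 10322349) (.leaf 15913656))))) (.node (.node (.node (.node (.node (.leaf 7606972) (.leaf 9556408)) (.leaf 5746884)) (.node (.leaf 8622173) (.leaf 14160512))) (.node (.node (.leaf 5103733) (.leaf 11788342)) (.node (.leaf 13967934) (.leaf 16007449)))) (.node (.node (.node (.leaf 15757796) (.leaf 17412448)) (.node (.leaf 5918900) (.leaf 13799985))) (.node (.node (.leaf 11362901) (.leaf 4010329)) (.node (.leaf 3055687) (.leaf 1589507)))))) (.node (.node (.node (.node (.node (.node (.leaf 12881) (.leaf 1503288)) (.leaf 7504226)) (.node (.leaf 9498913) (.leaf 17449162))) (.node (.node (.leaf 2556112) (.leaf 9286349)) (.node (.leaf 9363628) (.leaf 17326728)))) (.node (.node (.node (.node (.leaf 17142325) (.leaf 5439697)) (.leaf 12501017)) (.node (.leaf 7078585) (.leaf 8729038))) (.node (.node (.leaf 2809942) (.leaf 10318455)) (.node (.leaf 6250941) (.leaf 12448173))))) (.node (.node (.node (.node (.node (.leaf 14504345) (.leaf 16859659)) (.leaf 17915918)) (.node (.leaf 12690057) (.leaf 16396855))) (.node (.node (.leaf 2195890) (.leaf 10666446)) (.node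 (.leaf 6779282) (.leaf 6283288)))) (.node (.node (.node (.leaf 13234435) (.leaf 11076102)) (.node (.leaf 2912421) (.leaf 14754479))) (.node (.node (.leaf 8491478) (.leaf 12505097)) (.node (.leaf 11710918) (.leaf 6513127)))))))) (.node (.node (.node (.node (.node (.node (.node (.node (.leaf 9843352) (.leaf 8118818)) (.leaf 12841257)) (.node (.leaf 11506046) (.leaf 14959204))) (.node (.node (.leaf 6111663) (.leaf 2601562)) (.node (.leaf 9380413) (.leaf 6017473)))) (.node (.node (.node (.node (.leaf 12812814) (.leaf 15384671)) (.leaf 3866689)) (.node (.leaf 6148314) (.leaf 15409271))) (.node (.node (.leaf 10981961) (.leaf 6525599)) (.node (.leaf 18174638) (.leaf 5668900))))) (.node (.node (.node (.node (.node (.leaf 7369153) (.leaf 13713444)) (.leaf 15344061)) (.node (.leaf 12640387) (.leaf 18260627))) (.node (.node (.leaf 13316488) (.leaf 12497476)) (.node (.leaf 6922678) (.leaf 1331890)))) (.node (.node (.node (.leaf 10183138) (.leaf 7848645)) (.node (.leaf 799301) (.leaf 16216684))) (.node (.node (.leaf 3199321) (.leaf 12431461)) (.node (.leaf 9662745) (.leaf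 475474)))))) (.node (.node (.node (.node (.node (.node (.leaf 3891351) (.leaf 11608373)) (.leaf 11207290)) (.node (.leaf 12361819) (.leaf 8343777))) (.node (.node (.leaf 2699843) (.leaf 10866912)) (.node (.leaf 1675438) (.leaf 8618479)))) (.node (.node (.node (.node (.leaf 13255196) (.leaf 7070195)) (.leaf 5857900)) (.node (.leaf 7967041) (.leaf 5988858))) (.node (.node (.leaf 10502726) (.leaf 340567)) (.node (.leaf 9794196) (.leaf 15594007))))) (.node (.node (.node (.node (.node (.leaf 12972483) (.leaf 3330303)) (.leaf 11375213)) (.node (.leaf 3928229) (.leaf 7697068))) (.node (.node (.leaf 1622460) (.leaf 11641216)) (.node (.leaf 7442619) (.leaf 2494855)))) (.node (.node (.node (.leaf 5759171) (.leaf 7065762)) (.node (.leaf 10121672) (.leaf 14680335))) (.node (.node (.leaf 13644040) (.leaf 15626831)) (.node (.leaf 15843514) (.leaf 11251755))))))) (.node (.node (.node (.node (.node (.node (.node (.leaf 11350300) (.leaf 2474550)) (.leaf 10785004)) (.node (.leaf 11014680) (.leaf 16572464))) (.node (.node (.leaf 1441806) (.leaf 18219643)) (.node (.leaf 11399550)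 (.leaf 3977683)))) (.node (.node (.node (.node (.leaf 3953062) (.leaf 6631573)) (.leaf 12042712)) (.node (.leaf 14454941) (.leaf 6672737))) (.node (.node (.leaf 8970821) (.leaf 3924567)) (.node (.leaf 10256928) (.leaf 82181))))) (.node (.node (.node (.node (.node (.leaf 1839571) (.leaf 17551459)) (.leaf 16916682)) (.node (.leaf 13340873) (.leaf 6090956))) (.node (.node (.leaf 1282729) (.leaf 2666936)) (.node (.leaf 2925178) (.leaf 10138191)))) (.node (.node (.node (.leaf 1466770) (.leaf 14839813)) (.node (.leaf 11870422) (.leaf 12673548))) (.node (.node (.leaf 15569217) (.leaf 9523392)) (.node (.leaf 12779963) (.leaf 659978)))))) (.node (.node (.node (.node (.node (.node (.leaf 10932828) (.leaf 10584120)) (.leaf 5263894)) (.node (.leaf 9035881) (.leaf 11424165))) (.node (.node (.leaf 4075720) (.leaf 688353)) (.node (.leaf 11911863) (.leaf 3486077)))) (.node (.node (.node (.node (.leaf 8704684) (.leaf 18030920)) (.leaf 4178612)) (.node (.leaf 3277210) (.leaf 5079229))) (.node (.node (.leaf 5869635) (.leaf 6750737)) (.node (.leaf 1638979) (.leaf 1626815))))) (.node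 (.node (.node (.node (.node (.leaf 11427936) (.leaf 12443728)) (.leaf 13144170)) (.node (.leaf 4932273) (.leaf 14213641))) (.node (.node (.leaf 17478020) (.leaf 2814488)) (.node (.leaf 5357821) (.leaf 3125774)))) (.node (.node (.node (.leaf 15212878) (.leaf 14491770)) (.node (.leaf 6279187) (.leaf 16507256))) (.node (.node (.leaf 14426196) (.leaf 9764991)) (.node (.leaf 11653634) (.leaf 2290357)))))))))

def threeMv55614 : Janko.Tree (ℕ) :=
  (.node (.node (.node (.node (.node (.node (.node (.node (.node (.leaf 14332324) (.leaf 5239250)) (.leaf 12013932)) (.node (.leaf 14471499) (.leaf 5112495))) (.node (.node (.leaf 12087992) (.leaf 9531482)) (.node (.leaf 6467737) (.leaf 1520284)))) (.node (.node (.node (.node (.leaf 9126348) (.leaf 4608385)) (.leaf 8609838)) (.node (.leaf 8585414) (.leaf 8589871))) (.node (.node (.leaf 5505481) (.leaf 4227373)) (.node (.leaf 2626234) (.leaf 10109035))))) (.node (.node (.node (.node (.node (.leaf 9597336) (.leaf 13927018)) (.leaf 13332665)) (.node (.leaf 4673958) (.leaf 8221389))) (.node (.node (.leaf 889162) (.leaf 5353733))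 (.node (.leaf 14951112) (.leaf 12567171)))) (.node (.node (.node (.leaf 5612220) (.leaf 8241401)) (.node (.leaf 3342418) (.leaf 4120645))) (.node (.node (.leaf 13930816) (.leaf 13885622)) (.node (.leaf 3510690) (.leaf 12415006)))))) (.node (.node (.node (.node (.node (.node (.leaf 9306462) (.leaf 17096842)) (.leaf 10694793)) (.node (.leaf 410201) (.leaf 5271855))) (.node (.node (.leaf 7791230) (.leaf 11575887)) (.node (.leaf 4817322) (.leaf 962653)))) (.node (.node (.node (.node (.leaf 13037629) (.leaf 12488824)) (.leaf 8286235)) (.node (.leaf 12829137) (.leaf 10199727))) (.node (.node (.leaf 4714939) (.leaf 5186212)) (.node (.leaf 5423470) (.leaf 16048218))))) (.node (.node (.node (.node (.node (.leaf 7574024) (.leaf 13476085)) (.leaf 15520393)) (.node (.leaf 12399045) (.leaf 14229948))) (.node (.node (.leaf 12878021) (.leaf 8045204)) (.node (.leaf 3158309) (.leaf 11792600)))) (.node (.node (.node (.leaf 4866166) (.leaf 7287333)) (.node (.leaf 2101345) (.leaf 15761971))) (.node (.node (.leaf 6119852) (.leaf 4035252)) (.node (.leaf 12800072) (.leaf 3817896)))))))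 (.node (.node (.node (.node (.node (.node (.node (.leaf 14676260) (.leaf 6541822)) (.leaf 12967955)) (.node (.leaf 17232421) (.leaf 4637158))) (.node (.node (.leaf 12562940) (.leaf 15426227)) (.node (.leaf 2163224) (.leaf 9744698)))) (.node (.node (.node (.node (.leaf 18256046) (.leaf 7929941)) (.leaf 5730654)) (.node (.leaf 11149865) (.leaf 504385))) (.node (.node (.leaf 4136980) (.leaf 10776736)) (.node (.leaf 15171906) (.leaf 11838009))))) (.node (.node (.node (.node (.node (.leaf 4571183) (.leaf 11173920)) (.leaf 16064584)) (.node (.leaf 10678756) (.leaf 4079952))) (.node (.node (.leaf 15364216) (.leaf 9294159)) (.node (.leaf 13099045) (.leaf 8450619)))) (.node (.node (.node (.leaf 7053319) (.leaf 15790515)) (.node (.leaf 2883984) (.leaf 16896692))) (.node (.node (.leaf 7840028) (.leaf 1126704)) (.node (.leaf 15556956) (.leaf 12476676)))))) (.node (.node (.node (.node (.node (.node (.leaf 11448880) (.leaf 3674241)) (.leaf 5816592)) (.node (.leaf 14360700) (.leaf 3822271))) (.node (.node (.leaf 13050090) (.leaf 1434210)) (.node (.leaf 1384924) (.leaf 15389039))))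 (.node (.node (.node (.node (.leaf 9138543) (.leaf 7676296)) (.leaf 17466001)) (.node (.leaf 7987797) (.leaf 631406))) (.node (.node (.leaf 17948782) (.leaf 18280868)) (.node (.leaf 2920538) (.leaf 3810008))))) (.node (.node (.node (.node (.node (.leaf 14406048) (.leaf 15396975)) (.leaf 7111296)) (.node (.leaf 4219524) (.leaf 6836389))) (.node (.node (.leaf 995853) (.leaf 10117778)) (.node (.leaf 7176915) (.leaf 9445847)))) (.node (.node (.node (.leaf 15041068) (.leaf 12333352)) (.node (.leaf 2978249) (.leaf 13815831))) (.node (.node (.leaf 13619888) (.leaf 6586919)) (.node (.leaf 13348918) (.leaf 12870139)))))))) (.node (.node (.node (.node (.node (.node (.node (.node (.leaf 2777377) (.leaf 6799809)) (.leaf 12460742)) (.node (.leaf 6033569) (.leaf 18272520))) (.node (.node (.leaf 11567281) (.leaf 12537894)) (.node (.leaf 14516778) (.leaf 6329045)))) (.node (.node (.node (.node (.leaf 5714159) (.leaf 14914145)) (.leaf 4903301)) (.node (.leaf 2605190) (.leaf 14537385))) (.node (.node (.leaf 16830896) (.leaf 14152176)) (.node (.leaf 10015358) (.leaf 13910606)))))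 (.node (.node (.node (.node (.node (.leaf 7762026) (.leaf 8200812)) (.leaf 15532210)) (.node (.leaf 8331910) (.leaf 13115550))) (.node (.node (.leaf 13291892) (.leaf 13635838)) (.node (.leaf 4260564) (.leaf 10674222)))) (.node (.node (.node (.leaf 10715638) (.leaf 16060832)) (.node (.leaf 10506649) (.leaf 5444229))) (.node (.node (.leaf 5414973) (.leaf 14942888)) (.node (.leaf 14258595) (.leaf 14373512)))))) (.node (.node (.node (.node (.node (.node (.leaf 14389633) (.leaf 18129614)) (.leaf 12374717)) (.node (.leaf 12050615) (.leaf 17527190))) (.node (.node (.leaf 7455433) (.leaf 5603844)) (.node (.leaf 10158275) (.leaf 7946726)))) (.node (.node (.node (.node (.leaf 9875888) (.leaf 13284013)) (.leaf 7381080)) (.node (.leaf 5280213) (.leaf 10306215))) (.node (.node (.leaf 8925626) (.leaf 14176957)) (.node (.leaf 11841652) (.leaf 11411855))))) (.node (.node (.node (.node (.node (.leaf 9683394) (.leaf 17330713)) (.leaf 12795927)) (.node (.leaf 11518310) (.leaf 15675622))) (.node (.node (.leaf 524488) (.leaf 15405416)) (.node (.leaf 11235638) (.leaf 5709877))))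 (.node (.node (.node (.leaf 2343079) (.leaf 672410)) (.node (.leaf 12210213) (.leaf 9777674))) (.node (.node (.leaf 8167738) (.leaf 4001980)) (.node (.leaf 11800651) (.leaf 3871388))))))) (.node (.node (.node (.node (.node (.node (.node (.leaf 5304548) (.leaf 18092298)) (.leaf 11481273)) (.node (.leaf 11796916) (.leaf 15777951))) (.node (.node (.leaf 15217056) (.leaf 16032175)) (.node (.leaf 16617561) (.leaf 2199779)))) (.node (.node (.node (.node (.leaf 15090171) (.leaf 13107624)) (.leaf 11280903)) (.node (.leaf 110603) (.leaf 14786818))) (.node (.node (.leaf 7938673) (.leaf 9589315)) (.node (.leaf 7594476) (.leaf 6529072))))) (.node (.node (.node (.node (.node (.leaf 16883965) (.leaf 7152225)) (.leaf 9396545)) (.node (.leaf 11690310) (.leaf 6217937))) (.node (.node (.leaf 3101264) (.leaf 6501031)) (.node (.leaf 12665080) (.leaf 15458426)))) (.node (.node (.node (.leaf 2945299) (.leaf 15208908)) (.node (.leaf 7754021) (.leaf 17945155))) (.node (.node (.leaf 17523074) (.leaf 1962529)) (.node (.leaf 14344740) (.leaf 15573245)))))) (.node (.node (.node (.node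 (.node (.node (.leaf 2523449) (.leaf 5038594)) (.leaf 3579995)) (.node (.leaf 15839590) (.leaf 16470617))) (.node (.node (.leaf 15175715) (.leaf 16289944)) (.node (.leaf 2081223) (.leaf 13623384)))) (.node (.node (.node (.node (.leaf 16622231) (.leaf 11296982)) (.leaf 18330170)) (.node (.leaf 16921163) (.leaf 15774078))) (.node (.node (.leaf 9109961) (.leaf 14438412)) (.node (.leaf 16069101) (.leaf 8323453))))) (.node (.node (.node (.node (.node (.leaf 348623) (.leaf 12694030)) (.leaf 9966258)) (.node (.leaf 17875352) (.leaf 12169898))) (.node (.node (.leaf 15102075) (.leaf 17137712)) (.node (.leaf 14660150) (.leaf 3019460)))) (.node (.node (.node (.leaf 2089048) (.leaf 9154913)) (.node (.leaf 8733216) (.leaf 2334769))) (.node (.node (.leaf 10739761) (.leaf 430655)) (.node (.leaf 16937435) (.leaf 12165441)))))))))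

def threeMv55615 : Janko.Tree (ℕ) :=
  (.node (.node (.node (.node (.node (.node (.node (.node (.node (.leaf 9089060) (.leaf 6021203)) (.leaf 14496198)) (.node (.leaf 11735635) (.leaf 8041102))) (.node (.node (.leaf 4743300) (.leaf 16462238)) (.node (.leaf 16519811) (.leaf 2797989)))) (.node (.node (.node (.node (.leaf 9527734) (.leaf 3297869)) (.leaf 6176956)) (.node (.leaf 11346110) (.leaf 14156052))) (.node (.node (.leaf 15769684) (.leaf 8319112)) (.node (.leaf 9367709) (.leaf 7520693))))) (.node (.node (.node (.node (.node (.leaf 4038776) (.leaf 12820990)) (.leaf 3236139)) (.node (.leaf 1905094) (.leaf 8020677))) (.node (.node (.leaf 18153948) (.leaf 6819992)) (.node (.leaf 3719333) (.leaf 10240084)))) (.node (.node (.node (.leaf 1634521) (.leaf 12517971)) (.node (.leaf 14831714) (.leaf 13046098))) (.node (.node (.leaf 6103590) (.leaf 6869576)) (.node (.leaf 3907817) (.leaf 2834803)))))) (.node (.node (.node (.node (.node (.node (.leaf 8532235) (.leaf 3690784)) (.leaf 2068650)) (.node (.leaf 233636) (.leaf 8000030))) (.node (.node (.leaf 4354086) (.leaf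 6885671)) (.node (.leaf 16986468) (.leaf 836284)))) (.node (.node (.node (.node (.leaf 9584722) (.leaf 4157857)) (.leaf 1499727)) (.node (.leaf 13545848) (.leaf 2147001))) (.node (.node (.leaf 3441062) (.leaf 7336026)) (.node (.leaf 10048180) (.leaf 7806976))))) (.node (.node (.node (.node (.node (.leaf 1016399) (.leaf 14823484)) (.leaf 12059043)) (.node (.leaf 10285747) (.leaf 17887409))) (.node (.node (.leaf 553089) (.leaf 14663733)) (.node (.leaf 10133551) (.leaf 16167458)))) (.node (.node (.node (.leaf 3575976) (.leaf 15470988)) (.node (.leaf 13120053) (.leaf 667872))) (.node (.node (.leaf 9404731) (.leaf 14069838)) (.node (.leaf 17396164) (.leaf 15962601))))))) (.node (.node (.node (.node (.node (.node (.node (.leaf 10482053) (.leaf 565970)) (.leaf 5963804)) (.node (.leaf 6722160) (.leaf 2908273))) (.node (.node (.leaf 12947596) (.leaf 3560092)) (.node (.leaf 18235919) (.leaf 10060194)))) (.node (.node (.node (.node (.leaf 15069823) (.leaf 9802100)) (.leaf 11170517)) (.node (.leaf 14557667) (.leaf 13553837))) (.node (.node (.leaf 10384084) (.leaf 10887645))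 (.node (.leaf 6914151) (.leaf 16413192))))) (.node (.node (.node (.node (.node (.leaf 17924306) (.leaf 16654365)) (.leaf 2376348)) (.node (.leaf 3944994) (.leaf 16282170))) (.node (.node (.leaf 4772316) (.leaf 17797462)) (.node (.leaf 6000950) (.leaf 14299179)))) (.node (.node (.node (.leaf 9564887) (.leaf 7352817)) (.node (.leaf 6303912) (.leaf 13242716))) (.node (.node (.leaf 9195878) (.leaf 2429434)) (.node (.leaf 1667221) (.leaf 10486339)))))) (.node (.node (.node (.node (.node (.node (.leaf 13955660) (.leaf 10436641)) (.leaf 13599092)) (.node (.leaf 13803925) (.leaf 1577463))) (.node (.node (.leaf 4928082) (.leaf 17519185)) (.node (.leaf 8831207) (.leaf 3268612)))) (.node (.node (.node (.node (.leaf 9581001) (.leaf 11038760)) (.leaf 10629569)) (.node (.leaf 17436685) (.leaf 7516852))) (.node (.node (.leaf 1528247) (.leaf 4194506)) (.node (.leaf 17555747) (.leaf 11059886))))) (.node (.node (.node (.node (.node (.leaf 1753379) (.leaf 3793570)) (.leaf 15466862)) (.node (.leaf 14528567) (.leaf 11874947))) (.node (.node (.leaf 5906791) (.leaf 4055097)) (.node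 (.leaf 4104753) (.leaf 10641496)))) (.node (.node (.node (.leaf 3801224) (.leaf 8254154)) (.node (.leaf 15110254) (.leaf 8511712))) (.node (.node (.leaf 15991329) (.leaf 12144792)) (.node (.leaf 7704934) (.leaf 9372017)))))))) (.node (.node (.node (.node (.node (.node (.node (.node (.leaf 12235173) (.leaf 1810872)) (.leaf 8581744)) (.node (.leaf 6607277) (.leaf 6238465))) (.node (.node (.leaf 516677) (.leaf 11919939)) (.node (.leaf 8568926) (.leaf 749851)))) (.node (.node (.node (.node (.leaf 16490782) (.leaf 10268790)) (.leaf 16233073)) (.node (.leaf 4301351) (.leaf 16527753))) (.node (.node (.leaf 4243866) (.leaf 9298469)) (.node (.leaf 16441450) (.leaf 12890798))))) (.node (.node (.node (.node (.node (.leaf 7045555) (.leaf 967040)) (.leaf 15266099)) (.node (.leaf 17273125) (.leaf 17400163))) (.node (.node (.leaf 11244156) (.leaf 774835)) (.node (.leaf 8606269) (.leaf 16736798)))) (.node (.node (.node (.leaf 2220522) (.leaf 4436676)) (.node (.leaf 7979488) (.leaf 3526728))) (.node (.node (.leaf 11534710) (.leaf 12636201)) (.node (.leaf 11162005) (.leaf 12669337))))))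 (.node (.node (.node (.node (.node (.node (.leaf 1794430) (.leaf 18014338)) (.leaf 8360056)) (.node (.leaf 5583414) (.leaf 1831629))) (.node (.node (.leaf 2486773) (.leaf 10723359)) (.node (.leaf 7348354) (.leaf 3010717)))) (.node (.node (.node (.node (.leaf 15704142) (.leaf 17699022)) (.leaf 1065038)) (.node (.leaf 16814161) (.leaf 643126))) (.node (.node (.leaf 193075) (.leaf 13902187)) (.node (.leaf 11751911) (.leaf 12644845))))) (.node (.node (.node (.node (.node (.leaf 13746223) (.leaf 3523161)) (.leaf 7708682)) (.node (.leaf 3555402) (.leaf 17354999))) (.node (.node (.leaf 1241350) (.leaf 16965658)) (.node (.leaf 8036738) (.leaf 9904514)))) (.node (.node (.node (.leaf 372852) (.leaf 1118636)) (.node (.leaf 122949) (.leaf 1057215))) (.node (.node (.leaf 7143782) (.leaf 2769565)) (.node (.leaf 10752429) (.leaf 15823516))))))) (.node (.node (.node (.node (.node (.node (.node (.leaf 7418169) (.leaf 15716976)) (.leaf 5558405)) (.node (.leaf 8679517) (.leaf 7918210))) (.node (.node (.leaf 578207) (.leaf 4960565)) (.node (.leaf 14319700) (.leaf 6386110)))) (.node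 (.node (.node (.node (.leaf 2969810) (.leaf 4710430)) (.leaf 9695394)) (.node (.leaf 5825081) (.leaf 7327978))) (.node (.node (.leaf 4370440) (.leaf 9216715)) (.node (.leaf 11133223) (.leaf 4419709))))) (.node (.node (.node (.node (.node (.leaf 14733605) (.leaf 17904191)) (.leaf 5808532)) (.node (.leaf 9749102) (.leaf 5812307))) (.node (.node (.leaf 16384475) (.leaf 4760174)) (.node (.leaf 11694734) (.leaf 10625293)))) (.node (.node (.node (.leaf 905706) (.leaf 17850847)) (.node (.leaf 11329540) (.leaf 17862780))) (.node (.node (.leaf 881106) (.leaf 2650430)) (.node (.leaf 3334806) (.leaf 16510996)))))) (.node (.node (.node (.node (.node (.node (.leaf 11854527) (.leaf 13943112)) (.leaf 9859255)) (.node (.leaf 12714389) (.leaf 1245421))) (.node (.node (.leaf 11432575) (.leaf 7389564)) (.node (.leaf 11420081) (.leaf 10514959)))) (.node (.node (.node (.node (.leaf 14032992) (.leaf 17162853)) (.leaf 12521965)) (.node (.leaf 8663664) (.leaf 10957241))) (.node (.node (.leaf 7844546) (.leaf 5845121)) (.node (.leaf 14225433) (.leaf 5435766))))) (.node (.node (.node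 (.node (.node (.leaf 17809645) (.leaf 15688158)) (.leaf 2679096)) (.node (.leaf 6361620) (.leaf 7741677))) (.node (.node (.leaf 11166075) (.leaf 6816000)) (.node (.leaf 7602529) (.leaf 13086914)))) (.node (.node (.node (.leaf 17453755) (.leaf 3534887)) (.node (.leaf 18243829) (.leaf 7651596))) (.node (.node (.leaf 8536500) (.leaf 6943404)) (.node (.leaf 17490003) (.leaf 18010828)))))))))

/-- a table -/
def threeMv556 : Janko.Tree (ℕ) := (.node (.node (.node (.node threeMv5560 threeMv5568) (.node threeMv5564 threeMv55612)) (.node (.node threeMv5562 threeMv55610) (.node threeMv5566 threeMv55614))) (.node (.node (.node threeMv5561 threeMv5569) (.node threeMv5565 threeMv55613)) (.node (.node threeMv5563 threeMv55611) (.node threeMv5567 threeMv55615))))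

theorem three_mv5560 : ((List.range 640).all fun i => movesOK baseB threeCert threeGens threeT 4480 threeV556 threeMv556 (Nat.add 0 i)) = true := by decide +kernel

theorem three_mv5561 : ((List.range 640).all fun i => movesOK baseB threeCert threeGens threeT 4480 threeV556 threeMv556 (Nat.add 640 i)) = true := by decide +kernel

theorem three_mv5562 : ((List.range 640).all fun i => movesOK baseB threeCert threeGens threeT 4480 threeV556 threeMv556 (Nat.add 1280 i)) = true := by decide +kernel

theorem three_mv5563 : ((List.range 640).all fun i => movesOK baseB threeCert threeGens threeT 4480 threeV556 threeMv556 (Nat.add 1920 i)) = true := by decide +kernel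

theorem three_mv5564 : ((List.range 640).all fun i => movesOK baseB threeCert threeGens threeT 4480 threeV556 threeMv556 (Nat.add 2560 i)) = true := by decide +kernel

theorem three_mv5565 : ((List.range 640).all fun i => movesOK baseB threeCert threeGens threeT 4480 threeV556 threeMv556 (Nat.add 3200 i)) = true := by decide +kernel

theorem three_mv5566 : ((List.range 640).all fun i => movesOK baseB threeCert threeGens threeT 4480 threeV556 threeMv556 (Nat.add 3840 i)) = true := by decide +kernel

theorem three_mv556 : ∀ i < 4480, movesOK baseB threeCert threeGens threeT 4480 threeV556 threeMv556 i = true := by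
  intro i hi
  exact (if h1920 : i < 1920 then (if h640 : i < 640 then (by have := List.all_eq_true.1 three_mv5560 (i - 0) (List.mem_range.2 (by omega)); rwa [show Nat.add 0 (i - 0) = i from Nat.add_sub_cancel' (by omega)] at this) else (if h1280 : i < 1280 then (by have := List.all_eq_true.1 three_mv5561 (i - 640) (List.mem_range.2 (by omega)); rwa [show Nat.add 640 (i - 640) = i from Nat.add_sub_cancel' (by omega)] at this) else (by have := List.all_eq_true.1 three_mv5562 (i - 1280) (List.mem_range.2 (by omega)); rwa [show Nat.add 1280 (i - 1280) = i from Nat.add_sub_cancel' (by omega)] at this))) else (if h3200 : i < 3200 then (if h2560 : i < 2560 then (by have := List.all_eq_true.1 three_mv5563 (i - 1920) (List.mem_range.2 (by omega)); rwa [show Nat.add 1920 (i - 1920) = i from Nat.add_sub_cancel' (by omega)] at this) else (by have := List.all_eq_true.1 three_mv5564 (i - 2560) (List.mem_range.2 (by omega)); rwa [show Nat.add 2560 (i - 2560) = i from Nat.add_sub_cancel' (by omega)] at this)) else (if h3840 : i < 3840 then (by have := List.all_eq_true.1 three_mv5565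 (i - 3200) (List.mem_range.2 (by omega)); rwa [show Nat.add 3200 (i - 3200) = i from Nat.add_sub_cancel' (by omega)] at this) else (by have := List.all_eq_true.1 three_mv5566 (i - 3840) (List.mem_range.2 (by omega)); rwa [show Nat.add 3840 (i - 3840) = i from Nat.add_sub_cancel' (by omega)] at this))))


end Cfsg.Agent.Lie.McLaughlinMult
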