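import Cfsg.Agent.Lib.Lie.PermCover
import Cfsg.Agent.Lib.Lie.McLaughlinMult.Gens

/-!
A central table on a Sylow 3-subgroup of the McLaughlin group (generated).
-/

set_option autoImplicit false
set_option maxRecDepth 100000
set_option maxHeartbeats 0
set_option Elab.async false

namespace Cfsg.Agent.Lie.McLaughlinMult

open Cfsg.Agent.Lie PermCover McLaughlinOut

/-- generators of the subgroup -/
def threeGens : List Elem :=
  [(0x1bd72af7e8fd924a81b1de69f74051c0425702cba642b099d88c6bb417af85a8e55a106e2100302513ba1d0f723c584603f1f608300218ccc2006bf86d097120cd4271a279ab1267aa474250713cda736219c2a3144939c22c459d9de8f4baf97418643e566ab8825078bc889ac8a915bc2cd0f407a4d46dd2f844801369305e499261412c0a7fb9d00214310ce2490e294b46140b8e0274093da14951f2fd0ea13f85d80a06d2685403380e1983b3dba600fc3c9c910776a07c0ca4040ad38f51ab1618756d9889107209351ace232c034512ba6c8ec629ac466d62e15097082f1956c900b0dca4444eb954e9276a14f0f71e87514242daa194fb2c26176eb373605acb6cb98522817379f47a2ca0865051786da2aa0488c32b4111561a053630c18ac5c34c04a6781a43cb23e3360c8e03b7dd400,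 0x35166b7763b42a6557225b84c3001440e585bc11a754db7a1e741a09574f81e228d0ac84a85d40b60bb87efd18004ed074d0a884eb4736d8b050109950f3319fc562e7d941aa6f0728c3afa699700c79160d61abb85150cccb093a54481432f9f2b418af6220f57925ee185c820a45a8840dea105c071a43620831246c54bbd08808435886692b1f940325fa7510b655101604860010bafc618e58e7142a5c7cf26d0891e9941b9dcc073b890e63d38308c88c661c92a7b890bd9a135936414ad6538495007118920e85392e024f1ba4446332bbfc2c4e29914b09e67318bc9f26c3128612a96d62444b410bea58721c76b53c345ec7a23374ced72888590e40f89c5ac4351f452286c3f9a0380d05d30e03702474930f16432bc4111d93065222d4cf455b3dbe1181270366b019b428e33e035e200, [95, 193, 225, 239]),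
    (0x35d428c64b311cd57ea6c86a237b217cf56025586db712c41e1945a6558ce76af0046b8296c6d003c3b8366c6f1a566bf0e39a22965423c84616d120589d780494c3e568ad347f692d440b95830522250193802c43208df70639819f088203ccf8216cbc546053a385a6a7049a8603428b1e2450089886ea41caed28e368209ca9777c34a4cb3bc301ae7468a0f61e2f9b4bb097fa79403b62aa82b0343a0d0a921fc2026f224a4c480b8111cec9f85039d422808b5e8d61e12908103881ceaa933b0864ae6ea28745a3f3619a334011994170e810fa5457b70a6f92c1649afc25905a8eb15181a272482d8dce843178b907883816838342e98ccf1e8bcacfe328b88863381e83ee41395e1c551aaddec450c2944c987b86898292785818810a37c14ec859e5f4895eaadd2b85919810314e4121e00, 0x2b5ca3b008953c9a079dd20821e311e602441ece6f0478c2164c62834a0c10d88608715f20174db4fbb9ee10241d412404c3994228523fd6c3a093acc6528037d765e891c218495ab4c8aa31a3e0bb0e4e1661f06570d516c8809999d037441416f6530d9a00811109a4397481dfccf29991aef905228d0e35a3643ca85cc22228d3c239b80385355f41c5039204a53f2119a43714352f107d98818c0438fd0a6d43288285b6a17caabd4a8a81cef4d9e4d2b761910d62b8390524ec7a2c9d437338185ec7162a9c046498f9223d791809c4f130c4485428a755eac0bb289a19259b8fede3d168402d84b8494bf41b60666f461854e3854bc446b02e19408b1190b8e4dd6b11c309613875987d631d178d114a50aee776869f81f2c059121340b69566c7e9d932153e045660535309705665bd59200,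 [22, 194, 220, 239, 248]),
    (0x259ece5918200bc31a703a9f4cab9fc40532a14ab864b79ba582db0988227d8e5d0ea1806e060828bb9170a798111a0e3f39868d108805989669415ad0902ad574d874bf4429136a10747f1fadd725a36164d4c72808de4644a0f0e8bb3cac42ab41b220930d88439250c5023c9086842b167064a994e60a6abc46eab6a3bd60ad57bc086ec65bd80c5f8908148680c369465787b6daec1400bd02d925a844edf729e016ed2e87c480c718a8045301c10ac8c0f1c8eb0b06a28249b34bfc62c3339bc94f9380c850b614979a04c7bb849c33291c4fa544124144c82e3290a4f172a99abe3d108c24413094c476888f832fa7c391343880b018c837e104d6eb3721c5a2b0791d304526a748c551a8ed4ee073aa5b893628682e1c1e858267c5eb4cf677163d4cc1444c092e9e7141d1cf4082fc0e00, 0x25c7eb747ad970b4383b1b8af032b1bc76788286f0d35415ac337b8f0c83b2da681c0475b154c9e513b9009c183d1aef50fb99063a3d81cb420423f9fa1d4724910d846b754ea30937dc85d88c4092e14d939fe50640d436f9343e9183601120270c603659b0067181b4bc56c3d7ca14fc1940ae521283d0210c0e0295489450cb3840204d0a360e60e2904b8156c30e2d5a85259015d274769b816ba172c09ad21a14d128b6839caa140891d7e8208100e2c1549c8ac63330bda6cb18b24d6943383554c4859048b0e4c178fe4f7db3194fc481d448543c15ddec7261644e5c4399572b11509450444e9186504678f82ec211345ec3852aec46e52c188d2f34512c5a0f161e8be614290c847d633e1aa963f1ce1218790687a930c8597a0c0a9b5c60315ba0de7c40aa224f000a65b6ea3b9e5c400,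 [137, 176, 227, 239, 248]),
    (0x219664c043b5709d08205e710301f0b104710d9cb0d320cd50657da9548457b8e47ef168a5c0e6b863b80c897240db5113f17878dc31ba81ac139bf014eb8311910544940844e12487a12d05013cd0664d8a9f30a4e1f412ab090dc38fd6fa60ea436eb6587002e200842674278bef25b831ea14353f804c07c00468c92d2d18a0e670c5de0b363d96c3d581d1fed34b0959862782b16a18838bca0ba2c86d8ca96124190993f87d0adb8592da457719d858935f9c81e0351a299acb47b121e6d1c245bc953ba09aa8b0c868baaf2d9bc8e4a190ac9a162910578ec4f9e86b0827415282943ba54e4428a34a6405699d7d0114075343e41b58aafa551e1643a373285abd0a8b82e2111a89ae2712184768c739e460e089399622024360ac8e38ae4e07b09b3da80563aed42697a4395ca608a100800, 0x6dd1083481a00ef3db21a24c45b6c95047535878b84aaa980de7d8d192a77ba695a0784ac1e88f4ebba1c506e3888cb30f86a02eb3bc0da81c5f99576e43e3a57416128d8c20d4a1e5e6d00727cda91360b9488105a15426a5ca0dc0a8398f4585105220250d57a651aa2888c432972e0147e8e620cd08fd22811f4f93789812cf27aca18c7658e500be7924cc8493a35ccc82358508420301b9d8d923c48fa021b98a14b63fb9d8d06081383c32319d97a966f9c826112d0bcd09b782ac10cd1f331f8ff71a40450758b98bab72da8d0f053c0546ad82094c86896712cab103d161a6172cb69f0445e2d4a4407a8e130e5108c1ec67614089aa57f15d3c1d450a85a752b328903b122d1242313b5450183f34874c143178be8c1495056ac07b0c070b38a81c2ae4e3758b0f78bb41801382a54c00,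 [142, 220, 243, 248]),
    (0x245666e35bd52b0502a3d3ee730031f8c283375b4a42b160110c809097a621b8c00c032607958a849bb8d0b22e041a1076e059d2ce38010f28c628cd3d0871becc8d82ebc17cb0403c96ee5502287e0264938e2894088ce6150909554c83786574fe63be622ab17838b6de5c9a42e970f8519a7c07a5908d6242b96a2b5087012493f409450f7fbcd6c526a30458d321bdd0c78189ecfe4a61b9180c443c490a1b6ba6176941a424aaf1318a81a5f713e8d8656f9c996db2d0e9da6a4e1d5d86d2a3304013470a076e848179063952afd94bc29a6c481a14a08300b7b1649a9a25b819e3d3d1004444779d8c23c568f94e4620c41d6e6491418c8d5a116144f688b85b0d8011caef813946087d1a8c962740eb495e9d5499daa26108e110a66ca2e16075c265c3031b3f5460a75438227700999e800, 0x219723a4e01858fc088c4fcdc7440e182506279f62b4daf015056d1d974284913e1c014d348f8d621bb8da691c81dca60840e1a08a6d9dc1a4a39ad204e73840426d841aa032974a0785ee924b915a663896596c05d8d5be8845c112c892d355f25840af5660f68a654a3388bb042d40ea987ef15c30436f01e850b70004a7546cf84b74386b2b1301c82582aa1a80778de245f8518c68e009339901543a450aa92e9498ed346a7c48ac4711dc29002108d420629c992e35fc40d075879b164ed0d008e8d93dbe083073c179aeeb5a9bc9cfe14bfcfa672ba604c36183289af325a3140a7150f0644449be87646668f89040309b8b8167b82c467f6f0891ef65b8b85a95521e8a662138618455631142e6557bc83ea2421517c5158b9988ae3230c0aea55ad8f3062802142fd083d616e27a3300600,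 [95, 200, 230]),
    (0x3320e9f641b596aa020d9d64f619ed2cf74743dca6c7c88062c16829556532e8bdda0c723500aec19bb99abb1d0508c8b7b058781d03ab1a44304b80d630083a6003e129a4c4795025db8404cabdea84441658902540d54695888dca29e628a01e65782e1d09b8434d1a4a3031c8a0d2638e1c117f8610cb220b6c686a5f960deb62e271fcc05d22928217089992cf5a35c04482800c84ef5c87dbb0d259989b126105dac493b0e4ab0b008a9e43d7896c26a2509c82aea399f95ad944991023f0d2a438a47a0a5201253b6209103fb7c9c745f2f448670cac5f80a5bb284ece1724c1c613d368a4446f2d4befb0317877013c424dce64182046fa4626016d173a1c5a713a91daa5742c15247d63208649d4d2c1e6bc48951f10c110e0587015acdc4a62b2003c637ea3cb50a571a0ee7c8186e0c00, 0x211865c812b510183e02074b7888044c5d01b2078d955a741651200d1fe198239d9a630e9e4eebb463b9eaf0849c1b4b9178e202f3570452ede2d10d12d153118d85e4920452f25b38460fb4a131db12869392b0f5908d7ec983a0df89c5195cac1c7626d16ba27a808493092a0a41e6701cdae27cc30ccc72f841f464629d0e6d388300409e5c07d9e326941588992509436610540d6a3374268d6cb172a44ecc1b888d20e2d9b848048311da83b029fc5658379c85814508e61d006ea91ac062a219786a0635490b3208f9ee9f3b02594a21403cfa1a7c115828f841650aaf43ad10090153a56244702354ed034360f0e51ebacfc16614298ca577885fadc7b12c5a15099e8c4be26a59ae551a85d30fe45035c8650119ca6aa41398e2ea3a98158db5e92560f418941be36718fde30b47244f600,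 [101, 200, 233, 245, 248])]

def threeElt0 : Janko.Tree (ℕ) :=
  (.node (.node (.node (.node (.node (.node (.leaf 1345185137112576) (.leaf 885118427289600)) (.leaf 4869272632659456)) (.node (.node (.leaf 9198727023661568) (.leaf 2428499624198656)) (.leaf 4232993906894848))) (.node (.node (.node (.leaf 3070479693832192) (.leaf 9290147815300608)) (.leaf 1035281216655360)) (.node (.node (.leaf 1664352179549696) (.leaf 5879180402186240)) (.leaf 822455570796032)))) (.node (.node (.node (.node (.leaf 9199701721183232) (.leaf 8672901298207744)) (.leaf 5540515085374976)) (.node (.node (.leaf 862254971878912) (.leaf 2544840490485248)) (.leaf 2867733860057088))) (.node (.node (.node (.leaf 4096937007086080) (.leaf 9191600376084992)) (.leaf 2546139572292608)) (.node (.leaf 3465479485789696) (.leaf 4234362558090752))))) (.node (.node (.node (.node (.node (.leaf 2054644086968320) (.leaf 7508983035994112)) (.leaf 8954665277919232)) (.node (.node (.leaf 2890621987702272) (.leaf 9578212491920384)) (.leaf 8867579705695744))) (.node (.node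 (.node (.leaf 4856506506410496) (.leaf 6701557764066816)) (.leaf 2850772888663552)) (.node (.node (.leaf 9336875988400640) (.leaf 2369209077918208)) (.leaf 4222895800983552)))) (.node (.node (.node (.node (.leaf 1337831868356096) (.leaf 5431070503010816)) (.leaf 1168321843387392)) (.node (.node (.leaf 3883750686840832) (.leaf 5361224526071808)) (.leaf 6333262966161408))) (.node (.node (.node (.leaf 7820710015767040) (.leaf 1171957672376320)) (.leaf 5351755472287232)) (.node (.leaf 1209958362887680) (.leaf 1038833977185792))))))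

def threeElt1 : Janko.Tree (ℕ) :=
  (.node (.node (.node (.node (.node (.node (.leaf 8944548048841728) (.leaf 5366670558289920)) (.leaf 985232495629824)) (.node (.node (.leaf 5981581690885632) (.leaf 1694783151932416)) (.leaf 7367368691945472))) (.node (.node (.node (.leaf 5082789446688768) (.leaf 5595623152557568)) (.leaf 8656799115842048)) (.node (.node (.leaf 5080299309113856) (.leaf 4222836822306304)) (.leaf 2892473537508864)))) (.node (.node (.node (.node (.leaf 8278598108651008) (.leaf 9301350041588224)) (.leaf 4941428736739328)) (.node (.node (.leaf 3561826082206208) (.leaf 1769941447874048)) (.leaf 5360895972606464))) (.node (.node (.node (.leaf 8409574722294784) (.leaf 1451426689693184)) (.leaf 7753376073257984)) (.node (.leaf 6688775835869696) (.leaf 2301719291420672))))) (.node (.node (.node (.node (.node (.leaf 1096626119401984) (.leaf 2011421406961664)) (.leaf 2012381312213504)) (.node (.node (.leaf 6700238517687296) (.leaf 2677038688529408)) (.leaf 4091152594683904))) (.node (.node (.node (.leaf 8562614631689216)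 (.leaf 9336519660691968)) (.leaf 3114593791044096)) (.node (.node (.leaf 3074717624628736) (.leaf 6348243136948736)) (.leaf 1455432789466112)))) (.node (.node (.node (.node (.leaf 996605587722752) (.leaf 2305299742574080)) (.leaf 2786879059621376)) (.node (.node (.leaf 7260647380848640) (.leaf 8736477984672768)) (.leaf 2621649161082880))) (.node (.node (.node (.leaf 8427096293791744) (.leaf 5072074149843968)) (.leaf 7512012487134720)) (.node (.leaf 2294352357230080) (.leaf 4856886649816064))))))

def threeElt2 : Janko.Tree (ℕ) :=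
  (.node (.node (.node (.node (.node (.node (.leaf 1031000608871424) (.leaf 5889492338345984)) (.leaf 2619191476193280)) (.node (.node (.leaf 6615041936250880) (.leaf 6166613288673280)) (.leaf 3422321632087552))) (.node (.node (.node (.leaf 4235894907520512) (.leaf 1199985289193472)) (.leaf 6228336275885568)) (.node (.node (.leaf 2434955488065536) (.leaf 5190461552983552)) (.leaf 2094170809959936)))) (.node (.node (.node (.node (.leaf 8938013121106944) (.leaf 1420584213857792)) (.leaf 6334593049568768)) (.node (.node (.leaf 1348997335296512) (.leaf 9587276379066368)) (.leaf 1103510654996992))) (.node (.node (.node (.leaf 2611365227812352) (.leaf 4434284769254912)) (.leaf 2006817075954176)) (.node (.leaf 8029460734512640) (.leaf 5348726263121408))))) (.node (.node (.node (.node (.node (.leaf 8034704364146688) (.leaf 2685312757977600)) (.leaf 5700225985686016)) (.node (.node (.leaf 883334707151360) (.leaf 5700715500666368)) (.leaf 5700075536074752))) (.node (.node (.node (.leaf 5535795876546560) (.leaf 2921078804188672)) (.leaf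 1092023925989376)) (.node (.node (.leaf 5067339862427136) (.leaf 2604744548046848)) (.leaf 4584713321301504)))) (.node (.node (.node (.node (.leaf 4867217755804160) (.leaf 1455767936680960)) (.leaf 6445614257790976)) (.node (.node (.leaf 2858489993286656) (.leaf 2287774338130432)) (.leaf 5180590905209344))) (.node (.node (.node (.leaf 2620425454292992) (.leaf 8732964833466368)) (.leaf 894798920540672)) (.node (.leaf 8023359038234112) (.leaf 5348805892901376))))))

def threeElt3 : Janko.Tree (ℕ) :=
  (.node (.node (.node (.node (.node (.node (.leaf 2358475011708928) (.leaf 5362744007069184)) (.leaf 4440531707230720)) (.node (.node (.leaf 1661087893292032) (.leaf 7896864594875904)) (.leaf 8276115848515584))) (.node (.node (.node (.leaf 1445951239096320) (.leaf 5607127473536000)) (.leaf 823971905930752)) (.node (.node (.leaf 1207151354534912) (.leaf 1809934691955712)) (.leaf 5876493077447168)))) (.node (.node (.node (.node (.leaf 3554722175330816) (.leaf 809950711646208)) (.leaf 8672980089540608)) (.node (.node (.leaf 3562084830029312)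 (.leaf 2083126947411456)) (.leaf 7253925734993920))) (.node (.node (.node (.leaf 7822361974125056) (.leaf 6164160475933696)) (.leaf 3431509690505216)) (.node (.leaf 8135374318654976) (.leaf 1170940358892544))))) (.node (.node (.node (.node (.node (.leaf 5294430631503360) (.leaf 5606098565731328)) (.leaf 1178472365747712)) (.node (.node (.leaf 1172644332684288) (.leaf 2851309609048064)) (.leaf 1794770471327232))) (.node (.node (.node (.leaf 8029834492051968) (.leaf 1417220076451328)) (.leaf 1775461145048576)) (.node (.node (.leaf 4238378611515904) (.leaf 5183544125088256)) (.leaf 3348018686129664)))) (.node (.node (.node (.node (.leaf 1794610622125568) (.leaf 2540661240612352)) (.leaf 5612801282867712)) (.node (.node (.leaf 3250928935349248) (.leaf 4592597301199360)) (.leaf 2782537042198528))) (.node (.node (.node (.leaf 8883054857261568) (.leaf 7510798191035904)) (.leaf 3360265837038592)) (.node (.leaf 6243857473480704) (.leaf 1093774415633920))))))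

def threeElt4 : Janko.Tree (ℕ) :=
  (.node (.node (.node (.node (.node (.node (.leaf 6340019900487168) (.leaf 8140388333379584)) (.leaf 4097977322627584)) (.node (.node (.leaf 8884846295566336) (.leaf 1203635069133312)) (.leaf 4446013171262464))) (.node (.node (.node (.leaf 1407958074788352) (.leaf 5607335910037504)) (.leaf 5886662072135168)) (.node (.node (.leaf 2296813657394176) (.leaf 6333463217697280)) (.leaf 1105630013242368)))) (.node (.node (.node (.node (.leaf 6342969049560576) (.leaf 7501644306975744)) (.leaf 3880951544369152)) (.node (.node (.leaf 6334369355895296) (.leaf 6158571522865664)) (.leaf 5876358172466176))) (.node (.node (.node (.leaf 6629718771992576) (.leaf 3066574080319488)) (.leaf 2079251128497664)) (.node (.leaf 7372054510255104) (.leaf 3427592919704064))))) (.node (.node (.node (.node (.node (.leaf 5524187227461120) (.leaf 2357698012687360)) (.leaf 5426175128997888)) (.node (.node (.leaf 2894019497956864) (.leaf 9199228350453248)) (.leaf 5436901187166208))) (.node (.node (.node (.leaf 7881599335016960)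 (.leaf 8561553916917248)) (.leaf 4866096517196800)) (.node (.node (.leaf 1456305224926720) (.leaf 6624434257754624)) (.leaf 2163635605294080)))) (.node (.node (.node (.node (.leaf 6790952555743232) (.leaf 8136950874923520)) (.leaf 2681435600321024)) (.node (.node (.leaf 7827708915304448) (.leaf 898268418147840)) (.leaf 9576072429559808))) (.node (.node (.node (.leaf 9583962023858688) (.leaf 7812125722158592)) (.leaf 6685802375153152)) (.node (.leaf 7758156780589568) (.leaf 9305808506059264))))))

def threeElt5 : Janko.Tree (ℕ) :=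
  (.node (.node (.node (.node (.node (.node (.leaf 844700906728448) (.leaf 5708410705958400)) (.leaf 1805831370571264)) (.node (.node (.leaf 4097501495171584) (.leaf 6245378001068544)) (.leaf 7499783109470208))) (.node (.node (.node (.leaf 7754528432142336) (.leaf 6158739641603072)) (.leaf 8668000078387200)) (.node (.node (.leaf 2550675377350656) (.leaf 2612183989310976)) (.leaf 1426019909768704)))) (.node (.node (.node (.node (.leaf 2375386174412288) (.leaf 2687843991126016)) (.leaf 1452408200545792)) (.node (.node (.leaf 9439194990899712) (.leaf 1199654228207616)) (.leaf 8673872546633216))) (.node (.node (.node (.leaf 1108269499267584) (.leaf 1203486264204288)) (.leaf 3464319689688576)) (.node (.leaf 2446021899147264) (.leaf 821506992851968))))) (.node (.node (.node (.node (.node (.leaf 6633044031911424) (.leaf 4937667553095680)) (.leaf 2791318717227520)) (.node (.node (.leaf 9331912114442240) (.leaf 5279064837193216)) (.leaf 8410440685949440))) (.node (.node (.node (.leaf 5172618426588672) (.leaf 5595787678317056)) (.leaf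 6446816115637248)) (.node (.node (.leaf 1414752886859776) (.leaf 894336128116736)) (.leaf 1764750583924224)))) (.node (.node (.node (.node (.leaf 9441255394697728) (.leaf 6446528773493760)) (.leaf 4585542405070848)) (.node (.node (.leaf 7882125330404352) (.leaf 2087425423558144)) (.leaf 9326912644419072))) (.node (.node (.node (.leaf 1137321439417856) (.leaf 824441854056448)) (.leaf 2938616678774272)) (.node (.leaf 1654972166262784) (.leaf 9581421917196288))))))

def threeElt6 : Janko.Tree (ℕ) :=
  (.node (.node (.node (.node (.node (.node (.leaf 5278010173648896) (.leaf 7741593628020736)) (.leaf 6790800718017024)) (.node (.node (.leaf 5701249266193920) (.leaf 4231012447420928)) (.leaf 2019354180444160))) (.node (.node (.node (.leaf 7364201327665152) (.leaf 891176255607808)) (.leaf 8567424035939328)) (.node (.node (.leaf 1027254642934784) (.leaf 3114243614672896)) (.leaf 8279613420437504)))) (.node (.node (.node (.node (.leaf 8029337753849856) (.leaf 7261450117659648)) (.leaf 4443486096553472)) (.node (.node (.leaf 3881586155066880)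 (.leaf 4231573602964992)) (.leaf 3237994693228032))) (.node (.node (.node (.leaf 4943644449892864) (.leaf 3466350723915776)) (.leaf 6696587171463680)) (.node (.leaf 8563765821641216) (.leaf 8726436911260160))))) (.node (.node (.node (.node (.node (.leaf 5188215306775040) (.leaf 7819142212712960)) (.leaf 6167539099449344)) (.node (.node (.leaf 5428633089958912) (.leaf 1344739102814720)) (.leaf 1670806089840640))) (.node (.node (.node (.leaf 5981413464131584) (.leaf 3103051871547904)) (.leaf 2675043275476480)) (.node (.node (.leaf 2895858755700224) (.leaf 3553845071584768)) (.leaf 2092388945057792)))) (.node (.node (.node (.node (.leaf 2858143987345920) (.leaf 2089074146530304)) (.leaf 2691123978739712)) (.node (.node (.leaf 5296021236420608) (.leaf 2081396379617792)) (.leaf 4082513533039616))) (.node (.node (.node (.leaf 7881526453045248) (.leaf 2898896835636736)) (.leaf 1424763525924352)) (.node (.leaf 9333239241376768) (.leaf 6239212216522752))))))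

def threeElt7 : Janko.Tree (ℕ) :=
  (.node (.node (.node (.node (.node (.node (.leaf 7819397217779200) (.leaf 7261953820030464)) (.leaf 6632685680257536)) (.node (.node (.leaf 1801237895621632) (.leaf 2160986906037248)) (.leaf 9303602929340416))) (.node (.node (.node (.leaf 4441300463047168) (.leaf 1170526133819392)) (.leaf 2898827973355520)) (.node (.node (.leaf 8562821813057536) (.leaf 3359934851171328)) (.leaf 8937661745911808)))) (.node (.node (.node (.node (.leaf 6242367135549440) (.leaf 2938050790819328)) (.leaf 9579530963440128)) (.node (.node (.leaf 3104419700561920) (.leaf 7494836241049600)) (.leaf 3458823116825088))) (.node (.node (.node (.leaf 8668854947205632) (.leaf 897022348057600)) (.leaf 1700142989251072)) (.node (.leaf 1659575966133248) (.leaf 7495047987918848))))) (.node (.node (.node (.node (.node (.leaf 7896375640850432) (.leaf 9198202917803008)) (.leaf 1346782708425216)) (.node (.node (.leaf 1021790611942400) (.leaf 5540747944525824)) (.leaf 9587776225058816))) (.node (.node (.node (.leaf 2365906380150784)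 (.leaf 4926116658020352)) (.leaf 9184310290919936)) (.node (.node (.leaf 4579499409806848) (.leaf 1214001148655104)) (.leaf 2542154777685504)))) (.node (.node (.node (.node (.leaf 3111310698296832) (.leaf 3877719335090688)) (.leaf 992885719749632)) (.node (.node (.leaf 3103922848075776) (.leaf 2551556253743104)) (.leaf 8733083093174784))) (.node (.node (.node (.leaf 2375177057413632) (.leaf 2676983238809088)) (.leaf 825760234401280)) (.node (.leaf 8141404885855232) (.leaf 1132704655323648))))))

def threeElt8 : Janko.Tree (ℕ) :=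
  (.node (.node (.node (.node (.node (.node (.leaf 1691805258637824) (.leaf 6802020917095424)) (.leaf 5183951180474880)) (.node (.node (.leaf 5189923633983488) (.leaf 2446373825546752)) (.leaf 5188685060428800))) (.node (.node (.node (.leaf 2058309129592832) (.leaf 3073920068077056)) (.leaf 8039595115929600)) (.node (.node (.leaf 1660951382761472) (.leaf 822999640050688)) (.leaf 895829977994752)))) (.node (.node (.node (.node (.leaf 8552842113110528) (.leaf 3243865609965056)) (.leaf 4869422846317568)) (.node (.node (.leaf 4940887477580288) (.leaf 9429918547537920)) (.leaf 5081770864761856))) (.node (.node (.node (.leaf 5890983117981184) (.leaf 9577936851834368)) (.leaf 3884254375996416)) (.node (.leaf 1701494921436672) (.leaf 1423607190608896))))) (.node (.node (.node (.node (.node (.leaf 859978089388032) (.leaf 2861918062925312)) (.leaf 6808609297930752)) (.node (.node (.leaf 2058233576008704) (.leaf 6630217691044352)) (.leaf 2790219636914688))) (.node (.node (.node (.leaf 9437137055307776) (.leaf 8417600543447040)) (.leaf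 5293212250013696)) (.node (.node (.leaf 3349765313909760) (.leaf 1002989507095552)) (.leaf 2933520043456000)))) (.node (.node (.node (.node (.leaf 997149294548480) (.leaf 7255761022881792)) (.leaf 3096738003268096)) (.node (.node (.leaf 6167946036642816) (.leaf 6448980955628544)) (.leaf 1777524352568320))) (.node (.node (.node (.leaf 6791753536198144) (.leaf 8737970633582592)) (.leaf 5361705671991808)) (.node (.leaf 3351932783369216) (.leaf 8738580790249472))))))

def threeElt9 : Janko.Tree (ℕ) :=
  (.node (.node (.node (.node (.node (.node (.leaf 9189960091757056) (.leaf 3114058828010496)) (.leaf 5421363334338560)) (.node (.node (.leaf 7881385419338240) (.leaf 5080249494406656)) (.leaf 5982453514964992))) (.node (.node (.node (.leaf 7356574113822208) (.leaf 2053475963894272)) (.leaf 7360820339390976)) (.node (.node (.leaf 8035879963195904) (.leaf 826653879948288)) (.leaf 2048010228939776)))) (.node (.node (.node (.node (.leaf 1026271724518400) (.leaf 851255027405312)) (.leaf 1174862441600000)) (.node (.node (.leaf 8410185657832960)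 (.leaf 1454131428844032)) (.leaf 8726303171808256))) (.node (.node (.node (.leaf 8663426190118400) (.leaf 9429769728304640)) (.leaf 2533988306790400)) (.node (.leaf 8140594627219456) (.leaf 8279014838375936))))) (.node (.node (.node (.node (.node (.leaf 2008546196142080) (.leaf 5997437721620992)) (.leaf 9183356967201280)) (.node (.node (.leaf 3064413409844224) (.leaf 3565473562203648)) (.leaf 8937132129331712))) (.node (.node (.node (.leaf 1001951188017664) (.leaf 8874194114765312)) (.leaf 1126382298486784)) (.node (.leaf 3429390243706368) (.leaf 3466716822461440)))) (.node (.node (.node (.node (.leaf 1142006059727360) (.leaf 4448178863396352)) (.leaf 6630764881692672)) (.node (.node (.leaf 2364175416346624) (.leaf 3071900939053056)) (.leaf 6702773784082432))) (.node (.node (.node (.leaf 9437968680712704) (.leaf 1774423898637824)) (.leaf 7366552228601344)) (.node (.leaf 8130568283317248) (.leaf 6692272617824768))))))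

def threeElt10 : Janko.Tree (ℕ) :=
  (.node (.node (.node (.node (.node (.node (.leaf 5982538201573888) (.leaf 4934016484577280)) (.leaf 8410240421279232)) (.node (.node (.leaf 8283240573531648) (.leaf 1212512825631232)) (.leaf 1100063552380416))) (.node (.node (.node (.leaf 3423631641807872) (.leaf 2793067227746304)) (.leaf 3239988073357824)) (.node (.node (.leaf 6237060003799040) (.leaf 2156098339332608)) (.leaf 3075773365573632)))) (.node (.node (.node (.node (.leaf 8666658324422144) (.leaf 8866551717236736)) (.leaf 5425712369766400)) (.node (.node (.leaf 8876239131301888) (.leaf 2936810736777216)) (.leaf 1667618234825216))) (.node (.node (.node (.leaf 3247217984198144) (.leaf 5989539271169536)) (.leaf 7754060313269248)) (.node (.leaf 5601614501602304) (.leaf 4863514947450368))))) (.node (.node (.node (.node (.node (.leaf 5715492724070400) (.leaf 7255265912619520)) (.leaf 8937175192567296)) (.node (.node (.leaf 2042139038016512) (.leaf 986362350473216)) (.leaf 1134443686629888))) (.node (.node (.node (.leaf 1135684926708224)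 (.leaf 3239947550167040)) (.leaf 9289980479617024)) (.node (.leaf 2159124493485056) (.leaf 2933991496278016)))) (.node (.node (.node (.node (.leaf 7371058885004800) (.leaf 7262906113614336)) (.leaf 3555019911153664)) (.node (.node (.leaf 1337309753121280) (.leaf 2159937597561856)) (.leaf 9330731285035008))) (.node (.node (.node (.leaf 1698195911835648) (.leaf 2303227364689408)) (.leaf 2043650199546880)) (.node (.leaf 5607819353111040) (.leaf 4574533859678208))))))

def threeElt11 : Janko.Tree (ℕ) :=
  (.node (.node (.node (.node (.node (.node (.leaf 6630275679124992) (.leaf 8139343189344256)) (.leaf 8882083673991680)) (.node (.node (.leaf 1419632325299200) (.leaf 7505158077503488)) (.leaf 4941903204526592))) (.node (.node (.node (.leaf 1696286617436672) (.leaf 1161661024837632)) (.leaf 4442607246643200)) (.node (.node (.leaf 1023301892743168) (.leaf 5067124751730688)) (.leaf 1101985940007936)))) (.node (.node (.node (.node (.leaf 7741886606211584) (.leaf 9446213938153472)) (.leaf 2788927233418240)) (.node (.node (.leaf 862463430051840)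 (.leaf 2146810700236288)) (.leaf 2300752840892416))) (.node (.node (.node (.leaf 8418829697295872) (.leaf 861016009009664)) (.leaf 9340969926054400)) (.node (.leaf 3873258174000128) (.leaf 9302500155203072))))) (.node (.node (.node (.node (.node (.leaf 1802890121896448) (.leaf 7897867324497408)) (.leaf 5711698776301056)) (.node (.node (.leaf 8023070362140672) (.leaf 6685745157852160)) (.leaf 7889014373053440))) (.node (.node (.node (.leaf 6345180559748096) (.leaf 7826565642915840)) (.leaf 1348847117588480)) (.node (.leaf 1768097707836928) (.leaf 5355413654333440)))) (.node (.node (.node (.node (.leaf 3416280531998720) (.leaf 3346253488066048)) (.leaf 2686796290203136)) (.node (.node (.leaf 9191656463111680) (.leaf 1457772581880320)) (.leaf 6444684772180480))) (.node (.node (.node (.leaf 2551020134188032) (.leaf 4574760411127808)) (.leaf 2692528174389248)) (.node (.leaf 7259748360524800) (.leaf 3354767467877888))))))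

def threeElt12 : Janko.Tree (ℕ) :=
  (.node (.node (.node (.node (.node (.node (.leaf 5525342051638784) (.leaf 6451536994555392)) (.leaf 845816649351168)) (.node (.node (.leaf 2054508897935360) (.leaf 5894438089242112)) (.leaf 8873282358572032))) (.node (.node (.node (.leaf 3878079002935296) (.leaf 1446276020687872)) (.leaf 2611842374256640)) (.node (.node (.leaf 7748363016069120) (.leaf 2083260104243200)) (.leaf 1776981673781248)))) (.node (.node (.node (.node (.leaf 1141448917960704) (.leaf 5982204280777216)) (.leaf 2298555384526848)) (.node (.node (.leaf 8142518093487616) (.leaf 5993321696933376)) (.leaf 6170269611811840))) (.node (.node (.node (.leaf 9299966550464512) (.leaf 1037477020555264)) (.leaf 7256053196853760)) (.node (.leaf 1033816753857024) (.leaf 1656723952220672))))) (.node (.node (.node (.node (.node (.leaf 5172945727658496) (.leaf 5278787044165632)) (.leaf 3553903042196480)) (.node (.node (.leaf 5435505433433600) (.leaf 3883299310670848)) (.leaf 5601755963855872))) (.node (.node (.node (.leaf 8656422183506944)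 (.leaf 7881787647597056)) (.leaf 5535922839937536)) (.node (.leaf 5079761986319872) (.leaf 3457510072448512)))) (.node (.node (.node (.node (.leaf 7361608766461440) (.leaf 6231014577600000)) (.leaf 6457258036268544)) (.node (.node (.leaf 5711310371254272) (.leaf 860045207499776)) (.leaf 4582844784444928))) (.node (.node (.node (.leaf 1700633648391168) (.leaf 890501225783296)) (.leaf 1104220395753472)) (.node (.leaf 5431397301884416) (.leaf 827522522072576))))))

def threeElt13 : Janko.Tree (ℕ) :=
  (.node (.node (.node (.node (.node (.node (.leaf 2046625775686144) (.leaf 3251874771312128)) (.leaf 6791088759121408)) (.node (.node (.leaf 8280113683694080) (.leaf 4098181437150720)) (.leaf 4081687844103680))) (.node (.node (.node (.leaf 8286832046513664) (.leaf 2439976704591360)) (.leaf 9444480504141312)) (.node (.node (.leaf 1663927789093376) (.leaf 8945314687710208)) (.leaf 9302625015123968)))) (.node (.node (.node (.node (.leaf 7829310429258240) (.leaf 8031415447697920)) (.leaf 2440587939733504)) (.node (.node (.leaf 6790885560371200)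 (.leaf 3425141195348992)) (.leaf 2782590040842240))) (.node (.node (.node (.leaf 5539013362510336) (.leaf 4942604775029248)) (.leaf 5436015865575424)) (.node (.leaf 2442934060665856) (.leaf 8739495434591232))))) (.node (.node (.node (.node (.node (.leaf 4925917231327744) (.leaf 1348438688352256)) (.leaf 6456293960455680)) (.node (.node (.leaf 2797157728785408) (.leaf 3254486377196544)) (.leaf 5542318424557568))) (.node (.node (.node (.leaf 2858412421780992) (.leaf 5277747107077632)) (.leaf 8952440577862144)) (.node (.leaf 2094527921788928) (.leaf 2888854363709952)))) (.node (.node (.node (.node (.leaf 1690293544802304) (.leaf 2023101990244864)) (.leaf 7368477366135808)) (.node (.node (.leaf 3554121022304768) (.leaf 4583405012239360)) (.leaf 3355731514624512))) (.node (.node (.node (.leaf 7747464147817984) (.leaf 3355367973447680)) (.leaf 3422731005124608)) (.node (.leaf 7757686363475968) (.leaf 2901613789959168))))))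

def threeElt14 : Janko.Tree (ℕ) :=
  (.node (.node (.node (.node (.node (.node (.leaf 3079342773300736) (.leaf 2864998079101440)) (.leaf 5699966681846272)) (.node (.node (.leaf 4862888143585280) (.leaf 1812769483633152)) (.leaf 6333556359219200))) (.node (.node (.node (.leaf 4434675633306624) (.leaf 2161448268597248)) (.leaf 1802118794938368)) (.node (.node (.leaf 9580824131633152) (.leaf 1125993734041600)) (.leaf 3249607621556224)))) (.node (.node (.node (.node (.leaf 2619269705988608) (.leaf 1806374264424448)) (.leaf 2163996378654720)) (.node (.node (.leaf 2018188368645632) (.leaf 4225857560058880)) (.leaf 2156992311123968))) (.node (.node (.node (.leaf 4093376082608128) (.leaf 5884669511346176)) (.leaf 2438605717969920)) (.node (.leaf 8557877803881472) (.leaf 1762597421572608))))) (.node (.node (.node (.node (.node (.leaf 2865498729610752) (.leaf 4089858110859776)) (.leaf 5295468535109632)) (.node (.node (.leaf 8134475226289152) (.leaf 8729117875357184)) (.leaf 2373462975410176))) (.node (.node (.node (.leaf 3097394339949568)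 (.leaf 2369311224206848)) (.leaf 8409921791204864)) (.node (.leaf 2544168632844800) (.leaf 1206129825478656)))) (.node (.node (.node (.node (.leaf 3887807125360640) (.leaf 3461779757788672)) (.leaf 8878288109171200)) (.node (.node (.leaf 2437551435635712) (.leaf 9301681294650368)) (.leaf 1771453518796800))) (.node (.node (.node (.leaf 2023995707364352) (.leaf 5892294417586176)) (.leaf 1699091232877568)) (.node (.leaf 1001758449336320) (.leaf 1416259715318784))))))

def threeElt15 : Janko.Tree (ℕ) :=
  (.node (.node (.node (.node (.node (.node (.leaf 9331310815729664) (.leaf 8425648893598208)) (.leaf 3560450604685312)) (.node (.node (.leaf 8561072988102144) (.leaf 6806671440226816)) (.leaf 855833761421824))) (.node (.node (.node (.leaf 6174824480972288) (.leaf 2780596620284416)) (.leaf 6807380098641920)) (.node (.node (.leaf 2017291716926976) (.leaf 5541983167264256)) (.leaf 4450357071709184)))) (.node (.node (.node (.node (.leaf 9437870800819200) (.leaf 1177601938689024)) (.leaf 4862334421570560)) (.node (.node (.leaf 3448769101961216)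 (.leaf 2929192411907584)) (.leaf 6446196997516288))) (.node (.node (.node (.leaf 8937958766552576) (.leaf 2297717879071232)) (.leaf 2929733162823168)) (.node (.leaf 5073771067607552) (.leaf 6695756882515968))))) (.node (.node (.node (.node (.node (.leaf 5999698620194304) (.leaf 6615507580234240)) (.leaf 1134113282454016)) (.node (.node (.leaf 5278138348963840) (.leaf 3455299737439232)) (.leaf 7812319365379584))) (.node (.node (.node (.leaf 993685175103488) (.leaf 1355034543827968)) (.leaf 2603876427330560)) (.node (.leaf 2930131823608832) (.leaf 6228208319841280)))) (.node (.node (.node (.node (.leaf 8269360448984576) (.leaf 6174890077197824)) (.leaf 6240855040853504)) (.node (.node (.leaf 8560065043764736) (.leaf 3416606507931136)) (.leaf 7506521633065472))) (.node (.node (.node (.leaf 9337342711567360) (.leaf 4586838953822720)) (.leaf 3074798502283264)) (.node (.leaf 8269665866486784) (.leaf 2902518837414912))))))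

/-- a table -/
def threeElt : Janko.Tree (ℕ) := (.node (.node (.node (.node threeElt0 threeElt8) (.node threeElt4 threeElt12)) (.node (.node threeElt2 threeElt10) (.node threeElt6 threeElt14))) (.node (.node (.node threeElt1 threeElt9) (.node threeElt5 threeElt13)) (.node (.node threeElt3 threeElt11) (.node threeElt7 threeElt15))))

def threeNext0 : Janko.Tree (ℕ) :=
  (.node (.node (.node (.node (.node (.node (.node (.node (.node (.leaf 1) (.leaf 458)) (.leaf 568)) (.node (.leaf 9) (.leaf 636))) (.node (.node (.leaf 257) (.leaf 565)) (.node (.leaf 126) (.leaf 702)))) (.node (.node (.node (.node (.leaf 157) (.leaf 590)) (.leaf 647)) (.node (.leaf 59) (.leaf 281))) (.node (.node (.leaf 90) (.leaf 574)) (.node (.leaf 308) (.leaf 645))))) (.node (.node (.node (.node (.node (.leaf 88) (.leaf 427)) (.leaf 564)) (.node (.leaf 17) (.leaf 110))) (.node (.node (.leaf 77) (.leaf 444)) (.node (.leaf 530) (.leaf 173)))) (.node (.node (.node (.leaf 209) (.leaf 658)) (.node (.leaf 15) (.leaf 549))) (.node (.node (.leaf 204) (.leaf 538))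 (.node (.leaf 378) (.leaf 181)))))) (.node (.node (.node (.node (.node (.node (.leaf 52) (.leaf 727)) (.leaf 59)) (.node (.leaf 410) (.leaf 84))) (.node (.node (.leaf 168) (.leaf 518)) (.node (.leaf 532) (.leaf 287)))) (.node (.node (.node (.leaf 91) (.leaf 581)) (.node (.leaf 473) (.leaf 419))) (.node (.node (.leaf 354) (.leaf 683)) (.node (.leaf 551) (.leaf 194))))) (.node (.node (.node (.node (.node (.leaf 57) (.leaf 695)) (.leaf 211)) (.node (.leaf 297) (.leaf 340))) (.node (.node (.leaf 286) (.leaf 681)) (.node (.leaf 414) (.leaf 615)))) (.node (.node (.node (.leaf 241) (.leaf 337)) (.node (.leaf 497) (.leaf 122))) (.node (.node (.leaf 21) (.leaf 696)) (.node (.leaf 33) (.leaf 703))))))) (.node (.node (.node (.node (.node (.node (.node (.leaf 22) (.leaf 219)) (.leaf 125)) (.node (.leaf 426) (.leaf 659))) (.node (.node (.leaf 271) (.leaf 619)) (.node (.leaf 521) (.leaf 454)))) (.node (.node (.node (.leaf 34) (.leaf 514)) (.node (.leaf 471) (.leaf 610))) (.node (.node (.leaf 335) (.leaf 584)) (.node (.leaf 482) (.leaf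 667))))) (.node (.node (.node (.node (.node (.leaf 109) (.leaf 314)) (.leaf 633)) (.node (.leaf 39) (.leaf 226))) (.node (.node (.leaf 186) (.leaf 381)) (.node (.leaf 21) (.leaf 515)))) (.node (.node (.node (.leaf 2) (.leaf 665)) (.node (.leaf 508) (.leaf 580))) (.node (.node (.leaf 176) (.leaf 154)) (.node (.leaf 365) (.leaf 274)))))) (.node (.node (.node (.node (.node (.node (.leaf 73) (.leaf 352)) (.leaf 623)) (.node (.leaf 24) (.leaf 389))) (.node (.node (.leaf 259) (.leaf 569)) (.node (.leaf 45) (.leaf 439)))) (.node (.node (.node (.leaf 192) (.leaf 653)) (.node (.leaf 488) (.leaf 242))) (.node (.node (.leaf 366) (.leaf 692)) (.node (.leaf 110) (.leaf 306))))) (.node (.node (.node (.node (.node (.leaf 82) (.leaf 540)) (.leaf 166)) (.node (.leaf 253) (.leaf 669))) (.node (.node (.leaf 321) (.leaf 302)) (.node (.leaf 507) (.leaf 675)))) (.node (.node (.node (.leaf 207) (.leaf 560)) (.node (.leaf 246) (.leaf 372))) (.node (.node (.leaf 398) (.leaf 511)) (.node (.leaf 94) (.leaf 626)))))))) (.node (.node (.node (.node (.node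 (.node (.node (.node (.leaf 17) (.leaf 648)) (.leaf 109)) (.node (.leaf 395) (.leaf 218))) (.node (.node (.leaf 163) (.leaf 342)) (.node (.leaf 522) (.leaf 269)))) (.node (.node (.node (.node (.leaf 1) (.leaf 706)) (.leaf 427)) (.node (.leaf 451) (.leaf 585))) (.node (.node (.leaf 337) (.leaf 687)) (.node (.leaf 546) (.leaf 151))))) (.node (.node (.node (.node (.node (.leaf 100) (.leaf 266)) (.leaf 126)) (.node (.leaf 446) (.leaf 521))) (.node (.node (.leaf 279) (.leaf 59)) (.node (.leaf 274) (.leaf 397)))) (.node (.node (.node (.leaf 220) (.leaf 419)) (.node (.leaf 374) (.leaf 640))) (.node (.node (.leaf 70) (.leaf 694)) (.node (.leaf 587) (.leaf 721)))))) (.node (.node (.node (.node (.node (.node (.leaf 60) (.leaf 642)) (.leaf 552)) (.node (.leaf 436) (.leaf 299))) (.node (.node (.leaf 289) (.leaf 583)) (.node (.leaf 29) (.leaf 531)))) (.node (.node (.node (.leaf 136) (.leaf 655)) (.node (.leaf 490) (.leaf 106))) (.node (.node (.leaf 359) (.leaf 506)) (.node (.leaf 51) (.leaf 173))))) (.node (.node (.node (.node (.node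 (.leaf 130) (.leaf 343)) (.leaf 440)) (.node (.leaf 50) (.leaf 476))) (.node (.node (.leaf 188) (.leaf 184)) (.node (.leaf 558) (.leaf 425)))) (.node (.node (.node (.leaf 232) (.leaf 428)) (.node (.leaf 514) (.leaf 453))) (.node (.node (.leaf 399) (.leaf 670)) (.node (.leaf 36) (.leaf 585))))))) (.node (.node (.node (.node (.node (.node (.node (.leaf 38) (.leaf 694)) (.leaf 608)) (.node (.leaf 347) (.leaf 658))) (.node (.node (.leaf 266) (.leaf 107)) (.node (.leaf 393) (.leaf 643)))) (.node (.node (.node (.leaf 177) (.leaf 537)) (.node (.leaf 478) (.leaf 367))) (.node (.node (.leaf 31) (.leaf 584)) (.node (.leaf 317) (.leaf 243))))) (.node (.node (.node (.node (.node (.leaf 96) (.leaf 639)) (.leaf 441)) (.node (.leaf 452) (.leaf 119))) (.node (.node (.leaf 29) (.leaf 615)) (.node (.leaf 538) (.leaf 139)))) (.node (.node (.node (.leaf 60) (.leaf 662)) (.node (.leaf 303) (.leaf 153))) (.node (.node (.leaf 379) (.leaf 215)) (.node (.leaf 489) (.leaf 305)))))) (.node (.node (.node (.node (.node (.node (.leaf 80) (.leaf 594))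 (.leaf 492)) (.node (.leaf 86) (.leaf 326))) (.node (.node (.leaf 300) (.leaf 368)) (.node (.leaf 413) (.leaf 696)))) (.node (.node (.node (.leaf 199) (.leaf 663)) (.node (.leaf 155) (.leaf 421))) (.node (.node (.leaf 372) (.leaf 374)) (.node (.leaf 557) (.leaf 719))))) (.node (.node (.node (.node (.node (.leaf 127) (.leaf 395)) (.leaf 589)) (.node (.leaf 467) (.leaf 157))) (.node (.node (.leaf 236) (.leaf 449)) (.node (.leaf 25) (.leaf 688)))) (.node (.node (.node (.leaf 254) (.leaf 672)) (.node (.leaf 198) (.leaf 612))) (.node (.node (.leaf 396) (.leaf 697)) (.node (.leaf 611) (.leaf 726)))))))))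

def threeNext1 : Janko.Tree (ℕ) :=
  (.node (.node (.node (.node (.node (.node (.node (.node (.node (.leaf 2) (.leaf 504)) (.leaf 428)) (.node (.leaf 416) (.leaf 318))) (.node (.node (.leaf 260) (.leaf 421)) (.node (.leaf 473) (.leaf 435)))) (.node (.node (.node (.node (.leaf 158) (.leaf 571)) (.leaf 107)) (.node (.leaf 470) (.leaf 93))) (.node (.node (.leaf 143) (.leaf 64)) (.node (.leaf 459) (.leaf 410))))) (.node (.node (.node (.node (.node (.leaf 93) (.leaf 708)) (.leaf 385)) (.node (.leaf 440) (.leaf 90))) (.node (.node (.leaf 250) (.leaf 521)) (.node (.leaf 550) (.leaf 617)))) (.node (.node (.node (.leaf 48) (.leaf 82)) (.node (.leaf 501) (.leaf 701))) (.node (.node (.leaf 377) (.leaf 265)) (.node (.leaf 584) (.leaf 264)))))) (.node (.node (.node (.node (.node (.node (.leaf 53) (.leaf 275)) (.leaf 99)) (.node (.leaf 56) (.leaf 403))) (.node (.node (.leaf 285) (.leaf 60)) (.node (.leaf 533) (.leaf 191)))) (.node (.node (.node (.leaf 107) (.leaf 296)) (.node (.leaf 31) (.leaf 676))) (.node (.node (.leaf 15) (.leaf 97))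 (.node (.leaf 224) (.leaf 375))))) (.node (.node (.node (.node (.node (.leaf 81) (.leaf 705)) (.leaf 427)) (.node (.leaf 449) (.leaf 483))) (.node (.node (.leaf 5) (.leaf 510)) (.node (.leaf 353) (.leaf 465)))) (.node (.node (.node (.leaf 222) (.leaf 642)) (.node (.leaf 80) (.leaf 491))) (.node (.node (.leaf 394) (.leaf 500)) (.node (.leaf 597) (.leaf 603))))))) (.node (.node (.node (.node (.node (.node (.node (.leaf 29) (.leaf 728)) (.leaf 341)) (.node (.leaf 427) (.leaf 607))) (.node (.node (.leaf 272) (.leaf 390)) (.node (.leaf 409) (.leaf 577)))) (.node (.node (.node (.leaf 151) (.leaf 386)) (.node (.leaf 211) (.leaf 679))) (.node (.node (.leaf 344) (.leaf 632)) (.node (.leaf 313) (.leaf 725))))) (.node (.node (.node (.node (.node (.leaf 110) (.leaf 710)) (.leaf 254)) (.node (.leaf 448) (.leaf 530))) (.node (.node (.leaf 77) (.leaf 675)) (.node (.leaf 288) (.leaf 724)))) (.node (.node (.node (.leaf 226) (.leaf 409)) (.node (.leaf 110) (.leaf 602))) (.node (.node (.leaf 387) (.leaf 697)) (.node (.leaf 404) (.leaf 665))))))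 (.node (.node (.node (.node (.node (.node (.leaf 74) (.leaf 480)) (.leaf 625)) (.node (.leaf 182) (.leaf 88))) (.node (.node (.leaf 294) (.leaf 457)) (.node (.leaf 122) (.leaf 679)))) (.node (.node (.node (.leaf 124) (.leaf 308)) (.node (.leaf 493) (.leaf 308))) (.node (.node (.leaf 82) (.leaf 67)) (.node (.leaf 313) (.leaf 675))))) (.node (.node (.node (.node (.node (.leaf 100) (.leaf 363)) (.leaf 255)) (.node (.leaf 210) (.leaf 501))) (.node (.node (.leaf 69) (.leaf 600)) (.node (.leaf 563) (.leaf 638)))) (.node (.node (.node (.leaf 224) (.leaf 365)) (.node (.leaf 116) (.leaf 535))) (.node (.node (.leaf 405) (.leaf 578)) (.node (.leaf 581) (.leaf 651)))))))) (.node (.node (.node (.node (.node (.node (.node (.node (.leaf 18) (.leaf 677)) (.leaf 328)) (.node (.leaf 137) (.leaf 507))) (.node (.node (.leaf 265) (.leaf 364)) (.node (.leaf 164) (.leaf 580)))) (.node (.node (.node (.node (.leaf 163) (.leaf 564)) (.leaf 563)) (.node (.leaf 22) (.leaf 138))) (.node (.node (.leaf 254) (.leaf 416)) (.node (.leaf 486) (.leaf 519)))))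 (.node (.node (.node (.node (.node (.leaf 101) (.leaf 709)) (.leaf 174)) (.node (.leaf 39) (.leaf 611))) (.node (.node (.leaf 121) (.leaf 683)) (.node (.leaf 550) (.leaf 345)))) (.node (.node (.node (.leaf 221) (.leaf 508)) (.node (.leaf 504) (.leaf 508))) (.node (.node (.leaf 381) (.leaf 622)) (.node (.leaf 144) (.leaf 544)))))) (.node (.node (.node (.node (.node (.node (.leaf 61) (.leaf 727)) (.leaf 71)) (.node (.leaf 373) (.leaf 524))) (.node (.node (.leaf 290) (.leaf 161)) (.node (.leaf 539) (.leaf 668)))) (.node (.node (.node (.leaf 158) (.leaf 605)) (.node (.leaf 326) (.leaf 439))) (.node (.node (.leaf 362) (.leaf 469)) (.node (.leaf 305) (.leaf 159))))) (.node (.node (.node (.node (.node (.leaf 82) (.leaf 393)) (.leaf 56)) (.node (.leaf 303) (.leaf 495))) (.node (.node (.leaf 251) (.leaf 308)) (.node (.leaf 22) (.leaf 269)))) (.node (.node (.node (.leaf 244) (.leaf 340)) (.node (.leaf 28) (.leaf 670))) (.node (.node (.leaf 159) (.leaf 520)) (.node (.leaf 600) (.leaf 669))))))) (.node (.node (.node (.node (.node (.node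 (.node (.leaf 39) (.leaf 704)) (.leaf 618)) (.node (.leaf 173) (.leaf 570))) (.node (.node (.leaf 3) (.leaf 433)) (.node (.leaf 463) (.leaf 723)))) (.node (.node (.node (.leaf 156) (.leaf 388)) (.node (.leaf 304) (.leaf 423))) (.node (.node (.leaf 331) (.leaf 551)) (.node (.leaf 305) (.leaf 718))))) (.node (.node (.node (.node (.node (.leaf 117) (.leaf 710)) (.leaf 367)) (.node (.leaf 446) (.leaf 708))) (.node (.node (.leaf 4) (.leaf 400)) (.node (.leaf 278) (.leaf 725)))) (.node (.node (.node (.leaf 217) (.leaf 47)) (.node (.leaf 238) (.leaf 541))) (.node (.node (.leaf 177) (.leaf 494)) (.node (.leaf 595) (.leaf 696)))))) (.node (.node (.node (.node (.node (.node (.leaf 81) (.leaf 357)) (.leaf 623)) (.node (.leaf 115) (.leaf 611))) (.node (.node (.leaf 4) (.leaf 502)) (.node (.leaf 260) (.leaf 716)))) (.node (.node (.node (.leaf 203) (.leaf 401)) (.node (.leaf 479) (.leaf 325))) (.node (.node (.leaf 373) (.leaf 540)) (.node (.leaf 81) (.leaf 653))))) (.node (.node (.node (.node (.node (.leaf 145) (.leaf 721)) (.leaf 644))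 (.node (.leaf 59) (.leaf 698))) (.node (.node (.leaf 328) (.leaf 195)) (.node (.leaf 423) (.leaf 322)))) (.node (.node (.node (.leaf 44) (.leaf 185)) (.node (.leaf 201) (.leaf 670))) (.node (.node (.leaf 407) (.leaf 223)) (.node (.leaf 490) (.leaf 298)))))))))

def threeNext2 : Janko.Tree (ℕ) :=
  (.node (.node (.node (.node (.node (.node (.node (.node (.node (.leaf 3) (.leaf 716)) (.leaf 329)) (.node (.leaf 130) (.leaf 698))) (.node (.node (.leaf 169) (.leaf 637)) (.node (.leaf 62) (.leaf 127)))) (.node (.node (.node (.node (.leaf 143) (.leaf 358)) (.leaf 506)) (.node (.leaf 473) (.leaf 665))) (.node (.node (.leaf 7) (.leaf 578)) (.node (.leaf 568) (.leaf 510))))) (.node (.node (.node (.node (.node (.leaf 94) (.leaf 304)) (.leaf 353)) (.node (.leaf 142) (.leaf 539))) (.node (.node (.leaf 173) (.leaf 146)) (.node (.leaf 232) (.leaf 313)))) (.node (.node (.node (.leaf 210) (.leaf 606)) (.node (.leaf 200) (.leaf 428))) (.node (.node (.leaf 259) (.leaf 379)) (.node (.leaf 246) (.leaf 684)))))) (.node (.node (.node (.node (.node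 (.node (.leaf 36) (.leaf 217)) (.leaf 319)) (.node (.leaf 433) (.leaf 560))) (.node (.node (.leaf 269) (.leaf 294)) (.node (.leaf 401) (.leaf 628)))) (.node (.node (.node (.leaf 115) (.leaf 554)) (.node (.leaf 481) (.leaf 385))) (.node (.node (.leaf 68) (.leaf 691)) (.node (.leaf 509) (.leaf 528))))) (.node (.node (.node (.node (.node (.leaf 99) (.leaf 563)) (.leaf 153)) (.node (.leaf 457) (.leaf 298))) (.node (.node (.leaf 314) (.leaf 567)) (.node (.leaf 541) (.leaf 645)))) (.node (.node (.node (.leaf 242) (.leaf 527)) (.node (.leaf 306) (.leaf 475))) (.node (.node (.leaf 392) (.leaf 72)) (.node (.leaf 227) (.leaf 645))))))) (.node (.node (.node (.node (.node (.node (.node (.leaf 30) (.leaf 588)) (.leaf 111)) (.node (.leaf 406) (.leaf 82))) (.node (.node (.leaf 160) (.leaf 664)) (.node (.leaf 415) (.leaf 279)))) (.node (.node (.node (.leaf 87) (.leaf 146)) (.node (.leaf 483) (.leaf 573))) (.node (.node (.leaf 345) (.leaf 446)) (.node (.leaf 548) (.leaf 624))))) (.node (.node (.node (.node (.node (.leaf 54) (.leaf 533)) (.leaf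 465)) (.node (.leaf 451) (.leaf 660))) (.node (.node (.leaf 282) (.leaf 423)) (.node (.leaf 169) (.leaf 679)))) (.node (.node (.node (.leaf 227) (.leaf 608)) (.node (.leaf 493) (.leaf 236))) (.node (.node (.leaf 141) (.leaf 593)) (.node (.leaf 591) (.leaf 495)))))) (.node (.node (.node (.node (.node (.node (.leaf 70) (.leaf 681)) (.leaf 626)) (.node (.leaf 345) (.leaf 104))) (.node (.node (.leaf 184) (.leaf 79)) (.node (.leaf 32) (.leaf 589)))) (.node (.node (.node (.leaf 193) (.leaf 51)) (.node (.leaf 494) (.leaf 104))) (.node (.node (.leaf 209) (.leaf 243)) (.node (.leaf 580) (.leaf 565))))) (.node (.node (.node (.node (.node (.leaf 136) (.leaf 348)) (.leaf 597)) (.node (.leaf 43) (.leaf 230))) (.node (.node (.leaf 217) (.leaf 444)) (.node (.leaf 373) (.leaf 727)))) (.node (.node (.node (.leaf 235) (.leaf 429)) (.node (.leaf 462) (.leaf 222))) (.node (.node (.leaf 396) (.leaf 420)) (.node (.leaf 600) (.leaf 190)))))))) (.node (.node (.node (.node (.node (.node (.node (.node (.leaf 19) (.leaf 634)) (.leaf 604)) (.node (.leaf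 344) (.leaf 469))) (.node (.node (.leaf 4) (.leaf 382)) (.node (.leaf 172) (.leaf 134)))) (.node (.node (.node (.node (.leaf 164) (.leaf 619)) (.leaf 382)) (.node (.leaf 475) (.leaf 497))) (.node (.node (.leaf 338) (.leaf 686)) (.node (.leaf 219) (.leaf 535))))) (.node (.node (.node (.node (.node (.leaf 85) (.leaf 526)) (.leaf 631)) (.node (.leaf 323) (.leaf 113))) (.node (.node (.leaf 311) (.leaf 623)) (.node (.leaf 533) (.leaf 137)))) (.node (.node (.node (.leaf 212) (.leaf 308)) (.node (.leaf 460) (.leaf 702))) (.node (.node (.leaf 329) (.leaf 546)) (.node (.leaf 215) (.leaf 680)))))) (.node (.node (.node (.node (.node (.node (.leaf 62) (.leaf 251)) (.leaf 65)) (.node (.leaf 412) (.leaf 255))) (.node (.node (.leaf 48) (.leaf 357)) (.node (.leaf 540) (.leaf 407)))) (.node (.node (.node (.leaf 171) (.leaf 44)) (.node (.leaf 150) (.leaf 436))) (.node (.node (.leaf 174) (.leaf 688)) (.node (.leaf 554) (.leaf 718))))) (.node (.node (.node (.node (.node (.leaf 114) (.leaf 724)) (.leaf 212)) (.node (.leaf 316) (.leaf 466))) (.node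 (.node (.leaf 289) (.leaf 204)) (.node (.leaf 490) (.leaf 221)))) (.node (.node (.node (.leaf 25) (.leaf 669)) (.node (.leaf 498) (.leaf 339))) (.node (.node (.leaf 332) (.leaf 566)) (.node (.leaf 601) (.leaf 705))))))) (.node (.node (.node (.node (.node (.node (.node (.leaf 40) (.leaf 650)) (.leaf 100)) (.node (.leaf 429) (.leaf 102))) (.node (.node (.leaf 279) (.leaf 538)) (.node (.leaf 56) (.leaf 129)))) (.node (.node (.node (.leaf 178) (.leaf 49)) (.node (.leaf 74) (.leaf 685))) (.node (.node (.leaf 254) (.leaf 498)) (.node (.leaf 576) (.leaf 595))))) (.node (.node (.node (.node (.node (.leaf 118) (.leaf 512)) (.leaf 638)) (.node (.leaf 256) (.leaf 268))) (.node (.node (.leaf 133) (.leaf 430)) (.node (.leaf 70) (.leaf 487)))) (.node (.node (.node (.leaf 228) (.leaf 666)) (.node (.leaf 511) (.leaf 220))) (.node (.node (.leaf 8) (.leaf 176)) (.node (.leaf 457) (.leaf 489)))))) (.node (.node (.node (.node (.node (.node (.leaf 82) (.leaf 630)) (.leaf 192)) (.node (.leaf 438) (.leaf 545))) (.node (.node (.leaf 275) (.leaf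 678)) (.node (.leaf 513) (.leaf 443)))) (.node (.node (.node (.leaf 103) (.leaf 659)) (.node (.leaf 326) (.leaf 602))) (.node (.node (.leaf 368) (.leaf 74)) (.node (.leaf 245) (.leaf 710))))) (.node (.node (.node (.node (.node (.leaf 63) (.leaf 556)) (.leaf 561)) (.node (.leaf 468) (.leaf 586))) (.node (.node (.leaf 172) (.leaf 324)) (.node (.leaf 292) (.leaf 646)))) (.node (.node (.node (.leaf 33) (.leaf 511)) (.node (.leaf 516) (.leaf 546))) (.node (.node (.leaf 401) (.leaf 515)) (.node (.leaf 275) (.leaf 432)))))))))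

def threeNext3 : Janko.Tree (ℕ) :=
  (.node (.node (.node (.node (.node (.node (.node (.node (.node (.leaf 4) (.leaf 403)) (.leaf 435)) (.node (.leaf 380) (.leaf 248))) (.node (.node (.leaf 46) (.leaf 433)) (.node (.leaf 166) (.leaf 616)))) (.node (.node (.node (.node (.leaf 148) (.leaf 687)) (.leaf 446)) (.node (.leaf 145) (.leaf 276))) (.node (.node (.leaf 332) (.leaf 483)) (.node (.leaf 448) (.leaf 689))))) (.node (.node (.node (.node (.node (.leaf 95) (.leaf 366)) (.leaf 625)) (.node (.leaf 296) (.leaf 707))) (.node (.node (.leaf 307) (.leaf 681)) (.node (.leaf 500) (.leaf 418)))) (.node (.node (.node (.leaf 211) (.leaf 395)) (.node (.leaf 481) (.leaf 631))) (.node (.node (.leaf 378) (.leaf 691)) (.node (.leaf 585) (.leaf 660)))))) (.node (.node (.node (.node (.node (.node (.leaf 42) (.leaf 698)) (.leaf 547)) (.node (.leaf 180) (.leaf 482))) (.node (.node (.leaf 286) (.leaf 154)) (.node (.leaf 530) (.leaf 722)))) (.node (.node (.node (.leaf 24) (.leaf 656)) (.node (.leaf 220) (.leaf 429))) (.node (.node (.leaf 159) (.leaf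 494)) (.node (.leaf 240) (.leaf 165))))) (.node (.node (.node (.node (.node (.leaf 114) (.leaf 532)) (.leaf 425)) (.node (.leaf 458) (.leaf 150))) (.node (.node (.leaf 111) (.leaf 681)) (.node (.leaf 555) (.leaf 701)))) (.node (.node (.node (.leaf 243) (.leaf 414)) (.node (.leaf 105) (.leaf 130))) (.node (.node (.leaf 395) (.leaf 552)) (.node (.leaf 445) (.leaf 713))))))) (.node (.node (.node (.node (.node (.node (.node (.leaf 31) (.leaf 358)) (.leaf 620)) (.node (.leaf 200) (.leaf 397))) (.node (.node (.leaf 273) (.leaf 188)) (.node (.leaf 169) (.leaf 454)))) (.node (.node (.node (.leaf 91) (.leaf 293)) (.node (.leaf 314) (.leaf 126))) (.node (.node (.leaf 183) (.leaf 89)) (.node (.leaf 68) (.leaf 630))))) (.node (.node (.node (.node (.node (.leaf 106) (.leaf 708)) (.leaf 441)) (.node (.leaf 210) (.leaf 585))) (.node (.node (.leaf 314) (.leaf 441)) (.node (.leaf 500) (.leaf 139)))) (.node (.node (.node (.leaf 228) (.leaf 378)) (.node (.leaf 487) (.leaf 568))) (.node (.node (.leaf 374) (.leaf 72)) (.node (.leaf 516) (.leaf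 343)))))) (.node (.node (.node (.node (.node (.node (.leaf 75) (.leaf 553)) (.leaf 627)) (.node (.leaf 199) (.leaf 703))) (.node (.node (.leaf 50) (.leaf 677)) (.node (.leaf 537) (.leaf 323)))) (.node (.node (.node (.leaf 84) (.leaf 45)) (.node (.leaf 479) (.leaf 392))) (.node (.node (.leaf 367) (.leaf 309)) (.node (.leaf 146) (.leaf 702))))) (.node (.node (.node (.node (.node (.leaf 137) (.leaf 724)) (.leaf 636)) (.node (.leaf 73) (.leaf 278))) (.node (.node (.leaf 7) (.leaf 673)) (.node (.leaf 175) (.leaf 517)))) (.node (.node (.node (.leaf 76) (.leaf 564)) (.node (.leaf 486) (.leaf 714))) (.node (.node (.leaf 160) (.leaf 85)) (.node (.leaf 606) (.leaf 713)))))))) (.node (.node (.node (.node (.node (.node (.node (.node (.leaf 15) (.leaf 672)) (.leaf 136)) (.node (.leaf 132) (.leaf 311))) (.node (.node (.leaf 266) (.leaf 576)) (.node (.leaf 507) (.leaf 719)))) (.node (.node (.node (.node (.leaf 87) (.leaf 655)) (.leaf 563)) (.node (.leaf 479) (.leaf 230))) (.node (.node (.leaf 339) (.leaf 300)) (.node (.leaf 243) (.leaf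 152))))) (.node (.node (.node (.node (.node (.leaf 102) (.leaf 669)) (.leaf 452)) (.node (.leaf 401) (.leaf 532))) (.node (.node (.leaf 117) (.leaf 164)) (.node (.leaf 23) (.leaf 135)))) (.node (.node (.node (.leaf 5) (.leaf 519)) (.node (.leaf 202) (.leaf 686))) (.node (.node (.leaf 382) (.leaf 692)) (.node (.leaf 183) (.leaf 416)))))) (.node (.node (.node (.node (.node (.node (.leaf 63) (.leaf 611)) (.leaf 137)) (.node (.leaf 179) (.leaf 412))) (.node (.node (.leaf 138) (.leaf 383)) (.node (.leaf 267) (.leaf 474)))) (.node (.node (.node (.leaf 52) (.leaf 337)) (.node (.leaf 475) (.leaf 577))) (.node (.node (.leaf 363) (.leaf 664)) (.node (.leaf 32) (.leaf 598))))) (.node (.node (.node (.node (.node (.leaf 131) (.leaf 719)) (.leaf 372)) (.node (.leaf 103) (.leaf 94))) (.node (.node (.leaf 118) (.leaf 316)) (.node (.leaf 559) (.leaf 704)))) (.node (.node (.node (.leaf 246) (.leaf 670)) (.node (.leaf 243) (.leaf 502))) (.node (.node (.leaf 205) (.leaf 451)) (.node (.leaf 399) (.leaf 395))))))) (.node (.node (.node (.node (.node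 (.node (.node (.leaf 41) (.leaf 270)) (.leaf 348)) (.node (.leaf 430) (.leaf 84))) (.node (.node (.leaf 280) (.leaf 323)) (.node (.leaf 401) (.leaf 608)))) (.node (.node (.node (.leaf 179) (.leaf 653)) (.node (.leaf 302) (.leaf 180))) (.node (.node (.leaf 133) (.leaf 229)) (.node (.leaf 384) (.leaf 626))))) (.node (.node (.node (.node (.node (.leaf 27) (.leaf 609)) (.leaf 434)) (.node (.leaf 50) (.leaf 540))) (.node (.node (.leaf 315) (.leaf 467)) (.node (.leaf 277) (.leaf 333)))) (.node (.node (.node (.leaf 232) (.leaf 410)) (.node (.leaf 111) (.leaf 705))) (.node (.node (.leaf 391) (.leaf 699)) (.node (.leaf 33) (.leaf 531)))))) (.node (.node (.node (.node (.node (.node (.leaf 83) (.leaf 644)) (.leaf 131)) (.node (.leaf 11) (.leaf 705))) (.node (.node (.leaf 301) (.leaf 623)) (.node (.leaf 21) (.leaf 346)))) (.node (.node (.node (.leaf 204) (.leaf 462)) (.node (.leaf 496) (.leaf 569))) (.node (.node (.leaf 11) (.leaf 694)) (.node (.leaf 75) (.leaf 676))))) (.node (.node (.node (.node (.node (.leaf 149) (.leaf 569)) (.leaf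 361)) (.node (.leaf 169) (.leaf 285))) (.node (.node (.leaf 329) (.leaf 264)) (.node (.leaf 567) (.leaf 634)))) (.node (.node (.node (.leaf 213) (.leaf 639)) (.node (.leaf 58) (.leaf 344))) (.node (.node (.leaf 410) (.leaf 301)) (.node (.leaf 35) (.leaf 527)))))))))

def threeNext4 : Janko.Tree (ℕ) :=
  (.node (.node (.node (.node (.node (.node (.node (.node (.node (.leaf 5) (.leaf 375)) (.leaf 531)) (.node (.leaf 264) (.leaf 225))) (.node (.node (.leaf 254) (.leaf 469)) (.node (.leaf 519) (.leaf 707)))) (.node (.node (.node (.node (.leaf 151) (.leaf 709)) (.leaf 424)) (.node (.leaf 194) (.leaf 708))) (.node (.node (.leaf 333) (.leaf 464)) (.node (.leaf 315) (.leaf 469))))) (.node (.node (.node (.node (.node (.leaf 86) (.leaf 714)) (.leaf 125)) (.node (.leaf 443) (.leaf 662))) (.node (.node (.leaf 274) (.leaf 202)) (.node (.leaf 295) (.leaf 723)))) (.node (.node (.node (.leaf 212) (.leaf 418)) (.node (.leaf 492) (.leaf 362))) (.node (.node (.leaf 331) (.leaf 79)) (.node (.leaf 338) (.leaf 717)))))) (.node (.node (.node (.node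 (.node (.node (.leaf 47) (.leaf 384)) (.leaf 622)) (.node (.leaf 348) (.leaf 459))) (.node (.node (.leaf 287) (.leaf 621)) (.node (.leaf 27) (.leaf 165)))) (.node (.node (.node (.leaf 183) (.leaf 653)) (.node (.leaf 486) (.leaf 646))) (.node (.node (.leaf 355) (.leaf 65)) (.node (.leaf 579) (.leaf 420))))) (.node (.node (.node (.node (.node (.leaf 121) (.leaf 509)) (.leaf 453)) (.node (.leaf 437) (.leaf 408))) (.node (.node (.leaf 187) (.leaf 294)) (.node (.leaf 95) (.leaf 301)))) (.node (.node (.node (.leaf 230) (.leaf 48)) (.node (.leaf 204) (.leaf 627))) (.node (.node (.leaf 336) (.leaf 477)) (.node (.leaf 516) (.leaf 638))))))) (.node (.node (.node (.node (.node (.node (.node (.leaf 12) (.leaf 701)) (.leaf 606)) (.node (.leaf 295) (.leaf 596))) (.node (.node (.leaf 263) (.leaf 51)) (.node (.leaf 517) (.leaf 717)))) (.node (.node (.node (.leaf 171) (.leaf 421)) (.node (.leaf 476) (.leaf 342))) (.node (.node (.leaf 113) (.leaf 67)) (.node (.leaf 485) (.leaf 714))))) (.node (.node (.node (.node (.node (.leaf 94) (.leaf 403))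 (.leaf 635)) (.node (.leaf 72) (.leaf 117))) (.node (.node (.leaf 4) (.leaf 75)) (.node (.leaf 536) (.leaf 629)))) (.node (.node (.node (.leaf 41) (.leaf 503)) (.node (.leaf 301) (.leaf 146))) (.node (.node (.leaf 378) (.leaf 499)) (.node (.leaf 149) (.leaf 672)))))) (.node (.node (.node (.node (.node (.node (.leaf 76) (.leaf 711)) (.leaf 225)) (.node (.leaf 415) (.leaf 582))) (.node (.node (.leaf 132) (.leaf 364)) (.node (.leaf 543) (.leaf 476)))) (.node (.node (.node (.leaf 194) (.leaf 660)) (.node (.leaf 437) (.leaf 417))) (.node (.node (.leaf 368) (.leaf 689)) (.node (.leaf 525) (.leaf 457))))) (.node (.node (.node (.node (.node (.leaf 138) (.leaf 392)) (.leaf 462)) (.node (.leaf 463) (.leaf 179))) (.node (.node (.leaf 322) (.leaf 625)) (.node (.leaf 564) (.leaf 687)))) (.node (.node (.node (.leaf 251) (.leaf 277)) (.node (.leaf 501) (.leaf 528))) (.node (.node (.leaf 131) (.leaf 513)) (.node (.leaf 607) (.leaf 698)))))))) (.node (.node (.node (.node (.node (.node (.node (.node (.leaf 20) (.leaf 590)) (.leaf 618)) (.node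 (.leaf 92) (.leaf 699))) (.node (.node (.leaf 267) (.leaf 675)) (.node (.leaf 247) (.leaf 720)))) (.node (.node (.node (.node (.leaf 165) (.leaf 658)) (.leaf 641)) (.node (.leaf 480) (.leaf 416))) (.node (.node (.leaf 296) (.leaf 64)) (.node (.leaf 470) (.leaf 345))))) (.node (.node (.node (.node (.node (.leaf 54) (.leaf 312)) (.leaf 39)) (.node (.leaf 425) (.leaf 541))) (.node (.node (.leaf 102) (.leaf 147)) (.node (.leaf 286) (.leaf 196)))) (.node (.node (.node (.leaf 216) (.leaf 641)) (.node (.leaf 442) (.leaf 391))) (.node (.node (.leaf 292) (.leaf 297)) (.node (.leaf 370) (.leaf 167)))))) (.node (.node (.node (.node (.node (.node (.leaf 64) (.leaf 228)) (.leaf 190)) (.node (.leaf 41) (.leaf 598))) (.node (.node (.leaf 272) (.leaf 677)) (.node (.leaf 527) (.leaf 250)))) (.node (.node (.node (.leaf 188) (.leaf 268)) (.node (.leaf 17) (.leaf 201))) (.node (.node (.leaf 354) (.leaf 447)) (.node (.leaf 111) (.leaf 536))))) (.node (.node (.node (.node (.node (.leaf 129) (.leaf 539)) (.leaf 639)) (.node (.leaf 443) (.leaf 582)))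 (.node (.node (.leaf 6) (.leaf 591)) (.node (.leaf 404) (.leaf 488)))) (.node (.node (.node (.leaf 247) (.leaf 656)) (.node (.leaf 66) (.leaf 693))) (.node (.node (.leaf 10) (.leaf 510)) (.node (.leaf 93) (.leaf 644))))))) (.node (.node (.node (.node (.node (.node (.node (.leaf 42) (.leaf 223)) (.leaf 120)) (.node (.leaf 408) (.leaf 661))) (.node (.node (.leaf 261) (.leaf 657)) (.node (.leaf 527) (.leaf 286)))) (.node (.node (.node (.leaf 167) (.leaf 600)) (.node (.leaf 484) (.leaf 572))) (.node (.node (.leaf 350) (.leaf 448)) (.node (.leaf 545) (.leaf 673))))) (.node (.node (.node (.node (.node (.leaf 55) (.leaf 319)) (.leaf 482)) (.node (.leaf 431) (.leaf 522))) (.node (.node (.leaf 261) (.leaf 505)) (.node (.leaf 413) (.leaf 324)))) (.node (.node (.node (.leaf 235) (.leaf 605)) (.node (.leaf 495) (.leaf 609))) (.node (.node (.leaf 365) (.leaf 610)) (.node (.leaf 340) (.leaf 493)))))) (.node (.node (.node (.node (.node (.node (.leaf 84) (.leaf 310)) (.leaf 616)) (.node (.leaf 319) (.leaf 108))) (.node (.node (.leaf 302)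 (.leaf 587)) (.node (.leaf 528) (.leaf 140)))) (.node (.node (.node (.leaf 192) (.leaf 55)) (.node (.leaf 92) (.leaf 614))) (.node (.node (.leaf 369) (.leaf 671)) (.node (.leaf 438) (.leaf 350))))) (.node (.node (.node (.node (.node (.leaf 150) (.leaf 728)) (.leaf 557)) (.node (.leaf 466) (.leaf 138))) (.node (.node (.leaf 321) (.leaf 376)) (.node (.leaf 568) (.leaf 690)))) (.node (.node (.node (.leaf 13) (.leaf 371)) (.node (.leaf 22) (.leaf 685))) (.node (.node (.leaf 411) (.leaf 595)) (.node (.leaf 423) (.leaf 400)))))))))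

def threeNext5 : Janko.Tree (ℕ) :=
  (.node (.node (.node (.node (.node (.node (.node (.node (.node (.leaf 6) (.leaf 513)) (.leaf 615)) (.node (.leaf 168) (.leaf 223))) (.node (.node (.leaf 256) (.leaf 148)) (.node (.leaf 150) (.leaf 429)))) (.node (.node (.node (.node (.leaf 155) (.leaf 426)) (.leaf 566)) (.node (.leaf 20) (.leaf 97))) (.node (.node (.leaf 162) (.leaf 168)) (.node (.leaf 570) (.leaf 572))))) (.node (.node (.node (.node (.node (.leaf 71) (.leaf 711)) (.leaf 385)) (.node (.leaf 325) (.leaf 489))) (.node (.node (.leaf 12) (.leaf 466)) (.node (.leaf 551) (.leaf 621)))) (.node (.node (.node (.leaf 213) (.leaf 469)) (.node (.leaf 231) (.leaf 565))) (.node (.node (.leaf 369) (.leaf 530)) (.node (.leaf 226) (.leaf 203)))))) (.node (.node (.node (.node (.node (.node (.leaf 54) (.leaf 533)) (.leaf 65)) (.node (.leaf 155) (.leaf 380))) (.node (.node (.leaf 94) (.leaf 431)) (.node (.leaf 534) (.leaf 607)))) (.node (.node (.node (.leaf 184) (.leaf 44)) (.node (.leaf 487) (.leaf 102))) (.node (.node (.leaf 356) (.leaf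 693)) (.node (.leaf 512) (.leaf 685))))) (.node (.node (.node (.node (.node (.leaf 0) (.leaf 691)) (.leaf 182)) (.node (.leaf 13) (.leaf 523))) (.node (.node (.leaf 16) (.leaf 463)) (.node (.leaf 287) (.leaf 719)))) (.node (.node (.node (.leaf 2) (.leaf 262)) (.node (.leaf 220) (.leaf 453))) (.node (.node (.leaf 129) (.leaf 349)) (.node (.leaf 172) (.leaf 649))))))) (.node (.node (.node (.node (.node (.node (.node (.leaf 18) (.leaf 673)) (.leaf 36)) (.node (.leaf 390) (.leaf 511))) (.node (.node (.leaf 274) (.leaf 434)) (.node (.leaf 519) (.leaf 161)))) (.node (.node (.node (.leaf 19) (.leaf 652)) (.node (.leaf 14) (.leaf 418))) (.node (.node (.leaf 346) (.leaf 592)) (.node (.leaf 515) (.leaf 405))))) (.node (.node (.node (.node (.node (.leaf 111) (.leaf 586)) (.leaf 440)) (.node (.leaf 209) (.leaf 89))) (.node (.node (.leaf 119) (.leaf 672)) (.node (.leaf 279) (.leaf 688)))) (.node (.node (.node (.leaf 229) (.leaf 666)) (.node (.leaf 485) (.leaf 267))) (.node (.node (.leaf 387) (.leaf 557)) (.node (.leaf 592) (.leaf 590))))))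 (.node (.node (.node (.node (.node (.node (.leaf 77) (.leaf 352)) (.leaf 128)) (.node (.leaf 433) (.leaf 609))) (.node (.node (.leaf 295) (.leaf 581)) (.node (.leaf 20) (.leaf 618)))) (.node (.node (.node (.leaf 195) (.leaf 526)) (.node (.leaf 495) (.leaf 645))) (.node (.node (.leaf 190) (.leaf 120)) (.node (.leaf 295) (.leaf 602))))) (.node (.node (.node (.node (.node (.leaf 139) (.leaf 643)) (.leaf 407)) (.node (.leaf 13) (.leaf 493))) (.node (.node (.leaf 323) (.leaf 356)) (.node (.leaf 371) (.leaf 423)))) (.node (.node (.node (.leaf 252) (.leaf 468)) (.node (.leaf 250) (.leaf 584))) (.node (.node (.leaf 300) (.leaf 572)) (.node (.leaf 335) (.leaf 350)))))))) (.node (.node (.node (.node (.node (.node (.node (.node (.leaf 21) (.leaf 527)) (.leaf 343)) (.node (.leaf 420) (.leaf 225))) (.node (.node (.leaf 268) (.leaf 51)) (.node (.leaf 523) (.leaf 599)))) (.node (.node (.node (.node (.leaf 166) (.leaf 726)) (.leaf 43)) (.node (.leaf 481) (.leaf 552))) (.node (.node (.leaf 340) (.leaf 689)) (.node (.leaf 27) (.leaf 728)))))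 (.node (.node (.node (.node (.node (.leaf 10) (.leaf 272)) (.leaf 90)) (.node (.leaf 447) (.leaf 269))) (.node (.node (.leaf 306) (.leaf 237)) (.node (.leaf 554) (.leaf 290)))) (.node (.node (.node (.leaf 222) (.leaf 545)) (.node (.leaf 505) (.leaf 299))) (.node (.node (.leaf 141) (.leaf 284)) (.node (.leaf 588) (.leaf 666)))))) (.node (.node (.node (.node (.node (.node (.leaf 0) (.leaf 586)) (.leaf 613)) (.node (.leaf 177) (.leaf 575))) (.node (.node (.leaf 284) (.leaf 587)) (.node (.leaf 491) (.leaf 669)))) (.node (.node (.node (.leaf 189) (.leaf 174)) (.node (.leaf 338) (.leaf 657))) (.node (.node (.leaf 357) (.leaf 213)) (.node (.leaf 26) (.leaf 422))))) (.node (.node (.node (.node (.node (.leaf 132) (.leaf 385)) (.leaf 446)) (.node (.leaf 450) (.leaf 699))) (.node (.node (.leaf 318) (.leaf 683)) (.node (.leaf 560) (.leaf 582)))) (.node (.node (.node (.leaf 248) (.leaf 597)) (.node (.leaf 241) (.leaf 135))) (.node (.node (.leaf 400) (.leaf 456)) (.node (.leaf 602) (.leaf 587))))))) (.node (.node (.node (.node (.node (.node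 (.node (.leaf 43) (.leaf 671)) (.leaf 597)) (.node (.leaf 431) (.leaf 400))) (.node (.node (.leaf 277) (.leaf 419)) (.node (.leaf 258) (.leaf 442)))) (.node (.node (.node (.leaf 1) (.leaf 332)) (.node (.leaf 112) (.leaf 375))) (.node (.node (.leaf 351) (.leaf 96)) (.node (.leaf 157) (.leaf 645))))) (.node (.node (.node (.node (.node (.leaf 79) (.leaf 691)) (.leaf 39)) (.node (.leaf 42) (.leaf 696))) (.node (.node (.leaf 180) (.leaf 682)) (.node (.leaf 557) (.leaf 381)))) (.node (.node (.node (.leaf 138) (.leaf 149)) (.node (.leaf 512) (.leaf 488))) (.node (.node (.leaf 376) (.leaf 71)) (.node (.leaf 596) (.leaf 173)))))) (.node (.node (.node (.node (.node (.node (.leaf 85) (.leaf 635)) (.leaf 126)) (.node (.leaf 44) (.leaf 586))) (.node (.node (.leaf 248) (.leaf 189)) (.node (.leaf 546) (.leaf 330)))) (.node (.node (.node (.leaf 196) (.leaf 455)) (.node (.leaf 353) (.leaf 684))) (.node (.node (.leaf 374) (.leaf 592)) (.node (.leaf 310) (.leaf 720))))) (.node (.node (.node (.node (.node (.leaf 151) (.leaf 397)) (.leaf 645))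 (.node (.leaf 469) (.leaf 234))) (.node (.node (.leaf 324) (.leaf 202)) (.node (.leaf 404) (.leaf 721)))) (.node (.node (.node (.leaf 255) (.leaf 386)) (.node (.leaf 516) (.leaf 716))) (.node (.node (.leaf 261) (.leaf 661)) (.node (.leaf 612) (.leaf 700)))))))))

def threeNext6 : Janko.Tree (ℕ) :=
  (.node (.node (.node (.node (.node (.node (.node (.node (.node (.leaf 7) (.leaf 197)) (.leaf 602)) (.node (.leaf 416) (.leaf 339))) (.node (.node (.leaf 258) (.leaf 566)) (.node (.leaf 392) (.leaf 132)))) (.node (.node (.node (.node (.leaf 158) (.leaf 618)) (.leaf 496)) (.node (.leaf 14) (.leaf 554))) (.node (.node (.leaf 95) (.leaf 195)) (.node (.leaf 61) (.leaf 328))))) (.node (.node (.node (.node (.node (.leaf 89) (.leaf 430)) (.leaf 388)) (.node (.leaf 352) (.leaf 111))) (.node (.node (.leaf 185) (.leaf 589)) (.node (.leaf 531) (.leaf 178)))) (.node (.node (.node (.leaf 197) (.leaf 303)) (.node (.leaf 501) (.leaf 108))) (.node (.node (.leaf 207) (.leaf 69)) (.node (.leaf 256) (.leaf 185)))))) (.node (.node (.node (.node (.node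 (.node (.leaf 55) (.leaf 240)) (.leaf 199)) (.node (.leaf 411) (.leaf 545))) (.node (.node (.leaf 262) (.leaf 262)) (.node (.leaf 535) (.leaf 293)))) (.node (.node (.node (.leaf 169) (.leaf 604)) (.node (.leaf 145) (.leaf 578))) (.node (.node (.leaf 357) (.leaf 467)) (.node (.leaf 552) (.leaf 370))))) (.node (.node (.node (.node (.node (.leaf 122) (.leaf 711)) (.leaf 484)) (.node (.leaf 459) (.leaf 342))) (.node (.node (.leaf 287) (.leaf 575)) (.node (.leaf 170) (.leaf 612)))) (.node (.node (.node (.leaf 105) (.leaf 494)) (.node (.leaf 353) (.leaf 713))) (.node (.node (.leaf 98) (.leaf 441)) (.node (.leaf 597) (.leaf 304))))))) (.node (.node (.node (.node (.node (.node (.node (.leaf 23) (.leaf 626)) (.leaf 619)) (.node (.leaf 422) (.leaf 203))) (.node (.node (.leaf 261) (.leaf 617)) (.node (.leaf 522) (.leaf 721)))) (.node (.node (.node (.leaf 28) (.leaf 544)) (.node (.leaf 240) (.leaf 248))) (.node (.node (.leaf 336) (.leaf 691)) (.node (.leaf 570) (.leaf 701))))) (.node (.node (.node (.node (.node (.leaf 112) (.leaf 318))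 (.leaf 627)) (.node (.leaf 127) (.leaf 709))) (.node (.node (.leaf 52) (.leaf 382)) (.node (.leaf 288) (.leaf 222)))) (.node (.node (.node (.leaf 226) (.leaf 46)) (.node (.leaf 507) (.leaf 302))) (.node (.node (.leaf 50) (.leaf 390)) (.node (.leaf 77) (.leaf 679)))))) (.node (.node (.node (.node (.node (.node (.leaf 62) (.leaf 551)) (.leaf 123)) (.node (.leaf 53) (.leaf 544))) (.node (.node (.leaf 260) (.leaf 58)) (.node (.leaf 291) (.leaf 634)))) (.node (.node (.node (.leaf 196) (.leaf 599)) (.node (.leaf 489) (.leaf 464))) (.node (.node (.leaf 358) (.leaf 693)) (.node (.leaf 199) (.leaf 250))))) (.node (.node (.node (.node (.node (.leaf 140) (.leaf 553)) (.leaf 40)) (.node (.leaf 14) (.leaf 674))) (.node (.node (.leaf 324) (.leaf 67)) (.node (.leaf 523) (.leaf 144)))) (.node (.node (.node (.leaf 208) (.leaf 435)) (.node (.leaf 18) (.leaf 518))) (.node (.node (.leaf 205) (.leaf 211)) (.node (.leaf 558) (.leaf 635)))))))) (.node (.node (.node (.node (.node (.node (.node (.node (.leaf 22) (.leaf 639)) (.leaf 118)) (.node (.leaf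 291) (.leaf 309))) (.node (.node (.leaf 264) (.leaf 508)) (.node (.leaf 412) (.leaf 542)))) (.node (.node (.node (.leaf 163) (.leaf 390)) (.node (.leaf 210) (.leaf 710))) (.node (.node (.leaf 341) (.leaf 357)) (.node (.leaf 547) (.leaf 332))))) (.node (.node (.node (.node (.node (.leaf 103) (.leaf 534)) (.leaf 68)) (.node (.leaf 237) (.leaf 257))) (.node (.node (.leaf 280) (.leaf 683)) (.node (.leaf 410) (.leaf 583)))) (.node (.node (.node (.leaf 223) (.leaf 603)) (.node (.leaf 387) (.leaf 208))) (.node (.node (.leaf 383) (.leaf 671)) (.node (.leaf 502) (.leaf 722)))))) (.node (.node (.node (.node (.node (.node (.leaf 65) (.leaf 458)) (.leaf 623)) (.node (.leaf 344) (.leaf 107))) (.node (.node (.leaf 290) (.leaf 592)) (.node (.leaf 30) (.leaf 320)))) (.node (.node (.node (.leaf 137) (.leaf 100)) (.node (.leaf 491) (.leaf 249))) (.node (.node (.leaf 360) (.leaf 508)) (.node (.leaf 432) (.leaf 183))))) (.node (.node (.node (.node (.node (.leaf 133) (.leaf 344)) (.leaf 620)) (.node (.leaf 431) (.leaf 479))) (.node (.node (.leaf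 189) (.leaf 157)) (.node (.leaf 435) (.leaf 147)))) (.node (.node (.node (.leaf 233) (.leaf 328)) (.node (.leaf 298) (.leaf 713))) (.node (.node (.leaf 401) (.leaf 667)) (.node (.leaf 598) (.leaf 685))))))) (.node (.node (.node (.node (.node (.node (.node (.leaf 44) (.leaf 214)) (.leaf 517)) (.node (.leaf 387) (.leaf 654))) (.node (.node (.leaf 267) (.leaf 359)) (.node (.leaf 259) (.leaf 719)))) (.node (.node (.node (.leaf 180) (.leaf 89)) (.node (.leaf 479) (.leaf 652))) (.node (.node (.leaf 32) (.leaf 632)) (.node (.leaf 437) (.leaf 695))))) (.node (.node (.node (.node (.node (.leaf 97) (.leaf 691)) (.leaf 384)) (.node (.leaf 77) (.leaf 120))) (.node (.node (.leaf 187) (.leaf 317)) (.node (.leaf 539) (.leaf 725)))) (.node (.node (.node (.leaf 236) (.leaf 663)) (.node (.leaf 304) (.leaf 377))) (.node (.node (.leaf 380) (.leaf 278)) (.node (.leaf 320) (.leaf 675)))))) (.node (.node (.node (.node (.node (.node (.leaf 86) (.leaf 676)) (.leaf 74)) (.node (.leaf 139) (.leaf 593))) (.node (.node (.leaf 303) (.leaf 473)) (.node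 (.leaf 547) (.leaf 314)))) (.node (.node (.node (.leaf 200) (.leaf 45)) (.node (.leaf 156) (.leaf 427))) (.node (.node (.leaf 375) (.leaf 641)) (.node (.leaf 558) (.leaf 162))))) (.node (.node (.node (.node (.node (.leaf 152) (.leaf 405)) (.leaf 596)) (.node (.leaf 239) (.leaf 664))) (.node (.node (.leaf 325) (.leaf 686)) (.node (.leaf 417) (.leaf 624)))) (.node (.node (.node (.leaf 256) (.leaf 439)) (.node (.leaf 399) (.leaf 614))) (.node (.node (.leaf 335) (.leaf 386)) (.node (.leaf 613) (.leaf 588)))))))))

def threeNext7 : Janko.Tree (ℕ) :=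
  (.node (.node (.node (.node (.node (.node (.node (.node (.node (.leaf 8) (.leaf 686)) (.leaf 616)) (.node (.leaf 86) (.leaf 257))) (.node (.node (.leaf 261) (.leaf 652)) (.node (.leaf 247) (.leaf 128)))) (.node (.node (.node (.node (.leaf 60) (.leaf 601)) (.leaf 648)) (.node (.leaf 474) (.leaf 553))) (.node (.node (.leaf 296) (.leaf 483)) (.node (.leaf 461) (.leaf 572))))) (.node (.node (.node (.node (.node (.leaf 96) (.leaf 266)) (.leaf 152)) (.node (.leaf 37) (.leaf 271))) (.node (.node (.leaf 102) (.leaf 663)) (.node (.leaf 552) (.leaf 618)))) (.node (.node (.node (.leaf 3) (.leaf 256)) (.node (.leaf 354) (.leaf 646))) (.node (.node (.leaf 273) (.leaf 696)) (.node (.leaf 583) (.leaf 164)))))) (.node (.node (.node (.node (.node (.node (.leaf 56) (.leaf 583)) (.leaf 477)) (.node (.leaf 434) (.leaf 406))) (.node (.node (.leaf 234) (.leaf 182)) (.node (.leaf 536) (.leaf 268)))) (.node (.node (.node (.leaf 185) (.leaf 334)) (.node (.leaf 32) (.leaf 147))) (.node (.node (.leaf 358) (.leaf 98)) (.node (.leaf 116) (.leaf 562)))))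 (.node (.node (.node (.node (.node (.leaf 123) (.leaf 703)) (.leaf 566)) (.node (.leaf 242) (.leaf 506))) (.node (.node (.leaf 311) (.leaf 303)) (.node (.leaf 501) (.leaf 687)))) (.node (.node (.node (.leaf 244) (.leaf 49)) (.node (.leaf 317) (.leaf 368))) (.node (.node (.leaf 192) (.leaf 615)) (.node (.leaf 360) (.leaf 726))))))) (.node (.node (.node (.node (.node (.node (.node (.leaf 28) (.leaf 262)) (.leaf 344)) (.node (.leaf 425) (.leaf 83))) (.node (.node (.leaf 85) (.leaf 176)) (.node (.leaf 411) (.leaf 606)))) (.node (.node (.node (.leaf 172) (.leaf 42)) (.node (.leaf 304) (.leaf 332))) (.node (.node (.leaf 347) (.leaf 633)) (.node (.leaf 485) (.leaf 440))))) (.node (.node (.node (.node (.node (.leaf 113) (.leaf 535)) (.leaf 47)) (.node (.leaf 152) (.leaf 534))) (.node (.node (.leaf 250) (.leaf 253)) (.node (.leaf 96) (.leaf 720)))) (.node (.node (.node (.leaf 230) (.leaf 415)) (.node (.leaf 114) (.leaf 711))) (.node (.node (.leaf 199) (.leaf 476)) (.node (.leaf 593) (.leaf 612)))))) (.node (.node (.node (.node (.node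 (.node (.leaf 67) (.leaf 476)) (.leaf 468)) (.node (.leaf 186) (.leaf 704))) (.node (.node (.leaf 57) (.leaf 591)) (.node (.leaf 514) (.leaf 193)))) (.node (.node (.node (.leaf 197) (.leaf 316)) (.node (.leaf 15) (.leaf 561))) (.node (.node (.leaf 9) (.leaf 104)) (.node (.leaf 184) (.leaf 370))))) (.node (.node (.node (.node (.node (.leaf 141) (.leaf 573)) (.leaf 642)) (.node (.leaf 162) (.leaf 234))) (.node (.node (.leaf 193) (.leaf 399)) (.node (.leaf 158) (.leaf 677)))) (.node (.node (.node (.leaf 225) (.leaf 565)) (.node (.leaf 310) (.leaf 715))) (.node (.node (.leaf 406) (.leaf 300)) (.node (.leaf 591) (.leaf 339)))))))) (.node (.node (.node (.node (.node (.node (.node (.node (.leaf 23) (.leaf 460)) (.leaf 329)) (.node (.leaf 421) (.leaf 219))) (.node (.node (.leaf 227) (.leaf 376)) (.node (.leaf 166) (.leaf 631)))) (.node (.node (.node (.leaf 167) (.leaf 437)) (.node (.leaf 23) (.leaf 282))) (.node (.node (.leaf 291) (.leaf 86)) (.node (.leaf 515) (.leaf 628))))) (.node (.node (.node (.node (.node (.leaf 104) (.leaf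 266)) (.leaf 632)) (.node (.leaf 448) (.leaf 490))) (.node (.node (.leaf 6) (.leaf 467)) (.node (.leaf 230) (.leaf 229)))) (.node (.node (.node (.leaf 224) (.leaf 641)) (.node (.leaf 208) (.leaf 206))) (.node (.node (.leaf 186) (.leaf 697)) (.node (.leaf 444) (.leaf 406)))))) (.node (.node (.node (.node (.node (.node (.leaf 66) (.leaf 279)) (.leaf 123)) (.node (.leaf 437) (.leaf 87))) (.node (.node (.leaf 3) (.leaf 608)) (.node (.leaf 541) (.leaf 538)))) (.node (.node (.node (.leaf 60) (.leaf 658)) (.node (.leaf 492) (.leaf 637))) (.node (.node (.leaf 292) (.leaf 482)) (.node (.leaf 105) (.leaf 717))))) (.node (.node (.node (.node (.node (.leaf 100) (.leaf 399)) (.leaf 640)) (.node (.leaf 461) (.leaf 215))) (.node (.node (.leaf 252) (.leaf 316)) (.node (.leaf 172) (.leaf 271)))) (.node (.node (.node (.leaf 249) (.leaf 342)) (.node (.leaf 515) (.leaf 417))) (.node (.node (.leaf 263) (.leaf 660)) (.node (.leaf 34) (.leaf 647))))))) (.node (.node (.node (.node (.node (.node (.node (.leaf 40) (.leaf 727)) (.leaf 348)) (.node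 (.leaf 307) (.leaf 299))) (.node (.node (.leaf 281) (.leaf 346)) (.node (.leaf 528) (.leaf 130)))) (.node (.node (.node (.leaf 107) (.leaf 142)) (.node (.leaf 485) (.leaf 424))) (.node (.node (.leaf 140) (.leaf 548)) (.node (.leaf 295) (.leaf 606))))) (.node (.node (.node (.node (.node (.leaf 119) (.leaf 337)) (.leaf 427)) (.node (.leaf 453) (.leaf 540))) (.node (.node (.leaf 54) (.leaf 685)) (.node (.leaf 22) (.leaf 465)))) (.node (.node (.node (.leaf 237) (.leaf 664)) (.node (.leaf 509) (.leaf 703))) (.node (.node (.leaf 101) (.leaf 497)) (.node (.leaf 589) (.leaf 324)))))) (.node (.node (.node (.node (.node (.node (.leaf 9) (.leaf 657)) (.leaf 628)) (.node (.leaf 439) (.leaf 674))) (.node (.node (.leaf 304) (.leaf 153)) (.node (.leaf 498) (.leaf 560)))) (.node (.node (.node (.leaf 205) (.leaf 527)) (.node (.leaf 498) (.leaf 210))) (.node (.node (.leaf 376) (.leaf 695)) (.node (.leaf 112) (.leaf 655))))) (.node (.node (.node (.node (.node (.leaf 153) (.leaf 722)) (.leaf 198)) (.node (.leaf 470) (.leaf 499))) (.node (.node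 (.leaf 291) (.leaf 196)) (.node (.leaf 263) (.leaf 190)))) (.node (.node (.node (.leaf 40) (.leaf 52)) (.node (.leaf 335) (.leaf 667))) (.node (.node (.leaf 412) (.leaf 450)) (.node (.leaf 559) (.leaf 700)))))))))

def threeNext8 : Janko.Tree (ℕ) :=
  (.node (.node (.node (.node (.node (.node (.node (.node (.node (.leaf 9) (.leaf 728)) (.leaf 596)) (.node (.leaf 265) (.leaf 293))) (.node (.node (.leaf 262) (.leaf 674)) (.node (.leaf 24) (.leaf 717)))) (.node (.node (.node (.node (.leaf 23) (.leaf 653)) (.leaf 328)) (.node (.leaf 475) (.leaf 666))) (.node (.node (.leaf 332) (.leaf 484)) (.node (.leaf 571) (.leaf 238))))) (.node (.node (.node (.node (.node (.leaf 97) (.leaf 309)) (.leaf 552)) (.node (.leaf 144) (.leaf 708))) (.node (.node (.leaf 308) (.leaf 153)) (.node (.leaf 496) (.leaf 585)))) (.node (.node (.node (.leaf 214) (.leaf 524)) (.node (.leaf 16) (.leaf 576))) (.node (.node (.leaf 379) (.leaf 380)) (.node (.leaf 252) (.leaf 700)))))) (.node (.node (.node (.node (.node (.node (.leaf 37) (.leaf 703)) (.leaf 320))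 (.node (.leaf 10) (.leaf 428))) (.node (.node (.leaf 270) (.leaf 57)) (.node (.leaf 263) (.leaf 248)))) (.node (.node (.node (.leaf 186) (.leaf 96)) (.node (.leaf 352) (.leaf 386))) (.node (.node (.leaf 228) (.leaf 633)) (.node (.leaf 81) (.leaf 634))))) (.node (.node (.node (.node (.node (.leaf 124) (.leaf 480)) (.leaf 175)) (.node (.leaf 191) (.leaf 575))) (.node (.node (.leaf 114) (.leaf 559)) (.node (.leaf 542) (.leaf 688)))) (.node (.node (.node (.leaf 205) (.leaf 562)) (.node (.leaf 78) (.leaf 699))) (.node (.node (.leaf 393) (.leaf 559)) (.node (.leaf 88) (.leaf 614))))))) (.node (.node (.node (.node (.node (.node (.node (.leaf 31) (.leaf 450)) (.leaf 119)) (.node (.leaf 407) (.leaf 523))) (.node (.node (.leaf 50) (.leaf 665)) (.node (.leaf 19) (.leaf 281)))) (.node (.node (.node (.leaf 160) (.leaf 179)) (.node (.leaf 471) (.leaf 339))) (.node (.node (.leaf 348) (.leaf 574)) (.node (.leaf 549) (.leaf 649))))) (.node (.node (.node (.node (.node (.leaf 10) (.leaf 272)) (.leaf 451)) (.node (.leaf 452) (.leaf 663))) (.node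 (.node (.leaf 283) (.leaf 573)) (.node (.leaf 46) (.leaf 327)))) (.node (.node (.node (.leaf 231) (.leaf 346)) (.node (.leaf 494) (.leaf 592))) (.node (.node (.leaf 388) (.leaf 668)) (.node (.leaf 265) (.leaf 406)))))) (.node (.node (.node (.node (.node (.node (.leaf 71) (.leaf 724)) (.leaf 627)) (.node (.leaf 350) (.leaf 105))) (.node (.node (.leaf 181) (.leaf 478)) (.node (.leaf 103) (.leaf 670)))) (.node (.node (.node (.leaf 198) (.leaf 52)) (.node (.leaf 276) (.leaf 630))) (.node (.node (.leaf 197) (.leaf 68)) (.node (.leaf 581) (.leaf 422))))) (.node (.node (.node (.node (.node (.leaf 142) (.leaf 724)) (.leaf 360)) (.node (.leaf 193) (.leaf 557))) (.node (.node (.leaf 18) (.leaf 445)) (.node (.leaf 307) (.leaf 725)))) (.node (.node (.node (.leaf 138) (.leaf 141)) (.node (.leaf 463) (.leaf 244))) (.node (.node (.leaf 407) (.leaf 701)) (.node (.leaf 601) (.leaf 193)))))))) (.node (.node (.node (.node (.node (.node (.node (.node (.leaf 24) (.leaf 210)) (.leaf 605)) (.node (.leaf 422) (.leaf 252))) (.node (.node (.leaf 5)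 (.leaf 563)) (.node (.leaf 395) (.leaf 135)))) (.node (.node (.node (.leaf 168) (.leaf 233)) (.node (.leaf 366) (.leaf 99))) (.node (.node (.leaf 110) (.leaf 196)) (.node (.leaf 222) (.leaf 485))))) (.node (.node (.node (.node (.node (.leaf 92) (.leaf 700)) (.leaf 633)) (.node (.leaf 445) (.leaf 114))) (.node (.node (.leaf 117) (.leaf 235)) (.node (.leaf 534) (.leaf 698)))) (.node (.node (.node (.leaf 213) (.leaf 660)) (.node (.leaf 298) (.leaf 500))) (.node (.node (.leaf 239) (.leaf 478)) (.node (.leaf 481) (.leaf 684)))))) (.node (.node (.node (.node (.node (.node (.leaf 67) (.leaf 715)) (.leaf 66)) (.node (.leaf 413) (.leaf 662))) (.node (.node (.leaf 4) (.leaf 361)) (.node (.leaf 20) (.leaf 697)))) (.node (.node (.node (.leaf 19) (.leaf 654)) (.node (.leaf 151) (.leaf 564))) (.node (.node (.leaf 364) (.leaf 625)) (.node (.leaf 555) (.leaf 628))))) (.node (.node (.node (.node (.node (.leaf 5) (.leaf 726)) (.leaf 242)) (.node (.leaf 13) (.leaf 447))) (.node (.node (.leaf 290) (.leaf 63)) (.node (.leaf 231) (.leaf 224))))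 (.node (.node (.node (.leaf 250) (.leaf 241)) (.node (.leaf 499) (.leaf 123))) (.node (.node (.leaf 399) (.leaf 563)) (.node (.leaf 603) (.leaf 501))))))) (.node (.node (.node (.node (.node (.node (.node (.leaf 45) (.leaf 456)) (.leaf 37)) (.node (.leaf 347) (.leaf 115))) (.node (.node (.leaf 282) (.leaf 285)) (.node (.leaf 25) (.leaf 723)))) (.node (.node (.node (.leaf 134) (.leaf 351)) (.node (.leaf 104) (.leaf 276))) (.node (.node (.leaf 44) (.leaf 229)) (.node (.leaf 577) (.leaf 630))))) (.node (.node (.node (.node (.node (.leaf 0) (.leaf 725)) (.leaf 441)) (.node (.leaf 152) (.leaf 90))) (.node (.node (.leaf 316) (.leaf 385)) (.node (.leaf 556) (.leaf 541)))) (.node (.node (.node (.leaf 155) (.leaf 85)) (.node (.leaf 238) (.leaf 317))) (.node (.node (.leaf 391) (.leaf 315)) (.node (.leaf 201) (.leaf 595)))))) (.node (.node (.node (.node (.node (.node (.leaf 87) (.leaf 253)) (.leaf 502)) (.node (.leaf 440) (.leaf 661))) (.node (.node (.leaf 276) (.leaf 650)) (.node (.leaf 294) (.leaf 721)))) (.node (.node (.node (.leaf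 206) (.leaf 78)) (.node (.leaf 338) (.leaf 504))) (.node (.node (.leaf 190) (.leaf 75)) (.node (.leaf 32) (.leaf 718))))) (.node (.node (.node (.node (.node (.leaf 149) (.leaf 708)) (.leaf 421)) (.node (.leaf 465) (.leaf 706))) (.node (.node (.leaf 330) (.leaf 221)) (.node (.leaf 389) (.leaf 647)))) (.node (.node (.node (.leaf 128) (.leaf 470)) (.node (.leaf 517) (.leaf 593))) (.node (.node (.leaf 402) (.leaf 574)) (.node (.leaf 529) (.leaf 371)))))))))

def threeNext9 : Janko.Tree (ℕ) :=
  (.node (.node (.node (.node (.node (.node (.node (.node (.node (.leaf 10) (.leaf 303)) (.leaf 428)) (.node (.leaf 417) (.leaf 505))) (.node (.node (.leaf 47) (.leaf 594)) (.node (.leaf 520) (.leaf 658)))) (.node (.node (.node (.node (.leaf 58) (.leaf 724)) (.leaf 143)) (.node (.leaf 366) (.leaf 497))) (.node (.node (.leaf 334) (.leaf 218)) (.node (.leaf 46) (.leaf 151))))) (.node (.node (.node (.node (.node (.leaf 98) (.leaf 633)) (.leaf 626)) (.node (.leaf 444) (.leaf 532))) (.node (.node (.leaf 309) (.leaf 682)) (.node (.leaf 550) (.leaf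 612)))) (.node (.node (.node (.leaf 215) (.leaf 544)) (.node (.leaf 383) (.leaf 591))) (.node (.node (.leaf 380) (.leaf 633)) (.node (.leaf 265) (.leaf 661)))))) (.node (.node (.node (.node (.node (.node (.leaf 43) (.leaf 714)) (.leaf 557)) (.node (.leaf 187) (.leaf 578))) (.node (.node (.leaf 288) (.leaf 55)) (.node (.leaf 338) (.leaf 695)))) (.node (.node (.node (.leaf 52) (.leaf 657)) (.node (.leaf 302) (.leaf 430))) (.node (.node (.leaf 355) (.leaf 477)) (.node (.leaf 79) (.leaf 432))))) (.node (.node (.node (.node (.node (.leaf 125) (.leaf 621)) (.leaf 372)) (.node (.leaf 449) (.leaf 379))) (.node (.node (.leaf 112) (.leaf 163)) (.node (.leaf 287) (.leaf 648)))) (.node (.node (.node (.leaf 241) (.leaf 667)) (.node (.leaf 16) (.leaf 619))) (.node (.node (.leaf 396) (.leaf 327)) (.node (.leaf 292) (.leaf 209))))))) (.node (.node (.node (.node (.node (.node (.node (.leaf 32) (.leaf 514)) (.leaf 125)) (.node (.leaf 307) (.leaf 377))) (.node (.node (.leaf 275) (.leaf 55)) (.node (.leaf 170) (.leaf 457)))) (.node (.node (.node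 (.leaf 173) (.leaf 294)) (.node (.leaf 119) (.leaf 630))) (.node (.node (.leaf 133) (.leaf 556)) (.node (.leaf 251) (.leaf 675))))) (.node (.node (.node (.node (.node (.leaf 78) (.leaf 270)) (.leaf 484)) (.node (.leaf 38) (.leaf 226))) (.node (.node (.leaf 109) (.leaf 442)) (.node (.leaf 231) (.leaf 701)))) (.node (.node (.node (.leaf 232) (.leaf 211)) (.node (.leaf 509) (.leaf 474))) (.node (.node (.leaf 389) (.leaf 235)) (.node (.leaf 320) (.leaf 690)))))) (.node (.node (.node (.node (.node (.node (.leaf 78) (.leaf 459)) (.leaf 209)) (.node (.leaf 391) (.leaf 321))) (.node (.node (.leaf 51) (.leaf 134)) (.node (.leaf 544) (.leaf 679)))) (.node (.node (.node (.leaf 194) (.leaf 661)) (.node (.leaf 496) (.leaf 409))) (.node (.node (.leaf 218) (.leaf 512)) (.node (.leaf 195) (.leaf 656))))) (.node (.node (.node (.node (.node (.leaf 143) (.leaf 517)) (.leaf 212)) (.node (.leaf 464) (.leaf 549))) (.node (.node (.leaf 322) (.leaf 361)) (.node (.leaf 176) (.leaf 170)))) (.node (.node (.node (.leaf 246) (.leaf 580)) (.node (.leaf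 487) (.leaf 228))) (.node (.node (.leaf 273) (.leaf 167)) (.node (.leaf 608) (.leaf 716)))))))) (.node (.node (.node (.node (.node (.node (.node (.node (.leaf 25) (.leaf 450)) (.leaf 619)) (.node (.leaf 388) (.leaf 368))) (.node (.node (.leaf 269) (.leaf 384)) (.node (.leaf 524) (.leaf 628)))) (.node (.node (.node (.leaf 91) (.leaf 571)) (.node (.leaf 478) (.leaf 97))) (.node (.node (.leaf 342) (.leaf 239)) (.node (.leaf 66) (.leaf 653))))) (.node (.node (.node (.node (.node (.leaf 105) (.leaf 529)) (.leaf 319)) (.node (.leaf 258) (.leaf 707))) (.node (.node (.leaf 312) (.leaf 465)) (.node (.leaf 98) (.leaf 216)))) (.node (.node (.node (.leaf 6) (.leaf 86)) (.node (.leaf 203) (.leaf 464))) (.node (.node (.leaf 384) (.leaf 275)) (.node (.leaf 36) (.leaf 170)))))) (.node (.node (.node (.node (.node (.node (.leaf 68) (.leaf 480)) (.leaf 599)) (.node (.leaf 11) (.leaf 520))) (.node (.node (.leaf 291) (.leaf 647)) (.node (.leaf 542) (.leaf 347)))) (.node (.node (.node (.leaf 24) (.leaf 392)) (.node (.leaf 366) (.leaf 516))) (.node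 (.node (.leaf 365) (.leaf 411)) (.node (.leaf 30) (.leaf 600))))) (.node (.node (.node (.node (.node (.leaf 126) (.leaf 717)) (.leaf 40)) (.node (.leaf 462) (.leaf 555))) (.node (.node (.leaf 113) (.leaf 579)) (.node (.leaf 561) (.leaf 584)))) (.node (.node (.node (.leaf 76) (.leaf 398)) (.node (.leaf 17) (.leaf 678))) (.node (.node (.leaf 207) (.leaf 683)) (.node (.leaf 405) (.leaf 687))))))) (.node (.node (.node (.node (.node (.node (.node (.leaf 46) (.leaf 554)) (.leaf 621)) (.node (.leaf 387) (.leaf 660))) (.node (.node (.leaf 283) (.leaf 356)) (.node (.leaf 529) (.leaf 604)))) (.node (.node (.node (.leaf 177) (.leaf 654)) (.node (.leaf 220) (.leaf 688))) (.node (.node (.leaf 49) (.leaf 547)) (.node (.leaf 456) (.leaf 635))))) (.node (.node (.node (.node (.node (.leaf 120) (.leaf 562)) (.leaf 187)) (.node (.leaf 454) (.leaf 710))) (.node (.node (.leaf 221) (.leaf 124)) (.node (.leaf 281) (.leaf 141)))) (.node (.node (.node (.leaf 238) (.leaf 411)) (.node (.leaf 509) (.leaf 122))) (.node (.node (.leaf 200) (.leaf 215))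 (.node (.leaf 596) (.leaf 615)))))) (.node (.node (.node (.node (.node (.node (.leaf 69) (.leaf 443)) (.leaf 629)) (.node (.leaf 322) (.leaf 593))) (.node (.node (.leaf 252) (.leaf 147)) (.node (.leaf 548) (.leaf 350)))) (.node (.node (.node (.leaf 207) (.leaf 651)) (.node (.leaf 499) (.leaf 447))) (.node (.node (.leaf 12) (.leaf 69)) (.node (.leaf 30) (.leaf 238))))) (.node (.node (.node (.node (.node (.leaf 154) (.leaf 421)) (.leaf 362)) (.node (.leaf 171) (.leaf 289))) (.node (.node (.leaf 331) (.leaf 654)) (.node (.leaf 510) (.leaf 637)))) (.node (.node (.node (.leaf 13) (.leaf 652)) (.node (.leaf 161) (.leaf 667))) (.node (.node (.leaf 413) (.leaf 505)) (.node (.leaf 614) (.leaf 197)))))))))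

def threeNext10 : Janko.Tree (ℕ) :=
  (.node (.node (.node (.node (.node (.node (.node (.node (.node (.leaf 11) (.leaf 433)) (.leaf 117)) (.node (.leaf 394) (.leaf 466))) (.node (.node (.leaf 159) (.leaf 577)) (.node (.leaf 402) (.leaf 267)))) (.node (.node (.node (.node (.leaf 159) (.leaf 375)) (.leaf 426)) (.node (.leaf 195) (.leaf 709))) (.node (.node (.leaf 335) (.leaf 381)) (.node (.leaf 460) (.leaf 544))))) (.node (.node (.node (.node (.node (.leaf 9) (.leaf 715)) (.leaf 616)) (.node (.leaf 445) (.leaf 503))) (.node (.node (.leaf 278) (.leaf 513)) (.node (.leaf 409) (.leaf 442)))) (.node (.node (.node (.leaf 216) (.leaf 341)) (.node (.leaf 363) (.leaf 442))) (.node (.node (.leaf 140) (.leaf 80)) (.node (.leaf 586) (.leaf 720)))))) (.node (.node (.node (.node (.node (.node (.leaf 48) (.leaf 386)) (.leaf 233)) (.node (.leaf 27) (.leaf 570))) (.node (.node (.leaf 3) (.leaf 632)) (.node (.leaf 28) (.leaf 474)))) (.node (.node (.node (.leaf 135) (.leaf 654)) (.node (.leaf 487) (.leaf 245))) (.node (.node (.leaf 58) (.leaf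 693)) (.node (.leaf 434) (.leaf 483))))) (.node (.node (.node (.node (.node (.leaf 126) (.leaf 677)) (.leaf 635)) (.node (.leaf 41) (.leaf 518))) (.node (.node (.leaf 182) (.leaf 175)) (.node (.leaf 23) (.leaf 234)))) (.node (.node (.node (.leaf 231) (.leaf 444)) (.node (.leaf 404) (.leaf 637))) (.node (.node (.leaf 397) (.leaf 643)) (.node (.leaf 35) (.leaf 644))))))) (.node (.node (.node (.node (.node (.node (.node (.leaf 0) (.leaf 213)) (.leaf 607)) (.node (.leaf 155) (.leaf 330))) (.node (.node (.leaf 265) (.leaf 102)) (.node (.leaf 398) (.leaf 718)))) (.node (.node (.node (.leaf 134) (.leaf 631)) (.node (.leaf 477) (.leaf 356))) (.node (.node (.leaf 30) (.leaf 690)) (.node (.leaf 75) (.leaf 694))))) (.node (.node (.node (.node (.node (.leaf 95) (.leaf 652)) (.leaf 636)) (.node (.leaf 363) (.leaf 118))) (.node (.node (.leaf 119) (.leaf 628)) (.node (.leaf 537) (.leaf 571)))) (.node (.node (.node (.leaf 158) (.leaf 461)) (.node (.leaf 221) (.leaf 376))) (.node (.node (.leaf 273) (.leaf 550)) (.node (.leaf 229) (.leaf 245))))))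 (.node (.node (.node (.node (.node (.node (.leaf 79) (.leaf 434)) (.leaf 226)) (.node (.leaf 416) (.leaf 669))) (.node (.node (.leaf 296) (.leaf 367)) (.node (.leaf 525) (.leaf 692)))) (.node (.node (.node (.leaf 83) (.leaf 503)) (.node (.leaf 101) (.leaf 505))) (.node (.node (.leaf 369) (.leaf 369)) (.node (.leaf 177) (.leaf 191))))) (.node (.node (.node (.node (.node (.leaf 144) (.leaf 334)) (.leaf 463)) (.node (.leaf 465) (.leaf 682))) (.node (.node (.leaf 143) (.leaf 687)) (.node (.leaf 565) (.leaf 683)))) (.node (.node (.node (.leaf 252) (.leaf 671)) (.node (.leaf 354) (.leaf 610))) (.node (.node (.leaf 334) (.leaf 456)) (.node (.leaf 34) (.leaf 548)))))))) (.node (.node (.node (.node (.node (.node (.node (.node (.leaf 21) (.leaf 223)) (.leaf 35)) (.node (.leaf 423) (.leaf 452))) (.node (.node (.leaf 270) (.leaf 676)) (.node (.leaf 520) (.leaf 128)))) (.node (.node (.node (.leaf 161) (.leaf 172)) (.node (.leaf 481) (.leaf 498))) (.node (.node (.leaf 334) (.leaf 689)) (.node (.leaf 573) (.leaf 670))))) (.node (.node (.node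 (.node (.node (.leaf 106) (.leaf 313)) (.leaf 474)) (.node (.leaf 446) (.leaf 269))) (.node (.node (.leaf 180) (.leaf 331)) (.node (.leaf 555) (.leaf 216)))) (.node (.node (.node (.leaf 217) (.leaf 664)) (.node (.leaf 361) (.leaf 346))) (.node (.node (.leaf 293) (.leaf 505)) (.node (.leaf 587) (.leaf 260)))))) (.node (.node (.node (.node (.node (.node (.leaf 43) (.leaf 699)) (.leaf 613)) (.node (.leaf 434) (.leaf 655))) (.node (.node (.leaf 165) (.leaf 651)) (.node (.leaf 258) (.leaf 649)))) (.node (.node (.node (.leaf 189) (.leaf 543)) (.node (.leaf 18) (.leaf 577))) (.node (.node (.leaf 15) (.leaf 237)) (.node (.leaf 312) (.leaf 270))))) (.node (.node (.node (.node (.node (.leaf 130) (.leaf 532)) (.leaf 406)) (.node (.leaf 325) (.leaf 704))) (.node (.node (.leaf 318) (.leaf 516)) (.node (.leaf 131) (.leaf 727)))) (.node (.node (.node (.leaf 206) (.leaf 559)) (.node (.leaf 108) (.leaf 251))) (.node (.node (.leaf 11) (.leaf 447)) (.node (.leaf 283) (.leaf 597))))))) (.node (.node (.node (.node (.node (.node (.node (.leaf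 47) (.leaf 714)) (.leaf 121)) (.node (.leaf 409) (.leaf 455))) (.node (.node (.leaf 85) (.leaf 341)) (.node (.leaf 530) (.leaf 282)))) (.node (.node (.node (.leaf 168) (.leaf 655)) (.node (.leaf 472) (.leaf 418))) (.node (.node (.leaf 351) (.leaf 449)) (.node (.leaf 179) (.leaf 637))))) (.node (.node (.node (.node (.node (.leaf 56) (.leaf 322)) (.leaf 471)) (.node (.leaf 296) (.leaf 164))) (.node (.node (.leaf 285) (.leaf 567)) (.node (.leaf 411) (.leaf 349)))) (.node (.node (.node (.leaf 205) (.leaf 607)) (.node (.leaf 496) (.leaf 668))) (.node (.node (.leaf 20) (.leaf 611)) (.node (.leaf 131) (.leaf 175)))))) (.node (.node (.node (.node (.node (.node (.leaf 0) (.leaf 424)) (.leaf 420)) (.node (.leaf 246) (.leaf 109))) (.node (.node (.leaf 305) (.leaf 679)) (.node (.leaf 529) (.leaf 132)))) (.node (.node (.node (.leaf 124) (.leaf 174)) (.node (.leaf 500) (.leaf 656))) (.node (.node (.leaf 64) (.leaf 529)) (.node (.leaf 148) (.leaf 180))))) (.node (.node (.node (.node (.node (.leaf 101) (.leaf 617)) (.leaf 584)) (.node (.leaf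 467) (.leaf 93))) (.node (.node (.leaf 69) (.leaf 323)) (.node (.leaf 448) (.leaf 677)))) (.node (.node (.node (.leaf 57) (.leaf 374)) (.node (.leaf 359) (.leaf 454))) (.node (.node (.leaf 414) (.leaf 648)) (.node (.leaf 567) (.leaf 682)))))))))

def threeNext11 : Janko.Tree (ℕ) :=
  (.node (.node (.node (.node (.node (.node (.node (.node (.node (.leaf 12) (.leaf 403)) (.leaf 596)) (.node (.leaf 418) (.leaf 460))) (.node (.node (.leaf 208) (.leaf 330)) (.node (.leaf 163) (.leaf 436)))) (.node (.node (.node (.node (.leaf 160) (.leaf 542)) (.leaf 382)) (.node (.leaf 283) (.leaf 558))) (.node (.node (.leaf 165) (.leaf 415)) (.node (.leaf 511) (.leaf 518))))) (.node (.node (.node (.node (.node (.leaf 72) (.leaf 694)) (.leaf 580)) (.node (.leaf 355) (.leaf 326))) (.node (.node (.leaf 310) (.leaf 237)) (.node (.leaf 496) (.leaf 140)))) (.node (.node (.node (.leaf 217) (.leaf 470)) (.node (.leaf 457) (.leaf 656))) (.node (.node (.leaf 64) (.leaf 490)) (.node (.leaf 227) (.leaf 204)))))) (.node (.node (.node (.node (.node (.node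 (.leaf 53) (.leaf 534)) (.leaf 70)) (.node (.leaf 435) (.leaf 642))) (.node (.node (.leaf 289) (.leaf 335)) (.node (.leaf 533) (.leaf 671)))) (.node (.node (.node (.leaf 157) (.leaf 603)) (.node (.leaf 14) (.leaf 634))) (.node (.node (.leaf 359) (.leaf 622)) (.node (.leaf 249) (.leaf 194))))) (.node (.node (.node (.node (.node (.leaf 127) (.leaf 559)) (.leaf 55)) (.node (.leaf 242) (.leaf 524))) (.node (.node (.leaf 246) (.leaf 458)) (.node (.leaf 558) (.leaf 725)))) (.node (.node (.node (.leaf 245) (.leaf 339)) (.node (.leaf 513) (.leaf 123))) (.node (.node (.leaf 130) (.leaf 73)) (.node (.leaf 598) (.leaf 624))))))) (.node (.node (.node (.node (.node (.node (.node (.leaf 33) (.leaf 636)) (.leaf 617)) (.node (.leaf 315) (.leaf 689))) (.node (.node (.leaf 276) (.leaf 432)) (.node (.leaf 103) (.leaf 254)))) (.node (.node (.node (.leaf 35) (.leaf 639)) (.node (.leaf 309) (.leaf 420))) (.node (.node (.leaf 330) (.leaf 65)) (.node (.leaf 108) (.leaf 334))))) (.node (.node (.node (.node (.node (.leaf 110) (.leaf 706)) (.leaf 212))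 (.node (.leaf 372) (.leaf 706))) (.node (.node (.leaf 29) (.leaf 61)) (.node (.leaf 554) (.leaf 381)))) (.node (.node (.node (.leaf 216) (.leaf 408)) (.node (.leaf 104) (.leaf 543))) (.node (.node (.leaf 390) (.leaf 276)) (.node (.leaf 348) (.leaf 492)))))) (.node (.node (.node (.node (.node (.node (.leaf 80) (.leaf 522)) (.leaf 502)) (.node (.leaf 186) (.leaf 610))) (.node (.node (.leaf 297) (.leaf 614)) (.node (.leaf 259) (.leaf 132)))) (.node (.node (.node (.leaf 199) (.leaf 521)) (.node (.leaf 494) (.leaf 636))) (.node (.node (.leaf 64) (.leaf 121)) (.node (.leaf 575) (.leaf 581))))) (.node (.node (.node (.node (.node (.leaf 1) (.leaf 723)) (.leaf 259)) (.node (.leaf 139) (.leaf 93))) (.node (.node (.leaf 236) (.leaf 357)) (.node (.leaf 566) (.leaf 507)))) (.node (.node (.node (.leaf 2) (.leaf 129)) (.node (.leaf 25) (.leaf 585))) (.node (.node (.leaf 408) (.leaf 212)) (.node (.leaf 517) (.leaf 617)))))))) (.node (.node (.node (.node (.node (.node (.node (.node (.leaf 26) (.leaf 659)) (.leaf 349)) (.node (.leaf 10) (.leaf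 394))) (.node (.node (.leaf 271) (.leaf 650)) (.node (.leaf 19) (.leaf 659)))) (.node (.node (.node (.leaf 150) (.leaf 564)) (.node (.leaf 352) (.leaf 100))) (.node (.node (.leaf 7) (.leaf 369)) (.node (.leaf 574) (.leaf 627))))) (.node (.node (.node (.node (.node (.leaf 78) (.leaf 270)) (.leaf 336)) (.node (.leaf 449) (.leaf 88))) (.node (.node (.leaf 75) (.leaf 388)) (.node (.leaf 279) (.leaf 351)))) (.node (.node (.node (.leaf 221) (.leaf 413)) (.node (.leaf 414) (.leaf 429))) (.node (.node (.leaf 374) (.leaf 281)) (.node (.leaf 589) (.leaf 664)))))) (.node (.node (.node (.node (.node (.node (.leaf 65) (.leaf 546)) (.leaf 624)) (.node (.leaf 181) (.leaf 579))) (.node (.node (.leaf 178) (.leaf 383)) (.node (.leaf 492) (.leaf 678)))) (.node (.node (.node (.leaf 1) (.leaf 452)) (.node (.leaf 326) (.leaf 567))) (.node (.node (.leaf 358) (.leaf 578)) (.node (.leaf 311) (.leaf 364))))) (.node (.node (.node (.node (.node (.leaf 134) (.leaf 362)) (.leaf 641)) (.node (.leaf 451) (.leaf 217))) (.node (.node (.leaf 5) (.leaf 467))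 (.node (.leaf 426) (.leaf 583)))) (.node (.node (.node (.leaf 223) (.leaf 648)) (.node (.leaf 245) (.leaf 713))) (.node (.node (.leaf 402) (.leaf 458)) (.node (.leaf 568) (.leaf 422))))))) (.node (.node (.node (.node (.node (.node (.node (.leaf 48) (.leaf 216)) (.leaf 360)) (.node (.leaf 189) (.leaf 402))) (.node (.node (.leaf 233) (.leaf 576)) (.node (.leaf 338) (.leaf 236)))) (.node (.node (.node (.leaf 181) (.leaf 333)) (.node (.leaf 30) (.leaf 452))) (.node (.node (.leaf 7) (.leaf 282)) (.node (.leaf 206) (.leaf 685))))) (.node (.node (.node (.node (.node (.leaf 80) (.leaf 635)) (.leaf 430)) (.node (.leaf 191) (.leaf 321))) (.node (.node (.leaf 108) (.leaf 454)) (.node (.leaf 70) (.leaf 726)))) (.node (.node (.node (.leaf 61) (.leaf 255)) (.node (.leaf 18) (.leaf 489))) (.node (.node (.leaf 38) (.leaf 549)) (.node (.leaf 359) (.leaf 537)))))) (.node (.node (.node (.node (.node (.node (.leaf 88) (.leaf 539)) (.leaf 625)) (.node (.leaf 441) (.leaf 543))) (.node (.node (.leaf 249) (.leaf 680)) (.node (.leaf 354) (.leaf 619))))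 (.node (.node (.node (.leaf 197) (.leaf 573)) (.node (.leaf 231) (.leaf 682))) (.node (.node (.leaf 373) (.leaf 593)) (.node (.leaf 272) (.leaf 258))))) (.node (.node (.node (.node (.node (.leaf 155) (.leaf 659)) (.leaf 607)) (.node (.leaf 471) (.leaf 556))) (.node (.node (.leaf 193) (.leaf 688)) (.node (.leaf 513) (.leaf 188)))) (.node (.node (.node (.leaf 257) (.leaf 146)) (.node (.leaf 471) (.leaf 127))) (.node (.node (.leaf 168) (.leaf 413)) (.node (.leaf 360) (.leaf 574)))))))))

def threeNext12 : Janko.Tree (ℕ) :=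
  (.node (.node (.node (.node (.node (.node (.node (.node (.node (.leaf 13) (.leaf 520)) (.leaf 603)) (.node (.leaf 346) (.leaf 561))) (.node (.node (.leaf 12) (.leaf 620)) (.node (.leaf 333) (.leaf 133)))) (.node (.node (.node (.node (.leaf 161) (.leaf 486)) (.leaf 649)) (.node (.leaf 474) (.leaf 280))) (.node (.node (.leaf 290) (.leaf 202)) (.node (.leaf 470) (.leaf 616))))) (.node (.node (.node (.node (.node (.leaf 90) (.leaf 684)) (.leaf 38)) (.node (.leaf 322) (.leaf 112))) (.node (.node (.leaf 244) (.leaf 678)) (.node (.leaf 532) (.leaf 418)))) (.node (.node (.node (.leaf 218) (.leaf 316)) (.node (.leaf 394) (.leaf 629))) (.node (.node (.leaf 208) (.leaf 696)) (.node (.leaf 214) (.leaf 186)))))) (.node (.node (.node (.node (.node (.node (.leaf 56) (.leaf 243)) (.leaf 42)) (.node (.leaf 396) (.leaf 377))) (.node (.node (.leaf 47) (.leaf 356)) (.node (.leaf 536) (.leaf 523)))) (.node (.node (.node (.leaf 170) (.leaf 608)) (.node (.leaf 255) (.leaf 426))) (.node (.node (.leaf 360) (.leaf 673)) (.node (.leaf 553) (.leaf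 430))))) (.node (.node (.node (.node (.node (.leaf 99) (.leaf 355)) (.leaf 636)) (.node (.leaf 247) (.leaf 510))) (.node (.node (.leaf 288) (.leaf 195)) (.node (.leaf 171) (.leaf 330)))) (.node (.node (.node (.leaf 116) (.leaf 668)) (.node (.leaf 101) (.leaf 594))) (.node (.node (.leaf 272) (.leaf 182)) (.node (.leaf 599) (.leaf 524))))))) (.node (.node (.node (.node (.node (.node (.node (.leaf 34) (.leaf 371)) (.leaf 49)) (.node (.leaf 312) (.leaf 206))) (.node (.node (.leaf 277) (.leaf 618)) (.node (.leaf 53) (.leaf 722)))) (.node (.node (.node (.leaf 174) (.leaf 642)) (.node (.leaf 248) (.leaf 609))) (.node (.node (.leaf 337) (.leaf 493)) (.node (.leaf 575) (.leaf 629))))) (.node (.node (.node (.node (.node (.leaf 113) (.leaf 515)) (.leaf 582)) (.node (.leaf 255) (.leaf 537))) (.node (.node (.leaf 53) (.leaf 187)) (.node (.leaf 96) (.leaf 486)))) (.node (.node (.node (.leaf 227) (.leaf 149)) (.node (.leaf 454) (.leaf 487))) (.node (.node (.leaf 315) (.leaf 460)) (.node (.leaf 383) (.leaf 674)))))) (.node (.node (.node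 (.node (.node (.node (.leaf 63) (.leaf 526)) (.leaf 191)) (.node (.leaf 12) (.leaf 412))) (.node (.node (.leaf 156) (.leaf 327)) (.node (.leaf 405) (.leaf 647)))) (.node (.node (.node (.leaf 200) (.leaf 600)) (.node (.leaf 490) (.leaf 483))) (.node (.node (.leaf 370) (.leaf 622)) (.node (.leaf 73) (.leaf 266))))) (.node (.node (.node (.node (.node (.leaf 145) (.leaf 555)) (.leaf 642)) (.node (.leaf 123) (.leaf 705))) (.node (.node (.leaf 325) (.leaf 613)) (.node (.leaf 524) (.leaf 145)))) (.node (.node (.node (.leaf 3) (.leaf 561)) (.node (.leaf 310) (.leaf 551))) (.node (.node (.leaf 400) (.leaf 572)) (.node (.leaf 166) (.leaf 638)))))))) (.node (.node (.node (.node (.node (.node (.node (.node (.leaf 27) (.leaf 678)) (.leaf 530)) (.node (.leaf 300) (.leaf 702))) (.node (.node (.leaf 84) (.leaf 519)) (.node (.leaf 410) (.leaf 305)))) (.node (.node (.node (.leaf 164) (.leaf 580)) (.node (.leaf 356) (.leaf 651))) (.node (.node (.leaf 343) (.leaf 373)) (.node (.leaf 176) (.leaf 648))))) (.node (.node (.node (.node (.node (.leaf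 107) (.leaf 707)) (.leaf 464)) (.node (.leaf 450) (.leaf 525))) (.node (.node (.leaf 281) (.leaf 676)) (.node (.leaf 415) (.leaf 440)))) (.node (.node (.node (.leaf 224) (.leaf 604)) (.node (.leaf 449) (.leaf 363))) (.node (.node (.leaf 385) (.leaf 695)) (.node (.leaf 590) (.leaf 723)))))) (.node (.node (.node (.node (.node (.node (.leaf 69) (.leaf 450)) (.leaf 381)) (.node (.leaf 349) (.leaf 188))) (.node (.node (.leaf 183) (.leaf 244)) (.node (.leaf 31) (.leaf 588)))) (.node (.node (.node (.leaf 2) (.leaf 136)) (.node (.leaf 492) (.leaf 602))) (.node (.node (.leaf 33) (.leaf 300)) (.node (.leaf 433) (.leaf 621))))) (.node (.node (.node (.node (.node (.leaf 135) (.leaf 347)) (.leaf 329)) (.node (.leaf 42) (.leaf 692))) (.node (.node (.leaf 83) (.leaf 158)) (.node (.leaf 436) (.leaf 711)))) (.node (.node (.node (.leaf 234) (.leaf 468)) (.node (.leaf 461) (.leaf 631))) (.node (.node (.leaf 403) (.leaf 644)) (.node (.leaf 599) (.leaf 198))))))) (.node (.node (.node (.node (.node (.node (.node (.leaf 49) (.leaf 495)) (.leaf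 161)) (.node (.leaf 432) (.leaf 601))) (.node (.node (.leaf 268) (.leaf 152)) (.node (.leaf 520) (.leaf 720)))) (.node (.node (.node (.leaf 182) (.leaf 76)) (.node (.leaf 480) (.leaf 576))) (.node (.node (.leaf 8) (.leaf 592)) (.node (.leaf 238) (.leaf 713))))) (.node (.node (.node (.node (.node (.leaf 98) (.leaf 566)) (.leaf 389)) (.node (.leaf 327) (.leaf 121))) (.node (.node (.leaf 16) (.leaf 612)) (.node (.leaf 540) (.leaf 398)))) (.node (.node (.node (.leaf 239) (.leaf 455)) (.node (.leaf 249) (.leaf 519))) (.node (.node (.leaf 137) (.leaf 353)) (.node (.leaf 586) (.leaf 241)))))) (.node (.node (.node (.node (.node (.node (.leaf 89) (.leaf 301)) (.leaf 230)) (.node (.leaf 141) (.leaf 706))) (.node (.node (.leaf 299) (.leaf 652)) (.node (.leaf 549) (.leaf 311)))) (.node (.node (.node (.leaf 8) (.leaf 657)) (.node (.leaf 391) (.leaf 307))) (.node (.node (.leaf 376) (.leaf 273)) (.node (.leaf 225) (.leaf 680))))) (.node (.node (.node (.node (.node (.leaf 142) (.leaf 598)) (.leaf 625)) (.node (.leaf 472) (.leaf 260))) (.node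 (.node (.leaf 253) (.leaf 361)) (.node (.leaf 569) (.leaf 472)))) (.node (.node (.node (.leaf 258) (.leaf 499)) (.node (.leaf 61) (.leaf 560))) (.node (.node (.leaf 397) (.leaf 458)) (.node (.leaf 419) (.leaf 594)))))))))

def threeNext13 : Janko.Tree (ℕ) :=
  (.node (.node (.node (.node (.node (.node (.node (.node (.node (.leaf 14) (.leaf 680)) (.leaf 351)) (.node (.leaf 131) (.leaf 91))) (.node (.node (.leaf 263) (.leaf 419)) (.node (.leaf 62) (.leaf 718)))) (.node (.node (.node (.node (.leaf 34) (.leaf 528)) (.leaf 181)) (.node (.leaf 476) (.leaf 555))) (.node (.node (.leaf 325) (.leaf 508)) (.node (.leaf 514) (.leaf 472))))) (.node (.node (.node (.node (.node (.leaf 95) (.leaf 610)) (.leaf 631)) (.node (.leaf 57) (.leaf 709))) (.node (.node (.leaf 306) (.leaf 522)) (.node (.leaf 290) (.leaf 328)))) (.node (.node (.node (.leaf 113) (.leaf 545)) (.node (.leaf 201) (.leaf 260))) (.node (.node (.leaf 378) (.leaf 321)) (.node (.leaf 34) (.leaf 680)))))) (.node (.node (.node (.node (.node (.node (.leaf 57) (.leaf 712)) (.leaf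 622)) (.node (.leaf 343) (.leaf 408))) (.node (.node (.leaf 235) (.leaf 638)) (.node (.leaf 537) (.leaf 711)))) (.node (.node (.node (.leaf 187) (.leaf 336)) (.node (.leaf 488) (.leaf 192))) (.node (.node (.leaf 33) (.leaf 666)) (.node (.leaf 120) (.leaf 371))))) (.node (.node (.node (.node (.node (.leaf 124) (.leaf 590)) (.leaf 293)) (.node (.leaf 73) (.leaf 286))) (.node (.node (.leaf 313) (.leaf 297)) (.node (.leaf 354) (.leaf 436)))) (.node (.node (.node (.leaf 25) (.leaf 588)) (.node (.leaf 459) (.leaf 614))) (.node (.node (.leaf 198) (.leaf 700)) (.node (.leaf 398) (.leaf 694))))))) (.node (.node (.node (.node (.node (.node (.node (.leaf 35) (.leaf 709)) (.leaf 345)) (.node (.leaf 428) (.leaf 412))) (.node (.node (.leaf 233) (.leaf 294)) (.node (.leaf 526) (.leaf 603)))) (.node (.node (.node (.leaf 175) (.leaf 315)) (.node (.leaf 74) (.leaf 160))) (.node (.node (.leaf 349) (.leaf 548)) (.node (.leaf 240) (.leaf 368))))) (.node (.node (.node (.node (.node (.leaf 114) (.leaf 319)) (.leaf 396)) (.node (.leaf 437) (.leaf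 535))) (.node (.node (.leaf 76) (.leaf 684)) (.node (.leaf 21) (.leaf 655)))) (.node (.node (.node (.leaf 233) (.leaf 407)) (.node (.leaf 510) (.leaf 488))) (.node (.node (.leaf 101) (.leaf 95)) (.node (.leaf 594) (.leaf 529)))))) (.node (.node (.node (.node (.node (.node (.leaf 68) (.leaf 684)) (.leaf 620)) (.node (.leaf 438) (.leaf 582))) (.node (.node (.leaf 298) (.leaf 613)) (.node (.leaf 545) (.leaf 445)))) (.node (.node (.node (.leaf 8) (.leaf 461)) (.node (.leaf 497) (.leaf 511))) (.node (.node (.leaf 115) (.leaf 74)) (.node (.leaf 299) (.leaf 576))))) (.node (.node (.node (.node (.node (.leaf 146) (.leaf 567)) (.leaf 256)) (.node (.leaf 87) (.leaf 481))) (.node (.node (.leaf 253) (.leaf 402)) (.node (.leaf 391) (.leaf 472)))) (.node (.node (.node (.leaf 253) (.leaf 649)) (.node (.leaf 17) (.leaf 178))) (.node (.node (.leaf 9) (.leaf 506)) (.node (.leaf 609) (.leaf 355)))))))) (.node (.node (.node (.node (.node (.node (.node (.node (.leaf 28) (.leaf 561)) (.leaf 444)) (.node (.leaf 424) (.leaf 192))) (.node (.node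 (.leaf 228) (.leaf 184)) (.node (.leaf 167) (.leaf 647)))) (.node (.node (.node (.leaf 169) (.leaf 292)) (.node (.leaf 261) (.leaf 595))) (.node (.node (.leaf 178) (.leaf 536)) (.node (.leaf 62) (.leaf 629))))) (.node (.node (.node (.node (.node (.leaf 108) (.leaf 706)) (.leaf 634)) (.node (.leaf 451) (.leaf 632))) (.node (.node (.leaf 31) (.leaf 142)) (.node (.leaf 232) (.leaf 327)))) (.node (.node (.node (.leaf 225) (.leaf 377)) (.node (.leaf 506) (.leaf 436))) (.node (.node (.leaf 386) (.leaf 698)) (.node (.leaf 445) (.leaf 523)))))) (.node (.node (.node (.node (.node (.node (.leaf 70) (.leaf 558)) (.leaf 468)) (.node (.leaf 41) (.leaf 663))) (.node (.node (.leaf 49) (.leaf 649)) (.node (.leaf 267) (.leaf 595)))) (.node (.node (.node (.leaf 190) (.leaf 599)) (.node (.leaf 122) (.leaf 504))) (.node (.node (.leaf 363) (.leaf 471)) (.node (.leaf 245) (.leaf 643))))) (.node (.node (.node (.node (.node (.leaf 136) (.leaf 333)) (.leaf 484)) (.node (.leaf 103) (.leaf 699))) (.node (.node (.leaf 319) (.leaf 247)) (.node (.leaf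 174) (.leaf 722)))) (.node (.node (.node (.leaf 106) (.leaf 571)) (.node (.leaf 66) (.leaf 568))) (.node (.node (.leaf 264) (.leaf 274)) (.node (.leaf 604) (.leaf 364))))))) (.node (.node (.node (.node (.node (.node (.node (.leaf 50) (.leaf 551)) (.leaf 183)) (.node (.leaf 185) (.leaf 206))) (.node (.node (.leaf 280) (.leaf 422)) (.node (.leaf 531) (.leaf 721)))) (.node (.node (.node (.leaf 115) (.leaf 562)) (.node (.leaf 241) (.leaf 426))) (.node (.node (.leaf 352) (.leaf 692)) (.node (.leaf 575) (.leaf 438))))) (.node (.node (.node (.node (.node (.leaf 27) (.leaf 707)) (.leaf 153)) (.node (.leaf 455) (.leaf 536))) (.node (.node (.leaf 106) (.leaf 662)) (.node (.leaf 553) (.leaf 720)))) (.node (.node (.node (.leaf 118) (.leaf 665)) (.node (.leaf 317) (.leaf 712))) (.node (.node (.leaf 392) (.leaf 285)) (.node (.leaf 590) (.leaf 715)))))) (.node (.node (.node (.node (.node (.node (.leaf 90) (.leaf 727)) (.leaf 630)) (.node (.leaf 442) (.leaf 539))) (.node (.node (.leaf 302) (.leaf 59)) (.node (.leaf 499) (.leaf 340)))) (.node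 (.node (.node (.leaf 204) (.leaf 394)) (.node (.leaf 480) (.leaf 462))) (.node (.node (.leaf 194) (.leaf 671)) (.node (.leaf 582) (.leaf 662))))) (.node (.node (.node (.node (.node (.leaf 147) (.leaf 728)) (.leaf 646)) (.node (.leaf 473) (.leaf 549))) (.node (.node (.leaf 329) (.leaf 464)) (.node (.leaf 447) (.leaf 175)))) (.node (.node (.node (.leaf 45) (.leaf 673)) (.node (.leaf 518) (.leaf 620))) (.node (.node (.leaf 379) (.leaf 472)) (.node (.leaf 560) (.leaf 526)))))))))

def threeNext14 : Janko.Tree (ℕ) :=
  (.node (.node (.node (.node (.node (.node (.node (.node (.node (.leaf 15) (.leaf 715)) (.leaf 617)) (.node (.leaf 26) (.leaf 297))) (.node (.node (.leaf 264) (.leaf 550)) (.node (.leaf 189) (.leaf 643)))) (.node (.node (.node (.node (.leaf 162) (.leaf 366)) (.leaf 640)) (.node (.leaf 477) (.leaf 387))) (.node (.node (.leaf 333) (.leaf 514)) (.node (.leaf 572) (.leaf 579))))) (.node (.node (.node (.node (.node (.leaf 98) (.leaf 311)) (.leaf 71)) (.node (.leaf 213) (.leaf 88))) (.node (.node (.leaf 185) (.leaf 650))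 (.node (.leaf 553) (.leaf 318)))) (.node (.node (.node (.leaf 215) (.leaf 378)) (.node (.leaf 502) (.leaf 504))) (.node (.node (.leaf 380) (.leaf 504)) (.node (.leaf 358) (.leaf 257)))))) (.node (.node (.node (.node (.node (.node (.leaf 58) (.leaf 704)) (.leaf 321)) (.node (.leaf 349) (.leaf 435))) (.node (.node (.leaf 271) (.leaf 453)) (.node (.leaf 402) (.leaf 249)))) (.node (.node (.node (.leaf 1) (.leaf 289)) (.node (.leaf 16) (.leaf 656))) (.node (.node (.leaf 232) (.leaf 681)) (.node (.leaf 26) (.leaf 533))))) (.node (.node (.node (.node (.node (.leaf 128) (.leaf 534)) (.leaf 39)) (.node (.leaf 394) (.leaf 703))) (.node (.node (.leaf 28) (.leaf 657)) (.node (.leaf 543) (.leaf 143)))) (.node (.node (.node (.leaf 61) (.leaf 569)) (.node (.leaf 461) (.leaf 479))) (.node (.node (.leaf 37) (.leaf 163)) (.node (.leaf 271) (.leaf 306))))))) (.node (.node (.node (.node (.node (.node (.node (.leaf 36) (.leaf 219)) (.leaf 112)) (.node (.leaf 405) (.leaf 83))) (.node (.node (.leaf 167) (.leaf 666)) (.node (.leaf 521) (.leaf 288))))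 (.node (.node (.node (.leaf 166) (.leaf 43)) (.node (.leaf 211) (.leaf 571))) (.node (.node (.leaf 7) (.leaf 237)) (.node (.leaf 550) (.leaf 672))))) (.node (.node (.node (.node (.node (.leaf 115) (.leaf 705)) (.leaf 468)) (.node (.leaf 156) (.leaf 455))) (.node (.node (.leaf 284) (.leaf 263)) (.node (.leaf 184) (.leaf 716)))) (.node (.node (.node (.leaf 234) (.leaf 606)) (.node (.leaf 154) (.leaf 712))) (.node (.node (.leaf 364) (.leaf 609)) (.node (.leaf 417) (.leaf 408)))))) (.node (.node (.node (.node (.node (.node (.leaf 72) (.leaf 240)) (.leaf 291)) (.node (.leaf 351) (.leaf 106))) (.node (.node (.leaf 299) (.leaf 622)) (.node (.leaf 526) (.leaf 667)))) (.node (.node (.node (.leaf 201) (.leaf 54)) (.node (.leaf 285) (.leaf 105))) (.node (.node (.leaf 218) (.leaf 512)) (.node (.leaf 203) (.leaf 178))))) (.node (.node (.node (.node (.node (.leaf 147) (.leaf 726)) (.leaf 220)) (.node (.leaf 148) (.leaf 697))) (.node (.node (.leaf 326) (.leaf 373)) (.node (.leaf 154) (.leaf 704)))) (.node (.node (.node (.leaf 162) (.leaf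 439)) (.node (.leaf 81) (.leaf 646))) (.node (.node (.leaf 409) (.leaf 640)) (.node (.leaf 78) (.leaf 615)))))))) (.node (.node (.node (.node (.node (.node (.node (.node (.leaf 11) (.leaf 209)) (.leaf 581)) (.node (.leaf 425) (.leaf 97))) (.node (.node (.leaf 6) (.leaf 60)) (.node (.leaf 336) (.leaf 429)))) (.node (.node (.node (.leaf 170) (.leaf 651)) (.node (.leaf 448) (.leaf 323))) (.node (.node (.leaf 29) (.leaf 66)) (.node (.leaf 570) (.leaf 509))))) (.node (.node (.node (.node (.node (.leaf 93) (.leaf 680)) (.leaf 383)) (.node (.leaf 355) (.leaf 116))) (.node (.node (.leaf 313) (.leaf 488)) (.node (.leaf 535) (.leaf 716)))) (.node (.node (.node (.leaf 40) (.leaf 661)) (.node (.leaf 507) (.leaf 116))) (.node (.node (.leaf 377) (.leaf 548)) (.node (.leaf 80) (.leaf 700)))))) (.node (.node (.node (.node (.node (.node (.leaf 71) (.leaf 712)) (.leaf 224)) (.node (.leaf 414) (.leaf 87))) (.node (.node (.leaf 292) (.leaf 362)) (.node (.leaf 542) (.leaf 547)))) (.node (.node (.node (.leaf 38) (.leaf 659)) (.node (.leaf 202)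 (.leaf 295))) (.node (.node (.leaf 365) (.leaf 506)) (.node (.leaf 556) (.leaf 159))))) (.node (.node (.node (.node (.node (.leaf 6) (.leaf 728)) (.leaf 73)) (.node (.leaf 462) (.leaf 307))) (.node (.node (.leaf 81) (.leaf 579)) (.node (.leaf 562) (.leaf 673)))) (.node (.node (.node (.leaf 2) (.leaf 497)) (.node (.leaf 500) (.leaf 124))) (.node (.node (.leaf 284) (.leaf 682)) (.node (.leaf 605) (.leaf 712))))))) (.node (.node (.node (.node (.node (.node (.node (.leaf 46) (.leaf 686)) (.leaf 621)) (.node (.leaf 343) (.leaf 438))) (.node (.node (.leaf 283) (.leaf 362)) (.node (.leaf 26) (.leaf 160)))) (.node (.node (.node (.leaf 35) (.leaf 388)) (.node (.leaf 14) (.leaf 278))) (.node (.node (.leaf 122) (.leaf 275)) (.node (.leaf 578) (.leaf 689))))) (.node (.node (.node (.node (.node (.leaf 120) (.leaf 485)) (.leaf 367)) (.node (.leaf 372) (.leaf 710))) (.node (.node (.leaf 181) (.leaf 424)) (.node (.leaf 284) (.leaf 309)))) (.node (.node (.node (.leaf 229) (.leaf 91)) (.node (.leaf 459) (.leaf 310))) (.node (.node (.leaf 393)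 (.leaf 431)) (.node (.leaf 591) (.leaf 632)))))) (.node (.node (.node (.node (.node (.node (.leaf 91) (.leaf 690)) (.leaf 620)) (.node (.leaf 404) (.leaf 400))) (.node (.node (.leaf 277) (.leaf 456)) (.node (.leaf 177) (.leaf 722)))) (.node (.node (.node (.leaf 207) (.leaf 280)) (.node (.leaf 491) (.leaf 203))) (.node (.node (.leaf 125) (.leaf 76)) (.node (.leaf 583) (.leaf 719))))) (.node (.node (.node (.node (.node (.leaf 150) (.leaf 512)) (.leaf 562)) (.node (.leaf 139) (.leaf 707))) (.node (.node (.leaf 331) (.leaf 624)) (.node (.leaf 390) (.leaf 148)))) (.node (.node (.node (.leaf 129) (.leaf 340)) (.node (.leaf 273) (.leaf 491))) (.node (.node (.leaf 403) (.leaf 482)) (.node (.leaf 611) (.leaf 384)))))))))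

def threeNext15 : Janko.Tree (ℕ) :=
  (.node (.node (.node (.node (.node (.node (.node (.node (.node (.leaf 16) (.leaf 604)) (.leaf 347)) (.node (.leaf 419) (.leaf 640))) (.node (.node (.leaf 84) (.leaf 629)) (.node (.leaf 521) (.leaf 654)))) (.node (.node (.node (.node (.leaf 63) (.leaf 712)) (.leaf 650)) (.node (.leaf 478) (.leaf 546))) (.node (.node (.leaf 336) (.leaf 239)) (.node (.leaf 117) (.leaf 525))))) (.node (.node (.node (.node (.node (.leaf 99) (.leaf 542)) (.leaf 627)) (.node (.leaf 425) (.leaf 541))) (.node (.node (.leaf 244) (.leaf 297)) (.node (.leaf 286) (.leaf 616)))) (.node (.node (.node (.leaf 219) (.leaf 525)) (.node (.leaf 503) (.leaf 369))) (.node (.node (.leaf 83) (.leaf 280)) (.node (.leaf 370) (.leaf 503)))))) (.node (.node (.node (.node (.node (.node (.leaf 59) (.leaf 715)) (.leaf 92)) (.node (.leaf 134) (.leaf 218))) (.node (.node (.leaf 94) (.leaf 370)) (.node (.leaf 538) (.leaf 227)))) (.node (.node (.node (.leaf 188) (.leaf 443)) (.node (.leaf 489) (.leaf 573))) (.node (.node (.leaf 361) (.leaf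 145)) (.node (.leaf 314) (.leaf 565))))) (.node (.node (.node (.node (.node (.leaf 129) (.leaf 382)) (.leaf 639)) (.node (.leaf 460) (.leaf 693))) (.node (.node (.leaf 118) (.leaf 466)) (.node (.leaf 283) (.leaf 676)))) (.node (.node (.node (.leaf 222) (.leaf 331)) (.node (.leaf 205) (.leaf 345))) (.node (.node (.leaf 398) (.leaf 455)) (.node (.leaf 365) (.leaf 491))))))) (.node (.node (.node (.node (.node (.node (.node (.leaf 37) (.leaf 214)) (.leaf 359)) (.node (.leaf 37) (.leaf 379))) (.node (.node (.leaf 278) (.leaf 438)) (.node (.leaf 257) (.leaf 201)))) (.node (.node (.node (.leaf 176) (.leaf 431)) (.node (.leaf 29) (.leaf 672))) (.node (.node (.leaf 350) (.leaf 288)) (.node (.leaf 79) (.leaf 646))))) (.node (.node (.node (.node (.node (.leaf 116) (.leaf 690)) (.leaf 637)) (.node (.leaf 41) (.leaf 320))) (.node (.node (.leaf 312) (.leaf 663)) (.node (.leaf 478) (.leaf 420)))) (.node (.node (.node (.leaf 235) (.leaf 518)) (.node (.leaf 63) (.leaf 475))) (.node (.node (.leaf 375) (.leaf 495)) (.node (.leaf 589) (.leaf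 714)))))) (.node (.node (.node (.node (.node (.node (.leaf 77) (.leaf 658)) (.leaf 125)) (.node (.leaf 200) (.leaf 674))) (.node (.node (.leaf 247) (.leaf 136)) (.node (.leaf 48) (.leaf 594)))) (.node (.node (.node (.leaf 202) (.leaf 662)) (.node (.leaf 92) (.leaf 638))) (.node (.node (.leaf 371) (.leaf 67)) (.node (.leaf 301) (.leaf 162))))) (.node (.node (.node (.node (.node (.leaf 148) (.leaf 337)) (.leaf 643)) (.node (.leaf 466) (.leaf 493))) (.node (.node (.leaf 327) (.leaf 574)) (.node (.leaf 179) (.leaf 723)))) (.node (.node (.node (.leaf 165) (.leaf 651)) (.node (.leaf 144) (.leaf 623))) (.node (.node (.leaf 274) (.leaf 109)) (.node (.leaf 610) (.leaf 588)))))))) (.node (.node (.node (.node (.node (.node (.node (.node (.leaf 17) (.leaf 626)) (.leaf 342)) (.node (.leaf 389) (.leaf 702))) (.node (.node (.leaf 268) (.leaf 157)) (.node (.leaf 525) (.leaf 443)))) (.node (.node (.node (.leaf 171) (.leaf 53)) (.node (.leaf 482) (.leaf 417))) (.node (.node (.leaf 341) (.leaf 690)) (.node (.leaf 298) (.leaf 717))))) (.node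 (.node (.node (.node (.node (.leaf 0) (.leaf 668)) (.leaf 439)) (.node (.leaf 45) (.leaf 531))) (.node (.node (.leaf 109) (.leaf 605)) (.node (.leaf 556) (.leaf 324)))) (.node (.node (.node (.leaf 214) (.leaf 171)) (.node (.leaf 484) (.leaf 367))) (.node (.node (.leaf 8) (.leaf 697)) (.node (.leaf 587) (.leaf 262)))))) (.node (.node (.node (.node (.node (.node (.leaf 72) (.leaf 498)) (.leaf 393)) (.node (.leaf 432) (.leaf 522))) (.node (.node (.leaf 293) (.leaf 58)) (.node (.leaf 543) (.leaf 133)))) (.node (.node (.node (.leaf 191) (.leaf 393)) (.node (.leaf 287) (.leaf 579))) (.node (.node (.leaf 198) (.leaf 312)) (.node (.leaf 318) (.leaf 601))))) (.node (.node (.node (.node (.node (.leaf 127) (.leaf 718)) (.leaf 641)) (.node (.leaf 463) (.leaf 692))) (.node (.node (.leaf 320) (.leaf 62)) (.node (.leaf 24) (.leaf 144)))) (.node (.node (.node (.leaf 251) (.leaf 624)) (.node (.leaf 305) (.leaf 702))) (.node (.node (.leaf 404) (.leaf 473)) (.node (.leaf 396) (.leaf 397))))))) (.node (.node (.node (.node (.node (.node (.node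 (.leaf 51) (.leaf 289)) (.leaf 36)) (.node (.leaf 154) (.leaf 503))) (.node (.node (.leaf 284) (.leaf 424)) (.node (.leaf 20) (.leaf 605)))) (.node (.node (.node (.leaf 156) (.leaf 569)) (.node (.leaf 486) (.leaf 644))) (.node (.node (.leaf 353) (.leaf 477)) (.node (.leaf 26) (.leaf 389))))) (.node (.node (.node (.node (.node (.leaf 121) (.leaf 475)) (.leaf 54)) (.node (.leaf 456) (.leaf 89))) (.node (.node (.leaf 317) (.leaf 686)) (.node (.leaf 282) (.leaf 598)))) (.node (.node (.node (.leaf 240) (.leaf 414)) (.node (.leaf 219) (.leaf 538))) (.node (.node (.leaf 128) (.leaf 693)) (.node (.leaf 341) (.leaf 528)))))) (.node (.node (.node (.node (.node (.node (.leaf 92) (.leaf 695)) (.leaf 38)) (.node (.leaf 236) (.leaf 674))) (.node (.node (.leaf 306) (.leaf 681)) (.node (.leaf 547) (.leaf 135)))) (.node (.node (.node (.leaf 208) (.leaf 577)) (.node (.leaf 277) (.leaf 570))) (.node (.node (.leaf 239) (.leaf 668)) (.node (.leaf 214) (.leaf 242))))) (.node (.node (.node (.node (.node (.leaf 156) (.leaf 601)) (.leaf 453)) (.node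 (.leaf 19) (.leaf 99))) (.node (.node (.leaf 140) (.leaf 665)) (.node (.leaf 207) (.leaf 650)))) (.node (.node (.node (.leaf 259) (.leaf 142)) (.node (.leaf 149) (.leaf 678))) (.node (.node (.leaf 415) (.leaf 640)) (.node (.leaf 613) (.leaf 196)))))))))

/-- a table -/
def threeNext : Janko.Tree (ℕ) := (.node (.node (.node (.node threeNext0 threeNext8) (.node threeNext4 threeNext12)) (.node (.node threeNext2 threeNext10) (.node threeNext6 threeNext14))) (.node (.node (.node threeNext1 threeNext9) (.node threeNext5 threeNext13)) (.node (.node threeNext3 threeNext11) (.node threeNext7 threeNext15))))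

def threeWord0 : Janko.Tree (ℕ) :=
  (.node (.node (.node (.node (.node (.node (.leaf 1) (.leaf 1127187)) (.leaf 73748)) (.node (.node (.leaf 65570) (.leaf 16851761)) (.leaf 1053459))) (.node (.node (.node (.leaf 4368) (.leaf 1257488)) (.leaf 1048835)) (.node (.node (.leaf 69636) (.leaf 19018033)) (.leaf 1114421)))) (.node (.node (.node (.node (.leaf 341) (.leaf 1191955)) (.leaf 74819)) (.node (.node (.leaf 66051) (.leaf 16978224)) (.leaf 1057861))) (.node (.node (.node (.leaf 4675) (.leaf 16786499)) (.leaf 1052673)) (.node (.leaf 69957) (.leaf 1118788))))) (.node (.node (.node (.node (.node (.leaf 275) (.leaf 1188625)) (.leaf 74325)) (.node (.node (.leaf 65808) (.leaf 16909105)) (.leaf 1057331))) (.node (.node (.node (.leaf 4421) (.leaf 16782081)) (.leaf 1049155)) (.node (.node (.leaf 69717) (.leaf 268575796)) (.leaf 1118211)))) (.node (.node (.node (.node (.leaf 4133) (.leaf 1245203)) (.leaf 78129)) (.node (.node (.leaf 66323) (.leaf 17892099)) (.leaf 1061700))) (.node (.node (.node (.leaf 4932) (.leaf 16843059)) (.leaf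 1052932)) (.node (.leaf 70419) (.leaf 1123125))))))

def threeWord1 : Janko.Tree (ℕ) :=
  (.node (.node (.node (.node (.node (.node (.leaf 16) (.leaf 1131265)) (.leaf 73763)) (.node (.node (.leaf 65571) (.leaf 16851765)) (.leaf 1053488))) (.node (.node (.node (.leaf 4370) (.leaf 1257728)) (.leaf 1048836)) (.node (.node (.leaf 69648) (.leaf 19018513)) (.leaf 1114435)))) (.node (.node (.node (.node (.leaf 4097) (.leaf 1191985)) (.leaf 74821)) (.node (.node (.leaf 66052) (.leaf 16978689)) (.leaf 1060881))) (.node (.node (.node (.leaf 4676) (.leaf 16789761)) (.leaf 1052675)) (.node (.leaf 69973) (.leaf 1118789))))) (.node (.node (.node (.node (.node (.leaf 276) (.leaf 1188627)) (.leaf 74497)) (.node (.node (.leaf 65810) (.leaf 16909361)) (.leaf 1057332))) (.node (.node (.node (.leaf 4437) (.leaf 16782083)) (.leaf 1049156)) (.node (.node (.leaf 69888) (.leaf 268579652)) (.leaf 1118212)))) (.node (.node (.node (.node (.leaf 4144) (.leaf 1245441)) (.leaf 78132)) (.node (.node (.leaf 66324) (.leaf 17892421)) (.leaf 1061940))) (.node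 (.node (.node (.leaf 4933) (.leaf 16843075)) (.leaf 1052964)) (.node (.leaf 70420) (.leaf 1123139))))))

def threeWord2 : Janko.Tree (ℕ) :=
  (.node (.node (.node (.node (.node (.node (.leaf 17) (.leaf 1131280)) (.leaf 73764)) (.node (.node (.leaf 65572) (.leaf 16852037)) (.leaf 1053489))) (.node (.node (.node (.leaf 4371) (.leaf 1257744)) (.leaf 1048850)) (.node (.node (.leaf 69650) (.leaf 19018564)) (.leaf 1114436)))) (.node (.node (.node (.node (.leaf 4098) (.leaf 1192211)) (.leaf 74837)) (.node (.node (.leaf 66080) (.leaf 16986128)) (.leaf 1060883))) (.node (.node (.node (.leaf 4677) (.leaf 16789763)) (.leaf 1052676)) (.node (.leaf 70179) (.leaf 1118979))))) (.node (.node (.node (.node (.node (.leaf 277) (.leaf 1188628)) (.leaf 74499)) (.node (.node (.leaf 65811) (.leaf 16916531)) (.leaf 1057347))) (.node (.node (.node (.leaf 4608) (.leaf 16782099)) (.leaf 1049360)) (.node (.node (.leaf 69890) (.leaf 268579892)) (.leaf 1118243)))) (.node (.node (.node (.node (.leaf 4145) (.leaf 1245456)) (.leaf 78147)) (.node (.node (.leaf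 66352) (.leaf 17900083)) (.leaf 1061955))) (.node (.node (.node (.leaf 4949) (.leaf 16843076)) (.leaf 1052976)) (.node (.leaf 70448) (.leaf 1123377))))))

def threeWord3 : Janko.Tree (ℕ) :=
  (.node (.node (.node (.node (.node (.node (.leaf 18) (.leaf 1131313)) (.leaf 73777)) (.node (.node (.leaf 65585) (.leaf 16855057)) (.leaf 1053493))) (.node (.node (.node (.leaf 4372) (.leaf 1257776)) (.leaf 1048851)) (.node (.node (.leaf 69651) (.leaf 19018581)) (.leaf 1114437)))) (.node (.node (.node (.node (.leaf 4099) (.leaf 1192212)) (.leaf 77825)) (.node (.node (.leaf 66083) (.leaf 16986384)) (.leaf 1060913))) (.node (.node (.node (.leaf 4693) (.leaf 16789764)) (.leaf 1052690)) (.node (.leaf 70180) (.leaf 1119024))))) (.node (.node (.node (.node (.node (.leaf 288) (.leaf 1188657)) (.leaf 74513)) (.node (.node (.leaf 65812) (.leaf 16916548)) (.leaf 1057348))) (.node (.node (.node (.leaf 4609) (.leaf 16782129)) (.leaf 1049361)) (.node (.node (.leaf 69891) (.leaf 268579907)) (.leaf 1118244)))) (.node (.node (.node (.node (.leaf 4147)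 (.leaf 1245459)) (.leaf 78593)) (.node (.node (.leaf 66353) (.leaf 17900100)) (.leaf 1065729))) (.node (.node (.node (.leaf 5168) (.leaf 16843077)) (.leaf 1052979)) (.node (.leaf 70449) (.leaf 1123379))))))

def threeWord4 : Janko.Tree (ℕ) :=
  (.node (.node (.node (.node (.node (.node (.leaf 19) (.leaf 1179668)) (.leaf 73779)) (.node (.node (.leaf 65587) (.leaf 16855059)) (.leaf 1053744))) (.node (.node (.node (.leaf 4373) (.leaf 1323024)) (.leaf 1048852)) (.node (.node (.leaf 69652) (.leaf 19018804)) (.leaf 1114628)))) (.node (.node (.node (.node (.leaf 4100) (.leaf 1192241)) (.leaf 77840)) (.node (.node (.leaf 66084) (.leaf 16986416)) (.leaf 1061121))) (.node (.node (.node (.leaf 4864) (.leaf 16789779)) (.leaf 1052691)) (.node (.leaf 70181) (.leaf 1119280))))) (.node (.node (.node (.node (.node (.leaf 290) (.leaf 1188660)) (.leaf 74515)) (.node (.node (.leaf 65813) (.leaf 16917300)) (.leaf 1057537))) (.node (.node (.node (.leaf 4610) (.leaf 16782133)) (.leaf 1049363)) (.node (.node (.leaf 69892) (.leaf 269488945)) (.leaf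 1118256)))) (.node (.node (.node (.node (.leaf 4148) (.leaf 1245488)) (.leaf 78608)) (.node (.node (.leaf 66356) (.leaf 17900595)) (.leaf 1065744))) (.node (.node (.node (.leaf 5169) (.leaf 16843537)) (.leaf 1052980)) (.node (.leaf 70453) (.leaf 1123380))))))

def threeWord5 : Janko.Tree (ℕ) :=
  (.node (.node (.node (.node (.node (.node (.leaf 20) (.leaf 1179716)) (.leaf 73795)) (.node (.node (.leaf 65588) (.leaf 16855089)) (.leaf 1053745))) (.node (.node (.node (.leaf 4386) (.leaf 1323264)) (.leaf 1048868)) (.node (.node (.leaf 69653) (.leaf 19018819)) (.leaf 1114881)))) (.node (.node (.node (.node (.leaf 4101) (.leaf 1192244)) (.leaf 77841)) (.node (.node (.leaf 66096) (.leaf 17826116)) (.leaf 1061123))) (.node (.node (.node (.leaf 4865) (.leaf 16789780)) (.leaf 1052692)) (.node (.leaf 70193) (.leaf 1119283))))) (.node (.node (.node (.node (.node (.leaf 291) (.leaf 1188661)) (.leaf 74516)) (.node (.node (.leaf 65827) (.leaf 16917315)) (.leaf 1057539))) (.node (.node (.node (.leaf 4611) (.leaf 16782405)) (.leaf 1049364))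 (.node (.node (.leaf 69893) (.leaf 269489221)) (.leaf 1118259)))) (.node (.node (.node (.node (.leaf 4149) (.leaf 1245968)) (.leaf 78609)) (.node (.node (.leaf 66371) (.leaf 17900613)) (.leaf 1065777))) (.node (.node (.node (.leaf 5171) (.leaf 16843539)) (.leaf 1052981)) (.node (.leaf 70467) (.leaf 1123397))))))

def threeWord6 : Janko.Tree (ℕ) :=
  (.node (.node (.node (.node (.node (.node (.leaf 21) (.leaf 1179955)) (.leaf 73796)) (.node (.node (.leaf 65603) (.leaf 16855299)) (.leaf 1053747))) (.node (.node (.node (.leaf 4387) (.leaf 16781331)) (.leaf 1048880)) (.node (.node (.leaf 69664) (.leaf 19022933)) (.leaf 1114883)))) (.node (.node (.node (.node (.leaf 4112) (.leaf 1192259)) (.leaf 77843)) (.node (.node (.leaf 66097) (.leaf 17829956)) (.leaf 1061124))) (.node (.node (.node (.leaf 4867) (.leaf 16789809)) (.leaf 1052693)) (.node (.leaf 70195) (.leaf 1119301))))) (.node (.node (.node (.node (.node (.leaf 292) (.leaf 1188675)) (.leaf 74545)) (.node (.node (.leaf 65828) (.leaf 16917555)) (.leaf 1057555))) (.node (.node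 (.node (.leaf 4612) (.leaf 16785971)) (.leaf 1049393)) (.node (.node (.leaf 69922) (.leaf 269496595)) (.leaf 1118261)))) (.node (.node (.node (.node (.leaf 4163) (.leaf 1245969)) (.leaf 78611)) (.node (.node (.leaf 66372) (.leaf 17965843)) (.leaf 1066069))) (.node (.node (.node (.leaf 5172) (.leaf 16843569)) (.leaf 1052995)) (.node (.leaf 70485) (.leaf 1126416))))))

def threeWord7 : Janko.Tree (ℕ) :=
  (.node (.node (.node (.node (.node (.node (.leaf 256) (.leaf 1179972)) (.leaf 74243)) (.node (.node (.leaf 65604) (.leaf 16855344)) (.leaf 1053765))) (.node (.node (.node (.leaf 4388) (.leaf 16781332)) (.leaf 1048881)) (.node (.node (.leaf 69667) (.leaf 268501299)) (.leaf 1114897)))) (.node (.node (.node (.node (.leaf 4113) (.leaf 1192721)) (.leaf 77873)) (.node (.node (.leaf 66099) (.leaf 17830704)) (.leaf 1061136))) (.node (.node (.node (.leaf 4880) (.leaf 16790289)) (.leaf 1052707)) (.node (.leaf 70196) (.leaf 1119317))))) (.node (.node (.node (.node (.node (.leaf 293) (.leaf 1188676)) (.leaf 74548)) (.node (.node (.leaf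 65829) (.leaf 16917556)) (.leaf 1057556))) (.node (.node (.node (.leaf 4640) (.leaf 16785972)) (.leaf 1049396)) (.node (.node (.leaf 69923) (.leaf 269549636)) (.leaf 1118275)))) (.node (.node (.node (.node (.leaf 4164) (.leaf 1249283)) (.leaf 78660)) (.node (.node (.leaf 66608) (.leaf 17965873)) (.leaf 1114131))) (.node (.node (.node (.leaf 5187) (.leaf 16843845)) (.leaf 1052996)) (.node (.leaf 70704) (.leaf 1126417))))))

def threeWord8 : Janko.Tree (ℕ) :=
  (.node (.node (.node (.node (.node (.node (.leaf 257) (.leaf 1180211)) (.leaf 74244)) (.node (.node (.leaf 65605) (.leaf 16855809)) (.leaf 1056803))) (.node (.node (.node (.leaf 4389) (.leaf 16781361)) (.leaf 1048883)) (.node (.node (.leaf 69668) (.leaf 268501316)) (.leaf 1114899)))) (.node (.node (.node (.node (.leaf 4114) (.leaf 1192723)) (.leaf 78080)) (.node (.node (.leaf 66100) (.leaf 17830705)) (.leaf 1061139))) (.node (.node (.node (.leaf 4881) (.leaf 16790291)) (.leaf 1052708)) (.node (.leaf 70197) (.leaf 1122865))))) (.node (.node (.node (.node (.node (.leaf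 304) (.leaf 1188677)) (.leaf 74549)) (.node (.node (.leaf 65840) (.leaf 16921412)) (.leaf 1057585))) (.node (.node (.node (.leaf 4643) (.leaf 16785987)) (.leaf 1049411)) (.node (.node (.leaf 69924) (.leaf 269680915)) (.leaf 1118276)))) (.node (.node (.node (.node (.leaf 4165) (.leaf 1249284)) (.leaf 78677)) (.node (.node (.leaf 66609) (.leaf 17966149)) (.leaf 1114132))) (.node (.node (.node (.leaf 5189) (.leaf 16846851)) (.leaf 1052997)) (.node (.leaf 70705) (.leaf 1126419))))))

def threeWord9 : Janko.Tree (ℕ) :=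
  (.node (.node (.node (.node (.node (.node (.leaf 258) (.leaf 1180227)) (.leaf 74289)) (.node (.node (.leaf 65621) (.leaf 16855824)) (.leaf 1056804))) (.node (.node (.node (.leaf 4400) (.leaf 16781363)) (.leaf 1048885)) (.node (.node (.leaf 69680) (.leaf 268505668)) (.leaf 1114928)))) (.node (.node (.node (.node (.leaf 4115) (.leaf 1192772)) (.leaf 78081)) (.node (.node (.leaf 66115) (.leaf 17830709)) (.leaf 1061140))) (.node (.node (.node (.leaf 4883) (.leaf 16790340)) (.leaf 1052721)) (.node (.leaf 70211) (.leaf 1122867))))) (.node (.node (.node (.node (.node (.leaf 305) (.leaf 1188693)) (.leaf 74563)) (.node (.node (.leaf 65841) (.leaf 16921652)) (.leaf 1057588))) (.node (.node (.node (.leaf 4644) (.leaf 16785988)) (.leaf 1049412)) (.node (.leaf 69925) (.leaf 1118277)))) (.node (.node (.node (.node (.leaf 4181) (.leaf 1249328)) (.leaf 78900)) (.node (.node (.leaf 66611) (.leaf 17969475)) (.leaf 1114161))) (.node (.node (.node (.leaf 5205) (.leaf 16846852)) (.leaf 1053235)) (.node (.leaf 70707) (.leaf 1126449))))))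

def threeWord10 : Janko.Tree (ℕ) :=
  (.node (.node (.node (.node (.node (.node (.leaf 259) (.leaf 1180228)) (.leaf 74291)) (.node (.node (.leaf 65792) (.leaf 16855827)) (.leaf 1056817))) (.node (.node (.node (.leaf 4401) (.leaf 16781380)) (.leaf 1048900)) (.node (.node (.leaf 69681) (.leaf 268513299)) (.leaf 1114929)))) (.node (.node (.node (.node (.leaf 4116) (.leaf 1192789)) (.leaf 78083)) (.node (.node (.leaf 66116) (.leaf 17830963)) (.leaf 1061168))) (.node (.node (.node (.leaf 4884) (.leaf 16790580)) (.leaf 1052723)) (.node (.leaf 70212) (.leaf 1122868))))) (.node (.node (.node (.node (.node (.leaf 307) (.leaf 1188913)) (.leaf 74564)) (.node (.node (.leaf 65843) (.leaf 16921667)) (.leaf 1057603))) (.node (.node (.node (.leaf 4645) (.leaf 16786225)) (.leaf 1049649)) (.node (.leaf 69936) (.leaf 1118755)))) (.node (.node (.node (.node (.leaf 4352) (.leaf 1249347)) (.leaf 78915)) (.node (.node (.leaf 66612) (.leaf 17969939)) (.leaf 1114163))) (.node (.node (.node (.leaf 65552) (.leaf 16846899)) (.leaf 1053237)) (.node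 (.leaf 70708) (.leaf 1126659))))))

def threeWord11 : Janko.Tree (ℕ) :=
  (.node (.node (.node (.node (.node (.node (.leaf 260) (.leaf 1180435)) (.leaf 74292)) (.node (.node (.leaf 65793) (.leaf 16859920)) (.leaf 1056819))) (.node (.node (.node (.leaf 4403) (.leaf 16781604)) (.leaf 1048901)) (.node (.node (.leaf 69683) (.leaf 268513329)) (.leaf 1114932)))) (.node (.node (.node (.node (.leaf 4117) (.leaf 1193012)) (.leaf 78084)) (.node (.node (.leaf 66117) (.leaf 17830981)) (.leaf 1061169))) (.node (.node (.node (.leaf 4912) (.leaf 16790595)) (.leaf 1052725)) (.node (.leaf 70213) (.leaf 1122884))))) (.node (.node (.node (.node (.node (.leaf 308) (.leaf 1188915)) (.leaf 74565)) (.node (.node (.leaf 65845) (.leaf 16974099)) (.leaf 1057604))) (.node (.node (.node (.leaf 4656) (.leaf 16786228)) (.leaf 1049651)) (.node (.leaf 69939) (.leaf 1118756)))) (.node (.node (.node (.node (.leaf 4353) (.leaf 1249536)) (.leaf 82689)) (.node (.node (.leaf 66627) (.leaf 17974065)) (.leaf 1114180))) (.node (.node (.node (.leaf 65553) (.leaf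 16846916)) (.leaf 1053252)) (.node (.leaf 70725) (.leaf 1126660))))))

def threeWord12 : Janko.Tree (ℕ) :=
  (.node (.node (.node (.node (.node (.node (.leaf 261) (.leaf 1180465)) (.leaf 74293)) (.node (.node (.leaf 65794) (.leaf 16859953)) (.leaf 1056835))) (.node (.node (.node (.leaf 4404) (.leaf 16781619)) (.leaf 1049123)) (.node (.node (.leaf 69685) (.leaf 268514067)) (.leaf 1115185)))) (.node (.node (.node (.node (.leaf 4128) (.leaf 1193027)) (.leaf 78096)) (.node (.node (.leaf 66305) (.leaf 17838355)) (.leaf 1061633))) (.node (.node (.node (.leaf 4913) (.leaf 16794417)) (.leaf 1052740)) (.node (.leaf 70400) (.leaf 1122885))))) (.node (.node (.node (.node (.node (.leaf 309) (.leaf 1188916)) (.leaf 74581)) (.node (.node (.leaf 65859) (.leaf 16974128)) (.leaf 1057841))) (.node (.node (.node (.leaf 4657) (.leaf 16786243)) (.leaf 1049652)) (.node (.leaf 69940) (.leaf 1118771)))) (.node (.node (.node (.node (.leaf 4354) (.leaf 1249584)) (.leaf 82704)) (.node (.node (.leaf 66629) (.leaf 18022675)) (.leaf 1114371))) (.node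 (.node (.node (.leaf 65554) (.leaf 16847428)) (.leaf 1053253)) (.node (.leaf 70741) (.leaf 1126704))))))

def threeWord13 : Janko.Tree (ℕ) :=
  (.node (.node (.node (.node (.node (.node (.leaf 272) (.leaf 1180721)) (.leaf 74307)) (.node (.node (.leaf 65795) (.leaf 16908851)) (.leaf 1056836))) (.node (.node (.node (.leaf 4405) (.leaf 16781635)) (.leaf 1049124)) (.node (.node (.leaf 69699) (.leaf 268575540)) (.leaf 1115203)))) (.node (.node (.node (.node (.leaf 4130) (.leaf 1196849)) (.leaf 78099)) (.node (.node (.leaf 66307) (.leaf 17838849)) (.leaf 1061648))) (.node (.node (.node (.leaf 4916) (.leaf 16794709)) (.leaf 1052741)) (.node (.leaf 70401) (.leaf 1123091))))) (.node (.node (.node (.node (.node (.leaf 323) (.leaf 1188931)) (.leaf 74801)) (.node (.node (.leaf 65860) (.leaf 16974608)) (.leaf 1057843))) (.node (.node (.node (.leaf 4659) (.leaf 16786244)) (.leaf 1049667)) (.node (.leaf 69941) (.leaf 1118772)))) (.node (.node (.node (.node (.leaf 4355) (.leaf 1250048)) (.leaf 82737)) (.node (.node (.leaf 66645) (.leaf 18027264))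 (.leaf 1114372))) (.node (.node (.node (.leaf 65555) (.leaf 16847619)) (.leaf 1053441)) (.node (.leaf 73729) (.leaf 1126723))))))

def threeWord14 : Janko.Tree (ℕ) :=
  (.node (.node (.node (.node (.node (.node (.leaf 273) (.leaf 1187891)) (.leaf 74308)) (.node (.node (.leaf 65796) (.leaf 16908867)) (.leaf 1057283))) (.node (.node (.node (.leaf 4419) (.leaf 16781636)) (.leaf 1049139)) (.node (.node (.leaf 69700) (.leaf 268575555)) (.leaf 1115205)))) (.node (.node (.node (.node (.leaf 4131) (.leaf 1197141)) (.leaf 78100)) (.node (.node (.leaf 66320) (.leaf 17838867)) (.leaf 1061649))) (.node (.node (.node (.leaf 4917) (.leaf 16842772)) (.leaf 1052928)) (.node (.leaf 70403) (.leaf 1123092))))) (.node (.node (.node (.node (.node (.leaf 324) (.leaf 1188933)) (.leaf 74803)) (.node (.node (.leaf 65861) (.leaf 16974609)) (.leaf 1057844))) (.node (.node (.node (.leaf 4660) (.leaf 16786483)) (.leaf 1049669)) (.node (.leaf 69955) (.leaf 1118773)))) (.node (.node (.node (.node (.leaf 4356) (.leaf 1250049)) (.leaf 83029)) (.node (.node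 (.leaf 69633) (.leaf 18874692)) (.leaf 1114404))) (.node (.node (.node (.leaf 65556) (.leaf 16847664)) (.leaf 1053443)) (.node (.leaf 73732) (.leaf 1127169))))))

def threeWord15 : Janko.Tree (ℕ) :=
  (.node (.node (.node (.node (.node (.node (.leaf 274) (.leaf 1187908)) (.leaf 74309)) (.node (.node (.leaf 65797) (.leaf 16908868)) (.leaf 1057284))) (.node (.node (.node (.leaf 4420) (.leaf 16781892)) (.leaf 1049140)) (.node (.node (.leaf 69701) (.leaf 268575795)) (.leaf 1115221)))) (.node (.node (.node (.node (.leaf 4132) (.leaf 1245201)) (.leaf 78128)) (.node (.node (.leaf 66321) (.leaf 17891396)) (.leaf 1061651))) (.node (.node (.node (.leaf 4931) (.leaf 16843044)) (.leaf 1052931)) (.node (.leaf 70416) (.leaf 1123121))))) (.node (.node (.node (.node (.node (.leaf 325) (.leaf 1188949)) (.leaf 74804)) (.node (.node (.leaf 66050) (.leaf 16978176)) (.leaf 1057859))) (.node (.node (.node (.leaf 4661) (.leaf 16786484)) (.leaf 1049685)) (.node (.leaf 69956) (.leaf 1118787)))) (.node (.node (.node (.node (.leaf 4357) (.leaf 1250352))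 (.leaf 1048833)) (.node (.node (.leaf 69635) (.leaf 19018003)) (.leaf 1114419))) (.node (.node (.node (.leaf 65557) (.leaf 16847941)) (.leaf 1053456)) (.node (.leaf 73747) (.leaf 1127184))))))

/-- a table -/
def threeWord : Janko.Tree (ℕ) := (.node (.node (.node (.node threeWord0 threeWord8) (.node threeWord4 threeWord12)) (.node (.node threeWord2 threeWord10) (.node threeWord6 threeWord14))) (.node (.node (.node threeWord1 threeWord9) (.node threeWord5 threeWord13)) (.node (.node threeWord3 threeWord11) (.node threeWord7 threeWord15))))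

def threePar0 : Janko.Tree (ℕ) :=
  (.node (.node (.node (.node (.node (.node (.leaf 0) (.leaf 3891)) (.leaf 1332)) (.node (.node (.leaf 546) (.leaf 6033)) (.leaf 2451))) (.node (.node (.node (.leaf 224) (.leaf 4912)) (.leaf 1955)) (.node (.node (.leaf 932) (.leaf 8465)) (.leaf 3125)))) (.node (.node (.node (.node (.leaf 101) (.leaf 4371)) (.leaf 1555)) (.node (.node (.leaf 707) (.leaf 6784)) (.leaf 2725))) (.node (.node (.node (.leaf 355) (.leaf 5395)) (.leaf 2209)) (.node (.leaf 1077) (.leaf 3460))))) (.node (.node (.node (.node (.node (.leaf 35) (.leaf 4241)) (.leaf 1445)) (.node (.node (.leaf 624) (.leaf 6321)) (.leaf 2611))) (.node (.node (.node (.leaf 277) (.leaf 5217)) (.leaf 2083)) (.node (.node (.leaf 1013) (.leaf 9604)) (.leaf 3347)))) (.node (.node (.node (.node (.leaf 149) (.leaf 4659)) (.leaf 1681)) (.node (.node (.leaf 803) (.leaf 7491)) (.leaf 2884))) (.node (.node (.node (.leaf 436) (.leaf 5699)) (.leaf 2308)) (.node (.leaf 1187) (.leaf 3685))))))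

def threePar1 : Janko.Tree (ℕ) :=
  (.node (.node (.node (.node (.node (.node (.leaf 0) (.leaf 3953)) (.leaf 1347)) (.node (.node (.leaf 547) (.leaf 6037)) (.leaf 2464))) (.node (.node (.node (.leaf 226) (.leaf 4928)) (.leaf 1956)) (.node (.node (.leaf 944) (.leaf 8497)) (.leaf 3139)))) (.node (.node (.node (.node (.leaf 113) (.leaf 4385)) (.leaf 1557)) (.node (.node (.leaf 708) (.leaf 6817)) (.leaf 2753))) (.node (.node (.node (.leaf 356) (.leaf 5409)) (.leaf 2211)) (.node (.leaf 1093) (.leaf 3461))))) (.node (.node (.node (.node (.node (.leaf 36) (.leaf 4243)) (.leaf 1457)) (.node (.node (.leaf 626) (.leaf 6337)) (.leaf 2612))) (.node (.node (.node (.leaf 293) (.leaf 5219)) (.leaf 2084)) (.node (.node (.leaf 1024) (.leaf 9652)) (.leaf 3348)))) (.node (.node (.node (.node (.leaf 160) (.leaf 4673)) (.leaf 1684)) (.node (.node (.leaf 804) (.leaf 7557)) (.leaf 2900))) (.node (.node (.node (.leaf 437) (.leaf 5715)) (.leaf 2324)) (.node (.leaf 1188) (.leaf 3699))))))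

def threePar2 : Janko.Tree (ℕ) :=
  (.node (.node (.node (.node (.node (.node (.leaf 1) (.leaf 3968)) (.leaf 1348)) (.node (.node (.leaf 548) (.leaf 6069)) (.leaf 2465))) (.node (.node (.node (.leaf 227) (.leaf 4944)) (.leaf 1970)) (.node (.node (.leaf 946) (.leaf 8516)) (.leaf 3140)))) (.node (.node (.node (.node (.leaf 114) (.leaf 4403)) (.leaf 1573)) (.node (.node (.leaf 720) (.leaf 6848)) (.leaf 2755))) (.node (.node (.node (.leaf 357) (.leaf 5411)) (.leaf 2212)) (.node (.leaf 1107) (.leaf 3491))))) (.node (.node (.node (.node (.node (.leaf 37) (.leaf 4244)) (.leaf 1459)) (.node (.node (.leaf 627) (.leaf 6371)) (.leaf 2627))) (.node (.node (.node (.leaf 304) (.leaf 5235)) (.leaf 2096)) (.node (.node (.leaf 1026) (.leaf 9668)) (.leaf 3363)))) (.node (.node (.node (.node (.leaf 161) (.leaf 4688)) (.leaf 1699)) (.node (.node (.leaf 816) (.leaf 7587)) (.leaf 2915))) (.node (.node (.node (.leaf 453) (.leaf 5716)) (.leaf 2336)) (.node (.leaf 1200) (.leaf 3729))))))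

def threePar3 : Janko.Tree (ℕ) :=
  (.node (.node (.node (.node (.node (.node (.leaf 2) (.leaf 3985)) (.leaf 1361)) (.node (.node (.leaf 561) (.leaf 6097)) (.leaf 2469))) (.node (.node (.node (.leaf 228) (.leaf 4960)) (.leaf 1971)) (.node (.node (.leaf 947) (.leaf 8533)) (.leaf 3141)))) (.node (.node (.node (.node (.leaf 115) (.leaf 4404)) (.leaf 1601)) (.node (.node (.leaf 723) (.leaf 6880)) (.leaf 2769))) (.node (.node (.node (.leaf 373) (.leaf 5412)) (.leaf 2226)) (.node (.leaf 1108) (.leaf 3504))))) (.node (.node (.node (.node (.node (.leaf 48) (.leaf 4257)) (.leaf 1473)) (.node (.node (.leaf 628) (.leaf 6388)) (.leaf 2628))) (.node (.node (.node (.leaf 305) (.leaf 5249)) (.leaf 2097)) (.node (.node (.leaf 1027) (.leaf 9683)) (.leaf 3364)))) (.node (.node (.node (.node (.leaf 163) (.leaf 4691)) (.leaf 1713)) (.node (.node (.leaf 817) (.leaf 7604)) (.leaf 2929))) (.node (.node (.node (.leaf 464) (.leaf 5717)) (.leaf 2339)) (.node (.leaf 1201) (.leaf 3731))))))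

def threePar4 : Janko.Tree (ℕ) :=
  (.node (.node (.node (.node (.node (.node (.leaf 3) (.leaf 4052)) (.leaf 1363)) (.node (.node (.leaf 563) (.leaf 6099)) (.leaf 2496))) (.node (.node (.node (.leaf 229) (.leaf 5040)) (.leaf 1972)) (.node (.node (.leaf 948) (.leaf 8548)) (.leaf 3172)))) (.node (.node (.node (.node (.leaf 116) (.leaf 4417)) (.leaf 1616)) (.node (.node (.leaf 724) (.leaf 6896)) (.leaf 2785))) (.node (.node (.node (.leaf 384) (.leaf 5427)) (.leaf 2227)) (.node (.leaf 1109) (.leaf 3552))))) (.node (.node (.node (.node (.node (.leaf 50) (.leaf 4260)) (.leaf 1475)) (.node (.node (.leaf 629) (.leaf 6404)) (.leaf 2641))) (.node (.node (.node (.leaf 306) (.leaf 5253)) (.leaf 2099)) (.node (.node (.leaf 1028) (.leaf 9985)) (.leaf 3376)))) (.node (.node (.node (.node (.leaf 164) (.leaf 4704)) (.leaf 1728)) (.node (.node (.leaf 820) (.leaf 7667)) (.leaf 2944))) (.node (.node (.node (.leaf 465) (.leaf 5777)) (.leaf 2340)) (.node (.leaf 1205) (.leaf 3732))))))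

def threePar5 : Janko.Tree (ℕ) :=
  (.node (.node (.node (.node (.node (.node (.leaf 4) (.leaf 4068)) (.leaf 1379)) (.node (.node (.leaf 564) (.leaf 6113)) (.leaf 2497))) (.node (.node (.node (.leaf 242) (.leaf 5056)) (.leaf 1988)) (.node (.node (.leaf 949) (.leaf 8563)) (.leaf 3217)))) (.node (.node (.node (.node (.leaf 117) (.leaf 4420)) (.leaf 1617)) (.node (.node (.leaf 736) (.leaf 7044)) (.leaf 2787))) (.node (.node (.node (.leaf 385) (.leaf 5428)) (.leaf 2228)) (.node (.leaf 1121) (.leaf 3555))))) (.node (.node (.node (.node (.node (.leaf 51) (.leaf 4261)) (.leaf 1476)) (.node (.node (.leaf 643) (.leaf 6419)) (.leaf 2643))) (.node (.node (.node (.leaf 307) (.leaf 5285)) (.leaf 2100)) (.node (.node (.leaf 1029) (.leaf 10021)) (.leaf 3379)))) (.node (.node (.node (.node (.leaf 165) (.leaf 4720)) (.leaf 1729)) (.node (.node (.leaf 835) (.leaf 7685)) (.leaf 2961))) (.node (.node (.node (.leaf 467) (.leaf 5779)) (.leaf 2341)) (.node (.leaf 1219) (.leaf 3749))))))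

def threePar6 : Janko.Tree (ℕ) :=
  (.node (.node (.node (.node (.node (.node (.leaf 5) (.leaf 4083)) (.leaf 1380)) (.node (.node (.leaf 579) (.leaf 6131)) (.leaf 2499))) (.node (.node (.node (.leaf 243) (.leaf 5107)) (.leaf 2000)) (.node (.node (.leaf 960) (.leaf 8677)) (.leaf 3219)))) (.node (.node (.node (.node (.leaf 128) (.leaf 4435)) (.leaf 1619)) (.node (.node (.leaf 737) (.leaf 7124)) (.leaf 2788))) (.node (.node (.node (.leaf 387) (.leaf 5441)) (.leaf 2229)) (.node (.leaf 1123) (.leaf 3573))))) (.node (.node (.node (.node (.node (.leaf 52) (.leaf 4275)) (.leaf 1489)) (.node (.node (.leaf 644) (.leaf 6435)) (.leaf 2659))) (.node (.node (.node (.leaf 308) (.leaf 5315)) (.leaf 2113)) (.node (.node (.leaf 1042) (.leaf 10051)) (.leaf 3381)))) (.node (.node (.node (.node (.leaf 179) (.leaf 4721)) (.leaf 1731)) (.node (.node (.leaf 836) (.leaf 7811)) (.leaf 3013))) (.node (.node (.node (.leaf 468) (.leaf 5793)) (.leaf 2355)) (.node (.leaf 1237) (.leaf 3792))))))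

def threePar7 : Janko.Tree (ℕ) :=
  (.node (.node (.node (.node (.node (.node (.leaf 16) (.leaf 4100)) (.leaf 1395)) (.node (.node (.leaf 580) (.leaf 6144)) (.leaf 2517))) (.node (.node (.node (.leaf 244) (.leaf 5108)) (.leaf 2001)) (.node (.node (.leaf 963) (.leaf 9315)) (.leaf 3233)))) (.node (.node (.node (.node (.leaf 129) (.leaf 4449)) (.leaf 1633)) (.node (.node (.leaf 739) (.leaf 7152)) (.leaf 2800))) (.node (.node (.node (.leaf 400) (.leaf 5473)) (.leaf 2243)) (.node (.leaf 1124) (.leaf 3589))))) (.node (.node (.node (.node (.node (.leaf 53) (.leaf 4276)) (.leaf 1492)) (.node (.node (.leaf 645) (.leaf 6436)) (.leaf 2660))) (.node (.node (.node (.leaf 320) (.leaf 5316)) (.leaf 2116)) (.node (.node (.leaf 1043) (.leaf 10132)) (.leaf 3395)))) (.node (.node (.node (.node (.leaf 180) (.leaf 4739)) (.leaf 1748)) (.node (.node (.leaf 864) (.leaf 7825)) (.leaf 3043))) (.node (.node (.node (.leaf 483) (.leaf 5829)) (.leaf 2356)) (.node (.leaf 1248) (.leaf 3793))))))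

def threePar8 : Janko.Tree (ℕ) :=
  (.node (.node (.node (.node (.node (.node (.leaf 17) (.leaf 4115)) (.leaf 1396)) (.node (.node (.leaf 581) (.leaf 6161)) (.leaf 2547))) (.node (.node (.node (.leaf 245) (.leaf 5121)) (.leaf 2003)) (.node (.node (.leaf 964) (.leaf 9332)) (.leaf 3235)))) (.node (.node (.node (.node (.leaf 130) (.leaf 4451)) (.leaf 1648)) (.node (.node (.leaf 740) (.leaf 7153)) (.leaf 2803))) (.node (.node (.node (.leaf 401) (.leaf 5475)) (.leaf 2244)) (.node (.leaf 1125) (.leaf 3617))))) (.node (.node (.node (.node (.node (.leaf 64) (.leaf 4277)) (.leaf 1493)) (.node (.node (.leaf 656) (.leaf 6548)) (.leaf 2673))) (.node (.node (.node (.leaf 323) (.leaf 5331)) (.leaf 2131)) (.node (.node (.leaf 1044) (.leaf 10291)) (.leaf 3396)))) (.node (.node (.node (.node (.leaf 181) (.leaf 4740)) (.leaf 1765)) (.node (.node (.leaf 865) (.leaf 7861)) (.leaf 3044))) (.node (.node (.node (.leaf 485) (.leaf 5859)) (.leaf 2357)) (.node (.leaf 1249) (.leaf 3795))))))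

def threePar9 : Janko.Tree (ℕ) :=
  (.node (.node (.node (.node (.node (.node (.leaf 18) (.leaf 4131)) (.leaf 1409)) (.node (.node (.leaf 597) (.leaf 6176)) (.leaf 2548))) (.node (.node (.node (.leaf 256) (.leaf 5123)) (.leaf 2005)) (.node (.node (.leaf 976) (.leaf 9396)) (.leaf 3248)))) (.node (.node (.node (.node (.leaf 131) (.leaf 4468)) (.leaf 1649)) (.node (.node (.leaf 755) (.leaf 7157)) (.leaf 2804))) (.node (.node (.node (.leaf 403) (.leaf 5492)) (.leaf 2257)) (.node (.leaf 1139) (.leaf 3619))))) (.node (.node (.node (.node (.node (.leaf 65) (.leaf 4293)) (.leaf 1507)) (.node (.node (.leaf 657) (.leaf 6564)) (.leaf 2676))) (.node (.node (.node (.leaf 324) (.leaf 5332)) (.leaf 2132)) (.node (.leaf 1045) (.leaf 3397)))) (.node (.node (.node (.node (.leaf 197) (.leaf 4768)) (.leaf 1780)) (.node (.node (.leaf 867) (.leaf 7907)) (.leaf 3057))) (.node (.node (.node (.leaf 501) (.leaf 5860)) (.leaf 2387)) (.node (.leaf 1251) (.leaf 3809))))))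

def threePar10 : Janko.Tree (ℕ) :=
  (.node (.node (.node (.node (.node (.node (.leaf 19) (.leaf 4132)) (.leaf 1411)) (.node (.node (.leaf 608) (.leaf 6179)) (.leaf 2561))) (.node (.node (.node (.leaf 257) (.leaf 5140)) (.leaf 2020)) (.node (.node (.leaf 977) (.leaf 9475)) (.leaf 3249)))) (.node (.node (.node (.node (.leaf 132) (.leaf 4485)) (.leaf 1651)) (.node (.node (.leaf 756) (.leaf 7187)) (.leaf 2816))) (.node (.node (.node (.leaf 404) (.leaf 5508)) (.leaf 2259)) (.node (.leaf 1140) (.leaf 3620))))) (.node (.node (.node (.node (.node (.leaf 67) (.leaf 4305)) (.leaf 1508)) (.node (.node (.leaf 659) (.leaf 6579)) (.leaf 2691))) (.node (.node (.node (.leaf 325) (.leaf 5345)) (.leaf 2145)) (.node (.leaf 1056) (.leaf 3427)))) (.node (.node (.node (.node (.leaf 208) (.leaf 4787)) (.leaf 1795)) (.node (.node (.leaf 868) (.leaf 7923)) (.leaf 3059))) (.node (.node (.node (.leaf 528) (.leaf 5875)) (.leaf 2389)) (.node (.leaf 1252) (.leaf 3827))))))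

def threePar11 : Janko.Tree (ℕ) :=
  (.node (.node (.node (.node (.node (.node (.leaf 20) (.leaf 4147)) (.leaf 1412)) (.node (.node (.leaf 609) (.leaf 6224)) (.leaf 2563))) (.node (.node (.node (.leaf 259) (.leaf 5156)) (.leaf 2021)) (.node (.node (.leaf 979) (.leaf 9489)) (.leaf 3252)))) (.node (.node (.node (.node (.leaf 133) (.leaf 4500)) (.leaf 1652)) (.node (.node (.leaf 757) (.leaf 7205)) (.leaf 2817))) (.node (.node (.node (.leaf 416) (.leaf 5523)) (.leaf 2261)) (.node (.leaf 1141) (.leaf 3636))))) (.node (.node (.node (.node (.node (.leaf 68) (.leaf 4307)) (.leaf 1509)) (.node (.node (.leaf 661) (.leaf 6675)) (.leaf 2692))) (.node (.node (.node (.leaf 336) (.leaf 5348)) (.leaf 2147)) (.node (.leaf 1059) (.leaf 3428)))) (.node (.node (.node (.node (.leaf 209) (.leaf 4800)) (.leaf 1841)) (.node (.node (.leaf 883) (.leaf 7985)) (.leaf 3076))) (.node (.node (.node (.leaf 529) (.leaf 5892)) (.leaf 2404)) (.node (.leaf 1269) (.leaf 3828))))))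

def threePar12 : Janko.Tree (ℕ) :=
  (.node (.node (.node (.node (.node (.node (.leaf 21) (.leaf 4161)) (.leaf 1413)) (.node (.node (.leaf 610) (.leaf 6241)) (.leaf 2579))) (.node (.node (.node (.leaf 260) (.leaf 5171)) (.leaf 2051)) (.node (.node (.leaf 981) (.leaf 9523)) (.leaf 3281)))) (.node (.node (.node (.node (.leaf 144) (.leaf 4515)) (.leaf 1664)) (.node (.node (.leaf 785) (.leaf 7283)) (.leaf 2849))) (.node (.node (.node (.leaf 417) (.leaf 5553)) (.leaf 2276)) (.node (.leaf 1168) (.leaf 3637))))) (.node (.node (.node (.node (.node (.leaf 69) (.leaf 4308)) (.leaf 1525)) (.node (.node (.leaf 675) (.leaf 6688)) (.leaf 2705))) (.node (.node (.node (.leaf 337) (.leaf 5363)) (.leaf 2148)) (.node (.leaf 1060) (.leaf 3443)))) (.node (.node (.node (.node (.leaf 210) (.leaf 4816)) (.leaf 1856)) (.node (.node (.leaf 885) (.leaf 8051)) (.leaf 3091))) (.node (.node (.node (.leaf 530) (.leaf 5908)) (.leaf 2405)) (.node (.leaf 1285) (.leaf 3840))))))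

def threePar13 : Janko.Tree (ℕ) :=
  (.node (.node (.node (.node (.node (.node (.leaf 32) (.leaf 4177)) (.leaf 1427)) (.node (.node (.leaf 611) (.leaf 6275)) (.leaf 2580))) (.node (.node (.node (.leaf 261) (.leaf 5187)) (.leaf 2052)) (.node (.node (.leaf 995) (.leaf 9572)) (.leaf 3299)))) (.node (.node (.node (.node (.leaf 146) (.leaf 4577)) (.leaf 1667)) (.node (.node (.leaf 787) (.leaf 7313)) (.leaf 2864))) (.node (.node (.node (.leaf 420) (.leaf 5605)) (.leaf 2277)) (.node (.leaf 1169) (.leaf 3667))))) (.node (.node (.node (.node (.node (.leaf 83) (.leaf 4323)) (.leaf 1537)) (.node (.node (.leaf 676) (.leaf 6704)) (.leaf 2707))) (.node (.node (.node (.leaf 339) (.leaf 5364)) (.leaf 2163)) (.node (.leaf 1061) (.leaf 3444)))) (.node (.node (.node (.node (.leaf 211) (.leaf 4848)) (.leaf 1873)) (.node (.node (.leaf 901) (.leaf 8128)) (.leaf 3092))) (.node (.node (.node (.leaf 531) (.leaf 5923)) (.leaf 2433)) (.node (.leaf 1313) (.leaf 3859))))))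

def threePar14 : Janko.Tree (ℕ) :=
  (.node (.node (.node (.node (.node (.node (.leaf 33) (.leaf 4211)) (.leaf 1428)) (.node (.node (.leaf 612) (.leaf 6291)) (.leaf 2595))) (.node (.node (.node (.leaf 275) (.leaf 5188)) (.leaf 2067)) (.node (.node (.leaf 996) (.leaf 9587)) (.leaf 3301)))) (.node (.node (.node (.node (.leaf 147) (.leaf 4629)) (.leaf 1668)) (.node (.node (.leaf 800) (.leaf 7331)) (.leaf 2865))) (.node (.node (.node (.leaf 421) (.leaf 5636)) (.leaf 2304)) (.node (.leaf 1171) (.leaf 3668))))) (.node (.node (.node (.node (.node (.leaf 84) (.leaf 4325)) (.leaf 1539)) (.node (.node (.leaf 677) (.leaf 6705)) (.leaf 2708))) (.node (.node (.node (.leaf 340) (.leaf 5379)) (.leaf 2165)) (.node (.leaf 1075) (.leaf 3445)))) (.node (.node (.node (.node (.leaf 212) (.leaf 4849)) (.leaf 1925)) (.node (.node (.leaf 929) (.leaf 8260)) (.leaf 3108))) (.node (.node (.node (.leaf 532) (.leaf 5936)) (.leaf 2435)) (.node (.leaf 1316) (.leaf 3873))))))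

def threePar15 : Janko.Tree (ℕ) :=
  (.node (.node (.node (.node (.node (.node (.leaf 34) (.leaf 4228)) (.leaf 1429)) (.node (.node (.leaf 613) (.leaf 6292)) (.leaf 2596))) (.node (.node (.node (.leaf 276) (.leaf 5204)) (.leaf 2068)) (.node (.node (.leaf 997) (.leaf 9603)) (.leaf 3317)))) (.node (.node (.node (.node (.leaf 148) (.leaf 4657)) (.leaf 1680)) (.node (.node (.leaf 801) (.leaf 7444)) (.leaf 2867))) (.node (.node (.node (.leaf 435) (.leaf 5684)) (.leaf 2307)) (.node (.leaf 1184) (.leaf 3681))))) (.node (.node (.node (.node (.node (.leaf 85) (.leaf 4341)) (.leaf 1540)) (.node (.node (.leaf 706) (.leaf 6768)) (.leaf 2723))) (.node (.node (.node (.leaf 341) (.leaf 5380)) (.leaf 2181)) (.node (.leaf 1076) (.leaf 3459)))) (.node (.node (.node (.node (.leaf 213) (.leaf 4896)) (.leaf 1953)) (.node (.node (.leaf 931) (.leaf 8451)) (.leaf 3123))) (.node (.node (.node (.leaf 533) (.leaf 6005)) (.leaf 2448)) (.node (.leaf 1331) (.leaf 3888))))))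

/-- a table -/
def threePar : Janko.Tree (ℕ) := (.node (.node (.node (.node threePar0 threePar8) (.node threePar4 threePar12)) (.node (.node threePar2 threePar10) (.node threePar6 threePar14))) (.node (.node (.node threePar1 threePar9) (.node threePar5 threePar13)) (.node (.node threePar3 threePar11) (.node threePar7 threePar15))))

def threeL0 : Janko.Tree (List ℤ) :=
  (.node (.node (.node (.node (.node (.node (.node (.node (.node (.leaf []) (.leaf [-210218, -184068, -342063, -7205, 1584723, -687694, -40254, -307509, -345, -325875, 884201, 1109661, 169, -857688, -27820, 7374, -401279, -52766, 7])) (.leaf [-2, 70, 111, 1, -227, 115, 1, -17, -2, 145, -125, -132, 0, 45, 16, 1, 37, 0, 0])) (.node (.leaf [0, 0, 0, 0, 1, 0, 0, 0, 0, 0, 0, 0, 0, 0, 0, 0, 0, 0, 0]) (.leaf [-3084463985, -2524722785, -4781153068, -137115244, 23135345846, -10065119858, -575294131, -4648012191, 2033667, -4630463170, 12936199810, 16110761645, 73688, -12616354530, -394463887, 134998752, -5888586410, -736244018, 9138]))) (.node (.node (.leaf [3, -39,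 -57, -1, 49, -15, 0, 18, 0, -27, 6, 48, 0, -9, 0, 1, -13, 3, 0]) (.leaf [11352195082, 8572217425, 16641760436, 492883680, -82494111203, 35819354714, 2078436210, 17036854842, -6008701, 15727101340, -46188578773, -57651303300, -535888, 45697434867, 1303750686, -486247831, 21070023515, 2696100268, -91260])) (.node (.leaf [-4, 97, 164, 0, -472, 182, -5, 26, 0, 196, -213, -290, 0, 174, 24, 0, 102, 0, 0]) (.leaf [-33, -215, -425, 0, 779, -379, 3, 40, 0, -417, 407, 500, 0, -252, -36, 0, -110, -6, 0])))) (.node (.node (.node (.node (.leaf []) (.leaf [753, 758, 1320, 36, -6430, 2833, 154, 1212, 0, 1545, -3664, -4360, 0, 3276, 172, -36, 1609, 204, 0])) (.leaf [])) (.node (.leaf [8, 86, 117, -6, 126, -5, -2, -120, 0, 63, 51, 54, 0, -138, 0, 6, -51, -5, 0]) (.leaf [13433192, 13392507, 24001864, 635529, -109627215, 47926579, 2636412, 20481927, -13341, 24558499, -61096689, -75652824, 468, 57410340, 2213097, -622748, 27657972, 3255005, 92]))) (.node (.node (.leaf [8224, 7730, 14070, 369, -66339, 28918, 1599, 12722, 0, 14472, -37016, -45738,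 0, 35100, 1309, -369, 16767, 2015, 0]) (.leaf [-1923146889, -1516407684, -2905052530, -85184254, 14210884001, -6176420623, -354845606, -2893065816, 1414741, -2779034005, 7948677575, 9912889440, 7890, -7807824388, -233819652, 83786060, -3624006431, -456268854, -24437])) (.node (.leaf [-2813418697, -2253550223, -4295649437, -124282950, 20919941344, -9096414234, -522020556, -4234707159, 1769396, -4133083448, 11701460464, 14582235633, 82709, -11457133449, -349614114, 122421290, -5329789141, -670504334, 9555]) (.leaf [-99855452, -81071896, -153903102, -4438066, 746763413, -324832909, -18587537, -150469043, 66409, -148775665, 417621288, 520152550, 1938, -407849436, -12645619, 4369428, -190139895, -23814092, 291]))))) (.node (.node (.node (.node (.node (.leaf [0, 0, -1, -1, 0, 0, 0, 0, 0, 0, 0, 0, 0, 0, 0, 1, 0, 0, 0]) (.leaf [1300271344, 1094742191, 2055871609, 58272109, -9864789853, 4294676244, 244181912, 1962267482, -910909, 2007560784, -5513370613, -6860937153, -21951, 5349495750, 172539251, -57337050, 2507750152, 310990990,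 -2199])) (.leaf [224489600, 189846071, 356054372, 10059978, -1706211176, 742883864, 42216879, 338840598, -153462, 348159832, -953553447, -1186442775, -4843, 924422085, 29962583, -9900613, 433633548, 53742577, -1060])) (.node (.leaf [0, 0, 0, 0, -1, 0, 0, 0, 0, 1, 0, 0, 0, 0, 0, 0, 0, 0, 0]) (.leaf [0, 0, 1, 1, 0, -1, 0, 0, 0, 0, 0, 0, 0, 0, 0, -1, 0, 1, 0]))) (.node (.node (.leaf [0, -1, 0, -1, 0, -1, 0, 0, 0, 0, 0, 0, 1, 0, 0, 0, 0, 0, 0]) (.leaf [203857, 192357, 350054, 9517, -1613463, 704189, 39363, 307431, -191, 349006, -899466, -1118592, 12, 856167, 30693, -9338, 408282, 49042, 0])) (.node (.leaf [6, 1, -1, -1, 5, 0, 0, 0, 0, -6, 0, -1, 0, 0, 0, 1, 1, 0, 0]) (.leaf [-2861266, -2428784, -4564097, -140399, 21950264, -9561884, -533904, -4368996, 4955, -4495375, 12254586, 15225954, -864, -11873652, -388750, 136388, -5580580, -670701, -80])))) (.node (.node (.node (.leaf []) (.leaf [-6640, -7133, -12850, -300, 54753, -24151, -1326, -9694, -5, -12774, 30439, 37866, 0, -28392, -1015, 305, -13587, -1598, 0])) (.node (.leaf [0,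 0, 0, 0, 1, 0, 0, 0, 0, 0, 0, 0, 0, 0, 0, 0, 0, 0, 0]) (.leaf [14493250516, 10910097987, 21201190729, 628654368, -105196858670, 45673815693, 2651892392, 21748027961, -7552446, 20017940262, -58903558684, -73526591626, -701486, 58307668437, 1657634296, -620269909, 26871848155, 3441830559, -130527]))) (.node (.node (.leaf [-2, 1, 2, -1, 0, -1, -1, 0, 0, 0, 3, 0, 0, 0, 0, 1, 0, -2, 0]) (.leaf [101177783, 89266087, 165381955, 4606697, -782864667, 341229357, 19227189, 153141414, -78957, 163750503, -437217932, -543285650, 71, 420516332, 14275971, -4527567, 198598029, 24282756, -244])) (.node (.leaf [5547, 4097, 7789, 242, -39162, 17038, 1022, 8174, -8, 7329, -22063, -27492, 0, 21726, 647, -234, 10107, 1315, 0]) (.leaf [-67671712, -60231357, -111308470, -3073900, 525352683, -229028826, -12894033, -102412530, 49851, -110440009, 293368433, 364477908, 1029, -281704011, -9649536, 3022714, -133209655, -16271955, 306])))))) (.node (.node (.node (.node (.node (.node (.leaf []) (.leaf [222, 200, 342, 9, -1732, 733, 38, 350, 0, 342, -953,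 -1207, 0, 924, 45, -9, 466, 46, 0])) (.leaf [-4575, -1900, -3876, -189, 25037, -10639, -816, -6573, 0, -2271, 14236, 18574, 0, -15714, -144, 189, -7052, -990, 0])) (.node (.leaf [-582254730, -476832572, -902852650, -25873391, 4368155803, -1900402413, -108624138, -877415982, 379239, -874563174, 2442478785, 3041790063, 15084, -2381832633, -74515804, 25476752, -1111772368, -139017769, 2316]) (.leaf [0, 0, 0, 0, 1, 0, 0, 0, 0, 0, 0, 0, 0, 0, 0, 0, 0, 0, 0]))) (.node (.node (.leaf [-165492540, -150021460, -275833435, -7581819, 1295175293, -564889707, -31672917, -250828328, 132634, -275146174, 723007325, 897744528, -75, -691876590, -24173486, 7448962, -328152777, -39821311, 298]) (.leaf [2889, 2226, 4379, 134, -21568, 9388, 534, 4424, -3, 4212, -12056, -14992, -1, 11908, 325, -130, 5449, 692, 0])) (.node (.leaf []) (.leaf [-36298949, -33119990, -60771673, -1651601, 284672541, -124174493, -6964521, -54977291, 25669, -60694495, 158909588, 197302680, 1101, -151878948, -5340322, 1624653, -72100010, -8756852, 178])))) (.node (.node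 (.node (.leaf [8, -24, -40, -3, 31, -18, 0, 14, -1, -30, 9, 21, 0, 3, 0, 4, -4, 5, 0]) (.leaf [1134272099, 1222461645, 2147908499, 54819630, -9595605714, 4203629077, 228058354, 1738067246, -1148087, 2242893596, -5342143208, -6597525089, 39741, 4941121886, 205843463, -53700240, 2411574782, 277655351, -11044])) (.node (.leaf [307, 122, 302, 15, -2268, 902, 39, 558, 0, 331, -1235, -1545, 0, 1314, 70, -15, 623, 64, 0]) (.leaf [-13178640132, -9957005778, -19326795955, -572404235, 95787379799, -41591855867, -2413006148, -19778658456, 7037279, -18267330189, 53630597646, 66939696606, 608361, -53055656217, -1514636824, 564659301, -24464898261, -3129667852, 99294]))) (.node (.node (.leaf []) (.leaf [-851, -1255, -2260, -39, 8555, -3764, -155, -1226, 0, -2440, 4672, 5736, 0, -4086, -240, 39, -2029, -208, 0])) (.node (.leaf [0, -1, 0, 1, 0, 0, 0, 0, 0, 0, 0, 1, 0, 0, 0, -1, 0, 0, 0]) (.leaf [138773708, 107653411, 207243986, 6083102, -1019065794, 442767590, 25554353, 208572636, -83028, 197479155, -570296824, -711325511, -4510, 561595980,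 16526277, -5994981, 259994248, 32991504, -582]))))) (.node (.node (.node (.node (.node (.leaf [1, 0, 0, 0, 0, 1, 0, 0, 0, 0, -1, 0, 0, 0, 0, 0, 0, 0, 0]) (.leaf [-3655991, -3631655, -6516640, -170754, 29810796, -13028089, -718325, -5577180, 2965, -6667218, 16615750, 20574672, 41, -15624420, -600313, 167700, -7519233, -889878, 48])) (.leaf [257878, 246764, 448010, 12167, -2061209, 899408, 49831, 391254, -270, 449613, -1148306, -1427060, 6, 1090503, 39956, -11903, 521089, 62000, 0])) (.node (.leaf [-17514, -17969, -32028, -799, 147155, -64539, -3498, -27063, 14, -33979, 82040, 100716, -1, -76195, -3053, 786, -36980, -4265, 0]) (.leaf [-24546547, -21681347, -40161393, -1121346, 190070114, -82848689, -4664729, -37170244, 19932, -39783452, 106145040, 131887804, -258, -102071583, -3469887, 1101639, -48214940, -5887956, 33]))) (.node (.node (.leaf [0, -6, -3, -2, -1, 0, 0, 0, 0, 0, 0, 3, 0, 3, 0, 2, -2, 0, 0]) (.leaf [1738317, 1208553, 2409155, 71178, -12204974, 5287275, 313002, 2586144, -141, 2205897, -6843219, -8569644, -319,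 6871737, 176671, -70707, 3127564, 413154, -11])) (.node (.leaf [59425748, 59550668, 106559872, 2785472, -485703273, 212362667, 11696550, 90515689, -50501, 109122124, -270709610, -335180976, -381, 254093811, 9840328, -2734330, 122487852, 14453043, -260]) (.leaf [70028, -185452, -211989, 3187, 315328, -157883, -1505, 98334, -549, -323798, 157490, 163658, 210, 61999, -38910, -2871, -53692, 7062, 23])))) (.node (.node (.node (.leaf []) (.leaf [-16, -6, -8, 0, 6, -3, 0, -2, 0, 14, 4, 18, 0, -12, 0, 0, -8, 0, 0])) (.node (.leaf [-196871699, -173642804, -321724481, -8929052, 1522695098, -663675601, -37419819, -297840855, 145410, -318434013, 850420976, 1056812031, 2502, -817999347, -27752563, 8780384, -386264162, -47289644, 756]) (.leaf [0, 0, 0, 0, 1, 0, 0, 0, 0, 0, 0, 0, 0, 0, 0, 0, 0, 0, 0]))) (.node (.node (.leaf [-16160, -15626, -28377, -763, 129031, -56341, -3132, -24376, 13, -28212, 71868, 89493, 0, -68265, -2470, 750, -32554, -3892, 0]) (.leaf [-6340, -4946, -9517, -270, 46906, -20366, -1167, -9567, 0, -9168, 26242, 32676,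 0, -25785, -778, 270, -11953, -1520, 0])) (.node (.leaf [0, 0, 0, 0, 1, 0, 0, 0, 0, 0, 0, 0, 0, 0, 0, 0, 0, 0, 0]) (.leaf [-1739935, -1135610, -2314108, -72961, 11984639, -5187532, -308528, -2593127, 676, -2085569, 6726484, 8426562, 129, -6819417, -163136, 72159, -3079736, -408908, -3]))))))) (.node (.node (.node (.node (.node (.node (.node (.leaf [0, -6, -7, 0, 5, 0, 0, 0, 0, 0, 0, 9, 0, -3, 0, 0, -2, 0, 0]) (.leaf [-80547, -77848, -141624, -3920, 649470, -283019, -15462, -123186, 129, -141982, 361049, 449412, -3, -343398, -12701, 3794, -164088, -19154, 0])) (.leaf [4873085, 4199690, 7831967, 219800, -37328967, 16261430, 920832, 7363743, -3546, 7702514, -20856628, -25934175, -44, 20146894, 666803, -216184, 9479615, 1168090, -26])) (.node (.leaf []) (.leaf [496, 264, 525, 18, -3406, 1450, 78, 795, 0, 585, -1954, -2352, 0, 1920, 90, -18, 901, 123, 0]))) (.node (.node (.leaf [0, -3, -4, 0, -1, -1, 0, 3, 0, -3, 0, 0, 0, 3, 0, 0, 1, 0, 0]) (.leaf [-66399712, -58735288, -108736693, -3011950, 514145686, -224107554, -12630645, -100456485,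 48728, -107697168, 287135282, 356802447, 1008, -276044535, -9392987, 2961928, -130404941, -15956041, 286])) (.node (.leaf [2423223121, 2574288642, 4540406217, 117557255, -20351195484, 8910739827, 483536913, 3708733278, -2913918, 4714743693, -11327323087, -14004857001, 177933, 10515706806, 431146707, -114878012, 5120569621, 588846926, 56742]) (.leaf [-21638677, -26585074, -45292700, -1074177, 194612471, -85507811, -4531016, -33345512, 23807, -48595286, 108086684, 133096273, -295, -97400391, -4579497, 1050586, -48616676, -5381632, 79])))) (.node (.node (.node (.node (.leaf [1, 0, 2, 0, 0, 0, 0, -2, 0, 0, 1, 0, 0, 0, 0, 0, 0, 0, 0]) (.leaf [0, 0, 0, 0, 0, 0, 0, 0, 0, 0, 1, 0, 0, 0, 0, 0, 0, 0, 0])) (.leaf [-3505991867, -2284767242, -4658876824, -146734075, 24139670164, -10444945935, -621819017, -5226843933, 1293149, -4193110558, 13546472226, 16976762104, 257253, -13742521860, -327911238, 145149611, -6204243310, -824674642, 34062])) (.node (.leaf [656319, 383144, 814219, 29242, -4386739, 1896673, 113160, 983076, -728, 714044,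 -2465871, -3089670, 117, 2539827, 53422, -28645, 1132776, 150524, 14]) (.leaf [-3433185743, -2901326535, -5442709101, -154092738, 26085857744, -11357464317, -645210966, -5182111530, 2458407, -5319860061, 14577909893, 18139840896, 48747, -14135620968, -457731174, 151585251, -6630409546, -821125648, 333]))) (.node (.node (.leaf [0, 0, 1, 2, -1, 0, 0, 0, 0, 0, 0, 0, 0, 0, 0, -2, 1, 0, 0]) (.leaf [-582, -603, -1237, -26, 5405, -2384, -112, -873, 0, -1422, 2988, 3547, -1, -2721, -110, 27, -1261, -165, 0])) (.node (.leaf [-48665819, -8915795, -34492274, -1748694, 244848966, -103012497, -6963588, -69187101, 82090, -13332759, 138067177, 180685260, -2454, -165279566, 476143, 1692306, -66211757, -10165238, -23248]) (.leaf [-897861, -1389117, -2252334, -34826, 8908084, -3924197, -207569, -1348935, -1836, -2472203, 4928404, 6076292, 960, -4240006, -240560, 35625, -2196592, -244866, 77]))))) (.node (.node (.node (.node (.node (.leaf []) (.leaf [12454148, 10711582, 19981579, 558803, -95278842, 41505425, 2353350, 18805224, -8241, 19637309,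 -53241790, -66207027, -384, 51443715, 1698764, -550121, 24198131, 2987765, -57])) (.leaf [-1, 0, 0, 0, -1, 0, 0, 0, 0, 1, 0, 0, 0, 0, 0, 0, 0, 0, 0])) (.node (.leaf [47, -38, -55, 6, -154, 14, 1, 120, 0, -105, -63, -145, 0, 180, 2, -6, 79, 7, 0]) (.leaf [-101176048, -89265515, -165381225, -4606637, 782860173, -341227690, -19226913, -153139407, 78957, -163752039, 437215450, 543280799, -71, -420512177, -14276123, 4527507, -198596153, -24282550, 244]))) (.node (.node (.leaf [-531523, -970628, -1526326, -24938, 5865535, -2602742, -131607, -823812, -548, -1756415, 3243905, 3951537, 399, -2674161, -175540, 25019, -1435293, -147256, 68]) (.leaf [4, -20, -39, 5, 115, -49, 1, -7, 0, -54, 56, 68, 0, -45, -4, -5, -16, -1, 0])) (.node (.leaf [0, 0, 0, 0, 1, 0, 0, 0, 0, 0, 0, 0, 0, 0, 0, 0, 0, 0, 0]) (.leaf [-661058318, -502688966, -973776058, -28822798, 4816865649, -2091865762, -121164057, -992527609, 380237, -922142435, 2696512183, 3365202862, 24244, -2664738076, -76636007, 28415992, -1230003626, -156923542, 2325])))) (.node (.node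 (.node (.leaf [0, 0, 1, 0, 0, 0, 0, 0, 0, 0, 0, 0, 0, 0, 0, 0, 0, 0, 0]) (.leaf [])) (.node (.leaf []) (.leaf [-1063222826, -1162020142, -2034749102, -51625744, 9054191752, -3967857746, -214679015, -1630764376, 1097871, -2132021414, 5039589760, 6221167884, -40878, -4648146105, -196281744, 50557897, -2274007835, -260644796, 10854]))) (.node (.node (.leaf [188661343, 158977316, 298472123, 8443453, -1431753535, 623330195, 35448711, 284693373, -127449, 291539974, -800215952, -995763822, -4399, 776280969, 25061225, -8310641, 363936489, 45156241, -964]) (.leaf [22817, 17383, 33616, 991, -166470, 72301, 4180, 34285, -13, 31926, -93195, -116250, 0, 92019, 2668, -978, 42525, 5409, 0])) (.node (.leaf [20, -40, -90, 0, 262, -97, 5, -6, 0, -132, 113, 138, 0, -90, -13, 0, -40, -3, 0]) (.leaf [13880090, 15104757, 26477121, 671615, -117891758, 51652968, 2796639, 21267545, -14485, 27683838, -65613627, -81036270, 450, 60588585, 2545839, -657588, 29619028, 3397951, 8])))))) (.node (.node (.node (.node (.node (.node (.leaf []) (.leaf [1015796654,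 838009441, 1583262156, 45272266, -7643464083, 3325959556, 189813142, 1531410988, -685047, 1536967294, -4273303032, -5320770519, -21184, 4161706332, 131262788, -44563463, 1944807151, 242582640, -2571])) (.leaf [140, 116, 113, 6, -907, 418, 42, 216, 0, 162, -560, -648, 0, 468, 22, -6, 277, 34, 0])) (.node (.leaf [938444, 1151954, 1961419, 45572, -8426163, 3704157, 197340, 1441911, -628, 2106979, -4684046, -5763264, -90, 4215732, 198328, -44819, 2103548, 235425, -35]) (.leaf [1349265, 626085, 1458077, 53770, -8368498, 3595353, 224582, 1990772, -431, 1153803, -4717991, -5960061, -80, 5034999, 74475, -53279, 2179729, 309902, 20]))) (.node (.node (.leaf [22291, -181953, -229105, -699, 555033, -261372, -7650, 19610, -77, -330698, 296524, 332219, 57, -104595, -38078, 701, -119796, -1079, 18]) (.leaf [427066, 544042, 918874, 20916, -3906636, 1718963, 90954, 657711, -285, 994908, -2170354, -2667513, -46, 1938306, 94257, -20569, 973469, 107710, -16])) (.node (.leaf [-4028, -3757, -6853, -180, 32243, -14064, -780, -6187, 0, -7008, 18003,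 22254, 0, -17085, -632, 180, -8150, -984, 0]) (.leaf [-44850, -42282, -76895, -2091, 358098, -156332, -8675, -68414, 42, -77901, 199798, 247544, -1, -189632, -6954, 2050, -90564, -10829, 0])))) (.node (.node (.node (.leaf []) (.leaf [23247, 23085, 41764, 1090, -187711, 82060, 4533, 34951, -16, 41703, -104418, -129990, 0, 98772, 3600, -1074, 47236, 5602, 0])) (.node (.leaf [206754, 195922, 356399, 9773, -1652102, 721276, 39951, 314892, -222, 359802, -921177, -1142452, 15, 874602, 31962, -9566, 417688, 49722, 0]) (.leaf [-370836301, -350451441, -637220587, -17397066, 2954083881, -1289610508, -71526015, -563501481, 403091, -641715376, 1647176082, 2043942591, -22025, -1564940247, -57002863, 17026978, -747402596, -89002900, -10978]))) (.node (.node (.leaf []) (.leaf [-158850, -152058, -275764, -7373, 1273008, -555770, -30834, -241506, 135, -278679, 709734, 880380, 0, -672687, -24801, 7238, -321642, -38428, 0])) (.node (.leaf [1276901, 1222670, 2216907, 59293, -10231206, 4466546, 247797, 1940934, -1101, 2239422, -5703953, -7076340,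 9, 5406429, 199435, -58203, 2585348, 308755, 2]) (.leaf [4568990188, 3282598284, 6476043942, 196069529, -32582358776, 14130301745, 826921288, 6840814988, -2267968, 6021590101, -18256048596, -22819971947, -235298, 18220632426, 490055247, -193543390, 8340315987, 1080699991, -22873]))))) (.node (.node (.node (.node (.node (.leaf [4, 6, 19, 0, 18, 5, 0, -11, 0, 12, -5, 6, 0, -12, 0, 0, -18, 4, 0]) (.leaf [90485727, 78524935, 146165151, 4071569, -694933149, 302765288, 17132919, 136709552, -61277, 143965772, -388232692, -482706192, -2559, 374566980, 12483917, -4007154, 176402682, 21724988, -579])) (.leaf [-353138, -268209, -519793, -15566, 2573060, -1117617, -64614, -530490, 237, -492462, 1440467, 1797236, -1, -1423446, -40966, 15330, -657151, -83594, 0])) (.node (.leaf [-18, -77, -135, 0, 228, -107, -1, 18, 0, -111, 112, 161, 0, -75, -8, 0, -42, -2, 0]) (.leaf [-1398379758, -723655773, -1608978961, -55310754, 8936507369, -3847108128, -238034596, -2066283774, 73239, -1330460895, 5033085783, 6342664570, 184892, -5288865423, -92293670,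 55018447, -2317338488, -325736928, 34176]))) (.node (.node (.leaf []) (.leaf [-81267, -77372, -140653, -3851, 649091, -283303, -15690, -123444, 91, -141414, 361725, 449187, -5, -343564, -12556, 3765, -164110, -19515, 0])) (.node (.leaf [-3269, -1494, -2952, -141, 19789, -8858, -626, -4815, 0, -2955, 11665, 13888, -5, -11564, -199, 146, -5267, -791, 0]) (.leaf [-8148691, -8911052, -15601134, -394667, 69366013, -30395816, -1644375, -12488298, 8509, -16330674, 38603529, 47670738, -262, -35611712, -1503337, 386419, -17423453, -1996147, 1])))) (.node (.node (.node (.leaf [1, 0, 0, 0, 2, -1, 0, 0, 0, -2, 1, 0, 0, 0, 0, 0, 0, 0, 0]) (.leaf [40813725, 32707127, 62335421, 1810317, -303700489, 132062900, 7573246, 61480659, -26989, 60035106, -169875747, -211654002, -705, 166291443, 5082891, -1782509, 77374524, 9721492, -114])) (.node (.leaf [98436587, 86822298, 160864148, 4464560, -761356748, 331841927, 18710064, 148921815, -72705, 159219906, -425215667, -528411615, -1251, 409003962, 13876542, -4390227, 193134092, 23645099, -377]) (.leaf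 [198905894, 119745182, 251198671, 8153831, -1332824040, 575633529, 34740063, 295508045, -52690, 219739730, -748841041, -940463912, -18641, 769437735, 16559573, -8080166, 343661336, 46596005, -2334]))) (.node (.node (.leaf [9470, 8275, 15163, 442, -74677, 32410, 1800, 14861, -8, 15636, -41759, -51552, 0, 39972, 1505, -434, 19069, 2293, 0]) (.leaf [-2440690994, -2197476824, -4047934022, -111420751, 19049126620, -8307367613, -466704924, -3698144988, 1809821, -4032713491, 10636444576, 13207062915, 22268, -10189300257, -353603178, 109559544, -4827156835, -587818306, 29118])) (.node (.leaf [28709130, 23182101, 44080491, 1275900, -214266073, 93188835, 5336619, 43260979, -19382, 42547301, -119834646, -149277570, -423, 117148068, 3611205, -1256015, 54571066, 6842176, -80]) (.leaf [-730, -990, -1738, -36, 7505, -3315, -155, -1225, 0, -2076, 4186, 4982, 0, -3630, -207, 36, -1799, -204, 0])))))))) (.node (.node (.node (.node (.node (.node (.node (.node (.leaf []) (.leaf [-6748217, -5951241, -11056655, -335078, 52615842, -22946091, -1272164,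 -10330999, 12108, -11023332, 29362604, 36427106, -2127, -28237200, -964374, 325283, -13353706, -1586974, -186])) (.leaf [117422219, 109500873, 199745676, 5401153, -929847567, 405838816, 22652619, 178143603, -92173, 200733885, -518860152, -643760547, -1170, 493841484, 17766741, -5307295, 235273493, 28354197, -515])) (.node (.leaf [-12598, -11570, -21054, -591, 99666, -43430, -2424, -19306, 19, -21333, 55642, 68949, 0, -53019, -1936, 572, -25314, -3039, 0]) (.leaf [1791256899, 842627802, 1949606226, 69776621, -11134785835, 4783392382, 299971923, 2638781031, -52743, 1548301363, -6278258473, -7931717709, -238946, 6688693315, 100663615, -69450967, 2897984420, 414806358, -33965]))) (.node (.node (.leaf [-46, -194, -323, -10, -430, 241, -6, 161, 1, 228, -338, 54, 0, 96, 50, 9, 106, -5, 0]) (.leaf [-10126286530, -7608885448, -14794819885, -439201383, 73448306302, -31887885738, -1851870911, -15193910154, 5330144, -13960183424, 41126920875, 51340369734, 477432, -40724849862, -1155240945, 433312498, -18763672613, -2403989276, 81309]))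 (.node (.leaf []) (.leaf [17348908, 15252406, 28288275, 789982, -134054861, 58425039, 3293469, 26258555, -13682, 27982739, -74869988, -93042585, 69, 72059379, 2437262, -776336, 34012730, 4161538, -33])))) (.node (.node (.node (.node (.leaf [0, 0, 1, 0, 0, 0, 0, 0, 0, 0, 0, 0, 0, 0, 0, 0, 0, 0, 0]) (.leaf [-48141052, -47576722, -85439955, -2248854, 391037563, -170918490, -9438431, -73269703, 40425, -87192389, 218001151, 270017695, 275, -205167419, -7835397, 2207912, -98678181, -11691625, 242])) (.leaf [-244901204, -187659956, -362652065, -10696548, 1789776348, -777394957, -44966358, -367839891, 142863, -344232145, 1001796735, 1249979199, 8768, -988676581, -28685072, 10544138, -456874246, -58168349, 779])) (.node (.leaf [203, 416, 697, 6, -2107, 986, 43, 175, 0, 736, -1157, -1404, 0, 891, 54, -6, 480, 44, 0]) (.leaf [-1361215608, -1014431874, -1977733913, -59050139, 9841904365, -4272033827, -248307121, -2041684182, 762804, -1860737750, 5511181856, 6881977102, 53330, -5465771087, -153520350, 58231509, -2515433577, -322587898,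 2496]))) (.node (.node (.leaf []) (.leaf [-2, 0, 0, 0, -2, 0, 0, 0, 0, 2, 0, 0, 0, 0, 0, 0, 0, 0, 0])) (.node (.leaf [1154876, 1102124, 2000788, 53882, -9244512, 4035810, 223794, 1756320, -1068, 2019896, -5153818, -6393860, 24, 4888338, 179580, -52838, 2336262, 278730, 0]) (.leaf [-12, 0, 2, 0, -21, 12, 0, 0, 0, 24, -12, 0, 0, 0, 0, 0, -2, 0, 0]))))) (.node (.node (.node (.node (.node (.leaf []) (.leaf [0, 0, 0, 0, 1, 0, 0, 0, 0, 0, 0, 0, 0, 0, 0, 0, 0, 0, 0])) (.leaf [-8, 46, 104, 0, -243, 99, -5, 0, 0, 126, -113, -138, 0, 84, 13, 0, 33, 3, 0])) (.node (.leaf []) (.leaf [-3474929701, -3416468146, -6145881924, -164025855, 28170888224, -12310883847, -678664674, -5291811983, 3577423, -6259422380, 15701251315, 19455572823, -147930, -14798487588, -561804485, 160649448, -7112826550, -839480256, -53086]))) (.node (.node (.leaf [0, 0, 0, 1, -1, 0, 0, 0, 0, 0, 0, 0, 0, 0, 0, -1, 1, 0, 0]) (.leaf [0, 0, 0, 0, 1, 0, 0, 0, 0, 0, 0, 0, 0, 0, 0, 0, 0, 0, 0])) (.node (.leaf [4513, 3950, 7268, 218, -35317, 15362, 861, 6999, -8, 7419, -19784,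 -24429, 0, 18921, 697, -210, 8977, 1108, 0]) (.leaf [-23, -9, -6, 0, -5, 2, 0, -1, 0, 27, -3, 18, 0, -9, 0, 0, -13, 2, 0])))) (.node (.node (.node (.leaf []) (.leaf [-3338570179, -2413735598, -4751587969, -142952548, 23865284070, -10351884860, -605725772, -4999606631, 1446259, -4430186371, 13372642694, 16709678419, 219564, -13328984814, -361451799, 141238584, -6106307402, -791506410, 48141])) (.node (.leaf [138864206, 107671710, 207311455, 6081879, -1019477925, 442937958, 25569082, 208685424, -81992, 197495671, -570532391, -711643978, -4910, 561884445, 16523651, -5994370, 260101689, 33016753, -607]) (.leaf [692357194, 584893151, 1097365478, 31108119, -5260537233, 2290373484, 130097744, 1045218756, -503638, 1072650800, -2939820856, -3658037765, -7057, 2850761612, 92292315, -30597407, 1337129543, 165555480, -17]))) (.node (.node (.leaf [3193, 2431, 4686, 136, -23244, 10085, 584, 4787, 2, 4455, -13020, -16239, 0, 12843, 381, -138, 5946, 763, 0]) (.leaf [426041, 406901, 738889, 19906, -3411117, 1489216, 82536, 647670, -396, 745659,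 -1901510, -2359234, 9, 1803552, 66236, -19519, 861900, 102782, 0])) (.node (.leaf []) (.leaf [-4535, -3854, -7123, -218, 35194, -15291, -861, -7061, 8, -7300, 19749, 24345, 0, -18933, -697, 210, -8961, -1123, 0])))))) (.node (.node (.node (.node (.node (.node (.leaf []) (.leaf [31087, 28706, 51778, 1374, -243870, 106838, 6109, 46796, 0, 52742, -136734, -168720, 0, 129243, 4662, -1374, 61885, 7599, 0])) (.leaf [41277521, 82958056, 129132966, 2498892, -490405483, 218122995, 10476692, 66709952, -77940, 151923463, -270309687, -327656629, 4693, 218820816, 15396372, -2423606, 119660116, 11084970, -2040])) (.node (.leaf []) (.leaf [-89999850, -115224509, -194601303, -4626761, 828142654, -364330334, -19081444, -139569467, 124784, -211102842, 459628819, 564909379, -8364, -410533067, -20061995, 4511015, -206500495, -22388647, -674]))) (.node (.node (.leaf [15, 18, 23, 0, -37, 5, 0, 12, 0, -18, -9, -54, 0, 36, 0, 0, 19, 0, 0]) (.leaf [-259, -93, -122, -9, 1117, -452, -42, -360, 0, 19, 642, 907, 0, -759, -13, 9, -377, -43, 0])) (.node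 (.leaf [0, 3, 5, -1, -4, 0, 0, 0, 0, 0, 0, -6, 0, 3, 0, 1, 1, 0, 0]) (.leaf [-70091796, -62110019, -114934444, -3185066, 543215582, -236787007, -13337099, -106074777, 52726, -113902236, 303353183, 376932157, 683, -291545847, -9939875, 3131414, -137768197, -16840454, 243])))) (.node (.node (.node (.leaf [1, 0, 0, 0, 2, -1, 0, 0, 0, -2, 1, 0, 0, 0, 0, 0, 0, 0, 0]) (.leaf [21, 12, 8, 0, 5, 0, 0, 0, 0, -24, 3, -18, 0, 6, 0, 0, 13, -3, 0])) (.node (.leaf []) (.leaf [3, 0, 0, 0, 2, 0, 0, 0, 0, -2, 0, 0, 0, 0, 0, 0, 0, 0, 0]))) (.node (.node (.leaf [3230, 2511, 4831, 143, -23451, 10205, 588, 4770, -3, 4554, -13139, -16401, 0, 12915, 387, -140, 5982, 762, 0]) (.leaf [85677550, 55694532, 113646570, 3568913, -589338969, 254996110, 15200766, 127684665, -25974, 102241724, -330778731, -414511923, -7645, 335636643, 7987627, -3533970, 151467023, 20180713, -1324])) (.node (.leaf [42908, 42927, 77711, 2044, -347697, 151985, 8358, 64467, -49, 77673, -193357, -240696, 0, 182682, 6729, -1995, 87342, 10385, 0]) (.leaf [12598, 11573, 21088, 587,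 -99641, 43435, 2424, 19279, -16, 21363, -55648, -68931, 0, 52998, 1936, -571, 25280, 3048, 0]))))) (.node (.node (.node (.node (.node (.leaf []) (.leaf [0, 0, 1, 1, -1, 0, 0, 0, 0, 0, 0, 0, 0, 0, 0, -1, 1, 0, 0])) (.leaf [13, 0, 3, 0, 10, 1, 0, -8, 0, -5, 0, 4, 0, -6, 2, 0, 1, 0, 0])) (.node (.leaf [3780175326, 3072476138, 5831154374, 168032095, -28272171476, 12297444357, 703438003, 5694478122, -2601519, 5633363206, -15808853138, -19694554107, -65389, 15439924779, 478780576, -165373708, 7198918563, 900897422, 8521]) (.leaf [-1663301, -1540843, -2821381, -77346, 13137395, -5730748, -319272, -2524074, 1614, -2820865, 7325898, 9100295, -58, -6991607, -248515, 75803, -3324871, -399348, -13]))) (.node (.node (.leaf [0, 0, 0, 0, 1, -1, 0, 0, 0, -1, 1, 0, 0, 0, 0, 0, 0, 0, 0]) (.leaf [174463487, 117369559, 236646136, 7299899, -1214880887, 526100414, 31212361, 260390220, -45999, 215622162, -681642231, -853208826, -17239, 687545462, 17098683, -7231880, 311729537, 41270693, -4781])) (.node (.leaf [-15, -9, -14, 0, 4, -1, 0, 3, 0, 12,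 0, 18, 0, -9, 0, 0, -7, 0, 0]) (.leaf [-168, 17, 31, -5, 956, -411, -36, -315, 1, -99, 618, 630, 1, -580, -32, 3, -278, -59, 0])))) (.node (.node (.node (.leaf [6, 6, -11, -16, 3, 2, 0, 0, 0, -6, 0, -6, 0, 0, 0, 16, 3, -2, 0]) (.leaf [2564524, 1498769, 3181876, 106560, -17057880, 7362872, 444651, 3816969, -1051, 2760611, -9585704, -12042510, -112, 9893778, 205424, -105403, 4403560, 597291, 6])) (.node (.leaf []) (.leaf [-18164, 71108, 85201, 28, -176457, 85362, 1630, -20729, 2, 129878, -92617, -98974, -10, 10890, 15356, -15, 35701, -1727, -5]))) (.node (.node (.leaf []) (.leaf [-1430936, -931763, -1898626, -59308, 9843096, -4260908, -254031, -2130250, 374, -1711559, 5526402, 6921502, 138, -5602034, -133812, 58791, -2529600, -337140, 5])) (.node (.leaf [0, 0, 0, 0, -1, 0, 0, 0, 0, 0, 0, 0, 0, 0, 0, 0, 1, 0, 0]) (.leaf [-29118391, -24009780, -45379114, -1307351, 219236041, -95400000, -5437932, -43948962, 21616, -44081022, 122564691, 152583588, -79, -119369631, -3766166, 1285828, -55785321, -6943375, -14]))))))) (.node (.node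 (.node (.node (.node (.node (.node (.leaf []) (.leaf [-1058680, -1009663, -1832789, -49398, 8473105, -3698952, -205146, -1610463, 984, -1850692, 4723997, 5860288, -25, -4480803, -164651, 48440, -2141592, -255502, -1])) (.leaf [11743805, 12828652, 22466608, 568724, -99917419, 43782125, 2368974, 17996310, -12276, 23509653, -55606466, -68670510, 384, 51309033, 2163467, -556829, 25098480, 2876283, -3])) (.node (.leaf [1087382, 1198342, 2093130, 52767, -9292561, 4072793, 220038, 1668069, -1150, 2196978, -5171317, -6383193, 36, 4761921, 202856, -51651, 2333640, 266659, -2]) (.leaf [474, 181, 367, 16, -3126, 1283, 81, 847, 2, 369, -1773, -2211, 0, 1884, 65, -18, 873, 115, 0]))) (.node (.node (.leaf [0, 0, -2, -2, 0, 0, 0, 0, 0, 0, 0, 0, 0, 0, 0, 2, 0, 0, 0]) (.leaf [506645, 722591, 1189602, 24959, -4915883, 2171048, 113034, 785352, -131, 1324951, -2729851, -3336981, -102, 2373282, 128176, -24692, 1217753, 131288, -34])) (.node (.leaf [-5, 0, -2, 0, -1, -1, 0, 3, 0, 1, 1, 0, 0, 0, 0, 0, 0, -1, 0]) (.leaf [4, 49, 71, 2, -106, 65,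 2, -24, -4, 90, -68, -64, 1, -1, 12, 1, 17, -1, 0])))) (.node (.node (.node (.leaf []) (.leaf [4, 0, 2, -1, 0, 0, 0, -3, 1, 0, -1, 0, 0, 0, 0, 0, 0, 1, 0])) (.node (.leaf [-170383, -161909, -294357, -8030, 1362016, -594596, -32937, -259242, 177, -296930, 759315, 942015, -9, -720783, -26377, 7862, -344297, -41002, 0]) (.leaf [189619, 181248, 329430, 8926, -1516905, 662376, 36702, 287853, -190, 331491, -845475, -1049556, 8, 802303, 29295, -8744, 383106, 45677, 0]))) (.node (.node (.leaf [2, 0, 0, 0, 2, -1, 0, 0, 0, -2, 1, 0, 0, 0, 0, 0, 0, 0, 0]) (.leaf [-582, -603, -1236, -24, 5404, -2384, -112, -873, 0, -1422, 2988, 3547, -1, -2721, -110, 25, -1260, -165, 0])) (.node (.leaf [-1418728351, -1142613467, -2174417046, -62803459, 10572389815, -4597713645, -263550477, -2136106077, 916080, -2095551156, 5913019981, 7367635341, 36782, -5783925688, -177582491, 61847616, -2692940473, -338169202, 2981]) (.leaf [-1212309066, -1130702042, -2062533999, -55835248, 9608661175, -4194244332, -234221082, -1840986124, 890419, -2076223162, 5362849016,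 6650628151, 12930, -5101862958, -183854999, 54904821, -2430610753, -293328402, 27078]))))) (.node (.node (.node (.node (.node (.leaf [0, -6, -5, -1, 2, 0, 0, 0, 0, 0, 0, 6, 0, 0, 0, 1, -2, 0, 0]) (.leaf [-182, -271, -447, -9, 2066, -902, -36, -337, 0, -586, 1142, 1345, 0, -969, -69, 9, -511, -47, 0])) (.leaf [-194030, -184757, -335810, -9084, 1551884, -677551, -37554, -295079, 190, -338598, 865071, 1073401, -10, -821079, -30001, 8904, -392200, -46698, 0])) (.node (.leaf [8, 23, 60, 0, -152, 55, 0, 6, 0, 49, -63, -99, 0, 72, 4, 0, 31, 2, 0]) (.leaf [3511623578, 2654788361, 5152229866, 152771270, -25529799439, 11085324996, 642829557, 5270745669, -1967049, 4869816780, -14293048535, -17840730129, -141360, 14139389997, 403863574, -150647480, 6520702283, 833423273, -15381]))) (.node (.node (.leaf [-10552, 925, -4407, -1448, 59387, -25946, -1092, -19359, 255, -2931, 33679, 40218, -81, -40062, 92, 1281, -16333, -1036, -7]) (.leaf [-4063228, -2872371, -5693987, -173302, 28806086, -12490906, -733266, -6078751, 1772, -5275118, 16148591,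 20185102, 255, -16152635, -427085, 171264, -7378514, -960692, 11])) (.node (.leaf [35182527, 31009585, 57469771, 1614783, -272278070, 118685044, 6680187, 53302869, -30600, 56926178, -152061161, -188923681, 1053, 146268723, 4964133, -1585257, 69082446, 8427123, 21]) (.leaf [0, 0, 0, 0, 1, 0, 0, 0, 0, 0, 0, 0, 0, 0, 0, 0, 0, 0, 0])))) (.node (.node (.node (.leaf [-5, 23, 44, 0, -123, 61, 0, 1, 0, 69, -65, -63, 0, 36, 4, 0, 18, 0, 0]) (.leaf [-45, -27, -42, 1, 47, -12, 0, -18, 0, 45, 18, 90, 0, -63, 0, -1, -29, 0, 0])) (.node (.leaf [1601290211, 1339885232, 2520619971, 71397983, -12117977795, 5274903910, 300496320, 2415444993, -1015401, 2457858146, -6774074269, -8430322941, -51109, 6579147483, 210845015, -70317048, 3081020664, 383388921, -14425]) (.leaf [537958028, 445486281, 840675005, 23940975, -4053549640, 1763989905, 100650222, 810994241, -348152, 816937839, -2266192177, -2821419248, -15546, 2205451959, 69846332, -23574649, 1031172834, 128601743, -2628]))) (.node (.node (.leaf [15, 6, 13, 0, -20, 4, 0, 6, 0, -15, -6, -30,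 0, 24, 0, 0, 11, 0, 0]) (.leaf [32616867, 28758156, 53287389, 1478654, -252228549, 109934056, 6199182, 49342095, -23952, 52736096, -140870288, -175061165, -455, 135508582, 4595700, -1454119, 63984303, 7835103, -128])) (.node (.leaf [-56993, -43320, -83884, -2507, 414958, -180250, -10427, -85512, 41, -79443, 232335, 289893, 0, -229518, -6628, 2466, -105997, -13491, 0]) (.leaf [1028814053, 498021528, 1137968642, 39916310, -6447133962, 2771546015, 173450440, 1516419003, 92376, 916269519, -3635045390, -4587509454, -167537, 3855359586, 60845437, -39804903, 1675652794, 239457105, -36246])))))) (.node (.node (.node (.node (.node (.node (.leaf [-9, 9, 8, 0, -7, 5, 0, -6, 0, 15, 0, 0, 0, -6, -3, 0, -2, 0, 0]) (.leaf [-306589, -420191, -701401, -16405, 2909809, -1281383, -66056, -474971, 541, -763710, 1610785, 1982026, -51, -1422702, -73026, 15912, -723366, -76181, 3])) (.leaf [30, -26, -15, 0, 162, -59, -1, -9, 0, -89, 70, 66, 0, -30, -9, 0, -43, 1, 0])) (.node (.leaf [-14, 15, 26, 0, -30, 16, 0, -7, 0, 33, -12, -15, 0, 0, 0, 0, -3,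 -1, 0]) (.leaf [2123, 1675, 3262, 99, -15710, 6840, 386, 3165, -1, 3123, -8797, -10939, 1, 8613, 264, -99, 3974, 509, 0]))) (.node (.node (.leaf []) (.leaf [23199, 21571, 39031, 1029, -182649, 79992, 4534, 34910, 0, 39669, -102312, -126340, 0, 96741, 3494, -1029, 46239, 5678, 0])) (.node (.leaf [13880113, 15104721, 26477067, 671614, -117891713, 51652935, 2796639, 21267577, -14483, 27683766, -65613612, -81036258, 450, 60588609, 2545839, -657588, 29619031, 3397958, 7]) (.leaf [2346248192, 1625759781, 3245641335, 99283822, -16511851437, 7155099454, 421912645, 3506702253, -859212, 2984739213, -9258743090, -11582036385, -182707, 9295016439, 239530227, -98200655, 4232258836, 554997067, -41247])))) (.node (.node (.node (.leaf [8979, 6845, 13402, 410, -65943, 28645, 1638, 13563, -9, 12669, -36840, -45999, 0, 36501, 1015, -401, 16773, 2116, 0]) (.leaf [])) (.node (.leaf [8, -18, -40, 2, 118, -49, 1, -8, -2, -54, 55, 66, 0, -45, -4, 0, -19, 1, 0]) (.leaf [-6528471765, -5003315875, -9668257842, -284880745, 47710506048, -20723271587,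 -1198921580, -9804700213, 3716844, -9177213813, 26705590527, 33321531366, 257988, -26354828469, -764723430, 280875733, -12178665938, -1551142579, 30180]))) (.node (.node (.leaf []) (.leaf [125539718, 63152633, 142056648, 4937753, -795188786, 342064175, 21249470, 185254331, -8198, 115902670, -447937991, -565110788, -16508, 472838715, 7886478, -4910982, 206460471, 29167164, -2065])) (.node (.leaf [3392183196, 2690238826, 5143679713, 149552722, -25124906758, 10922256112, 627837318, 5103498000, -2128695, 4934177154, -14055566973, -17520780625, -97008, 13786787829, 416013660, -147319285, 6404014181, 807628910, -7734]) (.leaf [-1316820, -1416774, -2490517, -63562, 11127401, -4873884, -264384, -2016868, 1362, -2597442, 6194152, 7652337, -42, -5732793, -238344, 62244, -2797136, -321932, -2]))))) (.node (.node (.node (.node (.node (.leaf [-4, -1, 0, 0, 0, -8, -2, 1, 0, 0, 5, 0, 0, 0, 3, 0, 0, 0, 0]) (.leaf [-1053155, -1168379, -2038317, -51190, 9024194, -3955764, -213468, -1615006, 1116, -2140443, 5020956, 6198018, -36, -4618503,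 -197632, 50106, -2265227, -258418, 4])) (.leaf [-458235, -519424, -900968, -22331, 3965369, -1739330, -93572, -703332, 472, -951297, 2205964, 2720927, -11, -2019621, -88299, 21865, -994449, -112852, 5])) (.node (.leaf []) (.leaf [3380259154, 2649276304, 5083866099, 148553343, -24921186699, 10830597216, 623923567, 5082726607, -2063811, 4859464762, -13944310279, -17387674535, -105283, 13706487852, 408092095, -146373571, 6355314950, 804165928, -10677]))) (.node (.node (.leaf [-3198, -2411, -4648, -143, 23126, -10031, -584, -4781, 1, -4401, 12963, 16173, 0, -12798, -380, 142, -5927, -764, 0]) (.leaf [-1004530, -742499, -1451916, -43388, 7231570, -3137984, -182801, -1503999, 507, -1358709, 4049532, 5060838, 69, -4024077, -111530, 42810, -1848832, -237967, 2])) (.node (.leaf [1, 0, 0, 0, 0, 0, 0, 0, 0, 0, 0, 0, 0, 0, 0, 0, 0, 0, 0]) (.leaf [94888, 90237, 164195, 4539, -757115, 330019, 18196, 144395, -129, 164050, -421400, -524483, 3, 401403, 14644, -4413, 191660, 22581, 0])))) (.node (.node (.node (.leaf []) (.leaf [])) (.node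 (.leaf [-5, 19, 48, 0, -121, 41, -5, -1, 0, 60, -49, -65, 0, 42, 9, 0, 19, 1, 0]) (.leaf [499155, 491249, 885462, 26171, -4080531, 1785576, 96771, 769263, -1092, 909510, -2273607, -2810178, 215, 2140196, 81747, -25302, 1030674, 117824, 8]))) (.node (.node (.leaf [136793963, 126838440, 231757361, 6307367, -1080968616, 471726820, 26337390, 207586701, -113507, 232601810, -603206357, -748507182, 579, 574768584, 20562189, -6194228, 273598047, 32980171, -211]) (.leaf [1017810487, 840111888, 1586986695, 45360762, -7660100746, 3333231039, 190215174, 1534449744, -685323, 1540773841, -4282563923, -5332264033, -21699, 4170351255, 131607415, -44651130, 1948992726, 243080940, -2610])) (.node (.leaf []) (.leaf [1108971912, 956523278, 1783862115, 50205337, -8497007911, 3701249458, 209310381, 1675839893, -885082, 1753146678, -4746383782, -5903434515, 2313, 4585823351, 151775192, -49331390, 2158027518, 265266252, 8822])))))))))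

def threeL1 : Janko.Tree (List ℤ) :=
  (.node (.node (.node (.node (.node (.node (.node (.node (.node (.leaf []) (.leaf [1559895, 1049821, 2113748, 65233, -10854298, 4702353, 278916, 2325663, -460, 1927470, -6091484, -7622232, -139, 6140679, 152955, -64629, 2786247, 368231, -5])) (.leaf [-3664600, -2790450, -5402492, -160649, 26739617, -11613464, -671910, -5509164, 2248, -5125853, 14969279, 18674841, 83, -14785653, -426911, 158311, -6828173, -869353, 7])) (.node (.leaf []) (.leaf [-3084463639, -2524722323, -4781152259, -137115226, 23135342173, -10065118223, -575294055, -4648011588, 2033667, -4630462128, 12936197743, 16110759249, 73688, -12616352773, -394463785, 134998734, -5888585536, -736243915, 9138]))) (.node (.node (.leaf []) (.leaf [-36573240, -29230066, -55755084, -1621742, 271863079, -118210295, -6781593, -55087959, 24310, -53653649, 152072131, 189487482, 576, -148937772, -4538627, 1596766, -69272132, -8708542, 90])) (.node (.leaf [-14, 17, 25, 0, -134, 57, 1, 19, 0, 60, -66, -69, 0, 46, 5, 0, 28, -3, 0]) (.leaf [528957,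 585159, 1021426, 25714, -4524382, 1983083, 107079, 810657, -556, 1071251, -2517388, -3108276, 14, 2317148, 98876, -25170, 1135976, 129694, -2])))) (.node (.node (.node (.node (.leaf []) (.leaf [-37400, -107442, -158988, -31, 518553, -229661, -11853, -51268, -488, -182053, 283062, 350983, 190, -213082, -18796, 315, -123558, -13533, 14])) (.leaf [-266832041, -206616545, -397938490, -11645352, 1957696803, -850555339, -49144734, -400871298, 144868, -379001181, 1095704386, 1366680828, 12516, -1079237030, -31695034, 11485743, -499469161, -63506044, 2225])) (.node (.leaf [0, 0, -1, 0, 0, -1, 0, 0, 0, 0, 0, 0, 0, 0, 0, 0, 0, 1, 0]) (.leaf [0, 0, 0, 0, 0, 1, 0, 0, 0, 0, 0, 0, 0, 0, 0, 0, 0, 0, 0]))) (.node (.node (.leaf [-1082, -1394, -2448, -54, 10994, -4837, -232, -1866, 0, -2958, 6138, 7301, 0, -5376, -299, 54, -2660, -303, 0]) (.leaf [0, 0, 0, 1, 0, 0, 0, 0, 0, 0, 0, 0, 0, 0, 0, 0, 0, 0, 0])) (.node (.leaf [-3307405067, -2684113049, -5096243382, -146751192, 24721329189, -10752678540, -615460692, -4981661043, 2186326, -4922055302,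 13824395778, 17222095092, 77101, -13504469841, -418128611, 144484395, -6294858817, -788662681, 3370]) (.leaf [-95014379, -84328142, -155964649, -4308360, 736759644, -321167513, -18094959, -143770467, 67971, -154639748, 411451582, 511212515, 1894, -395290405, -13500902, 4237834, -186831415, -22852165, 661]))))) (.node (.node (.node (.node (.node (.leaf []) (.leaf [95912816, 84484285, 156574030, 4356957, -741565647, 323217973, 18224280, 145142145, -72474, 154976087, -414182854, -514669872, -598, 398455732, 13506174, -4283539, 188134572, 23027904, -346])) (.leaf [15399, 11704, 22746, 689, -112252, 48764, 2814, 23121, -14, 21498, -62818, -78408, 0, 62115, 1775, -675, 28639, 3639, 0])) (.node (.leaf [0, -1, 0, 0, -1, 0, 0, 0, 0, 0, 0, 0, 0, 1, 0, 0, 0, 0, 0]) (.leaf [12, -321, -486, -2, 370, -123, 0, 159, 0, -222, 51, 387, 0, -66, 0, 3, -82, 19, 0]))) (.node (.node (.leaf [-98436584, -86822302, -160864152, -4464561, 761356750, -331841929, -18710064, -148921812, 72705, -159219912, 425215667, 528411615, 1252, -409003959, -13876542,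 4390227, -193134091, -23645099, 377]) (.leaf [2138409106, 2018542298, 3670737604, 99554041, -17026639615, 7433261309, 413127451, 3248322482, -2022417, 3698829965, -9496666587, -11781088193, 58912, 9020874216, 328485317, -97615471, 4306871224, 515063203, 24935])) (.node (.leaf []) (.leaf [-3593651, -3207063, -5936598, -175674, 28103519, -12256227, -680376, -5489865, 5715, -5922202, 15680379, 19459992, -888, -15052410, -519255, 170930, -7128232, -849435, -83])))) (.node (.node (.node (.leaf [34, 32, 48, 0, -93, 22, -1, 24, 0, -27, -30, -111, 0, 78, 3, 0, 42, -3, 0]) (.leaf [9029, 7936, 14488, 414, -70796, 30741, 1722, 14042, -5, 14778, -39566, -48972, 0, 37920, 1394, -408, 18098, 2178, 0])) (.node (.leaf []) (.leaf [-1270619343, -963950443, -1868619864, -55257160, 9250146154, -4016919020, -232870866, -1907404591, 686094, -1768557936, 5178766642, 6463118107, 56943, -5119493629, -146860112, 54504444, -2362142230, -301832244, 9679]))) (.node (.node (.leaf []) (.leaf [866, 286, 363, 31, -2248, 833, 138, 1005, 0, -768, -1241, -2426,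 -1, 2079, -76, -30, 938, 104, 0])) (.node (.leaf []) (.leaf [-136966955, -122405640, -225945431, -6226463, 1065100146, -464380574, -26126229, -207316055, 100890, -224431736, 594740085, 738814224, 2187, -570652902, -19631640, 6122722, -270017631, -32949086, 665])))))) (.node (.node (.node (.node (.node (.node (.leaf []) (.leaf [1663331, 1540750, 2821160, 77345, -13136885, 5730508, 319275, 2524104, -1614, 2820556, -7325652, -9100046, 58, 6991457, 248506, -75803, 3324820, 399340, 14])) (.leaf [-11, 139, 237, 0, -651, 274, -7, -13, 0, 351, -319, -352, 0, 171, 50, 0, 129, 1, 0])) (.node (.leaf [66733269, 59079400, 109347049, 3028331, -516926521, 225324669, 12696693, 100970622, -49224, 108333027, -288684387, -358714644, -939, 277488282, 9451208, -2977896, 131106109, 16036529, -271]) (.leaf [-4, 36, 52, 0, -50, 15, 0, -14, 0, 24, -6, -48, 0, 12, 0, 0, 14, -4, 0]))) (.node (.node (.leaf []) (.leaf [-6523, -4905, -9414, -274, 46790, -20309, -1192, -9672, 0, -8865, 26252, 32775, -1, -25901, -776, 276, -12023, -1545, 0])) (.node (.leaf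 []) (.leaf [-12686845, -13809297, -24203188, -606146, 107653091, -47157637, -2558225, -19407449, 11358, -25272115, 59913276, 74027482, 211, -55336858, -2323313, 594551, -27044284, -3114370, 26])))) (.node (.node (.node (.leaf [-25, 204, 295, -1, -258, 95, 0, -102, 1, 168, -42, -234, 0, 30, 0, 0, 60, -19, 0]) (.leaf [3986585, 3109980, 5976415, 175194, -29350748, 12755234, 735343, 5996195, -2336, 5709810, -16425597, -20479328, -138, 16155156, 478987, -172699, 7485895, 948408, -21])) (.node (.leaf [0, 2, 0, 0, 2, -1, 0, 0, 0, 0, 0, 0, 0, -2, 1, 0, 0, 0, 0]) (.leaf [-10900115695, -8231480913, -15979937093, -473337736, 79211451210, -34394038679, -1995631236, -16358592216, 5797983, -15101799437, 44350340601, 55356998901, 507882, -43878444525, -1251950109, 466947598, -20231630109, -2588576669, 84273]))) (.node (.node (.leaf [2, -5, -3, 0, 5, -11, -1, 5, 0, -15, 10, -3, 0, 9, 0, 0, 1, 0, 0]) (.leaf [0, -2, -4, 0, 1, 0, 0, 0, 0, 0, 0, 4, 0, -1, 0, 0, 0, 0, 0])) (.node (.leaf [-6, 4, 8, 0, -7, 2, 0, -6, 0, 12, 0, 0, 1, -4, -1, 0, -2,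 0, 0]) (.leaf [138773725, 107653364, 207243910, 6083108, -1019065923, 442767608, 25554354, 208572738, -83028, 197479095, -570296884, -711325596, -4510, 561596109, 16526279, -5994987, 259994307, 32991510, -582]))))) (.node (.node (.node (.node (.node (.leaf [0, 1, 0, 0, 0, 1, 0, 0, 0, 0, 0, 0, 0, 0, -1, 0, 0, 0, 0]) (.leaf [132301, 126542, 229559, 6211, -1059278, 462382, 25621, 201141, -134, 231458, -590386, -732800, 3, 560032, 20602, -6082, 267784, 31857, 2])) (.leaf [-313574370, -240890335, -465152677, -13708303, 2293941364, -996443080, -57609069, -471058674, 184404, -441885519, 1283943228, 1601900835, 10839, -1266556693, -36855577, 13512006, -585507432, -74491035, 1054])) (.node (.leaf [-48838, -43057, -78055, -2040, 377636, -165937, -9630, -73287, -15, -80898, 212668, 260496, -11, -200757, -7041, 2067, -95973, -12038, -1]) (.leaf [-48900209, -40169365, -75977363, -2161932, 367210306, -159771967, -9138701, -73662842, 27782, -73671880, 205345850, 255692946, 2355, -200104904, -6282331, 2131220, -93435667, -11702060, 575])))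 (.node (.node (.leaf [0, 0, 0, 1, 0, 0, 0, 0, 0, 0, 0, 0, 0, 0, 0, 0, 0, 0, 0]) (.leaf [-553176458, -451529680, -855791708, -24567866, 4144563194, -1802985126, -103110762, -833475540, 360979, -828161636, 2317563417, 2886499440, 13899, -2261384874, -70488023, 24191038, -1055027900, -132025076, 1950])) (.node (.leaf [18554727, 14761361, 28191291, 814185, -137556959, 59805308, 3440467, 27904927, -10152, 27071205, -76961175, -95919530, -899, 75434636, 2283965, -802926, 35051926, 4427490, -208]) (.leaf [104236, -152664, -152377, 4766, 42891, -38688, 5133, 149798, -561, -264145, 5539, -25004, 211, 206055, -33731, -4438, 15035, 15275, 23])))) (.node (.node (.node (.leaf [-180323, -165421, -303634, -9001, 1428779, -623802, -34410, -276450, 309, -306245, 797119, 987477, -53, -760503, -27090, 8746, -361995, -42674, -1]) (.leaf [6, 41, 74, 0, -278, 95, 0, 54, 0, 51, -111, -197, 0, 152, 4, 0, 75, -6, 0])) (.node (.leaf [-163871996, -144517428, -267770825, -7432506, 1267395231, -552400505, -31146357, -247916685, 121104, -265024780, 707838714,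 879627111, 2052, -680868312, -23097066, 7308725, -321504133, -39362074, 626]) (.leaf [1052, 755, 1435, 45, -7563, 3269, 199, 1617, 0, 1374, -4241, -5292, 0, 4221, 117, -45, 1968, 250, 0]))) (.node (.node (.leaf []) (.leaf [188629994, 158953489, 298426029, 8442076, -1431525324, 623231095, 35442972, 284646345, -127440, 291496273, -800088144, -995604390, -4398, 776154774, 25057553, -8309273, 363878174, 45148791, -965])) (.node (.leaf []) (.leaf [-2180951, -1638763, -3185900, -94515, 15814314, -6867639, -398752, -3270489, 1142, -3007531, 8856581, 11053314, 115, -8767158, -248755, 93258, -4039702, -517564, 0]))))))) (.node (.node (.node (.node (.node (.node (.node (.leaf []) (.leaf [-83193680, -84224255, -150322026, -3924618, 683167167, -298771860, -16414140, -126826610, 76215, -154320080, 380678295, 471220670, -885, -356629459, -13951931, 3849073, -172217253, -20232474, 215])) (.leaf [4873090, 4199698, 7831973, 219783, -37328952, 16261412, 920835, 7363749, -3540, 7702451, -20856585, -25934202, -45, 20146927, 666787, -216172,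 9479630, 1168077, -26])) (.node (.leaf []) (.leaf [5633688, 6101577, 10708214, 272288, -47746435, 20917034, 1133439, 8630324, -5853, 11184030, -26575628, -32826519, 180, 24563880, 1027443, -266622, 11998398, 1378392, 7]))) (.node (.node (.leaf []) (.leaf [-181174121, -137695037, -266758019, -7872065, 1319778163, -573149788, -33224577, -271960719, 94908, -252626918, 738891427, 922073874, 8966, -730172215, -20991011, 7766626, -336986572, -43060331, 1565])) (.node (.leaf [48177285, 45611786, 82867986, 2232671, -384125578, 167717732, 9329070, 73184107, -40614, 83632352, -214282200, -265738704, 201, 203364039, 7433608, -2192149, 97129162, 11639908, -109]) (.leaf [-2922135388, -2351277408, -4475743557, -129240490, 21767531803, -9465998054, -542783858, -4399356059, 1853153, -4312252499, 12174674651, 15170014681, 83517, -11910719139, -365317793, 127294022, -5544625641, -696655493, 9798])))) (.node (.node (.node (.node (.leaf [18, 46, 80, 0, -255, 85, 0, 48, 0, 33, -99, -197, 0, 147, 4, 0, 75, -6, 0]) (.leaf [0, 0, 0, 0, 0, 0, 0,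 0, 0, 0, 0, 1, 0, 0, 0, 0, 0, 0, 0])) (.leaf [-68536964, -52604770, -101611107, -3003162, 501320220, -217763382, -12586905, -102985752, 41961, -96526783, 280594443, 350070075, 1790, -276830453, -8049737, 2959184, -127964404, -16272361, 227])) (.node (.leaf [-1, 0, 0, -1, 0, 0, 0, 0, 1, 0, 0, 0, 0, 0, 0, 0, 0, 0, 0]) (.leaf [-8276625, -6462248, -12415302, -363012, 60926693, -26473893, -1526529, -12443198, 4815, -11850068, 34091605, 42518855, 312, -33536261, -994129, 357883, -15540574, -1968821, 2]))) (.node (.node (.leaf []) (.leaf [45256, 42750, 77644, 2127, -361646, 157872, 8759, 69089, -48, 78717, -201774, -249988, 3, 191430, 7046, -2082, 91497, 10921, 0])) (.node (.leaf [-551831171, -567062391, -1008262266, -26167969, 4563775133, -1996722322, -109375998, -842327454, 511131, -1039529928, 2542553420, 3145419042, -7336, -2374649084, -94324232, 25661718, -1149593687, -134438687, 2456]) (.leaf [-584354, -740925, -1250714, -24138, 5255143, -2306424, -125082, -878925, -548, -1328933, 2917842, 3608001, 371, -2617077, -125288,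 24283, -1309414, -151537, 33]))))) (.node (.node (.node (.node (.node (.leaf []) (.leaf [37649746, 33437054, 61845154, 1724486, -292223519, 127394028, 7163880, 57034368, -31422, 61358629, -163175201, -202715841, 618, 156754863, 5359426, -1693667, 74109629, 9032397, -14])) (.leaf [-1, 1, -4, 0, -1, 1, -1, 4, 0, 0, -2, 0, 0, 1, 0, 0, 0, 0, 0])) (.node (.leaf [-249196, -239369, -434639, -11793, 1995048, -870482, -48156, -378057, 270, -435834, 1110973, 1381233, -6, -1055067, -38635, 11529, -504143, -59871, 0]) (.leaf [-101177780, -89266084, -165381965, -4606705, 782864669, -341229358, -19227189, -153141411, 78957, -163750509, 437217932, 543285645, -72, -420516329, -14275971, 4527576, -198598027, -24282755, 244]))) (.node (.node (.leaf [6, -3, 0, -1, 4, -1, 0, 0, 0, -6, 0, 0, 1, 2, 0, 0, 0, 0, 0]) (.leaf [-399028, -358234, -659300, -16091, 3069837, -1335465, -76560, -594139, -145, -643095, 1712967, 2139185, 159, -1648457, -56093, 16072, -778396, -97902, 5])) (.node (.leaf [13433219, 13392957, 24002560, 635536, -109626815, 47926319,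 2636421, 20481609, -13341, 24558319, -61096227, -75653082, 468, 57410214, 2213022, -622754, 27657879, 3254981, 91]) (.leaf [])))) (.node (.node (.node (.leaf []) (.leaf [46538844, 44700988, 80902431, 2167229, -373438328, 163106823, 9046773, 70761780, -40473, 81959364, -208266288, -258174780, 414, 197113998, 7312607, -2127069, 94364791, 11257256, -101])) (.node (.leaf [357620, 372858, 659564, 14059, -2934377, 1280974, 71961, 534372, 348, 669732, -1634033, -2032068, -216, 1526956, 60510, -14175, 737849, 90471, -16]) (.leaf [-1028787534, -1129429971, -1975542465, -50036221, 8779800221, -3848071041, -208010893, -1578480985, 1069706, -2072320954, 4886530660, 6031301699, -40975, -4502845250, -190974610, 48996730, -2204617460, -252320555, 10760]))) (.node (.node (.leaf []) (.leaf [-935230549, -751705609, -1431351801, -41358234, 6963888508, -3028338030, -173676828, -1407976059, 592083, -1378761753, 3895053106, 4853350371, 26494, -3811228209, -116766219, 40736472, -1773919394, -222947313, 3185])) (.node (.leaf [422209, 539661, 910881,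 20700, -3867526, 1701983, 90021, 650051, -283, 986518, -2148516, -2640625, -46, 1917540, 93449, -20354, 963516, 106524, -17]) (.leaf [-33642230, -33105051, -59529444, -1571973, 272792607, -119219660, -6587934, -51202566, 28347, -60682420, 152086803, 188400684, 72, -143261517, -5446254, 1543277, -68848995, -8166978, 277])))))) (.node (.node (.node (.node (.node (.node (.leaf []) (.leaf [1015797106, 838009730, 1583262653, 45272284, -7643467048, 3325960788, 189813222, 1531411737, -685047, 1536967657, -4273304675, -5320772699, -21184, 4161708096, 131262835, -44563481, 1944807988, 242582728, -2571])) (.leaf [])) (.node (.leaf [34431739, 30872265, 56932291, 1565976, -268118344, 116909245, 6573945, 52123572, -25272, 56604716, -149708700, -185954775, -585, 143553174, 4955976, -1539940, 67961023, 8286514, -179]) (.leaf [0, 1, 0, 0, 0, 0, 0, 0, 0, 0, 0, 0, 0, 0, 0, 0, 0, 0, 0]))) (.node (.node (.leaf []) (.leaf [-122551, -93045, -180470, -5401, 893218, -387937, -22413, -184176, 85, -170898, 499953, 623880, 0, -494238, -14184, 5316,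 -228082, -28997, 0])) (.node (.leaf [-1004, -973, -1805, -45, 8584, -3722, -190, -1578, 0, -1989, 4760, 5804, 0, -4449, -192, 45, -2146, -256, 0]) (.leaf [-265133, -250483, -455515, -12344, 2104454, -918742, -51282, -400904, 232, -456538, 1173625, 1457648, -13, -1115585, -40285, 12125, -532322, -63938, 0])))) (.node (.node (.node (.leaf [-16, -13, -9, 0, -28, -10, -4, 8, 0, 6, 6, -3, 0, 18, 2, 0, 4, 1, 0]) (.leaf [-1621136657, -1279787784, -2450292756, -71249978, 11985439276, -5209725422, -299851150, -2438233746, 956848, -2347575361, 6705840066, 8359764386, 59883, -6582559677, -197625658, 70223092, -3055354315, -386156277, 10155])) (.node (.leaf []) (.leaf [-1371301228, -1140980791, -2150338061, -61366648, 10353398565, -4505956145, -256628193, -2068276149, 989864, -2091846572, 5787062278, 7204710360, 15890, -5628000624, -179116642, 60364997, -2633557859, -327360557, -4103]))) (.node (.node (.leaf [-1, 2, -4, 0, 0, 1, -1, 4, 0, 0, -2, 0, 0, 0, 0, 0, 0, 0, 0]) (.leaf [0, 0, 0, 1, 0, 0, 0, 0, 0, 0, 0, 0, 0, 0, 0, 0, 0, 0, 0]))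 (.node (.leaf [2549006, 2360624, 4323026, 125033, -20241412, 8836489, 487926, 3898908, -3927, 4357623, -11289536, -13993500, 585, 10758471, 385894, -121737, 5124882, 605779, 46]) (.leaf [-4064, -3576, -6573, -182, 31743, -13869, -785, -6245, 1, -6714, 17807, 21942, 0, -16974, -607, 181, -8055, -988, 0]))))) (.node (.node (.node (.node (.node (.leaf [16139, 15306, 27817, 746, -128983, 56341, 3126, 24558, -11, 28149, -71961, -89172, 0, 68241, 2499, -735, 32593, 3897, 0]) (.leaf [12878915, 6973278, 15237007, 534372, -83725264, 36093102, 2201654, 19145586, -6366, 12890671, -47110460, -59250934, -53, 49152479, 923576, -527924, 21682179, 2980202, -29])) (.leaf [-6627, -4994, -9509, -285, 47278, -20551, -1212, -9784, 6, -8958, 26575, 33152, 0, -26154, -792, 279, -12166, -1568, 0])) (.node (.leaf [-17, -66, -96, 3, 175, -108, -7, 24, 0, -117, 117, 111, 0, -30, -8, -3, -28, -6, 0]) (.leaf [-361886216, -319281711, -591515900, -16412462, 2799309833, -1220101151, -68790054, -547485597, 266940, -585502060, 1563396987, 1942817368, 4753,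 -1503718431, -51031925, 16139369, -710093912, -86931310, 1401]))) (.node (.node (.leaf [-1054, -878, -1695, -45, 8042, -3498, -191, -1584, 0, -1659, 4489, 5574, 0, -4362, -143, 45, -2021, -256, 0]) (.leaf [-16117284, -14096965, -26181200, -731070, 124251280, -54145263, -3056387, -24381683, 12171, -25859589, 69402772, 86261793, 88, -66859569, -2248959, 718767, -31532225, -3866657, 44])) (.node (.leaf []) (.leaf [439, 447, 761, 20, -3671, 1568, 78, 699, -2, 807, -2021, -2526, 0, 1899, 102, -18, 965, 93, 0])))) (.node (.node (.node (.leaf [0, 1, 0, 0, 2, -1, 0, 0, 0, 0, 0, 0, 0, -2, 1, 0, 0, 0, 0]) (.leaf [-426713, -543670, -918221, -20908, 3903177, -1717451, -90876, -657075, 289, -994036, 2168411, 2665248, 46, -1936587, -94161, 20557, -972602, -107615, 17])) (.node (.leaf [133009172, 117379312, 217448953, 6040070, -1029069292, 448534936, 25282731, 201257868, -99918, 215273207, -574723060, -714181443, -1168, 552754655, 18765913, -5938531, 261042662, 31942914, -453]) (.leaf [-2123, -1675, -3262, -99, 15709, -6840, -386, -3165,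 1, -3123, 8797, 10939, -1, -8612, -264, 99, -3974, -509, 0]))) (.node (.node (.leaf []) (.leaf [-531269733, -441732898, -832687232, -23784205, 4010576484, -1745468515, -99420426, -801397335, 382679, -810102342, 2241807157, 2790825090, 5337, -2180319233, -69357870, 23396703, -1020157953, -126839131, -514])) (.node (.leaf [1116198984, 1206424727, 2118247013, 53999700, -9455468208, 4142541314, 224617090, 1710716587, -1135127, 2213485192, -5263882726, -6500288462, 40116, 4865931108, 203275421, -52893706, 2376036147, 273310058, -10983]) (.leaf [-1736139804, -1315279461, -2550901101, -75556978, 12631799152, -5485140972, -317971110, -2606034607, 973298, -2412611511, 7071783734, 8826595469, 70238, -6993188029, -200227107, 74505704, -3226054175, -412120920, 7738])))))))) (.node (.node (.node (.node (.node (.node (.node (.node (.leaf []) (.leaf [-1736902891, -1313978507, -2549558140, -75584054, 12630735926, -5484496843, -317998011, -2607091491, 976421, -2410307329, 7071323301, 8826339138, 69035, -6994494669, -199936986, 74531021, -3225987530,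 -412233661, 7578])) (.leaf [1741107425, 1319132491, 2558335166, 75794591, -12668575544, 5501134199, 318879300, 2613585189, -981102, 2419764048, -7092354860, -8852196198, -68887, 7013424481, 200828813, -74736990, 3235440552, 413279181, -7612])) (.node (.leaf [-44856, -42284, -76890, -2088, 358079, -156333, -8676, -68415, 40, -77892, 199799, 247539, 0, -189624, -6955, 2049, -90563, -10828, 0]) (.leaf [1791590930, 843132089, 1950428412, 69789918, -11138076508, 4784839886, 300048438, 2639288082, -52173, 1549203477, -6280078754, -7933962117, -239280, 6690269497, 100751373, -69464470, 2898797049, 414896898, -33995]))) (.node (.node (.leaf []) (.leaf [-8474270549, -6358919282, -12369619829, -367348456, 61434836317, -26671420573, -1549392933, -12714423270, 4409918, -11667499398, 34401176232, 42945277830, 408881, -34072313259, -965061237, 362455837, -15695370069, -2011856188, 73821])) (.node (.leaf [2, 9, 13, 0, -20, -3, 0, 4, 0, -9, 3, -27, 0, 18, 0, 0, 11, -1, 0]) (.leaf [38429227, 36754207, 66588158, 1774358, -307559781, 134310798,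 7463999, 58352220, -30389, 67325697, -171540754, -212719564, -645, 162504276, 5997727, -1743228, 77730334, 9304081, -96])))) (.node (.node (.node (.node (.leaf []) (.leaf [204793133, 164781156, 313681987, 9060335, -1525779890, 663518806, 38045886, 308379222, -128231, 302301699, -853391709, -1063283529, -6087, 834850428, 25612147, -8925146, 388632692, 48832812, -871])) (.leaf [70720368, 54810547, 105545997, 3100213, -519152587, 225561284, 13019805, 106288941, -42406, 100551373, -290538081, -362386830, -2247, 286146506, 8412219, -3055268, 132456498, 16810727, -292])) (.node (.leaf [0, 2, 2, 0, -1, 0, 0, 0, 0, 0, 0, -2, 0, 1, 0, 0, 0, 0, 0]) (.leaf [-2070994146, -1688556648, -3201425580, -91963396, 15509441882, -6746809130, -385907552, -3120193883, 1354152, -3096977658, 8672719086, 10802159383, 51224, -8464246898, -263499509, 90551544, -3948257952, -494197661, 6477]))) (.node (.node (.leaf [1, 3, -3, 0, 7, 1, 0, 4, 0, -3, -2, 0, 0, -3, 0, 0, -1, 0, 0]) (.leaf [28, 30, 39, 0, -71, 21, -1, 18, 0, -18, -27, -87, 0, 56, 3, 0, 33,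 -3, 0])) (.node (.leaf [81276, 77390, 140652, 3841, -649083, 283304, 15690, 123441, -90, 141408, -361725, -449196, 5, 343555, 12556, -3756, 164115, 19514, 1]) (.leaf [-17, -18, -28, 0, 96, -28, 0, -25, 0, 6, 36, 86, 0, -66, -2, 0, -36, 3, 0]))))) (.node (.node (.node (.node (.node (.leaf []) (.leaf [-17557037, -15516958, -28737569, -802424, 135981091, -59274337, -3336879, -26586210, 14370, -28472849, 75938605, 94352265, -219, -73014756, -2483453, 788260, -34493353, -4211100, 13])) (.leaf [36999952, 29773736, 56673305, 1642650, -275766256, 119927746, 6872469, 55745034, -24598, 54647685, -154240542, -192152730, -622, 150874359, 4632788, -1617323, 70244734, 8816157, -107])) (.node (.leaf [17, -59, -84, 6, -127, 7, 1, 108, 0, -75, -51, -85, 0, 141, 2, -6, 61, 6, 0]) (.leaf [115106, 86636, 167653, 5083, -830806, 360564, 21020, 172404, -76, 156569, -465024, -581980, 0, 461350, 12974, -5007, 212887, 27037, 0]))) (.node (.node (.leaf [845231, 801038, 1456663, 39881, -6753752, 2948442, 163374, 1287318, -894, 1470964, -3765993, -4670424,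 60, 3575112, 130840, -39050, 1707632, 203403, 4]) (.leaf [])) (.node (.leaf [11364551709, 8704702163, 16823340325, 495520822, -83038759439, 36068189833, 2087307915, 17067662208, -6294624, 15969225878, -46482453086, -57995645568, -482609, 45873622197, 1330495902, -488663464, 21196313228, 2701223966, -80125]) (.leaf [370473, 437797, 752031, 18130, -3272127, 1436827, 76731, 570195, -366, 802263, -1819296, -2240691, 6, 1651080, 75077, -17766, 818784, 91870, -4])))) (.node (.node (.node (.leaf []) (.leaf [-337983, -353159, -623955, -13137, 2775013, -1211336, -68132, -504828, -362, -634155, 1545460, 1921743, 216, -1443241, -57427, 13267, -697777, -85739, 16])) (.node (.leaf []) (.leaf [1128857, 1214822, 2134244, 45062, -9358355, 4087740, 228165, 1679835, 915, 2166804, -5204576, -6480075, -642, 4841321, 196409, -45306, 2350687, 284560, -29]))) (.node (.node (.leaf []) (.leaf [276879, 263853, 479188, 12958, -2215870, 967348, 53608, 421267, -267, 483876, -1235364, -1532442, 10, 1171920, 43051, -12702, 560065, 66755, 2])) (.node (.leaf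 [-1, -6, -7, 0, 0, 0, 1, 6, 0, -6, 0, 1, 0, 6, -2, 0, 0, 0, 0]) (.leaf [62035040, 60898549, 109574300, 2904977, -502572501, 219632140, 12133359, 94432010, -55021, 111647008, -280192396, -347107251, 595, 264057221, 10017527, -2850431, 126867996, 15038923, -120])))))) (.node (.node (.node (.node (.node (.node (.leaf []) (.leaf [5810, 4250, 8149, 243, -41162, 17821, 1058, 8717, 0, 7491, -23077, -28976, 0, 23021, 647, -243, 10650, 1351, 0])) (.leaf [-4, 18, 42, 0, -121, 50, -1, 8, 0, 54, -56, -69, 0, 48, 4, 0, 19, 0, 0])) (.node (.leaf [1161560346, 937700706, 1783178339, 51411597, -8664016054, 3768012665, 215938389, 1749050226, -737613, 1719792771, -4845604119, -6037146030, -33283, 4737690336, 145849882, -50636355, 2206559482, 277014875, -4346]) (.leaf [255491623, 222705763, 414024032, 11552434, -1966481552, 856857453, 48414504, 386302878, -185460, 408463006, -1098486551, -1365514554, -3655, 1058918653, 35479289, -11362379, 499103270, 61308585, -940]))) (.node (.node (.leaf []) (.leaf [-7, -6, -1, 0, -17, -1, -1, 4, 0, 3, 1,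 -4, 0, 13, -1, 0, 1, 0, 0])) (.node (.leaf []) (.leaf [-13324323, -11576410, -21533305, -593851, 102305232, -44571542, -2525754, -20109150, 7675, -21207411, 57158963, 71072295, 822, -55131660, -1839293, 585225, -25966838, -3206309, 129])))) (.node (.node (.node (.leaf [6, 4, 3, 0, 8, 0, 0, -3, 0, -3, 0, 0, 0, -5, 1, 0, 0, 0, 0]) (.leaf [2101790, 2332793, 4069386, 102169, -18012985, 7896158, 426075, 3223000, -2229, 4273494, -10022130, -12371550, 72, 9218043, 394567, -100008, 4521404, 515743, -4])) (.node (.leaf [2126, 1681, 3256, 91, -15708, 6840, 386, 3165, -1, 3120, -8797, -10944, 0, 8613, 264, -90, 3975, 510, 0]) (.leaf [-44848, -42351, -77007, -2095, 358324, -156447, -8676, -68397, 44, -78046, 199923, 247674, -1, -189676, -6970, 2052, -90601, -10829, 0]))) (.node (.node (.leaf []) (.leaf [-1, 0, -2, -1, 0, -2, 0, 0, 1, 0, 0, 0, 0, 0, 0, 0, 0, 2, 0])) (.node (.leaf [2123348458, 1602774374, 3112009636, 92314730, -15427133832, 6698410912, 388549005, 3186601149, -1184358, 2939906439, -8637220693, -10781585160, -87332, 8546675379,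 243673734, -91035108, 3940618167, 503874981, -7932]) (.leaf [0, 0, 0, 1, 0, 0, 0, 0, 0, 0, 0, 0, 0, 0, 0, 0, 0, 0, 0]))))) (.node (.node (.node (.node (.node (.leaf [-2, 0, -4, 0, 0, 1, 0, 4, 0, 0, -2, 0, 0, 0, 0, 0, 0, 0, 0]) (.leaf [-5020989, -5436473, -9541892, -242673, 42547022, -18639188, -1010055, -7691233, 5208, -9964563, 23681632, 29252427, -162, -21890478, -915259, 237633, -10691868, -1228382, -5])) (.leaf [0, 2, 0, 0, 2, -1, 0, 0, 0, 0, 0, 0, 0, -2, 1, 0, 0, 0, 0])) (.node (.leaf [4673699966, 3782122476, 7186950117, 206963890, -34894209696, 15176533512, 869384385, 7038286749, -2971736, 6936523032, -19514922396, -24311971590, -134446, 19071875907, 588723268, -203839793, 8885918303, 1114861419, -17915]) (.leaf [-1017797299, -839872491, -1586668505, -45365341, 7659302395, -3332869404, -190197783, -1534447959, 686970, -1540378470, 4282134541, 5331738946, 21120, -4170126047, -131563745, 44654694, -1948814515, -243063400, 2557]))) (.node (.node (.leaf [0, 0, 0, 0, -2, 2, 0, 0, 0, 0, 0, 0, 0, 2, -2, 0, 0, 0, 0]) (.leaf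 [-551620136, -467494599, -876318439, -24837563, 4196157537, -1827041496, -103676166, -832825914, 421249, -856974698, 2344675665, 2917621563, 2044, -2272654698, -73798144, 24417351, -1066526422, -131809417, -3081])) (.node (.leaf [0, 0, 0, 0, 0, 1, 0, 0, 0, 0, 0, 0, 0, 0, 0, 0, 0, 0, 0]) (.leaf [117696137, 103815797, 192349399, 5358289, -910583460, 396896497, 22365064, 178140394, -91758, 190439750, -508549586, -631925979, 64, 489143319, 16601736, -5266309, 231000634, 28246839, -286])))) (.node (.node (.node (.leaf [-24081, -18839, -36311, -1026, 178038, -77289, -4413, -36249, 3, -34755, 99495, 124098, 0, -97935, -2911, 1023, -45348, -5742, 0]) (.leaf [-912897, -1032824, -1792380, -44491, 7890314, -3460648, -186222, -1400526, 961, -1890696, 4389380, 5415120, -18, -4020588, -175468, 43542, -1979024, -224658, 6])) (.node (.leaf [-3744160425, -3554742890, -6453760802, -174244753, 29892382005, -13052549757, -725117847, -5689933128, 3372177, -6517394165, 16673233388, 20676356073, -69517, -15816667785, -579758033, 170954269, -7558261534,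 -903648929, -12176]) (.leaf [44225, 41003, 74624, 2051, -348928, 152318, 8520, 67119, -37, 75024, -194851, -241665, -1, 185446, 6697, -2013, 88459, 10636, 0]))) (.node (.node (.leaf [-460, -237, -476, -18, 3434, -1445, -78, -821, 0, -597, 1956, 2334, 0, -1929, -90, 18, -908, -121, 0]) (.leaf [831653170, 476654658, 1018451320, 33733017, -5484769326, 2366268473, 143957389, 1233383777, -174992, 875129013, -3083948357, -3877640954, -85140, 3192787660, 64326388, -33460599, 1416921699, 194358960, -12286])) (.node (.leaf []) (.leaf [-2412921733, -1681143896, -3350058075, -102255985, 17014979355, -7374067630, -434396925, -3607258680, 902770, -3086340612, 9540015180, 11932157439, 184533, -9568572786, -248228365, 101127189, -4360230472, -570938426, 41493]))))))) (.node (.node (.node (.node (.node (.node (.node (.leaf []) (.leaf [71240556, 62901329, 116527480, 3250365, -551435080, 240357717, 13536585, 107843649, -57336, 115385642, -307949096, -382663765, 543, 296164925, 10060383, -3193489, 139884234, 17089696, -83])) (.leaf [2906122,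 2471068, 4640987, 142487, -22308343, 9718216, 542580, 4437411, -4995, 4573267, -12454385, -15473493, 864, 12063276, 395705, -138437, 5671143, 681529, 81])) (.node (.leaf [-14159, -16051, -28830, -685, 119048, -52211, -2808, -20604, 7, -28191, 65755, 82575, 0, -61422, -2294, 678, -29435, -3448, 0]) (.leaf [-998281529, -561501433, -1208202722, -40152503, 6544935337, -2822615321, -172425040, -1479349433, 117005, -1031802475, 3681741472, 4630422851, 121630, -3821512854, -75105154, 39888642, -1691726321, -233558003, 25226]))) (.node (.node (.leaf [0, 0, 0, 1, 0, 0, 0, 0, 0, 0, 0, 0, 0, 0, 0, 0, 0, 0, 0]) (.leaf [83190248, 76246954, 139751216, 3810953, -653931730, 285292719, 15972969, 126102369, -64476, 139796874, -364997984, -453078141, -792, 348542634, 12316376, -3745383, 165593052, 20052564, -302])) (.node (.leaf [242, 146, 335, 15, -2457, 952, 35, 587, 0, 420, -1284, -1630, 0, 1375, 74, -15, 662, 50, 0]) (.leaf [])))) (.node (.node (.node (.leaf [-74362, -56493, -109586, -3300, 541543, -235247, -13596, -111588, 48, -103668,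 303166, 378312, 1, -299616, -8608, 3252, -138259, -17599, -1]) (.leaf [-95379682, -83169109, -154600829, -4315857, 734275441, -319940875, -18075673, -144237131, 69962, -152536410, 410158934, 509870252, 1057, -395374449, -13252078, 4244461, -186365664, -22885864, 377])) (.node (.leaf [2392855532, 2110660295, 3910531293, 108492164, -18507374794, 8066529536, 454833228, 3619924683, -1758903, 3870456999, -10336311539, -12844963587, -33273, 9942182201, 337321136, -106690545, 4694767219, 574819861, -9443]) (.leaf [23300, 23297, 42292, 1130, -187185, 81929, 4542, 34683, -29, 41676, -104172, -129957, 0, 98571, 3547, -1101, 46938, 5631, 0]))) (.node (.node (.leaf [8246, 7957, 14280, 369, -66766, 29251, 1644, 12609, 0, 14868, -37367, -45966, 0, 35041, 1324, -369, 16857, 2041, 0]) (.leaf [10797792852, 8695091181, 16548207889, 478337447, -80458529038, 34989071264, 2005283763, 16257671445, -7136493, 15944229513, -44997841080, -56070800879, -245035, 44019639955, 1351031015, -470957049, 20494821797, 2572628876, 1130])) (.node (.leaf [540180382,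 483635582, 892250834, 24565763, -4204011234, 1833005757, 103085871, 817749474, -400080, 886773624, -2347389271, -2915871837, -8340, 2251543368, 77615356, -24155136, 1065702009, 129962699, -2207]) (.leaf [-1736737980, -1315014784, -2550831525, -75580877, 12633643070, -5485879934, -318038675, -2606901981, 974573, -2412173513, 7072877576, 8828058196, 69793, -6994920832, -200153697, 74528821, -3226602944, -412237676, 7690]))))) (.node (.node (.node (.node (.node (.leaf []) (.leaf [-4184, -3379, -6506, -180, 31667, -13772, -773, -6354, 0, -6390, 17702, 21961, 0, -17269, -539, 180, -8008, -1016, 0])) (.leaf [-1, 0, 0, -1, 0, 0, 0, 0, 1, 0, 0, 0, 0, 0, 0, 0, 0, 0, 0])) (.node (.leaf [-6, 64, 90, -6, 159, -25, 0, -114, 0, 48, 72, 85, 0, -146, -3, 6, -61, -6, 0]) (.leaf [-17919343, -15879086, -29384663, -817628, 138919447, -60557043, -3408726, -27132468, 14277, -29130706, 77576966, 96385410, -87, -74554620, -2542891, 803405, -35234096, -4301346, 33]))) (.node (.node (.leaf [0, 0, 0, 0, 0, 1, 0, 0, 0, 0, 0, 0, 0, 0, 0, 0, 0, 0, 0])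 (.leaf [1626681016, 1266523658, 2435196810, 71145477, -11961620797, 5197697603, 299999269, 2444822022, -897420, 2323704151, -6694309038, -8348156057, -72285, 6586997287, 194708129, -70160564, 3050982757, 387315275, -15208])) (.node (.leaf [-1631418961, -1324484955, -2514448513, -72441112, 12197309607, -5305479928, -303633543, -2457616635, 1082679, -2429381781, 6820968241, 8496724965, 34790, -6662221775, -206419482, 71320710, -3105732177, -389037169, 2933]) (.leaf [])))) (.node (.node (.node (.leaf [0, 10, 11, 0, -36, 6, 0, 15, 0, -6, -9, -38, 0, 30, -2, 0, 12, 0, 0]) (.leaf [0, 0, 0, 1, 0, 0, 0, 0, 0, 0, 0, 0, 0, 0, 0, 0, 0, 0, 0])) (.node (.leaf [-1, 0, 0, -1, 0, 0, 0, 0, 1, 0, 0, 0, 0, 0, 0, 0, 0, 0, 0]) (.leaf [70953456, 62791447, 116242979, 3240123, -549797159, 239660793, 13491295, 107437959, -57294, 115203669, -307029084, -381474245, 611, 295138498, 10052395, -3183342, 139454682, 17024868, -98]))) (.node (.node (.leaf [507948, 605501, 1037946, 24501, -4495526, 1974788, 105759, 779064, -333, 1107692, -2500130, -3078900,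 -46, 2264028, 103658, -24106, 1123853, 126890, -16]) (.leaf [32591579, 28733132, 53242599, 1477570, -252023926, 109844760, 6194199, 49303785, -23952, 52690630, -140756241, -174919581, -450, 135401104, 4591596, -1453040, 63932620, 7828884, -128])) (.node (.leaf []) (.leaf [2542678129, 1798724348, 3566314290, 108236631, -18030739372, 7817099939, 459214480, 3804049971, -1015458, 3302084590, -10107011711, -12636154680, -181588, 10111216668, 267180772, -106998037, 4617600719, 602116243, -41547])))))) (.node (.node (.node (.node (.node (.node (.leaf []) (.leaf [84467, 42833, 96041, 3045, -539313, 231532, 14487, 125365, 61, 79385, -303765, -383011, -35, 320199, 5527, -3069, 139753, 20092, -1])) (.leaf [-8153, -7723, -13932, -363, 65103, -28518, -1605, -12360, 0, -14337, 36455, 44920, 0, -34319, -1273, 363, -16447, -2009, 0])) (.node (.leaf [-938426, -1152128, -1961672, -45571, 8426387, -3704230, -197340, -1441830, 626, -2107106, 4684076, 5763477, 90, -4215771, -198328, 44819, -2103606, -235408, 36]) (.leaf [113389, 86072, 166887,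 4987, -826304, 358895, 20744, 170406, -76, 158078, -462542, -577147, 0, 457206, 13125, -4911, 211020, 26831, 0]))) (.node (.node (.leaf [0, 1, 0, 0, 0, 0, 0, 0, 0, 0, 0, 0, 0, 0, 0, 0, 0, 0, 0]) (.leaf [-10794238595, -8692208076, -16542734157, -478181098, 80431973420, -34977522852, -2004621750, -16252320072, 7134478, -15938944747, 44982990686, 56052297957, 244871, -44005131069, -1350581933, 470802888, -20488059712, -2571779654, -1139])) (.node (.leaf [11, -48, -72, -1, 62, -36, 0, 30, 1, -60, 18, 42, 0, 6, 0, 0, -8, 8, 0]) (.leaf [3460475351, 2764056811, 5273287774, 152785065, -25703549333, 11175734174, 641660733, 5208132705, -2167632, 5069775315, -14377876472, -17918640180, -101373, 14084561654, 428462355, -150503211, 6549292795, 824543206, -12849])))) (.node (.node (.node (.leaf []) (.leaf [109206721, 92196318, 172991479, 4883241, -829316869, 361074803, 20532951, 164780826, -71922, 169064342, -463512918, -576741816, -3087, 449475672, 14539962, -4807552, 210779593, 26153153, -680])) (.node (.leaf [-10555, 920, -4411, -1446,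 59385, -25949, -1092, -19356, 255, -2931, 33679, 40219, -83, -40056, 92, 1281, -16336, -1033, -7]) (.leaf [-6532083836, -5003813875, -9670596711, -285005115, 47728580304, -20730899040, -1199460319, -9809919529, 3715177, -9178155838, 26715904345, 33334805511, 258700, -26367108735, -764681282, 281000979, -12183518458, -1551951686, 30260]))) (.node (.node (.leaf []) (.leaf [-15829874, -13902211, -25790292, -718946, 122238501, -53275188, -3004974, -23949387, 12030, -25502561, 68274766, 84848284, 77, -65721233, -2219942, 706789, -31014809, -3798927, 50])) (.node (.leaf [2030967625, 1675806731, 3165945379, 90502591, -15283001348, 6650221842, 379530204, 3061813818, -1365894, 3073438885, -8544384638, -10638802923, -43678, 8321016391, 262493275, -89087780, 3888580429, 485041009, -5238]) (.leaf [3105, 3394, 6060, 147, -25461, 11237, 624, 4462, -3, 5928, -14116, -17661, 0, 13191, 452, -144, 6342, 733, 0]))))) (.node (.node (.node (.node (.node (.leaf [0, 2, 2, 0, 0, 0, 0, 0, 0, 0, 0, -2, 0, 0, 0, 0, 0, 0, 0]) (.leaf [-1575219, -1748602,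 -3050232, -76576, 13500890, -5918276, -319341, -2415489, 1671, -3203274, 7511652, 9272541, -54, -6908793, -295751, 74955, -3388791, -386537, 4])) (.leaf [])) (.node (.leaf [-13, 71, 104, -6, 61, 9, -2, -96, 0, 78, 33, 33, 0, -102, 0, 6, -37, -9, 0]) (.leaf [-1015707540, -837924360, -1583107471, -45268087, 7642750351, -3325647938, -189795897, -1531275522, 684960, -1536811226, 4272905225, 5320276966, 21189, -4161328948, -131248950, 44559367, -1944626874, -242561167, 2571]))) (.node (.node (.leaf []) (.leaf [-249401, -239246, -434472, -11808, 1996295, -870934, -48194, -378588, 270, -435804, 1111717, 1382061, -6, -1055943, -38672, 11544, -504544, -59936, 0])) (.node (.leaf [-8039, -7619, -13810, -357, 65385, -28567, -1560, -12439, 4, -14485, 36519, 44891, 0, -34389, -1323, 353, -16511, -1964, 0]) (.leaf [-89700, -84758, -154117, -4212, 716870, -313054, -17365, -136788, 91, -156246, 400008, 495455, -6, -379386, -13940, 4128, -181234, -21656, 0])))) (.node (.node (.node (.leaf [0, 0, 2, 0, 0, -1, 0, -2, 0, 0, 2, 0, 0, 0, 0, 0,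 0, 0, 0]) (.leaf [-631876, -396766, -820676, -29411, 4340274, -1880289, -110370, -953214, 930, -742689, 2437219, 3044673, -191, -2479524, -57821, 28686, -1117920, -144759, -14])) (.node (.leaf [7, -27, -43, -5, 125, -81, -5, -6, -1, -78, 83, 61, 0, -30, 1, 6, -17, 1, 0]) (.leaf [707278, 670434, 1218779, 33269, -5632075, 2458326, 136512, 1072695, -742, 1223793, -3139536, -3899007, 42, 2983504, 108515, -32568, 1424751, 169846, -1]))) (.node (.node (.leaf [349743, 265661, 514971, 15423, -2548975, 1107138, 63990, 525501, -234, 487896, -1426896, -1780341, 0, 1410136, 40554, -15189, 650943, 82785, 0]) (.leaf [-11523, -9408, -17856, -685, 88642, -38727, -2109, -18015, 45, -17985, 49587, 61131, -11, -48042, -1561, 651, -22609, -2599, 1])) (.node (.leaf [-114246, -86355, -167270, -5036, 828556, -359729, -20882, -171405, 76, -157325, 463783, 579564, 1, -459279, -13049, 4959, -211953, -26935, 0]) (.leaf [-2010964334, -1329717898, -2697346320, -84134098, 13917463628, -6024267778, -358103184, -2999518389, 635549, -2441670045, 7809620403,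 9781511139, 172827, -7901677666, -192185217, 83288863, -3574267994, -474299571, 36859])))))))))

def threeL2 : Janko.Tree (List ℤ) :=
  (.node (.node (.node (.node (.node (.node (.node (.node (.node (.leaf []) (.leaf [3460039531, 2763559017, 5272425658, 152763787, -25699763558, 11174073232, 641571498, 5207463437, -2167182, 5068863353, -14375770637, -17916043508, -101384, 14082636729, 428377648, -150482376, 6548343912, 824435711, -12846])) (.leaf [-23, -8, -16, 8, -19, 12, -3, -3, 0, 60, -31, 30, 1, -33, 13, -9, -8, 7, 0])) (.node (.leaf [-9, 3, 3, 0, -6, 0, 0, -2, 0, 10, 1, 0, 0, -3, 0, 0, -1, 0, 0]) (.leaf [-4100260941, -3362732250, -6364415212, -182387519, 30778810832, -13391079691, -765107316, -6179423664, 2718714, -6167430100, 17209503307, 21431533076, 94872, -16778061726, -525726656, 179562224, -7833393963, -978826689, 11709]))) (.node (.node (.leaf [62057385, 60716555, 109345133, 2904287, -502017375, 219370705, 12125709, 94451659, -55098, 111316178, -279895833, -346775022, 651, 263952660, 9979447, -2849737, 126748206,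 15037858, -103]) (.leaf [-1775340647, -1368921415, -2640183319, -77575494, 13005259019, -5649771498, -326527341, -2667082740, 1012243, -2511086433, 7279024918, 9080502174, 70605, -7175426489, -209697534, 76482873, -3318802940, -422073601, 9773])) (.node (.leaf [6, 10, 8, 0, -60, 11, -1, 25, 0, -12, -18, -56, 0, 45, 2, 0, 27, -3, 0]) (.leaf [0, -3, -4, 0, 0, -1, 0, 3, 0, -3, 0, 0, 0, 3, 0, 0, 1, 0, 0])))) (.node (.node (.node (.node (.leaf [-1, 0, 0, 0, 0, -1, 0, 0, 0, 0, 1, 0, 0, 0, 0, 0, 0, 0, 0]) (.leaf [-348, -413, -716, -18, 3485, -1524, -78, -627, 0, -900, 1953, 2310, 0, -1725, -94, 18, -859, -100, 0])) (.leaf [52297928, 27281393, 60450971, 2059688, -334819522, 144155152, 8917678, 77243154, -151, 50100212, -188558821, -237611192, -7782, 197930076, 3489827, -2050453, 86795724, 12199237, -1302])) (.node (.leaf [0, 6, 8, 0, 2, 2, 0, -6, 0, 6, 0, 0, 0, -6, 0, 0, -2, 0, 0]) (.leaf [68550005, 60072352, 111508410, 3105955, -528791124, 230445335, 13006947, 103677046, -50656, 110177261, -295360603, -367099008, -765, 284436357,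 9584117, -3054303, 134178247, 16453959, -231]))) (.node (.node (.leaf [0, 0, 1, 0, 0, 0, 0, 0, 0, 0, 0, 0, 0, 0, 0, 0, 0, 0, 0]) (.leaf [-1035502600, -886963009, -1657465853, -46779820, 7913069827, -3446415425, -195198588, -1564581207, 795904, -1626538678, 4421025169, 5499050271, 1385, -4276350170, -140539889, 45984747, -2010179686, -247742076, -2216])) (.node (.leaf [-1, 0, 0, 0, -1, 0, 0, 0, 0, 1, 0, 0, 0, 0, 0, 0, 0, 0, 0]) (.leaf [-135599547, -80431122, -169656192, -5539024, 904302470, -390435143, -23622112, -201363609, 32473, -147655523, 508208318, 638449172, 13332, -523361682, -11047588, 5491359, -233296013, -31750679, 1860]))))) (.node (.node (.node (.node (.node (.leaf []) (.leaf [5787217919, 4813925034, 9072461072, 258224464, -43690283127, 19015119132, 1083799401, 8727742962, -3869343, 8828758353, -24423649292, -30402951611, -135729, 23749410537, 755952368, -254197174, 11112226941, 1383451344, -22218])) (.leaf [3187, 2453, 4732, 137, -23367, 10148, 585, 4788, 1, 4524, -13085, -16302, 0, 12879, 385, -138, 5964, 761,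 0])) (.node (.leaf [4, -18, -41, 0, 117, -50, 1, -7, 0, -54, 56, 66, 0, -45, -4, 0, -18, 0, 0]) (.leaf [2535660, 2403465, 4370512, 119639, -20261706, 8845481, 490122, 3861783, -2682, 4413159, -11298042, -14011698, 180, 10725411, 392520, -117150, 5123003, 610176, 13]))) (.node (.node (.leaf [48424, 46323, 84123, 2283, -387693, 169280, 9378, 73539, -57, 84831, -216115, -268170, 0, 204951, 7518, -2226, 97911, 11697, 0]) (.leaf [249273, 239352, 434613, 11798, -1995229, 870504, 48157, 378189, -270, 435699, -1111048, -1381438, 6, 1055286, 38637, -11534, 504240, 59878, 0])) (.node (.leaf [3, -2, 0, -1, 2, 1, 0, 0, 0, -3, 0, 1, 1, 0, 0, 0, 1, -2, 0]) (.leaf [124510605, 115865499, 211504983, 5746755, -985409046, 430073604, 23997615, 188970765, -103081, 212484626, -549860529, -682225440, 468, 523563048, 18798810, -5643771, 249361431, 30032827, -371])))) (.node (.node (.node (.leaf []) (.leaf [1057663, 1172350, 2045562, 51394, -9059592, 3971134, 214329, 1622029, -1118, 2147835, -5040738, -6222504, 36, 4637460, 198329, -50310, 2274275,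 259505, -2])) (.node (.leaf [-3, -43, -106, 0, 273, -107, 0, -11, 0, -107, 121, 168, 0, -117, -8, 0, -49, -2, 0]) (.leaf [-1218183398, -918375407, -1783819550, -52875284, 8846861148, -3841203480, -222946460, -1828075833, 644633, -1684927842, 4953488900, 6183080163, 57261, -4902216717, -139598840, 52163796, -2259764357, -289268732, 9594]))) (.node (.node (.leaf [-36555733, -31853736, -59222913, -1652581, 281324269, -122580361, -6926694, -55271710, 26481, -58422790, 157150446, 195353237, 539, -151498935, -5074411, 1625426, -71403038, -8772104, 135]) (.leaf [1, -1, 1, 0, -2, 3, 1, -1, 0, 2, -3, 0, 0, 0, 0, 0, 0, 0, 0])) (.node (.leaf [-1060, -884, -1684, -31, 8039, -3500, -191, -1584, 0, -1653, 4489, 5580, 0, -4362, -143, 31, -2024, -255, 0]) (.leaf [93684932, 76178288, 144544061, 4146024, -700714454, 304800830, 17453426, 141086097, -57294, 139703169, -391870330, -488125171, -3323, 382624037, 11872742, -4084728, 178390143, 22371790, -679])))))) (.node (.node (.node (.node (.node (.node (.leaf [-1, 0, 0, 0, -1, 0, 0, 0, 0, 1,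 0, 0, 0, 0, 0, 0, 0, 0, 0]) (.leaf [34, -157, -275, 0, 738, -330, 6, 33, 0, -447, 374, 369, 0, -165, -53, 0, -125, -4, 0])) (.leaf [16463, 16696, 30114, 744, -136980, 60153, 3283, 25103, 0, 31659, -76508, -93880, 0, 71142, 2759, -744, 34179, 4134, 0])) (.node (.leaf []) (.leaf [3465921741, 2930240995, 5496259535, 155577412, -26339198201, 11467887692, 651435685, 5231638424, -2482503, 5372883738, -14719397085, -18315659147, -49203, 14271677367, 462354303, -153045244, 6694670360, 828990844, -462]))) (.node (.node (.leaf [0, 3, 4, -1, -4, 0, 0, 0, 0, 0, 0, -6, 0, 3, 0, 1, 1, 0, 0]) (.leaf [221172242, 187512374, 351417240, 9916359, -1682700364, 732692415, 41619909, 333867261, -151432, 343869646, -940377626, -1169969046, -4805, 911226169, 29615399, -9759047, 427608828, 52961461, -1075])) (.node (.leaf [16103, 15462, 28145, 746, -129437, 56608, 3126, 24479, -14, 28531, -72225, -89424, 0, 68316, 2520, -732, 32590, 3900, 0]) (.leaf [-7472600, -8008946, -14093145, -360595, 63026678, -27603375, -1498348, -11441340, 7773, -14680713,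 35085228, 43352603, -251, -32499511, -1345548, 353092, -15846267, -1825493, -19])))) (.node (.node (.node (.leaf [-1191785, -1513098, -2555999, -58051, 10883909, -4789608, -253857, -1834662, 692, -2769328, 6048940, 7431579, 141, -5402349, -262416, 57165, -2712379, -301085, 53]) (.leaf [4, -3, -31, -5, -25, -5, 0, 20, 2, -30, 5, -18, 0, 21, 0, 3, 34, -8, 0])) (.node (.leaf [6, -9, -14, 0, 2, -4, 0, 9, 0, -15, 0, 0, 0, 6, 3, 0, 7, -2, 0]) (.leaf [-11337918815, -8561526247, -16620948178, -492260626, 82390605526, -35774418494, -2075828685, -17015411376, 6000337, -15707461816, 46130620355, 57578961471, 535481, -45640016505, -1302125515, 485633574, -21043575426, -2692717170, 91234]))) (.node (.node (.leaf [87, -141, -134, 6, -378, 60, 0, 242, 0, -159, -169, -263, 0, 390, 14, -6, 147, 14, 0]) (.leaf [0, 0, -2, 0, -2, 0, 0, 0, 0, 0, 0, 0, 0, 0, 0, 0, 2, 0, 0])) (.node (.leaf [-46850, -47893, -84985, -1870, 383508, -167473, -9414, -70581, -39, -86972, 213856, 265191, 24, -200020, -7888, 1882, -96535, -11834, 3]) (.leaf [235153654,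 241996219, 430146625, 11192328, -1946249378, 851549350, 46601590, 359056690, -230101, 443610776, -1084192608, -1341251649, 6236, 1012378944, 40268660, -10968584, 490255380, 57227674, 121]))))) (.node (.node (.node (.node (.node (.leaf [35, -71, -127, 0, 366, -169, 3, 18, 0, -246, 190, 162, 0, -69, -25, 0, -51, -3, 0]) (.leaf [575386946, 459495904, 876597988, 25298731, -4272554389, 1857651676, 106749663, 865646111, -328405, 842677914, -2390132228, -2978740922, -25584, 2341316048, 71204891, -24940199, 1088582026, 137271775, -4543])) (.leaf [-106378744, -79766360, -155202230, -4610597, 770866029, -334648074, -19440285, -159577176, 56784, -146296419, 431635840, 538912047, 4961, -427614741, -12095622, 4548282, -196958746, -25242082, 570])) (.node (.leaf []) (.leaf [2096641724, 1724631148, 3261352249, 93465248, -15756670770, 6855659193, 391342682, 3160327453, -1456608, 3162225487, -8809080738, -10970297879, -35040, 8584564494, 269794595, -91976057, 4009901692, 500244982, 2457]))) (.node (.node (.leaf [1451, -21510, -26739, 1974,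 40521, -17711, -1644, 9153, -495, -29658, 21193, 29847, 162, -3588, -3267, -1653, -7395, -2665, 12]) (.leaf [-5674751735, -4554263360, -8676105763, -250883022, 42230308345, -18363591302, -1053433155, -8542808436, 3591579, -8353308959, 23620710706, 29433646767, 159890, -23119037184, -707072958, 247111022, -10758089326, -1352609879, 20531])) (.node (.leaf [3621289242, 2750301964, 5329855559, 157752656, -26373861971, 11453114110, 663599094, 5436642084, -2052105, 5045058030, -14764536345, -18426809490, -141075, 14593966992, 419082515, -155543813, 6734946662, 859709300, -15663]) (.leaf [1089442, 1205536, 2100750, 44841, -9191979, 4020786, 222645, 1634007, 713, 2167325, -5114132, -6345666, -562, 4719210, 198837, -44947, 2305864, 275777, -45])))) (.node (.node (.node (.leaf []) (.leaf [-10, 0, 0, 0, -3, 2, 0, -2, 0, 12, 0, 6, 0, -6, 0, 0, -3, -1, 0])) (.node (.leaf [-1105638944, -968490672, -1797986938, -50076264, 8527171170, -3715984947, -209767989, -1672155723, 813846, -1776142309, 4762891119, 5919993741, 13343, -4587262767, -154485656,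 49244912, -2163779152, -265394177, 4163]) (.leaf [-217, -266, -494, -9, 2093, -898, -37, -341, 0, -536, 1132, 1403, 0, -1041, -59, 9, -516, -49, 0]))) (.node (.node (.leaf [0, -3, -32, -1, -25, -5, 0, 24, 0, -30, 6, -18, 0, 21, 0, 1, 34, -9, 0]) (.leaf [3, -20, -45, 0, 118, -52, 0, -3, 0, -57, 57, 66, 0, -42, -4, 0, -18, 0, 0])) (.node (.leaf [-11, -1, -9, 0, -18, 4, 1, 3, 0, 10, -2, 0, 0, 3, -3, 0, 5, 0, 0]) (.leaf [-1271896, -602298, -1391099, -50558, 7930589, -3408367, -212474, -1876797, 346, -1109013, 4469834, 5645064, 114, -4757951, -72455, 50115, -2063684, -292774, -17]))))))) (.node (.node (.node (.node (.node (.node (.node (.leaf []) (.leaf [-139735, -132616, -241252, -6647, 1115553, -486546, -26879, -212789, 175, -242176, 621404, 772210, -6, -591096, -21613, 6478, -282277, -33410, 0])) (.leaf [492833925, 451662638, 827873721, 22578749, -3873857751, 1690051381, 94624917, 747050505, -382087, 828096497, -2162223756, -2684035062, -4626, 2064801207, 72950926, -22190030, 980965137, 118794090, -2006])) (.node (.leaf [-188658335,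 -158975015, -298467632, -8443318, 1431731378, -623320566, -35448159, -284688816, 127446, -291535702, 800203566, 995748377, 4398, -776268720, -25060881, 8310508, -363930854, -45155530, 966]) (.leaf [0, 0, 0, 0, 1, 0, 0, 0, 0, 0, 0, 0, 0, 0, 0, 0, 0, 0, 0]))) (.node (.node (.leaf [-4, 3, 31, 4, 25, 4, 0, -20, -1, 30, -5, 18, 0, -21, 0, -3, -34, 8, 0]) (.leaf [0, 0, -1, 1, -2, 0, 0, 0, 0, 0, 0, 0, 0, 0, 0, -1, 2, 0, 0])) (.node (.leaf [77084178, 74977730, 135235792, 3603164, -621973416, 271751700, 15035745, 117287353, -68544, 137469581, -346808313, -429744174, 906, 327423249, 12306544, -3535507, 157080001, 18664620, -19]) (.leaf [0, 0, -1, 1, -1, 0, 0, 1, -1, 1, 0, 0, 0, 0, 0, 0, 0, 0, 0])))) (.node (.node (.node (.node (.leaf [8, -39, -54, -3, 33, -20, 0, 28, 0, -45, 9, 24, 0, 15, 0, 3, -3, 2, 0]) (.leaf [0, 0, 0, 0, 0, 0, 0, 0, 0, 0, 0, 0, 1, 0, 0, 0, 0, 0, 0])) (.leaf [-474734, -108759, -367859, -21202, 2583347, -1099218, -71454, -704898, 927, -214495, 1464654, 1865964, -242, -1680614, -4895, 20549, -688044, -101894, -32]))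 (.node (.leaf []) (.leaf [6470259641, 4945503867, 9564555289, 282138886, -47236438057, 20516040572, 1187503312, 9716010574, -3661715, 9071242065, -26441353877, -32994285885, -259404, 26106352515, 755185595, -278187617, 12059046563, 1537026639, -30150]))) (.node (.node (.leaf []) (.leaf [-38, 72, 102, -6, 110, -2, -2, -115, 0, 103, 52, 81, 0, -144, -7, 6, -69, -4, 0])) (.node (.leaf [911573982, 961912801, 1699280842, 43995463, -7636818692, 3343626481, 181952988, 1395400314, -972279, 1764513126, -4252468131, -5255901020, 48075, 3950838084, 161149072, -43069327, 1921437364, 222200831, -1932]) (.leaf [-876191, -1208574, -2004551, -34681, 8198196, -3602442, -193620, -1315488, -1346, -2157582, 4544227, 5615412, 761, -4007733, -206246, 35202, -2033452, -232583, 64]))))) (.node (.node (.node (.node (.node (.leaf [4283395, 4987094, 8597373, 208217, -37534868, 16478782, 883926, 6576798, -3650, 9138542, -20879011, -25723248, -105, 19000515, 851818, -204365, 9395978, 1062822, -97]) (.leaf [17557037, 15516955, 28737565, 802424, -135981091,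 59274336, 3336879, 26586213, -14370, 28472846, -75938605, -94352265, 219, 73014759, 2483453, -788260, 34493354, 4211100, -13])) (.leaf [-424, -632, -1096, -18, 4167, -1866, -77, -610, 0, -1209, 2320, 2803, 0, -1971, -123, 18, -987, -102, 0])) (.node (.leaf [138, 66, 244, 6, -1359, 480, 0, 309, 0, 189, -636, -918, 0, 807, 45, -6, 363, 8, 0]) (.leaf [46320463, 46838720, 83614280, 2180377, -380174371, 166266282, 9140454, 70604408, -40627, 85840616, -211865314, -262235091, 9, 198497613, 7758295, -2139521, 95836374, 11272732, -238]))) (.node (.node (.leaf [0, 0, -3, -4, 1, 0, 0, 0, 0, 0, 0, 0, 0, 0, 0, 4, -1, 0, 0]) (.leaf [-8041, -7614, -13813, -364, 65386, -28566, -1560, -12439, 6, -14484, 36518, 44888, -1, -34390, -1323, 359, -16511, -1964, 0])) (.node (.leaf [144543132, 134755175, 245849218, 6669300, -1144782168, 499648220, 27872136, 219377467, -119381, 247096822, -638770176, -792512787, 291, 608011782, 21873403, -6549948, 289673632, 34871706, -262]) (.leaf [-167897, -159102, -289348, -7808, 1330690, -580784, -32480, -253019,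 145, -288409, 741660, 922570, -9, -705684, -25295, 7672, -336591, -40457, 0])))) (.node (.node (.node (.leaf []) (.leaf [12391835, 13064411, 23094346, 606071, -103862224, 45476420, 2468781, 18994006, -15497, 23986447, -57825572, -71463903, 1320, 53739315, 2190076, -591964, 26135512, 3009076, 70])) (.node (.leaf [-532347, -502840, -914795, -25247, 4251686, -1856237, -102852, -811833, 585, -924816, 2371263, 2939537, -48, -2251509, -82288, 24710, -1075329, -128006, 0]) (.leaf [-1137821325, -1225242187, -2153244367, -54975584, 9621780611, -4215005264, -228713841, -1743406788, 1150113, -2247999212, 5356791053, 6615784845, -39602, -4955516717, -206272498, 53854008, -2418249345, -278500406, 11065]))) (.node (.node (.leaf [-2, 0, 0, -1, 0, -1, 0, 0, 1, 0, 1, 0, 0, 0, 0, 0, 0, 0, 0]) (.leaf [4232, 3317, 6391, 179, -31312, 13611, 776, 6363, -1, 6156, -17527, -21810, 0, 17193, 524, -178, 7963, 1013, 0])) (.node (.leaf []) (.leaf [-1016952708, -838789084, -1584840813, -45328166, 7651618709, -3329495086, -190016974, -1533165141, 687240,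 -1538423154, 4277870738, 5326474933, 20733, -4166310665, -131378943, 44617666, -1946901239, -242846415, 2527])))))) (.node (.node (.node (.node (.node (.node (.leaf [0, 0, -1, -1, 0, 0, 0, 0, 0, 0, 0, 0, 0, 0, 0, 1, 0, 0, 0]) (.leaf [5461040290, 4636041472, 8684834872, 244909084, -41577807507, 18105262182, 1028373619, 8245667116, -3659395, 8505317677, -23236739307, -28905287930, -126235, 22508075851, 732923223, -241076693, 10564544897, 1308526532, -46761])) (.leaf [])) (.node (.leaf [69070582, 61610278, 113790894, 3143518, -536761874, 234017834, 13166556, 104558178, -52070, 112983007, -299726253, -372343986, -708, 287689641, 9878219, -3090460, 136089978, 16606544, -280]) (.leaf [0, -1, 2, 2, 0, 0, 0, 0, 0, 0, 0, 1, 0, 0, 0, -2, 0, 0, 0]))) (.node (.node (.leaf [130, 73, 63, 3, -808, 391, 39, 198, -5, 189, -551, -546, 0, 401, 33, 3, 219, 50, -1]) (.leaf [2, 0, 0, 0, 1, 0, 0, 0, 0, -1, 0, 0, 0, 0, 0, 0, 0, 0, 0])) (.node (.leaf [35, -71, -126, 0, 366, -169, 3, 18, 0, -246, 190, 162, 0, -69, -25, 0, -51, -3, 0]) (.leaf [18152,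 -71045, -85093, -23, 176223, -85254, -1629, 20712, -6, -129734, 92505, 98847, 11, -10844, -15340, 13, -35657, 1721, 5])))) (.node (.node (.node (.leaf []) (.leaf [0, 0, 2, 1, 0, 0, 0, 0, 0, 0, 0, 0, 0, 0, 0, -1, 0, 0, 0])) (.node (.leaf []) (.leaf [1, 0, 0, 0, 0, 0, 0, 0, 0, 0, 0, 0, 0, 0, 0, 0, 0, 0, 0]))) (.node (.node (.leaf [-1468, -1871, -3249, -72, 14620, -6439, -311, -2488, 0, -3912, 8179, 9733, 0, -7146, -405, 72, -3562, -402, 0]) (.leaf [1022153033, 844282023, 1594541971, 45565347, -7694995840, 3348469515, 191058192, 1541066784, -689682, 1548430600, -4302018927, -5356381830, -21476, 4188772428, 132290663, -44851574, 1957809745, 244128840, -2615])) (.node (.leaf []) (.leaf [10040797706, 7557233375, 14686531455, 435623257, -72874675919, 31640139377, 1836985676, 15066775819, -5281491, 13865556967, -40804834677, -50935664117, -476574, 40393809408, 1148112232, -429782863, 18615709589, 2384101559, -82329]))))) (.node (.node (.node (.node (.node (.leaf [0, -3, -4, 0, -1, -1, 0, 3, 0, -3, 0, 0, 0, 3, 0, 0, 1, 0, 0]) (.leaf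 [-21613, -198013, -270939, -2605, 805284, -368425, -14499, -43596, 90, -357480, 437098, 513282, 0, -261813, -38957, 2491, -186015, -10389, 24])) (.leaf [-3, 2, 4, 0, 2, -7, -2, -2, 0, 2, 5, 0, 0, -3, 3, 0, -1, 0, 0])) (.node (.leaf [-85, -68, -101, -3, 555, -244, -17, -114, 0, -114, 330, 393, 0, -291, -17, 3, -150, -25, 0]) (.leaf [-912416253, -797527403, -1481477992, -41267579, 7030245428, -3063476964, -173025615, -1379638263, 661320, -1462519572, 3926938383, 4881309316, 13903, -3783647151, -127123050, 40588590, -1784091739, -219014707, 3766]))) (.node (.node (.leaf [-17582, -18237, -32791, -798, 148456, -65231, -3514, -26922, 0, -34899, 82918, 101468, 0, -76614, -3103, 798, -36943, -4439, 0]) (.leaf [-45170, -43890, -79392, -2149, 363878, -158982, -8774, -68569, 45, -80361, 202829, 251520, -3, -191676, -7177, 2107, -91839, -10902, 0])) (.node (.leaf [69199485, 53770030, 103456319, 3029243, -508414523, 220902896, 12749379, 103992651, -40274, 98616586, -284517827, -354872874, -2635, 280099351, 8256749, -2986013, 129700664,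 16459460, -321]) (.leaf [-2, 0, 0, 0, -2, 0, 0, 0, 0, 2, 0, 0, 0, 0, 0, 0, 0, 0, 0])))) (.node (.node (.node (.leaf [-9, 46, 95, 0, -246, 113, 0, 3, 0, 129, -123, -135, 0, 81, 8, 0, 36, 1, 0]) (.leaf [6796511988, 5091759237, 9909651600, 294398831, -49242329093, 21377433645, 1242329586, 10196446302, -3476842, 9343191992, -27575003026, -34424461023, -339445, 27318333969, 772377676, -290516235, 12581095738, 1613673756, -66309])) (.node (.leaf [-15, 0, -9, 0, 16, 5, 0, -9, 0, 29, -5, 30, 0, -33, 3, 0, -12, 0, 0]) (.leaf [132090, 126357, 229279, 6200, -1057687, 461713, 25582, 200787, -134, 231176, -589500, -731671, 4, 559167, 20561, -6072, 267339, 31811, 2]))) (.node (.node (.leaf [5111619, 5521357, 9696302, 246900, -43269744, 18954523, 1027566, 7829838, -5297, 10121208, -24084934, -29751996, 162, 22273587, 929324, -241773, 10874833, 1250274, 8]) (.leaf [-111011, -107527, -195165, -5324, 895375, -390690, -21456, -169187, 136, -196835, 498353, 618995, -7, -472471, -17534, 5195, -226064, -26622, 0])) (.node (.leaf [0, 0, 1, -1,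 2, 0, 0, 0, 0, 0, 0, 0, 0, 0, 0, 1, -2, 0, 0]) (.leaf [0, 0, 0, 0, 1, 0, 0, 0, 0, 0, 0, 0, 0, 0, 0, 0, 0, 0, 0])))))))) (.node (.node (.node (.node (.node (.node (.node (.node (.leaf []) (.leaf [61903528, 47184084, 91312664, 2678150, -451168221, 195930639, 11361024, 92866169, -30169, 86473388, -252573940, -315237523, -3949, 249507204, 7189160, -2643595, 115190699, 14724578, -437])) (.leaf [-3101788, -3981508, -6707177, -147474, 28413437, -12497354, -662919, -4762356, 1236, -7254668, 15780495, 19411824, 666, -14079129, -688934, 145500, -7080156, -786662, 72])) (.node (.leaf [3548798, 3164776, 5859706, 173588, -27745441, 12099897, 671700, 5421453, -5678, 5844307, -15480580, -19212453, 888, 14862789, 512300, -168881, 7037670, 838605, 83]) (.leaf [662062494, 503880929, 975818245, 28862183, -4825582658, 2095682171, 121374381, 994027041, -378991, 924270429, -2701355354, -3371212824, -24973, 2669148640, 76833847, -28455840, 1232182617, 157182634, -2379]))) (.node (.node (.leaf [0, 0, 0, -1, 0, 0, 0, 0, 0, 0, 0, 0, 0, 0, 0, 1, 0,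 0, 0]) (.leaf [-6715843782, -5020509063, -9777687950, -290724196, 48617815854, -21105226125, -1226997192, -10074324876, 3413182, -9212484877, 27226237545, 33991093644, 339620, -26982950889, -760976120, 286905153, -12422672742, -1594314165, 66241])) (.node (.leaf [32852903, 29003370, 53722716, 1489825, -254193446, 110793872, 6246127, 49702685, -24171, 53187135, -141964679, -176413883, -456, 136528113, 4636729, -1465069, 64478631, 7892878, -129]) (.leaf [0, 0, 2, -1, 2, 0, 0, 0, 0, 0, 0, 0, 0, 0, 0, 1, -2, 0, 0])))) (.node (.node (.node (.node (.leaf []) (.leaf [1878771, 2034916, 3571290, 90796, -15922829, 6975613, 377992, 2877972, -1946, 3729807, -8862596, -10947281, 59, 8191717, 342598, -88912, 4001262, 459672, 3])) (.leaf [-69135, -52701, -102197, -3064, 504171, -219047, -12639, -103725, 49, -96738, 282188, 352131, 0, -278775, -8016, 3015, -128658, -16353, 0])) (.node (.leaf [0, 0, -1, 0, -1, 0, 0, 0, 0, 0, 0, 0, 0, 0, 0, 0, 1, 0, 0]) (.leaf [-2125104384, -1690382190, -3229069525, -93835771, 15759663054, -6851565523, -393584490,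 -3197996424, 1356192, -3100633662, 8815962768, 10988257855, 54239, -8642648777, -261696637, 92420862, -4016421252, -505996686, 4478]))) (.node (.node (.leaf []) (.leaf [290, 34, 342, 16, -2865, 961, -2, 780, 0, 273, -1341, -1926, -2, 1797, 99, -15, 797, 23, 0])) (.node (.leaf [-496162, -473674, -859749, -23106, 3973172, -1734602, -96207, -754716, 444, -868543, 2215184, 2747733, -7, -2100611, -77234, 22667, -1004015, -119851, 2]) (.leaf [-32302, -31361, -57012, -1528, 258126, -112799, -6266, -48613, 35, -56695, 143842, 179020, -1, -136439, -4952, 1494, -64992, -7809, 0]))))) (.node (.node (.node (.node (.node (.leaf [0, 0, 0, -2, 0, 0, 0, -1, 1, 0, 0, 0, 0, 0, 0, 1, 0, 0, 0]) (.leaf [-23707, -23322, -42239, -1106, 191145, -83505, -4611, -35772, 14, -42300, 106376, 132324, 0, -100701, -3690, 1092, -48144, -5724, 0])) (.leaf [6, -20, -45, 0, 120, -52, 0, -3, 0, -60, 57, 66, 0, -42, -4, 0, -18, 0, 0])) (.node (.leaf [28928, 25107, 46192, 1272, -219575, 96037, 5577, 42986, -5, 45617, -123103, -152642, 6, 118089, 3863, -1273, 55865,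 7013, 0]) (.leaf [-1790120228, -1357743733, -2632305171, -77945730, 13030619102, -5658486457, -327939519, -2687294931, 1009665, -2490571177, 7294916190, 9104754609, 70890, -7212355467, -206786780, 76857387, -3327747506, -424951214, 7788]))) (.node (.node (.leaf []) (.leaf [-64, -163, -289, 3, 72, -110, -1, 143, 0, -137, 59, 122, 0, 42, 0, -3, 23, 4, 0])) (.node (.leaf [-24, 270, 434, 4, -280, 94, 0, -150, 0, 216, -42, -306, 0, 36, 0, -4, 28, -2, 0]) (.leaf [0, 3, 4, 0, 2, 1, 0, -3, 0, 3, 0, 0, 0, -3, 0, 0, -1, 0, 0])))) (.node (.node (.node (.leaf [-1, 0, 0, 0, -1, 0, 0, 0, 0, 1, 0, 0, 0, 0, 0, 0, 0, 0, 0]) (.leaf [-1248579942, -984817311, -1886030045, -54840993, 9227806573, -4010982043, -230915749, -1877774577, 727141, -1806538562, 5163081689, 6436597150, 48360, -5068878204, -152034246, 54056573, -2352430966, -297446218, 8919])) (.node (.leaf [-3579434, -2523087, -5004328, -149481, 25290672, -10963750, -646278, -5337555, 844, -4616955, 14179378, 17736840, 441, -14195479, -372437, 148179, -6478549, -849161, 17]) (.leaf [-6251286988,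 -4903112336, -9406614620, -274625712, 46100168462, -20035138457, -1154146153, -9399636111, 3776850, -8993316396, 25794608798, 32163680021, 206855, -25351200918, -755427469, 270618626, -11755812434, -1487520098, 23382]))) (.node (.node (.leaf [-45, -59, -97, -2, 84, -62, -5, 21, 4, -30, 55, 99, 0, -36, 1, -2, -18, -1, 0]) (.leaf [3046200, 2906971, 5277150, 142092, -24385458, 10645859, 590358, 4632957, -2805, 5328467, -13595177, -16865497, 62, 12894311, 473795, -139348, 6162640, 735312, -1])) (.node (.leaf [198912, 187494, 341193, 9393, -1584274, 691478, 38342, 302745, -221, 343676, -883453, -1096159, 12, 839697, 30614, -9184, 400893, 47731, 0]) (.leaf [4298884516, 3145072357, 6167666178, 184857276, -30866343636, 13392335608, 781758554, 6441512205, -2012523, 5771473759, -17291616511, -21600633685, -252377, 17201083290, 472971860, -182542902, 7894004313, 1019407707, -49474])))))) (.node (.node (.node (.node (.node (.node (.leaf []) (.leaf [-8415, -6538, -12523, -360, 62423, -27073, -1560, -12801, 0, -12144, 34920, 43461, 0,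 -34326, -1037, 360, -15953, -2023, 0])) (.leaf [-3644, -6313, -10901, -186, 43266, -19303, -822, -6084, 0, -13383, 23934, 28210, 0, -19815, -1260, 186, -10068, -1069, 0])) (.node (.leaf [1049042466, 845840016, 1609085680, 46416623, -7820876002, 3401223828, 194961024, 1579507077, -665265, 1551282042, -4374127344, -5449954264, -30219, 4277678658, 131504785, -45717314, 1991939273, 250152540, -3825]) (.leaf [181728607, 158440988, 294534294, 8217299, -1398854033, 609528616, 34438632, 274773996, -131874, 290596244, -781405605, -971347467, -2609, 753227758, 25242698, -8082145, 355032442, 43609336, -671]))) (.node (.node (.leaf [0, 0, -1, 0, 0, 1, 0, 1, 0, 0, -1, 0, 0, 0, 0, 0, 0, 0, 0]) (.leaf [-65, 65, 116, 0, -554, 215, 1, 44, 0, 261, -241, -265, 0, 183, 16, 0, 110, -5, 0])) (.node (.leaf []) (.leaf [-343347, -260752, -505554, -15137, 2502502, -1086935, -62815, -515968, 227, -478929, 1400833, 1747868, 0, -1384518, -39783, 14910, -639055, -81263, 0])))) (.node (.node (.node (.leaf [24, 0, 10, 0, 11, 0, 0, -3, 0, -21, 0, -9, 0,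 9, 0, 0, 1, 1, 0]) (.leaf [0, 0, 0, 0, 1, 0, 0, 0, 0, 0, 0, 0, 0, 0, 0, 0, 0, 0, 0])) (.node (.leaf [2, -1, 1, 0, -1, 3, 1, -1, 0, 1, -3, 0, 0, 0, 0, 0, 0, 0, 0]) (.leaf [3632661, 2214279, 4624607, 151175, -24465176, 10574492, 635002, 5404967, -1439, 4073835, -13745026, -17245059, -234, 14086922, 309090, -149507, 6304570, 848755, 5]))) (.node (.node (.leaf [3192, 2431, 4685, 140, -23245, 10086, 585, 4788, 2, 4457, -13024, -16239, -1, 12843, 381, -141, 5946, 766, 0]) (.leaf [81212, 78370, 142479, 3941, -654145, 285018, 15576, 124206, -129, 142837, -363702, -452724, 3, 345948, 12827, -3815, 165358, 19304, 0])) (.node (.leaf [12, -135, -218, -2, 140, -48, 0, 75, 0, -108, 21, 153, 0, -18, 0, 2, -14, 2, 0]) (.leaf [1324453, 1424139, 2503857, 63910, -11188227, 4900496, 265869, 2028325, -1365, 2610774, -6228056, -7694472, 42, 5764929, 239493, -62589, 2812494, 323762, 2]))))) (.node (.node (.node (.node (.node (.leaf [0, 0, 0, -1, 0, -1, 0, 0, 1, 0, 0, 0, 0, 0, 0, 0, 0, 0, 0]) (.leaf [-1055608, -1526621, -2506194, -39202, 10080516,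 -4432558, -238285, -1575549, -2376, -2712263, 5584081, 6900326, 1159, -4875543, -261037, 40318, -2493583, -285889, 101])) (.leaf [17, -75, -105, 3, -37, -3, 1, 84, 0, -63, -39, -8, 0, 78, 4, -3, 22, 10, 0])) (.node (.leaf [6926295918, 5589864095, 10630655513, 306451374, -51661475739, 22468070991, 1287861042, 10430073243, -4310986, 10254601863, -28894521080, -35997382824, -211276, 28250221373, 869647590, -301886014, 13156836452, 1652416616, -43098]) (.leaf [-134050, -126033, -229215, -6274, 1068038, -466404, -25893, -204263, 130, -231980, 596056, 738458, -7, -565829, -20696, 6151, -270224, -32276, 0]))) (.node (.node (.leaf [-770, -777, -1461, -36, 6932, -3033, -150, -1227, 0, -1719, 3866, 4608, 0, -3513, -168, 36, -1700, -206, 0]) (.leaf [-819257239, -672944580, -1273105408, -36508311, 6153357492, -2677205727, -152861661, -1234797291, 568335, -1233881369, 3440229225, 4284437454, 13800, -3353420394, -105224619, 35927215, -1566063889, -195444194, -1039])) (.node (.leaf [-229939, -174624, -338540, -10126, 1675971, -727932, -42074,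 -345573, 147, -320717, 938157, 1170585, 1, -927246, -26642, 9978, -428009, -54417, 0]) (.leaf [-89114, -84558, -153758, -4195, 713059, -311372, -17252, -135797, 90, -155595, 397669, 492889, -6, -377253, -13820, 4111, -180207, -21487, 0])))) (.node (.node (.node (.leaf [-3, 1, 0, 1, -2, 1, 0, 0, 0, 3, 0, 0, -1, 0, 0, 0, 0, 0, 0]) (.leaf [])) (.node (.leaf [1693379496, 756090454, 1789380995, 65337183, -10377030389, 4453104117, 281355732, 2490697020, 19221, 1389619607, -5855071076, -7405850920, -237534, 6281817447, 86824821, -65085297, 2705785264, 391287694, -33573]) (.leaf [-161781, -136489, -255745, -4970, 1189355, -514384, -30783, -233802, -384, -236625, 663375, 837690, 175, -650674, -19919, 5169, -302182, -40869, 10]))) (.node (.node (.leaf [46, 194, 325, 14, 430, -241, 6, -160, -2, -228, 338, -54, 0, -96, -50, -12, -106, 5, 0]) (.leaf [139435224, 108235646, 208321689, 6106221, -1024086423, 444950689, 25681951, 209546067, -81930, 198521723, -573103035, -714832468, -5067, 564304210, 16615728, -6018602, 261264490, 33158174,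 -622])) (.node (.leaf []) (.leaf [4057, 3709, 6758, 178, -31908, 13912, 784, 6190, 1, 6792, -17823, -22113, 0, 17013, 607, -179, 8103, 979, 0]))))))) (.node (.node (.node (.node (.node (.node (.node (.leaf []) (.leaf [-2981607658, -2373593057, -4533007288, -131541894, 22117535563, -9615788273, -552419413, -4486739557, 1860018, -4353701397, 12372608007, 15420957203, 87796, -12127493628, -367538901, 129583000, -5636410147, -710243406, 11079])) (.leaf [892522, 1017996, 1763904, 43527, -7748850, 3399333, 182604, 1370694, -926, 1865100, -4309994, -5315202, 24, 3941382, 173196, -42618, 1942360, 219994, -7])) (.node (.leaf []) (.leaf [3, -39, -55, 2, 49, -15, 0, 19, -1, -27, 6, 48, 0, -9, 0, -1, -13, 3, 0]))) (.node (.node (.leaf []) (.leaf [101198730, 89265423, 165392231, 4607362, -782966007, 341272060, 19230133, 153172269, -78955, 163754028, -437276204, -543358577, 66, 420587640, 14275315, -4528227, 198624541, 24287718, -246])) (.node (.leaf [-17, 84, 130, -3, -94, 59, 0, -61, 0, 105, -27, -66, 0, -18, 0, 3, 7, -12, 0]) (.leaf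 [0, 0, 0, 0, 1, 0, 0, 0, 0, 0, 0, 0, 0, 0, 0, 0, 0, 0, 0])))) (.node (.node (.node (.leaf []) (.leaf [0, 3, 27, -9, 25, 5, 0, -26, 2, 30, -6, 18, 0, -21, 0, 7, -34, 9, 0])) (.node (.leaf [190579, 179134, 326312, 9112, -1520619, 663930, 36771, 291015, -225, 330087, -848227, -1051107, 23, 805830, 29349, -8910, 384687, 45746, 0]) (.leaf [570588559, 452149306, 864649427, 25054115, -4224255747, 1836314451, 105658113, 858173641, -324923, 829293856, -2363389246, -2946015887, -24756, 2318336986, 69896238, -24699997, 1076645848, 136027597, -4439]))) (.node (.node (.leaf [-8, 3, -8, 0, -3, 2, 0, 7, 0, 3, -2, 0, 0, -3, 0, 0, 3, -2, 0]) (.leaf [-32591579, -28733136, -53242605, -1477569, 252023926, -109844760, -6194199, -49303782, 23952, -52690633, 140756241, 174919583, 449, -135401101, -4591596, 1453040, -63932619, -7828884, 128])) (.node (.leaf []) (.leaf [-1736197410, -1314562057, -2549978176, -75551206, 12629464410, -5484054821, -317938589, -2606062359, 972926, -2411316087, 7070541519, 8825173178, 70191, -6992663574, -200079149, 74500379,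 -3225539253, -412114239, 7710]))))) (.node (.node (.node (.node (.node (.leaf []) (.leaf [3084463469, 2524722054, 4781151816, 137115217, -23135340116, 10065117338, 575294020, 4648011240, -2033667, 4630461555, -12936196616, -16110757900, -73688, 12616351797, 394463717, -134998725, 5888585028, 736243868, -9138])) (.leaf [])) (.node (.leaf [3, -16, -13, 0, 91, -40, 1, -22, 0, -27, 45, 56, 0, -39, -2, 0, -25, 4, 0]) (.leaf [-120907311, -106823769, -197842105, -5513540, 936166495, -408065515, -22982205, -183042303, 96102, -195979209, 522814926, 649613646, -603, -502714488, -17092581, 5417817, -237472619, -29013701, 224]))) (.node (.node (.leaf [1191785, 1513098, 2555999, 58053, -10883910, 4789608, 253857, 1834662, -694, 2769329, -6048939, -7431579, -141, 5402349, 262416, -57165, 2712379, 301085, -53]) (.leaf [479293477, 378982776, 725191377, 21021128, -3545314706, 1541106866, 88718821, 720765573, -267330, 695137377, -1983647918, -2472748093, -22017, 1946521096, 58547417, -20727589, 903675103, 114270689, -4192])) (.node (.leaf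 [33013450, 29126868, 53962722, 1498130, -255382385, 111311080, 6275139, 49948302, -24561, 53416574, -142628904, -177241313, -368, 137183890, 4655784, -1473079, 64782289, 7929366, -122]) (.leaf [-227, -266, -440, -9, 1878, -839, -39, -313, 0, -485, 1065, 1282, 0, -918, -59, 9, -475, -50, 0])))) (.node (.node (.node (.leaf [4206, 3263, 6255, 180, -31214, 13541, 780, 6405, 0, 6072, -17463, -21726, 0, 17166, 517, -180, 7976, 1010, 0]) (.leaf [-27268454, -28455116, -50402193, -1305050, 227160515, -99423036, -5424378, -41680926, 27789, -52164217, 126510186, 156441483, -918, -117809136, -4751935, 1278278, -57186451, -6642065, -99])) (.node (.leaf []) (.leaf [-62732, -49440, -95565, -3870, 477025, -208228, -11219, -98352, 300, -94343, 266347, 329498, -80, -260730, -8029, 3659, -121890, -13610, -9]))) (.node (.node (.leaf [0, 0, 0, 0, 1, 0, 0, 0, 0, 0, 0, 0, 0, 0, 0, 0, 0, 0, 0]) (.leaf [1843004781, 1570594881, 2939116412, 82911952, -14051794876, 6119260546, 347098327, 2783117296, -1336558, 2879853637, -7851737483, -9767770956, -23575,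 7601676012, 248425311, -81551379, 3570281384, 441107801, -440])) (.node (.leaf [-15092, -11474, -22471, -663, 110276, -47841, -2735, -22679, 7, -21060, 61559, 77040, 0, -61125, -1706, 656, -28091, -3543, 0]) (.leaf [2423520221, 1692529734, 3370083856, 102770560, -17104473503, 7413267360, 436522504, 3623491647, -914730, 3107210608, -9589830249, -11993707038, -183856, 9614697276, 250141380, -101630455, 4382729709, 573524779, -41519])))))) (.node (.node (.node (.node (.node (.node (.leaf []) (.leaf [338813, 353975, 625307, 13174, -2781530, 1214207, 68289, 506059, 361, 635650, -1549172, -1926229, -217, 1446573, 57609, -13303, 699467, 85936, -15])) (.leaf [14, 27, 63, 0, -88, 49, -1, -5, 0, 45, -53, -66, 0, 36, 4, 0, 7, 2, 0])) (.node (.leaf [0, 3, 4, 0, -2, 4, 0, -3, 0, 6, -3, 0, 0, -3, 0, 0, -1, 0, 0]) (.leaf [11667738672, 8773396601, 17055158039, 506096263, -84651506576, 36752497589, 2134142419, 17507163811, -6133427, 16096800606, -47399712081, -59169550067, -554442, 46930162611, 1332402878, -499314461, 21625006920, 2770154952,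 -93933]))) (.node (.node (.leaf [0, 2, -5, -7, 0, 0, 0, 0, 0, 0, 0, -2, 0, 0, 0, 7, 0, 0, 0]) (.leaf [])) (.node (.leaf [-3665254629, -2223360667, -4651506257, -150885803, 24625493974, -10637474773, -640868297, -5448131807, 1102149, -4080507102, 13833659686, 17370037559, 311401, -14197424160, -308695836, 149437406, -6347805160, -858408975, 34847]) (.leaf [3458928455, 2762520148, 5270532920, 152714208, -25690991142, 11170247251, 641356912, 5205786253, -2166618, 5066972669, -14370877671, -17909961315, -101254, 14077975143, 428210366, -150433492, 6546123675, 824166322, -12843])))) (.node (.node (.node (.leaf [-3, 1, 0, -1, -1, 1, 0, 0, 2, 2, -1, 0, -1, 0, 0, 0, 0, 0, 0]) (.leaf [223, 99, 208, 9, -1705, 710, 39, 426, 0, 284, -972, -1152, 0, 969, 45, -9, 452, 62, 0])) (.node (.leaf [2126, 1681, 3257, 93, -15708, 6839, 386, 3165, -1, 3120, -8797, -10944, 0, 8613, 264, -92, 3975, 511, 0]) (.leaf [-6469987627, -4942589582, -9560572321, -282104273, 47224778931, -20510726577, -1187299819, -9715427851, 3661252, -9066004667, 26435058712,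 32986856375, 258800, -26102617446, -754608328, 278154107, -12056359465, -1536884239, 30114]))) (.node (.node (.leaf [-1, 0, 0, 0, -1, 0, 0, 0, 0, 1, 0, 0, 0, 0, 0, 0, 0, 0, 0]) (.leaf [162905, 154129, 280296, 7712, -1300695, 567777, 31458, 248175, -180, 282924, -725282, -899560, 12, 688773, 25188, -7544, 328990, 39158, 0])) (.node (.leaf [2741664361, 2295838849, 4318369771, 122667168, -20755125073, 9034639438, 514223820, 4136474835, -1888413, 4210577114, -11601051717, -14438490378, -51826, 11267196394, 361283141, -120719056, 5277393989, 655562899, -7873]) (.leaf [-216, -132, -253, -9, 1739, -732, -39, -404, 0, -322, 982, 1176, 0, -960, -45, 9, -457, -58, 0]))))) (.node (.node (.node (.node (.node (.leaf [-2, 1, 1, 0, 0, -3, -1, 0, 0, 0, 3, 0, 0, 0, 0, 0, 0, 0, 0]) (.leaf [494263002, 451037840, 827748518, 22671281, -3878913162, 1692075590, 94769175, 749322010, -395419, 827171803, -2165130570, -2687879679, -525, 2069272242, 72800947, -22274122, 982470682, 119022866, -1215])) (.leaf [-8, -48, -73, -17, 110, -64, -3, 24, 11,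 -90, 66, 63, -1, 2, -13, 7, -21, 1, 0])) (.node (.leaf []) (.leaf [-32671291, -75901684, -115793874, -2125200, 425948363, -190077281, -8866825, -53780202, 74541, -139009702, 234253478, 282750961, -5602, -183680598, -14296252, 2054336, -103256255, -9019357, 1926]))) (.node (.node (.leaf [-3804056, -2922999, -5643737, -167195, 27851737, -12098973, -698820, -5720604, 2378, -5368169, 15589271, 19444629, 83, -15374523, -448370, 164728, -7109106, -902970, 6]) (.leaf [319, 222, 499, 9, -2591, 1043, 34, 524, 0, 487, -1364, -1760, 0, 1422, 82, -9, 682, 53, 0])) (.node (.leaf [-2, -68, -111, -8, 226, -114, -2, 17, 9, -145, 123, 132, 0, -45, -17, -1, -36, 0, 0]) (.leaf [538006386, 445600101, 840845819, 23941429, -4054138469, 1764250363, 100664103, 811061748, -347655, 817131186, -2266515768, -2821819899, -15736, 2205705213, 69866218, -23575397, 1031315202, 128617826, -2641])))) (.node (.node (.node (.leaf [1068, 900, 1726, 45, -8137, 3524, 190, 1607, 0, 1656, -4521, -5660, 0, 4425, 145, -45, 2056, 253, 0]) (.leaf [-3467145127, -3077606956,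 -5692147224, -157829576, 26896815932, -11725412071, -660242225, -5249251713, 2605936, -5646826066, 15020859195, 18660335443, 21597, -14429390330, -493117529, 155175237, -6820640740, -833390261, 26806])) (.node (.leaf []) (.leaf [-559696128, -455155198, -863610235, -24826356, 4187040912, -1821308758, -104234434, -843102525, 361079, -834803102, 2341475111, 2916575982, 14934, -2286232528, -70968756, 24448376, -1066017205, -133549582, 1967]))) (.node (.node (.leaf [0, 0, -2, -4, 2, 0, 0, 0, 0, 0, 0, 0, 0, 0, 0, 4, -2, 0, 0]) (.leaf [-660511793, -502330797, -973042377, -28796230, 4813053942, -2090214355, -121068609, -991700334, 379116, -921475866, 2694377486, 3362531973, 24482, -2662573282, -76583767, 28390275, -1229023472, -156799862, 2357])) (.node (.leaf [-229078, -174338, -338178, -10104, 1673723, -727099, -41935, -344568, 154, -321485, 936913, 1168158, 0, -925167, -26718, 9950, -427071, -54313, 0]) (.leaf [-4238465650, -3085266561, -6060286541, -182018422, 30375013480, -13177575742, -769915142, -6349482939, 1957566, -5661830398,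 17017736563, 21261422659, 253241, -16943380782, -463113414, 179758234, -7770020509, -1004752523, 49381])))))))))

def threeL3 : Janko.Tree (List ℤ) :=
  (.node (.node (.node (.node (.node (.node (.node (.node (.node (.leaf []) (.leaf [17, -104, -162, 3, 118, -73, 1, 75, 0, -129, 36, 85, 0, 20, -1, -3, -9, 13, 0])) (.leaf [72525, 68721, 125136, 3476, -578975, 252694, 13983, 110382, -82, 125807, -322615, -400569, 6, 306725, 11134, -3402, 146437, 17355, 2])) (.node (.leaf [21, 18, 29, 0, -76, 19, 0, 21, 0, -18, -24, -80, 0, 61, 1, 0, 33, -3, 0]) (.leaf [660124732, 1030412269, 1673328150, 37150935, -6760429379, 2988911454, 149905395, 1042577958, -1339257, 1887657935, -3738926763, -4567939206, 143338, 3202119785, 185358419, -35976337, 1670534778, 167506192, 21322]))) (.node (.node (.leaf [-7, 24, 35, 0, -31, 18, 0, -14, 0, 30, -9, -21, 0, -3, 0, 0, 4, -4, 0]) (.leaf [194643390, 151106526, 290801662, 8509082, -1429634761, 621175061, 35867088, 292495548, -108267, 277219353, -800117112, -997889904, -8497, 787718308, 23206480, -8390844,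 364704238, 46323604, -1474])) (.node (.leaf [2980, 2319, 4528, 138, -22339, 9707, 552, 4582, -3, 4362, -12473, -15531, -1, 12315, 346, -135, 5662, 710, 1]) (.leaf [-436594, -498658, -863663, -21308, 3791964, -1663573, -89349, -670308, 450, -913356, 2109157, 2601009, -11, -1928121, -84870, 20865, -950482, -107638, 3])))) (.node (.node (.node (.node (.leaf [0, 2, 0, 0, 0, 2, 0, 0, 0, 0, 0, 0, 0, 0, -2, 0, 0, 0, 0]) (.leaf [-54, -64, -88, 0, 134, -77, 0, 5, 0, -39, 88, 127, 0, -51, -12, 0, -44, 0, 0])) (.leaf [104039955, 78267862, 152127663, 4509790, -754812695, 327699012, 19027898, 156080961, -55215, 143529795, -422623394, -527628284, -5018, 418457250, 11880292, -4448970, 192829581, 24696416, -586])) (.node (.leaf [34, 33, 49, 0, -93, 24, -1, 24, 0, -27, -30, -112, 0, 78, 2, 0, 42, -3, 0]) (.leaf [5666165684, 4944165543, 9189113319, 256551797, -43632026385, 19012289236, 1073885070, 8568454959, -4191153, 9067899611, -24372214171, -30296339340, -57011, 23490510110, 787835628, -252283357, 11073674948, 1359417781, -20276]))) (.node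 (.node (.leaf []) (.leaf [-665, -522, -850, -22, 4675, -1994, -114, -1020, 1, -855, 2653, 3312, 0, -2550, -126, 21, -1270, -155, 0])) (.node (.leaf [-263339, -246585, -448919, -12249, 2080750, -908258, -50826, -397839, 229, -449060, 1160835, 1441929, -16, -1104856, -39646, 12036, -526823, -63442, 0]) (.leaf [-99833244, -83244105, -156768522, -4458128, 754507262, -328403369, -18709121, -150597426, 66753, -152702201, 421775239, 524965958, 2312, -409927464, -13087580, 4388638, -191879565, -23872709, 426]))))) (.node (.node (.node (.node (.node (.leaf []) (.leaf [-71240144, -62900915, -116526801, -3250346, 551431640, -240356262, -13536508, -107842951, 57336, -115384937, 307947203, 382661370, -543, -296163107, -10060297, 3193471, -139883317, -17089602, 83])) (.leaf [14207197, 8421395, 17772385, 593120, -94928143, 40995606, 2470776, 21156621, -6486, 15516280, -53344388, -66972924, -422, 54916992, 1164183, -586151, 24495213, 3311264, -61])) (.node (.leaf [33232035, 26828593, 51017343, 1477071, -248003770, 107862206, 6177057, 50077125,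 -22418, 49240197, -138703996, -172783386, -484, 135599421, 4178799, -1454083, 63164561, 7919421, -86]) (.leaf []))) (.node (.node (.leaf []) (.leaf [249388, 239317, 434576, 11802, -1996234, 870943, 48192, 378492, -270, 435882, -1111684, -1382028, 6, 1055841, 38672, -11538, 504507, 59927, 0])) (.node (.leaf [66002607, 58253163, 107911960, 2993228, -510622862, 222560230, 12547509, 99853119, -48612, 106822864, -285177487, -354386012, -899, 274274868, 9311371, -2943458, 129525988, 15855900, -259]) (.leaf [-17643362, -14941466, -28008838, -794289, 134226134, -58449305, -3318666, -26648052, 12956, -27419510, 75016634, 93315810, 55, -72694132, -2361601, 781162, -34112644, -4221216, 116])))) (.node (.node (.node (.leaf []) (.leaf [4514, 3968, 7245, 206, -35398, 15370, 861, 7020, -2, 7389, -19782, -24486, 0, 18960, 697, -204, 9049, 1089, 0])) (.node (.leaf [-199, -315, -590, -9, 2333, -1016, -36, -336, 0, -684, 1255, 1522, 0, -1106, -65, 9, -543, -50, 0]) (.leaf [-1214518816, -915584880, -1778416948, -52714637, 8820121294, -3829589898,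 -222274548, -1822566693, 642382, -1679801827, 4938519502, 6164405196, 57179, -4887431034, -139171913, 52005489, -2252936141, -288399387, 9588]))) (.node (.node (.leaf []) (.leaf [0, -4, -2, 0, -2, 0, 0, 0, 0, 0, 0, 2, 0, 2, 0, 0, 0, 0, 0])) (.node (.leaf []) (.leaf [-138605396, -123316522, -227911123, -6291906, 1075787515, -468991526, -26408526, -209738334, 101031, -226104796, 600756021, 746378253, 2400, -576902964, -19752641, 6187805, -272782025, -33331734, 670])))))) (.node (.node (.node (.node (.node (.node (.leaf [0, -1, 0, 0, -1, 0, 0, 0, 0, 0, 0, 0, 0, 1, 0, 0, 0, 0, 0]) (.leaf [-1015796626, -838009544, -1583262392, -45272266, 7643464624, -3325959790, -189813138, -1531410975, 685047, -1536967585, 4273303277, 5320770812, 21184, -4161706518, -131262796, 44563463, -1944807214, -242582648, 2571])) (.leaf [-20, -391, -610, -7, -203, 136, -7, 284, 0, 39, -295, 245, 1, 104, 48, 6, 59, 18, 0])) (.node (.leaf [-15265219, -15654300, -27847941, -724573, 126121107, -55178356, -3022419, -23297172, 14559, -28694367, 70264618, 86931759,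 -288, -65652000, -2602752, 710322, -31774528, -3714967, -20]) (.leaf [-97354984, -78221699, -148947275, -4284395, 724700382, -315143922, -18093527, -146513270, 54539, -143481437, 405388679, 505099275, 4578, -396639773, -12148854, 4224247, -184583255, -23248546, 1031]))) (.node (.node (.leaf []) (.leaf [12068, 9217, 17982, 550, -88593, 38501, 2208, 18225, -12, 17049, -49538, -61803, -1, 49003, 1376, -537, 22542, 2855, 0])) (.node (.leaf [-9, -10, 6, 9, -4, 0, 0, 0, 0, 9, 0, 9, 0, 1, 0, -9, -6, 0, 0]) (.leaf [1053156, 1168379, 2038318, 51189, -9024194, 3955764, 213468, 1615005, -1116, 2140443, -5020956, -6198018, 36, 4618503, 197632, -50106, 2265227, 258418, -3])))) (.node (.node (.node (.leaf [1, 0, 0, 1, 0, 1, 0, 0, -1, 0, 0, 0, 0, 0, 0, 0, 0, 0, 0]) (.leaf [])) (.node (.leaf [-169460, -152121, -281724, -8801, 1333093, -581904, -31920, -260280, 387, -282104, 743377, 921666, -78, -712821, -24726, 8503, -338105, -39420, -11]) (.leaf [-4588935855, -3507352137, -6783222125, -199962791, 33500111695, -14549930017, -842290677, -6890518554,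 2554129, -6433268330, 18752459287, 23399840214, 196980, -18514830306, -535564074, 197186626, -8552169435, -1090353167, 25056]))) (.node (.node (.leaf [4, -35, -42, 0, 131, -60, -2, 5, 0, -75, 68, 70, 0, -24, -8, 0, -32, -1, 0]) (.leaf [-358136, -340643, -618839, -16798, 2864153, -1250326, -69300, -545052, 357, -624741, 1596872, 1980881, -16, -1515333, -55589, 16458, -724067, -86281, -1])) (.node (.leaf [26484, 19690, 38331, 1704, -200526, 87665, 4743, 42324, -135, 39086, -112502, -137841, 42, 109985, 3381, -1609, 51429, 5785, -2]) (.leaf [4108053, 5313734, 8951613, 202579, -37873749, 16655711, 876872, 6339407, -3387, 9695935, -21016880, -25855008, -367, 18742251, 922519, -198775, 9435858, 1034614, -50]))))) (.node (.node (.node (.node (.node (.leaf [18, -180, -261, 0, 227, -79, 0, 87, 0, -138, 33, 213, 0, -33, 0, 0, -56, 17, 0]) (.leaf [-2705276, -2614622, -4727159, -127392, 21805629, -9524154, -526511, -4125054, 2635, -4803514, 12157721, 15064999, -125, -11493919, -429821, 124868, -5508127, -654024, 14])) (.leaf [257693,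 246862, 448149, 12161, -2060216, 899004, 49794, 390852, -270, 449583, -1147652, -1426422, 7, 1089839, 39920, -11898, 520789, 61932, 0])) (.node (.leaf []) (.leaf [-430177, -546441, -923496, -21058, 3929830, -1729062, -91542, -662486, 289, -999464, 2183380, 2683624, 46, -1951053, -94634, 20707, -979361, -108474, 17]))) (.node (.node (.leaf [3828803, 3540286, 6486473, 188273, -30391586, 13267625, 732435, 5858136, -6018, 6537753, -16951109, -21010146, 918, 16157712, 578795, -183246, 7695436, 909202, 73]) (.leaf [5774944, 3952556, 7918381, 238401, -40358309, 17481706, 1036101, 8597727, -966, 7229004, -22636810, -28343682, -853, 22779586, 576292, -236550, 10350320, 1368437, -32])) (.node (.leaf [-22, -395, -615, -6, -171, 144, -6, 261, 0, 63, -296, 288, 0, 63, 50, 6, 45, 17, 0]) (.leaf [420969, 422194, 754714, 17677, -3401005, 1484355, 83154, 630341, 104, 759910, -1894478, -2356964, -156, 1783656, 68116, -17613, 857555, 104249, -12])))) (.node (.node (.node (.leaf []) (.leaf [491749, 1754362, 2551994, 38181, -8622955, 3882867,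 168900, 854196, -1179, 3203387, -4717053, -5631045, -18, 3368058, 339743, -36898, 2051608, 153845, -86])) (.node (.leaf [1054008834, 930028183, 1722956786, 47801406, -8153463899, 3553757840, 200360244, 1594574424, -777174, 1705481743, -4553648071, -5658765120, -13987, 4379737842, 148652838, -47006153, 2068257731, 253195584, -4092]) (.leaf [-3, 5, 2, 0, 5, 0, 0, 0, 0, 3, 0, 1, 0, -5, 0, 0, -3, 0, 0]))) (.node (.node (.leaf []) (.leaf [41277537, 82957972, 129132785, 2498892, -490405003, 218122780, 10476693, 66709938, -77940, 151923223, -270309451, -327656362, 4693, 218820648, 15396356, -2423606, 119660044, 11084970, -2040])) (.node (.leaf [-40006, -38130, -68725, -1785, 320756, -140498, -7899, -60773, 0, -70842, 179520, 221210, 0, -168908, -6273, 1785, -81006, -9858, 0]) (.leaf [-1658885, -1058548, -2173987, -69127, 11337607, -4905127, -292879, -2470008, 587, -1944700, 6365885, 7978790, 134, -6476861, -150636, 68409, -2916134, -389444, -2]))))))) (.node (.node (.node (.node (.node (.node (.node (.leaf []) (.leaf [-81403, -78471,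 -142722, -3953, 656010, -285771, -15615, -124646, 130, -143185, 364719, 453947, -3, -346983, -12875, 3827, -165840, -19361, 0])) (.leaf [])) (.node (.leaf [-504764, -603058, -1033249, -24363, 4472261, -1964684, -105175, -774285, 336, -1103201, 2487089, 3062661, 46, -2251197, -103277, 23965, -1117911, -126123, 17]) (.leaf [3, -3, 1, 0, -1, -1, 0, -2, 0, -3, 2, 0, 0, 3, 0, 0, 1, 0, 0]))) (.node (.node (.leaf []) (.leaf [506646, 722495, 1189466, 24967, -4915755, 2171038, 113034, 785382, -132, 1324924, -2729854, -3336831, -102, 2373228, 128176, -24695, 1217708, 131292, -37])) (.node (.leaf [97993007, 92134475, 167701708, 4530786, -778938598, 340046440, 18940437, 148790500, -81369, 168937779, -434580354, -539041503, 189, 412978185, 14988217, -4449378, 197022736, 23662458, -228]) (.leaf [401428, 466741, 805082, 19684, -3516323, 1543345, 82627, 616918, -424, 854664, -1955213, -2410067, 11, 1781041, 79647, -19266, 880616, 99175, -5])))) (.node (.node (.node (.node (.leaf [-10, 48, 72, 1, -62, 36, 0, -31, -1, 60, -18, -42, 0, -6,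 0, 0, 8, -7, 0]) (.leaf [0, 0, 0, 0, 0, 0, 0, 0, 0, 0, 0, 0, 0, 1, 0, 0, 0, 0, 0])) (.leaf [779781, 1031642, 1728252, 38547, -7271835, 3202713, 168312, 1203828, -523, 1886170, -4037568, -4956816, -91, 3577050, 179903, -37898, 1808711, 197819, -35])) (.node (.leaf [1052279555, 847814082, 1613176318, 46554889, -7842810342, 3410740346, 195532356, 1584349332, -666249, 1555002307, -4386497301, -5465351733, -30169, 4290242148, 131793317, -45854543, 1997589927, 250913247, -3928]) (.leaf [-36999959, -29773694, -56673208, -1642642, 275766004, -119927649, -6872475, -55745031, 24590, -54647556, 154240431, 192152592, 622, -150874272, -4632773, 1617324, -70244698, -8816154, 107]))) (.node (.node (.leaf [522041, 580211, 1011890, 25391, -4476724, 1962508, 105873, 800487, -556, 1062851, -2490696, -3074511, 18, 2290290, 98119, -24852, 1123572, 128123, -1]) (.leaf [0, 1, 1, 0, -1, 0, 0, 0, 0, 0, 0, -1, 0, 1, 0, 0, 0, 0, 0])) (.node (.leaf [-5858295579, -4876672253, -9188708264, -261467117, 44240417507, -19254909073, -1097304528, -8835338427,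 3926499, -8943861071, 24730873106, 30784715823, 135198, -24044886677, -765987563, 257383120, -11251782192, -1400501884, 22301]) (.leaf [-592521, -748599, -1264824, -24518, 5321900, -2335391, -126648, -891804, -545, -1343378, 2954896, 3653979, 369, -2652516, -126585, 24661, -1326285, -153511, 33]))))) (.node (.node (.node (.node (.node (.leaf [3, -1, 0, 0, 2, 0, 0, 0, 0, -3, 0, 0, 0, 1, 0, 0, 0, 0, 0]) (.leaf [1720592, 1621534, 2954335, 82128, -13727101, 5992757, 331668, 2623209, -2058, 2980940, -7654351, -9492201, 201, 7274127, 264671, -80290, 3471881, 412510, 19])) (.leaf [-377863, -147873, -373461, -18165, 2289668, -983573, -60312, -569150, 903, -285642, 1292064, 1628134, -235, -1402890, -16824, 17520, -600956, -81983, -23])) (.node (.leaf [13, -155, -206, 9, -229, 14, 2, 219, 0, -129, -105, -114, 0, 261, 6, -9, 97, 12, 0]) (.leaf [1015622037, 838035445, 1583212529, 45257768, -7642607533, 3325594093, 189791864, 1531117065, -683079, 1536961355, -4272809243, -5320167052, -21835, 4161093445, 131268133, -44550235, 1944569909,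 242553830, -2619]))) (.node (.node (.leaf []) (.leaf [-35748, -34426, -62485, -1645, 287552, -125670, -6954, -54345, 34, -63273, 160286, 198693, -3, -151734, -5576, 1614, -72543, -8616, 0])) (.node (.leaf [-876293087, -662615795, -1285872122, -38124473, 6371232798, -2766477828, -160420647, -1315277784, 490827, -1215474832, 3566975523, 4452301036, 35266, -3528490670, -100809190, 37594520, -1627294667, -207977434, 3860]) (.leaf [0, 0, 0, 1, 0, 0, 0, 0, 0, 0, 0, 0, 0, 0, 0, 0, 0, 0, 0])))) (.node (.node (.node (.leaf []) (.leaf [702881, 533869, 1034764, 30989, -5122035, 2224755, 128604, 1055991, -471, 980358, -2867363, -3577577, 1, 2833583, 81520, -30519, 1308094, 166379, 0])) (.node (.leaf [-84863, -76988, -141169, -4258, 672669, -293862, -16266, -130923, 141, -144034, 375945, 464163, -29, -358047, -12833, 4142, -170574, -20217, 5]) (.leaf [-1163517550, -1246180257, -2192949427, -56121508, 9814258735, -4298736048, -233500068, -1782148176, 1168170, -2286423982, 5464421606, 6749829147, -39396, -5060566151, -209543275, 54981624,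 -2467253448, -284626364, 11110]))) (.node (.node (.leaf [-94363644, -67036179, -132723048, -4024348, 670181077, -290581018, -17053839, -141204453, 39606, -123048428, 375630758, 469585809, 6316, -375528786, -9973321, 3977149, -171609351, -22341493, 1277]) (.leaf [7416, 5691, 10907, 304, -54331, 23575, 1365, 11175, 0, 10467, -30423, -37911, 0, 29958, 897, -303, 13906, 1771, 0])) (.node (.leaf [6, -58, -113, 0, 239, -103, 3, 16, 0, -141, 116, 134, 0, -63, -16, 0, -35, -3, 0]) (.leaf [-16136, -15306, -27814, -746, 128982, -56336, -3126, -24558, 10, -28149, 71959, 89172, 1, -68241, -2499, 735, -32593, -3900, 0])))))) (.node (.node (.node (.node (.node (.node (.leaf []) (.leaf [1053359257, 849482685, 1615900310, 46617850, -7853848065, 3415613339, 195775413, 1586066049, -669018, 1558062186, -4392593887, -5472812584, -29762, 4295490985, 132093264, -45915165, 2000318640, 251184279, -3905])) (.leaf [])) (.node (.leaf [300658328, 234587569, 450766743, 13168189, -2212643012, 961501137, 55462661, 451927767, -171396, 430339121, -1238216481,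 -1544101530, -12203, 1217979692, 36083811, -12982420, 564334505, 71567381, -2170]) (.leaf []))) (.node (.node (.leaf [-352710, -487575, -809333, -17624, 3365146, -1483733, -77358, -546120, 238, -891251, 1867201, 2289252, 45, -1638717, -85647, 17323, -835226, -90110, 18]) (.leaf [0, 1, 0, 0, 1, 0, 0, 0, 0, 0, 0, 0, 0, -1, 0, 0, 0, 0, 0])) (.node (.leaf [35, -71, -130, 0, 366, -172, 3, 18, 0, -246, 190, 162, 0, -69, -25, 0, -51, 0, 0]) (.leaf [-89061, -83606, -152105, -4166, 708454, -309337, -17202, -135534, 87, -153678, 395388, 490020, -4, -375506, -13702, 4083, -179267, -21463, 0])))) (.node (.node (.node (.leaf [15, -116, -179, 3, 136, -70, 1, 74, 0, -123, 33, 112, 0, 6, -2, -3, -19, 14, 0]) (.leaf [0, 0, 0, 1, 0, 0, 0, 0, 0, 0, 0, 0, 0, 0, 0, 0, 0, 0, 0])) (.node (.leaf [-165912, -159498, -289324, -7684, 1331243, -581265, -32235, -251874, 132, -292124, 742013, 920671, 4, -703038, -25904, 7546, -336086, -40188, 2]) (.leaf [36, 218, 356, 8, 399, -223, 7, -174, -1, -198, 330, -75, 0, -99, -50, -7, -102, -1, 0]))) (.node (.node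 (.leaf []) (.leaf [6, -4, -9, 1, 7, -3, 0, 6, 0, -12, 0, 0, -1, 4, 1, 0, 2, 1, 0])) (.node (.leaf [1191953, 1513080, 2555964, 58055, -10884865, 4790019, 253893, 1834980, -692, 2769424, -6049558, -7432209, -142, 5402931, 262447, -57168, 2712658, 301144, -53]) (.leaf [25714111, 20900144, 39663677, 1146742, -192428469, 83703403, 4786155, 38766830, -18237, 38356339, -107605198, -134023152, -154, 105074439, 3262568, -1128320, 48997823, 6127757, -30]))))) (.node (.node (.node (.node (.node (.leaf []) (.leaf [-2131949, -2717751, -4585803, -91462, 19292359, -8470479, -456283, -3225639, -1245, -4894514, 10709630, 13227938, 1123, -9592734, -462294, 91480, -4805963, -549918, 104])) (.leaf [0, 0, 2, 0, -2, 0, 0, 0, 0, 0, 0, -2, 0, 2, 0, 0, 0, 0, 0])) (.node (.leaf [-3211, -2424, -4654, -140, 23098, -10038, -588, -4773, 2, -4395, 12965, 16170, 0, -12780, -378, 138, -5923, -762, 0]) (.leaf [-871138740, -714569302, -1352344934, -38768685, 6539839706, -2845353854, -162548922, -1312928310, 583380, -1310595980, 3656628572, 4553652558, 18596,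 -3564826260, -111726670, 38164984, -1664431588, -207929736, 1725]))) (.node (.node (.leaf [0, 1, 0, 0, 0, 0, 0, 0, 0, 0, 0, 0, 0, 0, 0, 0, 0, 0, 0]) (.leaf [17834607, 8824717, 19995179, 724513, -112824826, 48540165, 3003432, 26420491, -6893, 16311101, -63562738, -80129380, -483, 67195928, 1105786, -717072, 29318184, 4111454, -65])) (.node (.leaf [-1, -1, 0, -1, 0, -1, 0, 0, 1, 0, 0, 0, 0, 0, 1, 0, 0, 0, 0]) (.leaf [-1, 0, -4, 0, -2, 1, -1, 4, 0, 0, -2, 0, 0, 2, 0, 0, 0, 0, 0])))) (.node (.node (.node (.leaf [98436587, 86822301, 160864151, 4464560, -761356748, 331841928, 18710064, 148921812, -72705, 159219909, -425215667, -528411615, -1251, 409003959, 13876542, -4390227, 193134091, 23645100, -377]) (.leaf [305164239, 261101198, 488027537, 13734932, -2330771002, 1015111664, 57550449, 460971534, -217133, 478876014, -1302345103, -1619842701, -4668, 1259830797, 41364925, -13512003, 592068431, 73103719, -1128])) (.node (.leaf [3, 0, 0, 0, 7, -4, 0, 0, 0, -6, 3, 0, 0, -1, 1, 0, 0, 0, 0]) (.leaf []))) (.node (.node (.leaf [-1, 0,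 0, -1, 0, 0, 0, 0, 1, 0, 0, 0, 0, 0, 0, 0, 0, 0, 0]) (.leaf [3269, 1494, 2951, 139, -19789, 8858, 626, 4814, 1, 2955, -11665, -13887, 5, 11564, 199, -145, 5267, 791, 0])) (.node (.leaf []) (.leaf [-8, -6, 1, 0, -20, -1, -1, 2, 0, 6, 1, -5, 0, 12, 0, 0, 2, 0, 0])))))))) (.node (.node (.node (.node (.node (.node (.node (.node (.leaf [0, -1, -1, 0, 0, 0, 0, 0, 0, 0, 0, 1, 0, 0, 0, 0, 0, 0, 0]) (.leaf [2611262, 3313231, 5578578, 110369, -23577258, 10365649, 560787, 3947813, 2283, 5988741, -13110886, -16153624, -1578, 11715008, 566176, -110932, 5874703, 676533, -142])) (.leaf [1335508, 1524554, 2641173, 65165, -11600219, 5088962, 273309, 2051256, -1398, 2793369, -6452044, -7956570, 36, 5899230, 259441, -63795, 2907603, 329230, -7])) (.node (.leaf [-16139, -15306, -27817, -748, 128983, -56339, -3126, -24558, 13, -28149, 71959, 89172, 0, -68241, -2499, 735, -32593, -3897, 0]) (.leaf [658596576, 500563939, 969803179, 28701750, -4797861251, 2083581891, 120702543, 988768878, -376026, 918211228, -2685903199, -3352029369, -24965, 2654493058,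 76294795, -28298363, 1225176004, 156345490, -2396]))) (.node (.node (.leaf []) (.leaf [-5541179480, -4143467219, -8068899172, -239873803, 40118507131, -17415780761, -1012481808, -8312398989, 2807446, -7603354788, 22466607619, 28048401831, 281562, -22264611552, -628122814, 236728197, -10250785097, -1315552834, 56598])) (.node (.leaf [-3269, -1493, -2951, -139, 19789, -8858, -626, -4814, -1, -2955, 11665, 13887, -5, -11564, -199, 145, -5267, -791, 0]) (.leaf [])))) (.node (.node (.node (.node (.leaf [14, -63, -88, 0, 64, -39, 0, 43, 0, -75, 18, 45, 0, 18, 0, 0, -7, 7, 0]) (.leaf [4783764, 5123802, 9017856, 230853, -40335278, 17665119, 958993, 7323935, -4994, 9391944, -22453642, -27745346, 161, 20801788, 860603, -226032, 10141425, 1168497, 13])) (.leaf [503136991, 400520542, 764911673, 22193863, -3732182121, 1622590257, 93220080, 757113702, -313066, 734634652, -2087792359, -2602196310, -15042, 2046454871, 62015859, -21863753, 951104628, 119856700, -2002])) (.node (.leaf []) (.leaf [-2070987748, -1688551827, -3201416289, -91963121,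 15509395635, -6746789071, -385906383, -3120184320, 1354152, -3096968871, 8672693170, 10802127034, 51224, -8464221293, -263498755, 90551268, -3948246097, -494196135, 6477]))) (.node (.node (.leaf []) (.leaf [2880715209, 2327364767, 4424857667, 127652506, -21495072298, 9348506054, 535572897, 4338293022, -1868014, 4268723035, -12021436149, -14977111827, -71834, 11752125218, 362120779, -125704233, 5474280360, 686860712, -8425])) (.node (.leaf [1021808428, 844006459, 1594013133, 45548833, -7692432817, 3347355235, 190995207, 1540546887, -689106, 1547927071, -4300588487, -5354594961, -21561, 4187366284, 132248572, -44835533, 1957156469, 244048936, -2633]) (.leaf [0, 1, 0, 0, 0, 0, 0, 0, 0, 0, 0, 0, 0, 0, 0, 0, 0, 0, 0]))))) (.node (.node (.node (.node (.node (.leaf []) (.leaf [-2936249881, -2316642523, -4435922197, -128742214, 21705759407, -9435127426, -543455116, -4416153801, 1588701, -4251642655, 12145912751, 15139338047, 137379, -11921489820, -357887967, 126976525, -5532758127, -700328741, 39609])) (.leaf [-6, 35, 78, 0, -240,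 107, -1, 15, 0, 111, -119, -132, 0, 90, 8, 0, 39, 0, 0])) (.node (.leaf [41, -12, -19, 8, -189, 32, 1, 105, 0, -75, -72, -167, 1, 177, 1, -9, 86, 3, 0]) (.leaf [-1089502301, -903622114, -1704523230, -48638098, 8215903732, -3575517534, -203850234, -1643027277, 743865, -1657306557, 4592942504, 5717878566, 20874, -4468646970, -141780122, 47870643, -2089966837, -260281787, 2716]))) (.node (.node (.leaf [-10516, 562, -4933, -1447, 59841, -26105, -1092, -19182, 255, -3210, 33745, 40644, -81, -40125, 92, 1281, -16444, -1002, -8]) (.leaf [-100, -160, -356, -3, 1179, -463, 1, -159, 0, -300, 558, 796, 0, -596, -40, 3, -283, -2, 0])) (.node (.leaf [5, 58, 85, 1, 229, -115, 3, -60, 0, -114, 166, 30, 0, -66, -25, 0, -49, -7, 0]) (.leaf [0, 0, 0, 0, 0, 1, 0, 0, 0, 0, 0, 0, 0, 0, 0, 0, 0, 0, 0])))) (.node (.node (.node (.leaf [0, 0, 0, 0, -1, 0, 0, 0, 0, 0, 0, 0, 0, 1, 0, 0, 0, 0, 0]) (.leaf [-1062304302, -849487434, -1620027270, -46839446, 7893932767, -3432345054, -197103123, -1598760421, 638388, -1558255601, 4415785059, 5502827076, 37820,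 -4324530399, -131743940, 46156078, -2011179142, -253315280, 7161])) (.node (.leaf [755458, 503349, 1017722, 31592, -5237652, 2267968, 134643, 1126035, -236, 923190, -2939090, -3680409, -75, 2969559, 72933, -31278, 1344956, 178093, -3]) (.leaf [-4994357636, -3855579388, -7433356001, -218353577, 36604122890, -15902153495, -918834225, -7503735606, 2865933, -7072861907, 20486923441, 25556040102, 192651, -20190916924, -590902216, 215267255, -9340500231, -1187437444, 27738]))) (.node (.node (.leaf []) (.leaf [-77405, -74981, -135611, -3531, 622661, -271875, -15105, -117429, 45, -137199, 347093, 430603, 7, -328311, -12213, 3477, -157158, -18847, 2])) (.node (.leaf [-12532350, -10278196, -19451388, -558336, 94099686, -40942212, -2338935, -18894333, 8432, -18859473, 52616659, 65516355, 208, -51291327, -1608104, 549643, -23949078, -2991554, 53]) (.leaf [-48177277, -45611780, -82867981, -2232671, 384125580, -167717732, -9329070, -73184109, 40614, -83632358, 214282200, 265738698, -201, -203364039, -7433608, 2192149, -97129159, -11639908,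 110])))))) (.node (.node (.node (.node (.node (.node (.leaf []) (.leaf [-79320265, -70707135, -130647565, -3638854, 616654519, -268850155, -15106360, -120194808, 67076, -129754125, 344308481, 427699131, -1513, -330537960, -11346163, 3573271, -156361445, -19033130, 20])) (.leaf [8168, 7734, 14006, 363, -65185, 28544, 1594, 12360, 0, 14370, -36492, -44986, 0, 34377, 1282, -363, 16438, 2014, 0])) (.node (.leaf [314608628, 253134854, 481839330, 13888387, -2343491424, 1019119909, 58463751, 473606583, -189318, 464316739, -1310806383, -1633210719, -11389, 1282289695, 39333808, -13685366, 596894897, 75067358, -2314]) (.leaf [170228470, 155090423, 284748511, 7796338, -1334894413, 582291047, 32628237, 258009727, -133650, 284406911, -745139695, -925097016, -891, 712361721, 25017526, -7661293, 338126879, 40997113, -504]))) (.node (.node (.leaf [-2, -7, -10, 0, 31, 6, 1, -20, 0, 21, -1, 43, 0, -39, 2, 0, -13, 0, 0]) (.leaf [538743272, 446581760, 842487254, 23973397, -4060968095, 1767252210, 100824351, 812181629, -347194, 818902514, -2270304572,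 -2826491524, -16147, 2209066581, 70034979, -23607372, 1033012449, 128809447, -2684])) (.node (.leaf [-34570856, -30556426, -56584048, -1575440, 267708042, -116691338, -6572391, -52334058, 27213, -56054819, 149504911, 185764971, -84, -143746548, -4889522, 1548235, -67906695, -8297608, 76]) (.leaf [-112698, -85469, -166025, -4974, 825318, -358648, -20645, -170046, 76, -158903, 462217, 575306, -1, -455953, -13238, 4899, -210461, -26792, 0])))) (.node (.node (.node (.leaf [938443, 1151957, 1961422, 45571, -8426163, 3704157, 197340, 1441908, -627, 2106982, -4684046, -5763264, -90, 4215729, 198328, -44819, 2103547, 235426, -35]) (.leaf [-7, 6, 1, 0, 2, 0, 0, 1, 0, 6, 0, 0, 0, -6, 0, 0, -2, 0, 0])) (.node (.leaf [0, -3, -2, 0, -1, 0, 0, 0, 0, 0, 0, 2, 0, 1, 0, 0, 0, 0, 0]) (.leaf [-2812991642, -2253006159, -4294730521, -124262039, 20916034603, -9094695223, -521929602, -4234049445, 1769113, -4132088488, 11699290064, 14579568060, 82664, -11455195110, -349519853, 122400724, -5328815652, -670396632, 9538]))) (.node (.node (.leaf [])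 (.leaf [35298308, 17505592, 39602885, 1380133, -222687594, 95775149, 5967932, 52062693, 557, 32165979, -125495469, -158327535, -5230, 132689709, 2169533, -1374531, 57836321, 8210856, -929])) (.node (.leaf [18, -180, -261, 1, 227, -79, 0, 87, 0, -138, 33, 213, 0, -33, 0, 0, -56, 17, 0]) (.leaf [12572, 11675, 21280, 576, -100088, 43657, 2424, 19273, -6, 21624, -55887, -69177, 0, 53121, 1957, -570, 25343, 3043, 0]))))) (.node (.node (.node (.node (.node (.leaf []) (.leaf [522042, 580211, 1011896, 25391, -4476715, 1962508, 105873, 800487, -555, 1062849, -2490696, -3074511, 18, 2290290, 98119, -24852, 1123566, 128123, -2])) (.leaf [2840620, 2019836, 3994479, 117180, -20123611, 8726022, 514566, 4232877, -279, 3695642, -11283426, -14110050, -501, 11277396, 298753, -116371, 5150936, 676607, -29])) (.node (.leaf [4015170608, 3314351937, 6261067590, 179217379, -30217268723, 13148493287, 750010629, 6053297391, -2831512, 6076753658, -16892400774, -21035000490, -59152, 16451666142, 519030934, -176335356, 7688879717, 958087605, 8641])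 (.leaf [0, 0, 0, 0, -1, 0, 0, 0, 0, 0, 0, 0, 0, 1, 0, 0, 0, 0, 0]))) (.node (.node (.leaf [1299438, 1199331, 2199011, 64163, -10309489, 4500755, 248337, 1988784, -2106, 2215683, -5750136, -7126929, 333, 5482944, 195984, -62418, 2610612, 308161, 28]) (.leaf [357624278, 584550541, 941058694, 20210914, -3762519486, 1665779493, 83153433, 567518517, -608383, 1073300140, -2080987985, -2536047357, 52745, 1762185767, 106104871, -19643022, 927010670, 92384687, -12254])) (.node (.leaf []) (.leaf [71284235, 62943433, 116604049, 3252412, -551785103, 240510553, 13545034, 107909710, -57375, 115462393, -308143996, -382906017, 543, 296349887, 10067120, -3195497, 139972544, 17100199, -83])))) (.node (.node (.node (.leaf []) (.leaf [])) (.node (.leaf [-2721953072, -2710344169, -4859041181, -128678260, 22196731756, -9703790099, -534044484, -4148783679, 2682936, -4968754131, 12370852430, 15319534227, -91156, -11627608553, -447445865, 126101295, -5600293486, -659502348, -14815]) (.leaf [-10793805345, -8691744034, -16541919339, -478165146, 80428403400,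 -34975965401, -2004533832, -16251679166, 7135120, -15938121572, 44981004795, 56049821432, 244520, -44003280879, -1350507207, 470786669, -20487162799, -2571668853, -1163]))) (.node (.node (.leaf [-10859054093, -8749710185, -16649104484, -481134703, 80934643734, -35196653918, -2016957400, -16350444243, 7184919, -16044430409, 45263701226, 56401049231, 244930, -44274835053, -1359791523, 473705782, -20615540631, -2587346521, -928]) (.leaf [-1559757, -1049752, -2113501, -65226, 10852940, -4701873, -278916, -2325357, 460, -1927278, 6090848, 7621314, 139, -6139875, -152910, 64623, -2785885, -368222, 5])) (.node (.leaf [443, 231, 463, 18, -3444, 1445, 78, 829, 0, 606, -1956, -2328, 0, 1929, 90, -18, 909, 119, 0]) (.leaf [4064, 3577, 6573, 182, -31743, 13869, 785, 6245, -1, 6714, -17807, -21942, 0, 16974, 607, -181, 8055, 988, 0]))))))) (.node (.node (.node (.node (.node (.node (.node (.leaf []) (.leaf [0, 3, 1, 0, 1, 0, 0, 0, 0, 0, 0, -1, 0, -1, 0, 0, 0, 0, 0])) (.leaf [522042, 580211, 1011890, 25391, -4476721, 1962508, 105873, 800487,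 -555, 1062849, -2490696, -3074511, 18, 2290290, 98119, -24852, 1123572, 128123, -2])) (.node (.leaf []) (.leaf [0, 0, 0, 1, 0, 0, 0, 0, 0, 0, 0, 0, 0, 0, 0, 0, 0, 0, 0]))) (.node (.node (.leaf []) (.leaf [7586734, 6009777, 11494279, 335078, -56191761, 24428106, 1404117, 11420202, -4811, 11031217, -31437459, -39181584, -169, 30837675, 930184, -330069, 14323011, 1806122, -29])) (.node (.leaf [123086840, 107300973, 199468444, 5554851, -947208495, 412727681, 23329590, 186048443, -86406, 196748030, -529126497, -657778011, -2637, 510064284, 17085801, -5465137, 240398610, 29551121, -671]) (.leaf [8248528, 9006639, 15775010, 399431, -70165319, 30744965, 1663665, 12639777, -8631, 16505553, -39048892, -48223620, 270, 36034311, 1518735, -391071, 17625274, 2020075, 1])))) (.node (.node (.node (.leaf []) (.leaf [])) (.node (.leaf [89116, 84537, 153705, 4182, -712931, 311293, 17247, 135798, -87, 155516, -397590, -492831, 4, 377222, 13821, -4099, 180190, 21488, 0]) (.leaf [-1, 0, 1, -2, -1, 0, 0, 0, 1, 0, 0, 0, 1, 0, 0, 0, 0, -1, 0])))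 (.node (.node (.leaf [3042868, 2599859, 4875601, 148951, -23397729, 10193723, 568953, 4645536, -5139, 4809625, -13061843, -16227102, 870, 12640740, 416680, -144767, 5946699, 714382, 85]) (.leaf [-53368, -51040, -92465, -2466, 427483, -186592, -10356, -81201, 45, -93464, 238344, 295679, -1, -225933, -8349, 2422, -108085, -12898, 0])) (.node (.leaf [-1699359218, -1343126198, -2570634830, -74712347, 12569813960, -5463902147, -314417151, -2556077403, 1003199, -2463844642, 7032695215, 8766863715, 62688, -6901885225, -207497829, 73635134, -3204137211, -404843688, 11326]) (.leaf [-337203, -344798, -612561, -13401, 2738135, -1195018, -67353, -502506, -253, -617997, 1525312, 1898340, 182, -1430742, -55629, 13461, -689530, -84753, 12]))))) (.node (.node (.node (.node (.node (.leaf [-855744, -800476, -1461595, -41328, 6813598, -2974550, -164466, -1306500, 1149, -1474180, 3799741, 4711068, -141, -3615237, -130748, 40331, -1724076, -204406, -11]) (.leaf [67488, 42660, 88307, 2848, -463447, 200665, 11889, 100974, -28, 79997, -260320, -325236,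 -2, 264515, 6174, -2817, 118938, 15871, -1])) (.leaf [94214274, 66534818, 131994274, 4009989, -667619993, 289424191, 17004312, 140932089, -38613, 122111897, -374223959, -467924631, -6619, 374518689, 9873432, -3963493, 170995083, 22298574, -1264])) (.node (.leaf [935167, 1149633, 1956919, 45428, -8402986, 3694134, 196753, 1436976, -624, 2102752, -4671024, -5747010, -91, 4202769, 197946, -44678, 2097561, 234648, -35]) (.leaf [-36381916, -32235314, -59659887, -1664667, 282092667, -122971285, -6918819, -55103484, 30081, -59152042, 157526180, 195709992, -528, -151392165, -5163166, 1635092, -71548130, -8727310, 22]))) (.node (.node (.leaf []) (.leaf [-804392, -546602, -1096197, -33629, 5616389, -2434363, -144271, -1199403, 222, -1004433, 3152277, 3941649, 64, -3170826, -80014, 33342, -1441175, -190126, 2])) (.node (.leaf [10546, -922, 4415, 1448, -59393, 25947, 1092, 19356, -255, 2940, -33679, -40221, 81, 40060, -90, -1281, 16332, 1035, 7]) (.leaf [429, 342, 629, 18, -3062, 1360, 76, 606, 0, 654, -1765, -2123, 0, 1630, 76, -18,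 778, 102, 0])))) (.node (.node (.node (.leaf [-3198, -2413, -4647, -138, 23126, -10035, -585, -4779, 0, -4401, 12963, 16173, 0, -12798, -377, 138, -5927, -763, 0]) (.leaf [1146687, -843654, -586571, 27263, -2064186, 727986, 113397, 1568178, 1038, -1530471, -1298829, -1932780, -195, 2881974, -218742, -28182, 712737, 228819, 76])) (.node (.leaf [-1018334740, -840741175, -1588060436, -45378520, 7664664102, -3335227997, -190326849, -1535227827, 683919, -1541896066, 4285101563, 5335412328, 22312, -4172654839, -131711776, 44669609, -1950130752, -243220639, 2680]) (.leaf [82250, 77855, 141661, 3886, -657340, 286942, 15880, 125319, -90, 143157, -366515, -454460, 6, 347974, 12745, -3804, 166203, 19787, 2]))) (.node (.node (.leaf []) (.leaf [])) (.node (.leaf [0, 0, 0, 1, 0, 0, 0, 0, 0, 0, 0, 0, 0, 0, 0, 0, 0, 0, 0]) (.leaf [2466057185, 1730495533, 3440214949, 104734636, -17435486590, 7557594010, 444622255, 3687999879, -953616, 3176914555, -9774640257, -12223246961, -182106, 9792070704, 256240575, -103557490, 4466664159, 583718045,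 -41424])))))) (.node (.node (.node (.node (.node (.node (.leaf []) (.leaf [71917, 71252, 127159, 3001, -585471, 255876, 14364, 109402, 30, 131446, -327159, -404008, -24, 306471, 11945, -3004, 147573, 18090, -3])) (.leaf [-3344390, -2404047, -4742655, -144817, 23883016, -10358416, -605126, -5015580, 1899, -4418213, 13381410, 16720596, 92, -13351272, -360243, 142822, -6113596, -789878, 4])) (.node (.leaf [0, 0, 0, 0, 0, 1, 0, 0, 0, 0, 0, 0, 0, 0, 0, 0, 0, 0, 0]) (.leaf []))) (.node (.node (.leaf []) (.leaf [23597, 22394, 40387, 1053, -188674, 82631, 4655, 35816, 0, 41520, -105588, -130186, 0, 99474, 3663, -1053, 47680, 5804, 0])) (.node (.leaf [0, 1, 0, 0, 0, 0, 0, 0, 0, 0, 0, 0, 0, 0, 0, 0, 0, 0, 0]) (.leaf [-635629, -780514, -1329329, -31444, 5708621, -2509027, -133248, -977592, 726, -1425537, 3171280, 3904839, -29, -2857087, -133961, 30732, -1425994, -158240, 16])))) (.node (.node (.node (.leaf []) (.leaf [-17, 0, -9, 0, 26, -6, -1, -9, 0, 18, 9, 32, 0, -31, 0, 0, -13, 0, 0])) (.node (.leaf [-4218, -3278, -6260, -165, 31205,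 -13540, -780, -6396, 0, -6066, 17460, 21738, 0, -17160, -520, 165, -7979, -1008, 0]) (.leaf [-6539189370, -5009158098, -9680985742, -285315220, 47780176781, -20753301804, -1200759621, -9820592751, 3719251, -9187972338, 26744794829, 33370861221, 258930, -26395707744, -765494688, 281306757, -12196699601, -1553636677, 30282]))) (.node (.node (.leaf [0, 0, 0, 0, -1, 0, 0, 0, 0, 0, 0, 0, 0, 1, 0, 0, 0, 0, 0]) (.leaf [])) (.node (.leaf [2030970822, 1675809024, 3165949787, 90502731, -15283023949, 6650231668, 379530792, 3061818600, -1365897, 3073443061, -8544397378, -10638818763, -43678, 8321028982, 262493643, -89087918, 3888586263, 485041767, -5238]) (.leaf [3910615970, 3102744950, 5931496265, 172240830, -28970019054, 12593964351, 724077707, 5883443999, -2377068, 5691338369, -16207098977, -20201788672, -129218, 15895173368, 479921865, -169714733, 7383613275, 931590631, -19812]))))) (.node (.node (.node (.node (.node (.leaf []) (.leaf [-18561896, -17097553, -31292720, -853079, 146218269, -63799235, -3568037, -28146755, 15165, -31343511,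 81605034, 101285341, -59, -77854474, -2765218, 837866, -37020351, -4474035, 107])) (.leaf [84459, 79128, 143994, 3940, -668469, 291885, 16308, 127929, -83, 144352, -372965, -463038, 6, 354846, 12750, -3863, 169267, 20275, 0])) (.node (.leaf [-69156018, -50670336, -99325393, -2984050, 496925776, -215614943, -12573577, -103665039, 35553, -92998796, 278357877, 347708991, 3250, -276840795, -7627532, 2944798, -127088801, -16383364, 449]) (.leaf [1631425354, 1324489807, 2514457858, 72441389, -12197355974, 5305500050, 303634713, 2457626190, -1082679, 2429390646, -6820994224, -8496757377, -34790, 6662247407, 206420240, -71320986, 3105744047, 389038697, -2933]))) (.node (.node (.leaf []) (.leaf [6, -45, -72, -3, 180, -67, -1, -11, 0, -63, 69, 121, 0, -71, -3, 3, -46, 5, 0])) (.node (.leaf []) (.leaf [-44851, -42382, -77062, -2107, 358435, -156527, -8682, -68391, 46, -78126, 200004, 247728, -3, -189690, -6971, 2064, -90617, -10828, 0])))) (.node (.node (.node (.leaf [-5, -12, -21, 0, 19, -6, 1, 1, 0, -3, 6, 24, 0, -12, -1, 0, -4, 0,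 0]) (.leaf [-643944, -405979, -838651, -29960, 4428867, -1918788, -112578, -971445, 942, -759732, 2486757, 3106476, -190, -2528531, -59198, 29223, -1140464, -147613, -14])) (.node (.leaf [7, 10, 9, 0, 16, 0, 1, -12, 0, 3, 1, 4, 0, -18, 3, 0, -1, 0, 0]) (.leaf [1853294, 1392281, 2722136, 92356, -13614984, 5914554, 334188, 2830848, -3939, 2596431, -7610822, -9481125, 823, 7537418, 216416, -89328, 3480498, 425575, 88]))) (.node (.node (.leaf []) (.leaf [226093, 168316, 330658, 10403, -1629635, 706887, 40623, 338340, -318, 305354, -910092, -1141293, 38, 907607, 24709, -10135, 416637, 52252, 12])) (.node (.leaf [0, 1, 0, 0, 0, 0, 0, 0, 0, 0, 0, 0, 0, 0, 0, 0, 0, 0, 0]) (.leaf [-4285004486, -3129967504, -6141188900, -184185648, 30748451743, -13340682553, -778961915, -6420244742, 1998039, -5743789741, 17226002845, 21519597373, 252827, -17140494759, -470426021, 181885298, -7864385280, -1016009778, 49485])))))))))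

def threeL4 : Janko.Tree (List ℤ) :=
  (.node (.node (.node (.node (.node (.node (.node (.node (.node (.leaf []) (.leaf [47, 43, 44, 3, 14, -9, 1, 0, 0, -57, 9, -64, 0, 24, -4, -3, 19, 4, 0])) (.leaf [-7437187694, -5516533946, -10770671977, -321315704, 53678289701, -23297462239, -1356251120, -11151802983, 3744638, -10121848672, 30063345832, 37542330742, 384861, -29836224825, -833705712, 317120118, -13720538865, -1764353329, 66087])) (.node (.leaf [-22, -3, -13, 0, -7, 0, 0, 4, 0, 18, 0, 12, 0, -9, 0, 0, -2, -1, 0]) (.leaf [-3084463630, -2524722329, -4781152267, -137115226, 23135342186, -10065118229, -575294055, -4648011582, 2033667, -4630462146, 12936197746, 16110759249, 73688, -12616352769, -394463784, 134998734, -5888585534, -736243915, 9138]))) (.node (.node (.leaf [-1, 0, 0, 0, -1, 0, 0, 0, 0, 1, 0, 0, 0, 0, 0, 0, 0, 0, 0]) (.leaf [79597823, 56253933, 111601534, 3419250, -564436118, 244686856, 14345650, 119163984, -43242, 103242914, -316307129, -395549840, -2817, 316600951, 8352123, -3373076, 144594246, 18781269, -115]))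 (.node (.leaf []) (.leaf [0, 0, -2, -5, 0, -1, 0, -1, 2, 0, 0, 0, 0, 0, 0, 3, 0, 0, 0])))) (.node (.node (.node (.node (.leaf [-96, -58, -69, -3, 432, -192, -18, -102, 0, -57, 273, 333, 0, -240, -17, 3, -135, -24, 0]) (.leaf [-28219925, -26555280, -48336938, -1313486, 224520734, -98016389, -5452301, -42886642, 25517, -48716499, 125249851, 155346439, -712, -119014313, -4323832, 1288690, -56789439, -6804677, -9])) (.leaf [175835755, 133783273, 259106734, 7651996, -1281339809, 556449563, 32239422, 263960361, -97329, 245362489, -717300698, -895210713, -7588, 708803348, 20392258, -7546190, 327179920, 41763414, -889])) (.node (.leaf [400, 519, 864, 12, -3542, 1553, 76, 587, 0, 894, -1957, -2445, 0, 1755, 95, -12, 893, 88, 0]) (.leaf [-27970253, -26087883, -47585066, -1291669, 221570833, -96707106, -5393286, -42456480, 23547, -47834221, 123630693, 153385107, -153, -117667890, -4235895, 1268302, -56068593, -6745508, -27]))) (.node (.node (.leaf []) (.leaf [-375880, -354968, -645485, -17583, 2989986, -1305226, -72615, -570372, 361,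 -648970, 1667476, 2069730, -15, -1584576, -57556, 17237, -756430, -90475, 0])) (.node (.leaf [-723776197, -518442782, -1023822240, -31047031, 5155827886, -2235826882, -130905938, -1083555867, 358857, -951090263, 2888969408, 3611455563, 36882, -2884828771, -77314954, 30647513, -1319937219, -171152437, 3779]) (.leaf [-163525989, -144869281, -268074919, -7427718, 1267189789, -552375412, -31116575, -247466718, 121989, -265687287, 707674580, 879289469, 1874, -680117808, -23187679, 7303320, -321386478, -39292482, 535]))))) (.node (.node (.node (.node (.node (.leaf [-1, 0, 0, 0, -1, 0, 0, 0, 0, 1, 0, 0, 0, 0, 0, 0, 0, 0, 0]) (.leaf [-72969989, -64647739, -119647361, -3331335, 565644370, -246570154, -13878196, -110484900, 58697, -118593212, 315867599, 392462495, -508, -303585533, -10350519, 3273043, -143465389, -17511822, 103])) (.leaf [-44, -59, -99, -1, 84, -62, -5, 21, 0, -30, 58, 99, 0, -36, 1, 1, -18, -2, 0])) (.node (.leaf []) (.leaf [-25398143, -27514016, -48252139, -1207545, 214981798, -94186412, -5119881, -38820613, 21125,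 -50373744, 119691256, 147850803, 792, -110592498, -4625200, 1185377, -54016335, -6240466, 251]))) (.node (.node (.leaf [57, -324, -482, -6, 413, -184, 0, 176, -2, -318, 87, 339, 0, -15, 0, 8, -80, 39, 0]) (.leaf [280853, 264553, 480947, 13048, -2227905, 972797, 54324, 424902, -243, 483039, -1242875, -1542645, 17, 1181052, 42699, -12822, 563803, 67707, 0])) (.node (.leaf [5701462992, 4294760185, 8344325586, 247537913, -41390774975, 17970819837, 1043016076, 8555262724, -3083129, 7878154865, -23174813528, -28929607838, -256992, 22939597917, 652490652, -244165236, 10573226077, 1353286662, -32556]) (.leaf [9925645, 10850033, 18998178, 480850, -84474801, 37015848, 2002584, 15210765, -10422, 19882902, -47011474, -58055718, 330, 43372716, 1830055, -470758, 21218963, 2431042, 0])))) (.node (.node (.node (.leaf []) (.leaf [555, 553, 855, -10, -4379, 1929, 130, 835, 7, 946, -2473, -3029, 0, 2247, 99, -3, 1180, 119, 6])) (.node (.leaf [9, -46, -96, 0, 250, -112, 0, -3, 0, -129, 123, 138, 0, -84, -8, 0, -37, -2, 0]) (.leaf [-1204491957,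 -908377551, -1764198364, -52280601, 8748518994, -3798534912, -220460298, -1807529499, 636724, -1666556534, 4898401564, 6114275805, 56900, -4847402799, -138092057, 51577382, -2234607189, -286031369, 9595]))) (.node (.node (.leaf [10, 2, 8, 0, 19, -7, -2, -2, 0, -11, 5, 0, 0, -3, 3, 0, -5, 0, 0]) (.leaf [0, 0, 2, 0, -5, 0, 0, 0, 0, 0, 0, -3, 0, 3, 0, 0, 2, 0, 0])) (.node (.leaf [112329, 85194, 165203, 4952, -818264, 355398, 20553, 168819, -76, 156428, -458053, -571569, -1, 452841, 12982, -4875, 208996, 26575, 0]) (.leaf [-220854, -302787, -504355, -13796, 2142242, -946632, -47532, -354373, 806, -566722, 1188675, 1447761, -180, -1042350, -54912, 13171, -533049, -53311, -1])))))) (.node (.node (.node (.node (.node (.node (.leaf [15, 9, 14, 0, -16, 4, 0, 6, 0, -15, -6, -30, 0, 21, 0, 0, 10, 0, 0]) (.leaf [3881105911, 3026270981, 5816485831, 170264741, -28557639221, 12409510554, 715639355, 5834529563, -2306284, 5551744776, -15980713321, -19929105581, -131661, 15721898892, 465428014, -167807272, 7284102851, 923248157, -19524]))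 (.leaf [])) (.node (.leaf [-31632471, -27613097, -51313114, -1429721, 243592184, -106143583, -5996826, -47825142, 22696, -50637230, 136068973, 169144197, 549, -131135088, -4399735, 1406342, -61820366, -7592975, 134]) (.leaf [-1808408746, -1444161774, -2755380536, -79854759, 13430601545, -5839442659, -335254765, -2721573419, 1146387, -2648467681, 7512558224, 9363089530, 50956, -7359917142, -223806805, 78653740, -3422254369, -430783357, 3676]))) (.node (.node (.leaf []) (.leaf [-4, 0, 0, 0, -2, -2, 0, 0, 0, 2, 2, 0, 0, 0, 0, 0, 0, 0, 0])) (.node (.leaf [0, 0, 2, 2, -1, 0, 0, 0, 0, 0, 0, 0, 0, 0, 0, -2, 1, 0, 0]) (.leaf [-8253041, -9010610, -15782258, -399637, 70200717, -30760335, -1664526, -12646795, 8633, -16512945, 39068674, 48248106, -270, -36053268, -1519432, 391275, -17634322, -2021164, -1])))) (.node (.node (.node (.leaf []) (.leaf [-16119, -15411, -28045, -746, 129405, -56569, -3126, -24528, 9, -28440, 72204, 89400, 0, -68343, -2520, 737, -32622, -3900, 0])) (.node (.leaf [6, -3, -4, 0, 8, -4, 0, 3, 0, -9, 0, 0, 0, 0,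 3, 0, 1, 0, 0]) (.leaf [275513694, 343933586, 584088721, 14075762, -2502775525, 1100357905, 57882201, 426480093, -386353, 630037438, -1389527073, -1709261829, 28263, 1247827751, 59590028, -13721897, 624887269, 68233576, 4225]))) (.node (.node (.leaf []) (.leaf [0, 0, 0, 0, 1, 0, 0, 0, 0, 0, 0, 0, 0, 0, 0, 0, 0, 0, 0])) (.node (.leaf []) (.leaf [-1337623, -614623, -1437215, -53196, 8274472, -3554123, -222317, -1973277, 411, -1132722, 4665528, 5895120, 80, -4985610, -72650, 52725, -2156173, -307074, -20]))))) (.node (.node (.node (.node (.node (.leaf [-3, 3, 4, 0, -5, 4, 0, -3, 0, 9, -3, 0, 0, -3, 0, 0, -1, 0, 0]) (.leaf [-1019503093, -841774624, -1589979669, -45439776, 7673832060, -3339230255, -190546484, -1537029810, 686743, -1543825419, 4290218064, 5341746365, 21703, -4177565676, -131881284, 44728697, -1952458067, -243492021, 2633])) (.leaf [-126066963, -63443310, -142689713, -4962936, 798673722, -343569528, -21338685, -186050162, 9237, -116449571, 449896144, 567565882, 16274, -474873726, -7926435, 4935381, -207363318, -29285175,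 2044])) (.node (.leaf [-9142, -6974, -13558, -414, 66893, -29075, -1673, -13773, 9, -12855, 37434, 46692, 1, -36997, -1049, 404, -17042, -2165, 0]) (.leaf [914562915, 720616224, 1380496904, 40158427, -6756466854, 2936708663, 169101333, 1375367206, -531200, 1321897121, -3780397375, -4712998590, -35662, 3712107501, 111209194, -39584959, 1722492613, 217859715, -6606]))) (.node (.node (.leaf [-69060030, -61611203, -113786487, -3142069, 536702486, -233991887, -13165464, -104538819, 51814, -112980075, 299692574, 372303768, 789, -287649579, -9878311, 3089179, -136073645, -16605508, 287]) (.leaf [1649563643, 1350306690, 2557130291, 73358400, -12372357662, 5382558533, 307604227, 2485656726, -1106476, 2476067296, -6917785416, -8615915820, -36211, 6747115716, 210925398, -72214206, 3149200298, 393607969, -1507])) (.node (.leaf [-13433219, -13392960, -24002564, -635536, 109626815, -47926320, -2636421, -20481606, 13341, -24558322, 61096227, 75653082, -468, -57410211, -2213022, 622754, -27657878, -3254981, -91]) (.leaf [72486, 42711, 93273,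 5674, -518972, 226534, 11652, 117734, -664, 88860, -290067, -357341, 195, 295991, 6792, -5222, 133974, 13698, 17])))) (.node (.node (.node (.leaf [0, 0, 1, 1, 0, 0, 0, 0, 0, 0, 0, 0, 0, 0, 0, -1, 0, 0, 0]) (.leaf [-6, -9, -17, 0, 20, -3, 0, 0, 0, 3, 3, 24, 0, -15, 0, 0, -7, 0, 0])) (.node (.leaf [0, 0, 0, -1, 0, 1, 0, 0, 1, 0, -1, 0, 0, 0, 0, 0, 0, 0, 0]) (.leaf [-374, -571, -1017, -18, 4036, -1789, -76, -606, 0, -1176, 2232, 2677, 0, -1917, -113, 18, -943, -103, 0]))) (.node (.node (.leaf [5116131, 5525325, 9703540, 247108, -43305136, 18969893, 1028427, 7836868, -5301, 10128591, -24104716, -29776482, 162, 22292547, 930021, -241977, 10883882, 1251360, 8]) (.leaf [10794742126, 8692722079, 16543653454, 478210226, -80436190994, 34979372916, 2004719807, 16253106839, -7136139, 15939906836, -44985339468, -56055189246, -244469, 44007322617, 1350669212, -470830776, 20489123362, 2571896431, 1158])) (.node (.leaf [-9, -3, -16, 0, -15, 8, 3, 10, 0, 3, -7, -1, 0, 6, -5, 0, 6, 0, 0]) (.leaf [-1775882, -1169174, -2375418, -74674, 12271192,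 -5312687, -315459, -2648085, 717, -2147671, 6886380, 8624547, 125, -6971408, -168631, 73836, -3152192, -417535, -4]))))))) (.node (.node (.node (.node (.node (.node (.node (.leaf [-1, 0, 0, 0, 0, -1, 0, 0, 0, 0, 1, 0, 0, 0, 0, 0, 0, 0, 0]) (.leaf [-327470, -272057, -513065, -14490, 2472855, -1075428, -61308, -494634, 204, -498687, 1381895, 1721319, 23, -1345125, -42852, 14261, -629060, -78385, 2])) (.leaf [0, 0, -3, 1, -4, 0, 0, 0, 0, 0, 0, 0, 0, 0, 0, -1, 4, 0, 0])) (.node (.leaf [-522304794, -422679812, -803172033, -23107535, 3899592587, -1696061362, -97182177, -786523353, 323144, -775269269, 2180956449, 2716977498, 17051, -2131333566, -65798994, 22764079, -993004380, -124647752, 3261]) (.leaf [53929, 40915, 79168, 2371, -392482, 170469, 9874, 80990, -40, 75036, -219789, -274199, 0, 217134, 6276, -2331, 100312, 12769, 0]))) (.node (.node (.leaf [-6, 9, 22, 1, -29, 15, 0, -1, 1, 15, -9, -18, 0, 9, 0, -2, 5, -6, 0]) (.leaf [0, 0, 0, 0, 1, 0, 0, 0, 0, 0, 0, 0, 0, 0, 0, 0, 0, 0, 0])) (.node (.leaf [-2, 0, 0, 0, -2, 0, 0, 0,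 0, 2, 0, 0, 0, 0, 0, 0, 0, 0, 0]) (.leaf [0, 0, 0, -2, 2, 0, 0, 0, 0, 0, 0, 0, 0, 0, 0, 2, -2, 0, 0])))) (.node (.node (.node (.node (.leaf [15, 12, 19, 0, -17, 3, 0, 0, 0, -12, -3, -30, 0, 18, 0, 0, 11, 0, 0]) (.leaf [0, 0, 0, 0, 0, 0, 0, 0, 0, 0, 0, 0, 0, 0, 1, 0, 0, 0, 0])) (.leaf [-50368294, -68848983, -114707798, -2668369, 479701598, -211386467, -10913337, -78573510, 80062, -126154866, 265929945, 326185221, -6712, -234286107, -12130082, 2595729, -119255440, -12606423, -710])) (.node (.leaf [0, 0, 1, 1, 0, 0, 0, 0, 0, 0, 0, 0, 0, 0, 0, -1, 0, 0, 0]) (.leaf [9628597, 6743028, 13418245, 414569, -68109392, 29521793, 1732188, 14425026, -5260, 12395343, -38175894, -47735559, -289, 38259981, 1000651, -409023, 17454258, 2269657, 3]))) (.node (.node (.leaf [-3850248, -4587317, -7864370, -186828, 34098374, -14978534, -801147, -5913870, 2947, -8399983, 18962302, 23347605, 216, -17172867, -786490, 183559, -8525774, -960101, 106]) (.leaf [0, 0, 0, 0, -1, 0, 0, 0, 0, 0, 0, 0, 0, 0, 0, 0, 1, 0, 0])) (.node (.leaf [-2392685155, -2110498380,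 -3910236926, -108484133, 18506012764, -8065934935, -454800291, -3619665447, 1758726, -3870160057, 10335552224, 12844021569, 33282, -9941461418, -337294762, 106682681, -4694422921, -574778859, 9444]) (.leaf [-134647043, -234770782, -373875833, -7910357, 1468863116, -651153718, -31946208, -214803791, 304100, -429812839, 810905781, 987518423, -33471, -677926590, -42841372, 7644582, -361096519, -34738126, -4854]))))) (.node (.node (.node (.node (.node (.leaf [0, 0, 1, 2, -1, 0, 0, 0, 0, 0, 0, 0, 0, 0, 0, -2, 1, 0, 0]) (.leaf [216, 132, 253, 9, -1740, 732, 39, 404, 0, 323, -982, -1176, 0, 960, 45, -9, 457, 58, 0])) (.leaf [])) (.node (.leaf [9, -40, -85, 0, 241, -112, 0, -7, 0, -123, 122, 129, 0, -81, -8, 0, -37, 0, 0]) (.leaf [0, 3, 1, 1, 2, 0, 0, 0, 0, 0, 0, 0, 0, -3, 0, -1, 1, 0, 0]))) (.node (.node (.leaf [0, 0, 0, 0, 1, 0, 0, 0, 0, 0, 0, 0, 0, 0, 0, 0, 0, 0, 0]) (.leaf [3202, 2357, 4528, 138, -22854, 9933, 588, 4779, 0, 4287, -12855, -16005, 0, 12687, 373, -138, 5880, 760, 0])) (.node (.leaf [1756484958, 1328035054, 2577279667,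 76417388, -12770284270, 5545013234, 321544968, 2636397039, -984225, 2436083088, -7149525828, -8924089248, -70635, 7072543803, 202036058, -75354851, 3261712146, 416873591, -7677]) (.leaf [182384, 405893, 620431, 6006, -2216701, 983437, 49770, 272169, 849, 713618, -1218790, -1494708, -379, 967014, 72410, -6445, 536353, 55610, -31])))) (.node (.node (.node (.leaf [-3192, -2431, -4686, -136, 23244, -10085, -584, -4787, -2, -4455, 13020, 16239, 0, -12843, -381, 138, -5946, -763, 0]) (.leaf [-3276, -2318, -4494, -145, 23157, -9998, -589, -4935, 2, -4203, 13001, 16253, 1, -12967, -381, 142, -5987, -782, 0])) (.node (.leaf [199609, 148625, 292327, 8699, -1429108, 619220, 35880, 296016, -183, 266268, -797590, -1003452, -4, 797621, 21330, -8526, 365208, 46467, 14]) (.leaf [-301872, -288925, -524675, -14242, 2414593, -1053796, -58359, -458197, 313, -527163, 1345279, 1671250, -9, -1277169, -46788, 13938, -610255, -72608, 0]))) (.node (.node (.leaf [9616, 7278, 13993, 416, -69440, 30166, 1761, 14334, -3, 13245, -38953, -48579, 0, 38403,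 1137, -413, 17792, 2286, 0]) (.leaf [188643803, 158964029, 298446278, 8442655, -1431626023, 623274792, 35445507, 284667078, -127440, 291515602, -800144550, -995674713, -4398, 776210367, 25059208, -8309852, 363903951, 45152089, -965])) (.node (.leaf [-98008, -70142, -138762, -4307, 697582, -302348, -17665, -146812, 71, -128028, 390443, 488940, 0, -390825, -10308, 4236, -178729, -22985, 0]) (.leaf [1402427, 947232, 1907219, 58681, -9773724, 4234019, 250690, 2091507, -445, 1739474, -5483653, -6862730, -144, 5526924, 138028, -58095, 2507419, 331117, 3])))))) (.node (.node (.node (.node (.node (.node (.leaf []) (.leaf [-37074370, -31698250, -59253605, -1665110, 283035203, -123274196, -6992077, -55984092, 25446, -58136768, 158161860, 196711487, 806, -153002105, -5019861, 1638720, -71897005, -8884812, 138])) (.leaf [191, 101, 243, 12, -1865, 752, 39, 440, 0, 348, -1017, -1223, 0, 1035, 48, -12, 482, 57, 0])) (.node (.leaf [-20417098, -15402305, -29913808, -889442, 148342137, -64411819, -3735792, -30649002, 11646, -28264715, 83054961,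 103666221, 699, -82186893, -2341930, 876974, -37891118, -4844003, 123]) (.leaf [-17, 615, 971, 1, -810, 309, -4, -315, 0, 549, -214, -769, -1, 133, 26, 0, 129, -14, 0]))) (.node (.node (.leaf [-39356, -38762, -70293, -1848, 317923, -138969, -7656, -59409, 30, -70620, 177011, 219927, 0, -167343, -6166, 1818, -79960, -9531, 0]) (.leaf [-26, 28, 38, 0, -157, 59, 1, -1, 0, 93, -67, -69, 0, 33, 7, 0, 31, 1, 0])) (.node (.leaf [0, 3, 4, 0, 1, 1, 0, -3, 0, 3, 0, 0, 0, -3, 0, 0, -1, 0, 0]) (.leaf [-1536304749, -1252563892, -2374767328, -68148211, 11504651280, -5004660651, -286322998, -2314451061, 980675, -2297326656, 6433424790, 8012972312, 44259, -6278669567, -195460114, 67116462, -2928691378, -366738008, 6815])))) (.node (.node (.node (.leaf []) (.leaf [])) (.node (.leaf [66538, 50512, 97782, 2916, -483903, 210174, 12169, 99745, -40, 92550, -270962, -338118, 1, 267692, 7744, -2877, 123660, 15752, 0]) (.leaf [-9358, -9126, -16415, -456, 76740, -33550, -1835, -14558, 16, -17083, 42818, 52786, 0, -40257, -1568, 440, -19400, -2241,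 0]))) (.node (.node (.leaf []) (.leaf [168, 187, 332, 9, -1758, 759, 39, 333, 0, 437, -977, -1155, 0, 885, 44, -9, 436, 50, 0])) (.node (.leaf [542047392, 360001646, 729287744, 22829728, -3756972770, 1626297796, 96467271, 808781633, -226985, 660493849, -2107563160, -2640107284, -34272, 2131600419, 52072220, -22565363, 964904458, 127543055, -3108]) (.leaf [25481595, 18348064, 36172075, 1102241, -182018432, 78946829, 4612429, 38201837, -14519, 33699675, -101981017, -127435796, -673, 101727639, 2748337, -1086975, 46591641, 6019742, -74]))))) (.node (.node (.node (.node (.node (.leaf []) (.leaf [2352012, 2479647, 4381399, 113147, -19691122, 8620252, 469233, 3598775, -2442, 4546626, -10964204, -13553943, 78, 10189686, 415299, -110796, 4954746, 573408, 13])) (.leaf [-17, -2, -9, 0, 20, -6, -1, -9, 0, 18, 9, 30, 0, -27, 0, 0, -11, 0, 0])) (.node (.leaf [30, 6, 19, 0, -41, 6, 0, 18, 0, -36, -12, -60, 0, 54, 0, 0, 23, 0, 0]) (.leaf [-9556737929, -7246722112, -14049936254, -415509184, 69559701026, -30206250747, -1751327957, -14345624015,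 5141420, -13295295674, 38943844155, 48602914969, 432089, -38501494107, -1103802882, 409861382, -17763273597, -2270166499, 74293]))) (.node (.node (.leaf []) (.leaf [761805, 825374, 1446066, 31237, -6371797, 2785421, 154713, 1143295, 492, 1485747, -3546052, -4401865, -390, 3286476, 135692, -31308, 1599865, 192376, -31])) (.node (.leaf []) (.leaf [-806, -813, -1398, -36, 6570, -2911, -155, -1213, 0, -1578, 3752, 4486, 0, -3336, -182, 36, -1656, -203, 0])))) (.node (.node (.node (.leaf [3, -6, -4, 0, -4, 2, 0, 3, 0, -3, -3, 0, 0, 6, 0, 0, 1, 0, 0]) (.leaf [-3202, -2411, -4645, -140, 23124, -10037, -586, -4780, -1, -4398, 12968, 16172, 0, -12798, -377, 141, -5928, -765, 0])) (.node (.leaf [-6, 29, 53, 0, -117, 50, 0, -3, 0, 63, -54, -69, 0, 36, 4, 0, 18, 1, 0]) (.leaf [-2123, -1677, -3262, -99, 15709, -6840, -386, -3165, 1, -3123, 8797, 10939, -1, -8611, -264, 99, -3974, -509, 0]))) (.node (.node (.leaf [343323, 260752, 505542, 15131, -2502509, 1086923, 62815, 515968, -227, 478930, -1400809, -1747862, 0, 1384512, 39783, -14904,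 639067, 81251, 0]) (.leaf [-3665480404, -2223533291, -4651841102, -150895768, 24627148332, -10638193233, -640909601, -5448471759, 1102305, -4080825800, 13834585259, 17371191774, 311406, -14198337883, -308722405, 149447210, -6348227100, -858462489, 34847])) (.node (.leaf []) (.leaf [-7932710005, -6361989945, -12122486591, -350654958, 59017318465, -25662888894, -1472334541, -11941536691, 5017383, -11668971069, 33010534924, 41135114027, 223714, -32313509403, -987503852, 345385609, -15035015386, -1890682788, 28251])))))))) (.node (.node (.node (.node (.node (.node (.node (.node (.leaf []) (.leaf [28767, 26700, 48839, 1268, -228109, 100074, 5622, 43358, 0, 50129, -127876, -157289, 2, 120633, 4332, -1269, 57345, 7142, 0])) (.leaf [])) (.node (.leaf [-3201, -2411, -4645, -140, 23125, -10037, -586, -4780, -1, -4399, 12968, 16172, 0, -12798, -377, 141, -5928, -765, 0]) (.leaf [697304515, 533714381, 1031749211, 30447949, -5093657450, 2212422332, 128002989, 1047250017, -404391, 979031781, -2851184911, -3557576110, -25269, 2814334443,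 81549566, -30015811, 1300310550, 165614480, -2478]))) (.node (.node (.leaf []) (.leaf [])) (.node (.leaf [-7378890459, -5231182672, -10365802896, -315590017, 52361468409, -22700807189, -1331582968, -11041171040, 3552953, -9596244642, 29344336156, 36693934717, 397990, -29354607600, -776959467, 311600690, -13410919878, -1743780603, 38384]) (.leaf [])))) (.node (.node (.node (.node (.leaf []) (.leaf [805092, 846052, 1496298, 38755, -6729981, 2945881, 160417, 1231591, -851, 1551054, -3747303, -4633253, 29, 3485194, 141562, -37938, 1693709, 196120, 5])) (.leaf [189, 122, 160, 1, -966, 421, 36, 219, 0, 144, -588, -726, 0, 534, 34, -1, 288, 48, 0])) (.node (.leaf []) (.leaf [13, 9, 13, 0, -6, 2, 0, -2, 0, -10, -1, -18, 0, 9, 0, 0, 7, 0, 0]))) (.node (.node (.leaf [-2, 70, 112, 1, -226, 115, 1, -17, -2, 145, -125, -132, 0, 45, 16, 1, 36, 0, 0]) (.leaf [0, 0, 0, 0, 1, 0, 0, 0, 0, 0, 0, 0, 0, 0, 0, 0, 0, 0, 0])) (.node (.leaf [0, -1, 0, 0, 0, 0, 0, 0, 1, 0, -1, 0, -1, 1, 1, 0, 0, 0, 0]) (.leaf [-4, -49, -73, -10, 111, -65, -2, 24,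 4, -90, 68, 64, -1, 1, -12, 7, -22, 1, 0]))))) (.node (.node (.node (.node (.node (.leaf [-34431740, -30872268, -56932295, -1565977, 268118343, -116909246, -6573945, -52123569, 25273, -56604719, 149708700, 185954775, 585, -143553171, -4955976, 1539940, -67961022, -8286514, 179]) (.leaf [12, -135, -217, -2, 140, -48, 0, 75, 0, -108, 21, 153, 0, -18, 0, 2, -14, 2, 0])) (.leaf [1, 0, 0, 0, 0, 0, 0, 0, 0, 0, 0, 0, 0, 0, 0, 0, 0, 0, 0])) (.node (.leaf [41, -10, -15, 10, -189, 32, 1, 105, 0, -75, -72, -169, 1, 176, 1, -11, 87, 3, 0]) (.leaf [37649746, 33437051, 61845151, 1724485, -292223520, 127394029, 7163880, 57034371, -31422, 61358626, -163175201, -202715841, 618, 156754866, 5359426, -1693667, 74109630, 9032396, -14]))) (.node (.node (.leaf [-19637, -19753, -35686, -922, 159431, -69650, -3828, -29523, 13, -35601, 88576, 110400, 0, -83736, -3083, 909, -40094, -4730, 0]) (.leaf [167, -45, -54, 12, -1269, 477, 37, 456, 0, 66, -726, -841, 0, 816, 33, -12, 387, 52, 0])) (.node (.leaf [-33212679, -29308038, -54296993, -1508405, 256957499,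 -111998803, -6312867, -50254266, 24993, -53752346, 143507165, 178329912, 285, -138024015, -4685277, 1483012, -65181443, -7975933, 115]) (.leaf [-155, 261, 571, -3, -968, 519, -6, -246, 0, 886, -478, -353, 0, 72, 26, 3, 10, 17, 0])))) (.node (.node (.node (.leaf [0, 0, -1, 0, -1, 0, 0, 0, 0, 0, 0, 0, 0, 0, 0, 0, 1, 0, 0]) (.leaf [-914986734, -721157823, -1381411086, -40179203, 6760350356, -2938417569, -169191699, -1376020140, 531483, -1322887657, 3782554747, 4715649874, 35708, -3714032988, -111303072, 39605390, -1723460138, -217966667, 6622])) (.node (.leaf [3412, 2520, 4770, 138, -23927, 10382, 621, 4992, -3, 4452, -13474, -16836, 0, 13284, 411, -135, 6191, 811, 0]) (.leaf [-4994358015, -3855579442, -7433356666, -218353599, 36604127210, -15902154893, -918834188, -7503736677, 2865933, -7072862393, 20486925340, 25556042958, 192653, -20190919608, -590902373, 215267276, -9340501383, -1187437445, 27738]))) (.node (.node (.leaf [-32, -49, -85, -23, 103, -76, -3, 24, 11, -90, 90, 69, -1, -3, -13, 13, -9, -11, 0]) (.leaf [36691,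 33985, 61833, 1714, -293619, 128199, 7081, 56566, -39, 63676, -163975, -202328, 8, 155510, 5744, -1683, 74428, 8824, 0])) (.node (.leaf [89041, 83697, 152263, 4176, -708816, 309525, 17209, 135516, -91, 153906, -395581, -490208, 6, 375579, 13717, -4091, 179327, 21457, 0]) (.leaf [0, 0, 0, 0, 1, 0, 0, 0, 0, 0, 0, 0, 0, 0, 0, 0, 0, 0, 0])))))) (.node (.node (.node (.node (.node (.node (.leaf []) (.leaf [2106, 1633, 3130, 90, -15604, 6767, 390, 3201, 0, 3033, -8730, -10866, 0, 8583, 260, -90, 3989, 506, 0])) (.leaf [65, -65, -116, 0, 553, -215, -1, -44, 0, -261, 241, 265, 0, -183, -16, 0, -109, 5, 0])) (.node (.leaf [33489890, 29717919, 54966312, 1520256, -259668215, 113194699, 6375978, 50676528, -24636, 54493345, -145011105, -180174711, -494, 139324075, 4757233, -1494983, 65851268, 8050260, -143]) (.leaf [4049, 3749, 6814, 184, -31941, 13933, 783, 6163, -1, 6837, -17831, -22137, 0, 16998, 607, -183, 8106, 976, 0]))) (.node (.node (.leaf [-35, 71, 126, 0, -366, 168, -3, -18, 0, 246, -190, -162, 0, 69, 25, 0, 51, 4, 0]) (.leaf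 [])) (.node (.leaf [1, 0, 0, 0, 1, 0, 0, 0, 0, -1, 0, 0, 0, 0, 0, 0, 0, 0, 0]) (.leaf [-32544165, -28652795, -53114431, -1476180, 251537069, -109630563, -6182714, -49234320, 24169, -52550728, 140487759, 174586575, 352, -135173499, -4577919, 1451540, -63813196, -7815263, 119])))) (.node (.node (.node (.leaf [0, 6, 8, 0, -1, 5, 0, -6, 0, 9, -3, 0, 0, -6, 0, 0, -2, 0, 0]) (.leaf [22812, 22783, 41272, 1088, -183815, 80513, 4458, 34054, -23, 41016, -102316, -127380, 0, 96654, 3485, -1065, 46145, 5488, 0])) (.node (.leaf [0, 0, 0, 0, -1, 0, 0, 0, 0, 0, 0, 0, 0, 0, 0, 0, 1, 0, 0]) (.leaf [2, -1, 0, 1, 1, -1, 0, 0, -2, -1, 1, 0, 1, 0, 0, 0, 0, 0, 0]))) (.node (.node (.leaf [2, 0, 0, 0, 2, 0, 0, 0, 0, -2, 0, 0, 0, 0, 0, 0, 0, 0, 0]) (.leaf [460, 561, 918, 8, -3596, 1569, 76, 612, -1, 834, -1981, -2565, 0, 1833, 95, -7, 929, 88, 0])) (.node (.leaf [3828797, 3540298, 6486491, 188272, -30391595, 13267637, 732435, 5858124, -6018, 6537777, -16951115, -21010146, 918, 16157700, 578795, -183246, 7695432, 909200, 74]) (.leaf [-3374008888,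 -3327355758, -5980824671, -159430532, 27389751688, -11970400395, -659481873, -5139055614, 3498724, -6095955119, 15265002771, 18913505559, -147870, -14378970135, -547549923, 156133026, -6914674506, -815256503, -53348]))))) (.node (.node (.node (.node (.node (.leaf [0, 0, -1, -1, 0, 0, 0, 0, 0, 0, 0, 0, 0, 0, 0, 1, 0, 0, 0]) (.leaf [-49584520, -49451189, -88591398, -2321328, 404384482, -176793627, -9746961, -75501115, 41882, -90620622, 225411337, 279120360, 324, -211760538, -8161996, 2278874, -102003786, -12053948, 248])) (.leaf [0, 6, 8, 0, 2, 2, 0, -6, 0, 6, 0, 0, 0, -6, 0, 0, -2, 0, 0])) (.node (.leaf [-2, 0, 0, 0, -2, 0, 0, 0, 0, 2, 0, 0, 0, 0, 0, 0, 0, 0, 0]) (.leaf [-26, 602, 974, 6, -814, 309, -4, -315, 0, 558, -214, -759, -1, 136, 26, -5, 121, -14, 0]))) (.node (.node (.leaf [3, -3, -4, 0, 3, -1, 0, 3, 0, -6, 0, 0, 0, 3, 0, 0, 1, 0, 0]) (.leaf [-7, -83, -130, 0, 210, -130, -4, 26, 0, -142, 127, 132, 0, -42, -3, 0, -26, -1, 0])) (.node (.leaf [-17440, -16893, -30497, -811, 141478, -61785, -3399, -26812, 16, -31255, 78890,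 97601, 0, -74484, -2825, 795, -35739, -4215, 0]) (.leaf [43670, 42086, 76560, 2048, -350028, 152835, 8449, 66070, -39, 76751, -194900, -242245, -1, 184974, 6737, -2008, 88304, 10502, 0])))) (.node (.node (.node (.leaf []) (.leaf [-22062422, -20474147, -37400916, -1020624, 174422296, -76116339, -4246683, -33491071, 19540, -37543101, 97323737, 120770252, -447, -92728560, -3320415, 1001552, -44150316, -5313940, -21])) (.node (.leaf [-3744121848, -3554702462, -6453689355, -174243242, 29892065377, -13052411575, -725110074, -5689875630, 3372216, -6517321791, 16673057127, 20676136677, -69542, -15816503111, -579751488, 170952747, -7558181934, -903639147, -12179]) (.leaf [11406, 8798, 16993, 486, -84058, 36513, 2105, 17205, 0, 16340, -47055, -58570, 0, 46299, 1368, -486, 21419, 2737, 0]))) (.node (.node (.leaf [0, 0, 0, -1, 0, 0, 0, 0, 0, 0, 0, 0, 0, 0, 0, 1, 0, 0, 0]) (.leaf [2266516, 1510113, 3053410, 94787, -15714314, 6804384, 403929, 3378414, -712, 2769759, -8817906, -11042145, -226, 8909484, 218845, -93840, 4035231, 534287, -9]))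 (.node (.leaf [-20177, -19307, -35085, -941, 161496, -70504, -3909, -30641, 14, -35313, 90027, 111756, 0, -85413, -3127, 927, -40770, -4884, 0]) (.leaf [-18157, 71086, 85165, 33, -176344, 85309, 1630, -20739, 1, 129822, -92557, -98907, -9, 10847, 15353, -20, 35686, -1728, -5]))))))) (.node (.node (.node (.node (.node (.node (.node (.leaf []) (.leaf [0, 0, 2, 0, 1, 0, 0, 0, 0, 0, 0, 0, 0, 0, 0, 0, -1, 0, 0])) (.leaf [1, 0, 0, 0, 1, -1, 0, 0, 0, -1, 1, 0, 0, 0, 0, 0, 0, 0, 0])) (.node (.leaf [-818826348, -672397711, -1272181382, -36487235, 6149424535, -2675475281, -152769990, -1234134072, 568041, -1232881521, 3438043890, 4281751388, 13755, -3351467574, -105129868, 35906498, -1565083551, -195335551, -1059]) (.leaf [136966953, 122405670, 225945477, 6226463, -1065100192, 464380586, 26126229, 207316045, -100890, 224431754, -594740091, -738814269, -2187, 570652917, 19631640, -6122722, 270017643, 32949083, -664]))) (.node (.node (.leaf [-77444297, -69408867, -128023436, -3535626, 603156153, -262994796, -14778519, -117299790, 60574,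 -127305815, 336767847, 418289964, 204, -322954293, -11148489, 3474657, -152896372, -18618850, 191]) (.leaf [-41267082, -33331516, -63372984, -1832582, 308011547, -133963747, -7672749, -62180320, 27148, -61175405, 172268408, 214588307, 798, -168392736, -5192104, 1804492, -78444082, -9837830, 144])) (.node (.leaf []) (.leaf [-42012467, -38922155, -71133477, -1934571, 331831838, -144807521, -8088036, -63739214, 34196, -71370817, 185176339, 229788801, -3, -176471955, -6306652, 1900264, -83989178, -10131184, 114])))) (.node (.node (.node (.leaf [0, 0, 1, 1, 0, 0, 0, 0, 0, 0, 0, 0, 0, 0, 0, -1, 0, 0, 0]) (.leaf [558797, 614992, 1075183, 27079, -4770948, 2091011, 112986, 856594, -579, 1127082, -2654880, -3277815, 18, 2445963, 103856, -26517, 1197892, 137001, -1])) (.node (.leaf []) (.leaf [-946888437, -784896510, -1480802300, -42252313, 7138631156, -3106649186, -177144758, -1427855664, 643196, -1439514767, 3990760430, 4968305632, 19185, -3883158195, -123125354, 41587607, -1815973309, -226213713, 2325]))) (.node (.node (.leaf [0,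 -3, -4, 0, -1, -1, 0, 3, 0, -3, 0, 0, 0, 3, 0, 0, 1, 0, 0]) (.leaf [-263491, -248029, -451245, -12276, 2085213, -910368, -50900, -397718, 235, -451174, 1163048, 1445028, -15, -1106319, -39765, 12056, -527710, -63444, 0])) (.node (.leaf [-58500331, -72973557, -123956810, -2987267, 531298819, -233580072, -12289857, -90565717, 80974, -133707595, 294982526, 362851328, -5667, -264936606, -12645641, 2912617, -132650183, -14494616, -657]) (.leaf [17670525, 8716186, 19775904, 717567, -111690378, 48048363, 2974095, 26176065, -6804, 16111435, -62925316, -79332549, -484, 66552710, 1090042, -710212, 29026623, 4072804, -67]))))) (.node (.node (.node (.node (.node (.leaf [1, 0, 0, 0, 1, 0, 0, 0, 0, -1, 0, 0, 0, 0, 0, 0, 0, 0, 0]) (.leaf [0, 0, 0, 0, 1, 0, 0, 0, 0, 0, 0, 0, 0, 0, 0, 0, 0, 0, 0])) (.leaf [27, 9, 10, -1, 39, -6, 1, 0, -1, -33, 6, -8, 0, 0, -2, 2, -6, 2, 0])) (.node (.leaf [1549220734, 1219396280, 2336777528, 68008455, -11440338119, 4972435156, 286375441, 2329676127, -898527, 2236861363, -6401235138, -7980619806, -60566, 6286791816,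 188116835, -67038275, 2916736406, 369009540, -11088]) (.leaf [-8007, -7601, -13820, -360, 64621, -28179, -1560, -12329, 0, -14134, 36030, 44589, 0, -34164, -1264, 360, -16323, -1957, 0]))) (.node (.node (.leaf [-2314269751, -2482453513, -4368009382, -112686497, 19524336434, -8550750494, -463060479, -3544345195, 2842063, -4546341713, 10865175075, 13429783578, -180969, -10067417784, -416670833, 110082808, -4910398886, -562759430, -57405]) (.leaf [-1562859, -1052401, -2118786, -65362, 10877231, -4712335, -279450, -2330082, 461, -1932222, 6104152, 7638150, 137, -6153117, -153319, 64758, -2791989, -368901, 6])) (.node (.leaf [46601046, 42658376, 78222058, 2141845, -366226200, 159768860, 8940606, 70667644, -38299, 78232726, -204403723, -253735086, 183, 195244548, 6891373, -2103705, 92748828, 11220059, -24]) (.leaf [371, 574, 1019, 18, -4035, 1789, 76, 606, 0, 1179, -2232, -2677, 0, 1914, 113, -18, 942, 103, 0])))) (.node (.node (.node (.leaf [-9, 43, 90, 0, -243, 113, 0, 6, 0, 126, -123, -132, 0, 81, 8, 0, 36, 0, 0]) (.leaf [-78021220,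 -78138263, -139862690, -3677241, 637780593, -278858380, -15344979, -118914101, 71797, -143243970, 355452473, 440084940, -1173, -333683460, -12917065, 3606514, -160852484, -18947186, 103])) (.node (.leaf [236320621, 78063002, 213353468, 8716978, -1346758450, 574622764, 37722831, 344947263, 38625, 143540091, -762569431, -970781152, -38928, 848587377, 6446870, -8712514, 354661095, 53957563, -4161]) (.leaf [113280, 86071, 167262, 5000, -830723, 361032, 20757, 170919, -76, 160325, -465205, -578853, 2, 458675, 13348, -4926, 211722, 26957, 0]))) (.node (.node (.leaf [-8, 6, 9, 0, -13, 10, 0, -6, 0, 22, -8, 0, 0, -6, 0, 0, -3, 0, 0]) (.leaf [33185324, 29276559, 54240212, 1504899, -256692039, 111880967, 6308024, 50204190, -24460, 53687935, -143361014, -178153506, -445, 137890062, 4679306, -1479866, 65114467, 7971829, -128])) (.node (.leaf [-3800833, -2920510, -5638958, -167060, 27828404, -12088837, -698232, -5715837, 2376, -5363684, 15576210, 19428294, 83, -15361647, -447988, 164593, -7103136, -902212, 8]) (.leaf [-3631199, -2756281,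 -5341214, -159169, 26464312, -11493229, -665284, -5458521, 2241, -5063414, 14816178, 18484786, 78, -14641936, -421363, 156846, -6759018, -861118, 4])))))) (.node (.node (.node (.node (.node (.node (.leaf []) (.leaf [4994328871, 3855552696, 7433307176, 218352309, -36603894774, 15902053420, 918828604, 7503692238, -2865933, 7072811784, -20486795563, -25555882814, -192653, 20190796281, 590897886, -215265986, 9340442883, 1187430302, -27738])) (.leaf [-436571, -498650, -863643, -21308, 3791999, -1663571, -89348, -670317, 450, -913371, 2109157, 2601009, -11, -1928130, -84870, 20865, -950493, -107638, 3])) (.node (.leaf [170, 259, 440, 9, -2092, 901, 36, 345, 0, 591, -1142, -1349, 0, 987, 67, -9, 514, 47, 0]) (.leaf [0, 1, 3, 1, 0, 0, 0, 0, 0, 0, 0, -1, 0, 0, 0, -1, 0, 0, 0]))) (.node (.node (.leaf []) (.leaf [244, 157, 298, 15, -1962, 786, 39, 456, 0, 319, -1058, -1349, 0, 1098, 55, -15, 545, 52, 0])) (.node (.leaf [0, -1, 1, 2, 0, 0, 0, 0, 0, 0, 0, 1, 0, 0, 0, -2, 0, 0, 0]) (.leaf [436582, 498703, 863765, 21308, -3792213, 1663669,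 89342, 670308, -450, 913485, -2109267, -2601147, 11, 1928208, 84883, -20865, 950516, 107642, -3])))) (.node (.node (.node (.leaf [-1, 0, 0, 0, -1, 0, 0, 0, 0, 1, 0, 0, 0, 0, 0, 0, 0, 0, 0]) (.leaf [15, 9, 14, 0, -17, 4, 0, 6, 0, -15, -6, -30, 0, 21, 0, 0, 11, 0, 0])) (.node (.leaf [-3, 2, 0, 1, -1, -1, 0, 0, 0, 3, 0, -1, -1, 0, 0, 0, -1, 2, 0]) (.leaf [447777525, 312813738, 623527452, 19733695, -3160051266, 1369114235, 79838736, 670383815, -472466, 571565231, -1769092841, -2216172146, 34635, 1777510926, 45974111, -19327106, 810920777, 104054296, 31242]))) (.node (.node (.leaf [30, 21, 29, 0, -28, 8, 0, 12, 0, -30, -12, -60, 0, 39, 0, 0, 19, 0, 0]) (.leaf [11783, 11150, 20342, 566, -95297, 41799, 2303, 18137, -14, 21135, -53345, -65522, 2, 50204, 1863, -554, 23957, 2873, 0])) (.node (.leaf [2, 0, 0, 0, 1, 1, 0, 0, 0, -1, -1, 0, 0, 0, 0, 0, 0, 0, 0]) (.leaf [-422, -216, -435, -18, 3457, -1439, -78, -841, 0, -615, 1956, 2316, 0, -1932, -90, 18, -910, -121, 0]))))) (.node (.node (.node (.node (.node (.leaf []) (.leaf [-4785176,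 -5213561, -9136563, -231713, 40662477, -17816272, -964408, -7331718, 5030, -9553872, 22630144, 27949796, -161, -20893018, -878649, 226847, -10215476, -1171416, -3])) (.leaf [18331666451, 13899347411, 26948757225, 797075207, -133426434216, 57940428887, 3359359010, 27518066714, -9862182, 25501568112, -74700798104, -93227794486, -825047, 73852750844, 2117162268, -786243222, 34072810047, 4354617385, -144756])) (.node (.leaf [-8686, -7491, -13492, -373, 66059, -28917, -1674, -13086, 0, -13833, 37279, 45798, 0, -35316, -1317, 373, -16910, -2125, 0]) (.leaf [-41277536, -82957990, -129132831, -2498892, 490405115, -218122821, -10476692, -66709943, 77940, -151923268, 270309498, 327656431, -4693, -218820696, -15396360, 2423606, -119660062, -11084970, 2040]))) (.node (.node (.leaf [-897, -1296, -2402, -45, 10192, -4448, -180, -1542, 0, -2954, 5573, 6612, 0, -4854, -282, 45, -2384, -269, 0]) (.leaf [283, 164, 378, 9, -2305, 917, 35, 513, 0, 393, -1224, -1564, 0, 1293, 72, -9, 619, 52, 0])) (.node (.leaf []) (.leaf [-417, -460, -780, -19,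 3669, -1560, -77, -695, 1, -819, 2008, 2530, 0, -1896, -97, 18, -954, -94, 0])))) (.node (.node (.node (.leaf [198, 147, 202, 6, -1082, 465, 35, 238, 0, 168, -639, -812, 0, 594, 36, -6, 320, 47, 0]) (.leaf [-1694858, -1092541, -2235959, -70843, 11624252, -5030243, -299808, -2524683, 627, -2006901, 6525623, 8177163, 131, -6628817, -156128, 70086, -2988620, -398051, -1])) (.node (.leaf [0, 0, 0, 0, -1, 0, 0, 0, 0, 1, 0, 0, 0, 0, 0, 0, 0, 0, 0]) (.leaf [1735326205, 1312438453, 2546784286, 75509827, -12617990851, 5478927212, 317690218, 2604691303, -974924, 2407484387, -7064217189, -8817535066, -69084, 6987791550, 199683929, -74458241, 3222768548, 411852431, -7578]))) (.node (.node (.leaf []) (.leaf [957039, 1467800, 2394551, 54956, -9740465, 4301586, 215778, 1519958, -2237, 2694614, -5385152, -6584222, 315, 4636167, 264162, -53040, 2409468, 241359, 6])) (.node (.leaf [-8077, -7545, -13718, -368, 65147, -28470, -1559, -12456, 2, -14340, 36430, 44764, 0, -34353, -1307, 366, -16454, -1982, 0]) (.leaf [-4271124391, -3114862741, -6114711781,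 -183514034, 30630560003, -13289029603, -776165276, -6398977197, 1983555, -5716105921, 17160389230, 21438561094, 253277, -17079906171, -467880182, 181227713, -7834766251, -1012611820, 49489])))))))))

def threeL5 : Janko.Tree (List ℤ) :=
  (.node (.node (.node (.node (.node (.node (.node (.node (.node (.leaf []) (.leaf [-3663458865, -2221588804, -4648327792, -150810437, 24611035988, -10631163415, -640513683, -5445431991, 1102628, -4077295366, 13825597277, 17360023986, 310736, -14189823793, -308408442, 149362287, -6344158772, -857963157, 34786])) (.leaf [])) (.node (.leaf [-48177283, -45611858, -82868107, -2232671, 384125699, -167717776, -9329070, -73184076, 40614, -83632412, 214282227, 265738812, -201, -203364075, -7433608, 2192149, -97129187, -11639901, 109]) (.leaf [-3084463624, -2524722332, -4781152271, -137115226, 23135342193, -10065118232, -575294055, -4648011579, 2033667, -4630462155, 12936197746, 16110759249, 73688, -12616352769, -394463781, 134998734, -5888585533, -736243915, 9138]))) (.node (.node (.leaf [3, -28,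 -45, 0, 215, -77, 0, -48, 0, -48, 93, 144, 0, -110, -6, 0, -57, 6, 0]) (.leaf [313574004, 240890400, 465152778, 13708295, -2293939538, 996442276, 57608997, 471058023, -184404, 441885381, -1283942001, -1601899614, -10839, 1266555541, 36855515, -13511997, 585506896, 74490915, -1054])) (.node (.leaf [17, 15, 24, 0, -97, 28, 0, 28, 0, -9, -36, -86, 0, 69, 2, 0, 37, -3, 0]) (.leaf [6854305575, 5090768946, 9935307160, 296325069, -49497857519, 21483869568, 1250358890, 10279034697, -3471602, 9341377410, -27721604970, -34616126794, -345012, 27505550607, 769793363, -292444369, 12651223596, 1626219414, -64086])))) (.node (.node (.node (.node (.leaf [18592, 14123, 27396, 825, -135383, 58810, 3399, 27897, -12, 25914, -75790, -94578, 0, 74904, 2152, -813, 34565, 4400, 0]) (.leaf [-4724437, -9099842, -14257677, -285252, 54601768, -24258857, -1169907, -7586982, 11251, -16625296, 30095371, 36563295, -1137, -24616137, -1676271, 275157, -13359558, -1244266, -19])) (.leaf [-34907357, -29437719, -55262819, -1573180, 265137560, -115439663, -6555765,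 -52719378, 26309, -54021396, 148177587, 184359309, 12, -143719256, -4646581, 1546833, -67396942, -8341748, 26])) (.node (.leaf [0, 2, 1, 0, 0, 0, 0, 0, 0, 0, 0, -1, 0, 0, 0, 0, 0, 0, 0]) (.leaf [22, 395, 615, 7, 171, -144, 6, -261, 0, -63, 296, -288, 0, -63, -50, -6, -45, -17, 0]))) (.node (.node (.leaf [413, 219, 437, 18, -3464, 1441, 78, 841, 0, 624, -1956, -2316, 0, 1929, 90, -18, 911, 119, 0]) (.leaf [-164, 28, 49, -1, 888, -397, -37, -303, 0, -96, 600, 579, 1, -540, -30, 0, -253, -60, 0])) (.node (.leaf []) (.leaf [-100484450, -81927349, -155323142, -4462307, 752602879, -327398720, -18726425, -151411836, 65272, -150304035, 420861474, 524154311, 2514, -410711329, -12791722, 4394174, -191589538, -23981827, 347]))))) (.node (.node (.node (.node (.node (.leaf [0, 1, 2, 0, -1, 0, 0, 0, 0, 0, 0, -2, 0, 1, 0, 0, 0, 0, 0]) (.leaf [-71747108, -63433740, -117467946, -3273979, 555675227, -242213498, -13638151, -108619293, 57642, -116364712, 310311621, 385581887, -507, -298359551, -10149938, 3216743, -140950727, -17214613, 101]))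 (.leaf [15390, 11727, 22790, 689, -112375, 48824, 2814, 23124, -14, 21567, -62881, -78471, 0, 62151, 1779, -675, 28657, 3637, 0])) (.node (.leaf [-13, 45, 100, 0, -256, 103, -4, -1, 0, 135, -117, -138, 0, 84, 13, 0, 37, 3, 0]) (.leaf [19775675, 17623179, 32564431, 906693, -153718367, 67017738, 3766179, 29964672, -16608, 32339957, -85829875, -106617898, 347, 82400215, 2827978, -890422, 38977974, 4745850, -10]))) (.node (.node (.leaf [25, -204, -297, 2, 258, -97, 0, 102, -1, -168, 42, 234, 0, -30, 0, 0, -60, 21, 0]) (.leaf [498597, 478615, 869110, 23601, -3991343, 1741416, 96350, 756645, -540, 871638, -2222690, -2763294, 12, 2111010, 77307, -23073, 1008687, 119808, 0])) (.node (.leaf []) (.leaf [804638, 845861, 1495893, 38748, -6726658, 2944499, 160341, 1230747, -855, 1550544, -3745415, -4630983, 30, 3483267, 141484, -37926, 1692823, 195999, 4])))) (.node (.node (.node (.leaf []) (.leaf [-39179, -1389924, -1857688, -17811, 5248278, -2415272, -85007, -172035, 813, -2534843, 2830251, 3279615, 30, -1521527, -283187, 16885, -1192011,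 -46430, 83])) (.node (.leaf [690772741, 609438036, 1129078143, 31328378, -5343319778, 2328927189, 131306646, 1045047024, -509574, 1117594857, -2984211694, -3708449814, -9054, 2870305833, 97408353, -30807078, 1355427796, 165935047, -2672]) (.leaf [10130128212, 7650829233, 14852140278, 439837234, -73618711877, 31965751280, 1854774837, 15202936566, -5361599, 14036641177, -41219119193, -51448307076, -478542, 40779493092, 1163688456, -433915439, 18802978290, 2405909102, -81654]))) (.node (.node (.leaf [0, 1, 2, 0, -1, 0, 0, 0, 0, 0, 0, -2, 0, 1, 0, 0, 0, 0, 0]) (.leaf [-19858722, -17698637, -32704308, -910979, 154373546, -67303745, -3781839, -30091851, 16788, -32479004, 86194628, 107071177, -379, -82750416, -2839906, 894565, -39143878, -4765092, 5])) (.node (.leaf [-1054, -878, -1694, -45, 8042, -3497, -191, -1584, 0, -1659, 4489, 5574, 0, -4362, -143, 45, -2021, -257, 0]) (.leaf [-32, -4, -25, 1, 51, -10, -1, -12, 0, 30, 15, 62, -1, -56, 0, 0, -24, 0, 0])))))) (.node (.node (.node (.node (.node (.node (.leaf []) (.leaf [3594328,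 3413457, 6203794, 169041, -28735179, 12544556, 695268, 5472081, -3666, 6264079, -16022090, -19872374, 204, 15206275, 557171, -165593, 7264675, 865661, 14])) (.leaf [2, 7, 11, 0, -31, -6, -1, 20, 0, -21, 1, -44, 0, 39, -1, 0, 13, 0, 0])) (.node (.leaf [-6467, -4749, -9182, -283, 46402, -20083, -1173, -9723, 0, -8658, 26021, 32493, 1, -25810, -762, 282, -11934, -1545, 0]) (.leaf [-449324, -362100, -689777, -20225, 3351583, -1457589, -83304, -677297, 363, -664257, 1873819, 2335255, -11, -1833663, -56177, 19875, -853655, -106633, -1]))) (.node (.node (.leaf [33212674, 29307986, 54296917, 1508403, -256957728, 111998921, 6312864, 50254320, -24993, 53752466, -143507331, -178329942, -285, 138024075, 4685302, -1483012, 65181490, 7975939, -113]) (.leaf [933562081, 723313626, 1392870156, 40774314, -6851602541, 2976869595, 171972822, 1402725984, -509349, 1327023001, -3834774539, -4782886875, -42587, 3776639210, 111003804, -40213634, 1747977467, 222202628, -8745])) (.node (.leaf []) (.leaf [-1048644, -1164408, -2031065, -50980, 8988787,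 -3940394, -212607, -1607997, 1113, -2133039, 5001174, 6173532, -36, -4599546, -196935, 49902, -2256179, -257324, 1])))) (.node (.node (.node (.leaf []) (.leaf [0, 0, 0, 1, 0, 0, 0, 0, 0, 0, 0, 0, 0, 0, 0, 0, 0, 0, 0])) (.node (.leaf []) (.leaf [0, 1, 0, 0, 0, 0, 0, 0, 0, 0, 0, 0, 0, 0, 0, 0, 0, 0, 0]))) (.node (.node (.leaf []) (.leaf [])) (.node (.leaf [-3166823569, -2378390229, -4625462730, -137510495, 22964828114, -9970021009, -578852136, -4751624889, 1743183, -4362854647, 12858412058, 16052922039, 133167, -12734849110, -360963731, 135619901, -5867227379, -751276230, 14244]) (.leaf [1735187419, 1313024781, 2547496516, 75515737, -12619559512, 5479680449, 317703201, 2604556801, -976168, 2408567479, -7065038732, -8818420640, -68794, 6987949885, 199811567, -74463181, 3223095605, 411833832, -7594]))))) (.node (.node (.node (.node (.node (.leaf [0, 0, 0, 0, 0, 1, 0, 0, 0, 0, 0, 0, 0, 0, 0, 0, 0, 0, 0]) (.leaf [-1529912, -1508801, -2712990, -71331, 12432224, -5432110, -299891, -2332230, 1240, -2768951, 6929745, 8583905, 17, -6526509,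 -248721, 70051, -3136800, -371973, 24])) (.leaf [-138860930, -107669393, -207306961, -6081736, 1019454770, -442927960, -25568493, -208680489, 81990, -197491468, 570519390, 711627726, 4909, -561871478, -16523270, 5994230, -260095704, -33015971, 607])) (.node (.leaf [0, 0, 0, 1, 0, 0, 0, 0, 0, 0, 0, 0, 0, 0, 0, 0, 0, 0, 0]) (.leaf [22302, -181920, -229058, -692, 555038, -261371, -7650, 19587, -77, -330695, 296533, 332199, 57, -104607, -38079, 694, -119792, -1080, 18]))) (.node (.node (.leaf [-359101, -350982, -632291, -16037, 2893413, -1263107, -70317, -543705, 147, -639804, 1612780, 2001795, 55, -1523308, -57243, 15828, -730344, -87844, 7]) (.leaf [3306978002, 2683569007, 5095324507, 146730278, -24717422556, 10750959577, 615369738, 4981003332, -2186043, 4921060396, -13822225425, -17219427579, -77055, 13502531535, 418034354, -144463826, 6293885348, 788554972, -3353])) (.node (.leaf [-13443771, -13392035, -24006967, -636984, 109686206, -47952265, -2637513, -20500971, 13596, -24561247, 61129906, 75693306, -549, -57450279, -2212930,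 624035, -27674216, -3256016, -98]) (.leaf [6, 26, 98, -1, -224, 101, -2, 12, 0, 93, -109, -134, 1, 107, 3, 0, 23, 1, 0])))) (.node (.node (.node (.leaf [0, 0, 0, 1, 0, 0, 0, 0, 0, 0, 0, 0, 0, 0, 0, 0, 0, 0, 0]) (.leaf [-8, -6, -5, 0, -3, 0, 0, 2, 0, 6, 0, 6, 0, 0, 0, 0, -3, 0, 0])) (.node (.leaf [369644, 350043, 636708, 17492, -2952808, 1289053, 71409, 563061, -402, 642747, -1646459, -2042004, 28, 1563372, 57152, -17118, 746670, 88880, 0]) (.leaf [399022, 358239, 659298, 16091, -3069834, 1335469, 76561, 594142, 146, 643100, -1712971, -2139184, -160, 1648452, 56092, -16072, 778394, 97902, -5]))) (.node (.node (.leaf [4514, 3968, 7244, 207, -35398, 15370, 861, 7021, -3, 7389, -19782, -24486, 0, 18960, 697, -204, 9049, 1089, 0]) (.leaf [10786220378, 8684913615, 16529335035, 477812801, -80369104393, 34950099989, 2003085900, 16240158752, -7128007, 15925560246, -44947897269, -56008731770, -244888, 43971572908, 1349404236, -470441047, 20472133356, 2569850374, 1141])) (.node (.leaf [36999959, 29773695, 56673207, 1642645, -275766004,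 119927648, 6872475, 55745031, -24592, 54647556, -154240429, -192152592, -622, 150874272, 4632772, -1617324, 70244698, 8816155, -107]) (.leaf [364457422, 296556509, 562512894, 16064802, -2726205956, 1185852859, 67946061, 548705067, -203697, 543785987, -1524690840, -1899158352, -18393, 1488445318, 46228857, -15839029, 693990596, 87140137, -3683]))))))) (.node (.node (.node (.node (.node (.node (.node (.leaf [0, -1, 0, 0, 0, -1, 0, 0, 0, 0, 0, 0, 0, 0, 1, 0, 0, 0, 0]) (.leaf [17663464, 8663278, 19701643, 716488, -111460048, 47944442, 2970387, 26159731, -6718, 16014631, -62801495, -79185436, -489, 66472937, 1079323, -709216, 28972871, 4070278, -65])) (.leaf [0, 0, 0, 1, 0, 0, 0, 0, 0, 0, 0, 0, 0, 0, 0, 0, 0, 0, 0])) (.node (.leaf [-935156, -1149637, -1956922, -45428, 8403017, -3694159, -196752, -1436976, 624, -2102788, 4671048, 5747010, 91, -4202766, -197946, 44678, -2097559, -234647, 35]) (.leaf [-4412087350, -3765453801, -7043136156, -198284309, 33667195552, -14662557508, -831940976, -6664360721, 3009193, -6908745109, 18814124963,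 23399696028, 88167, -18206065356, -596324062, 195148132, -8552482682, -1057550942, 38817]))) (.node (.node (.leaf []) (.leaf [-506664, -722414, -1189345, -24960, 4915656, -2170970, -113034, -785436, 132, -1324816, 2729818, 3336768, 102, -2373246, -128176, 24692, -1217696, -131305, 34])) (.node (.leaf [-9, 22, 38, 0, -159, 64, 0, 24, 0, 57, -72, -93, 0, 68, 3, 0, 34, -3, 0]) (.leaf [522070, 580217, 1011912, 25389, -4476697, 1962512, 105873, 800483, -555, 1062825, -2490696, -3074523, 18, 2290296, 98119, -24849, 1123566, 128120, -2])))) (.node (.node (.node (.node (.leaf [1, 0, 1, 0, 0, 1, 0, -1, 0, 0, 0, 0, 0, 0, 0, 0, 0, 0, 0]) (.leaf [0, 0, 0, 0, 0, 0, 0, 0, 0, 0, 0, 0, 0, 0, 0, 1, 0, 0, 0])) (.leaf [])) (.node (.leaf [0, 0, 0, 1, 0, 0, 0, 0, 0, 0, 0, 0, 0, 0, 0, 0, 0, 0, 0]) (.leaf [456457, 516409, 896190, 22256, -3945157, 1730323, 93111, 700263, -491, 945348, -2194688, -2707560, 9, 2010294, 87737, -21771, 989512, 112329, -3]))) (.node (.node (.leaf []) (.leaf [-132090, -126357, -229277, -6201, 1057689, -461713, -25582,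 -200787, 134, -231176, 589500, 731671, -4, -559167, -20561, 6073, -267341, -31811, -2])) (.node (.leaf [-3053185419, -2612819775, -4883261456, -137279675, 23318978072, -10156110568, -575866791, -4611347760, 2137797, -4791617950, 13029880123, 16206492411, 57775, -12603986655, -413876965, 135072305, -5923423782, -731576121, 11798]) (.leaf [-5539512555, -4262829173, -8226770709, -241959650, 40547889083, -17613905540, -1018310629, -8321183791, 3166731, -7819182557, 22695022801, 28313903895, 218157, -22380472040, -652510209, 238547292, -10348407394, -1316652417, 27470]))))) (.node (.node (.node (.node (.node (.leaf []) (.leaf [-7398, -5672, -10898, -315, 54351, -23584, -1366, -11187, 0, -10479, 30429, 37898, 0, -29968, -892, 315, -13904, -1768, 0])) (.leaf [9, 3, 0, 0, 11, 1, 0, -5, 0, -3, -1, 4, 0, -9, 2, 0, 1, 0, 0])) (.node (.leaf [-1449, -1876, -3237, -72, 14658, -6445, -311, -2488, 0, -3942, 8190, 9736, 0, -7140, -409, 72, -3576, -403, 0]) (.leaf [0, 0, 0, 1, 0, 0, 0, 0, 0, 0, 0, 0, 0, 0, 0, 0, 0, 0, 0]))) (.node (.node (.leaf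 [855744, 800473, 1461591, 41329, -6813598, 2974550, 164466, 1306503, -1149, 1474177, -3799741, -4711068, 141, 3615240, 130748, -40331, 1724077, 204406, 10]) (.leaf [1779523, 1172023, 2380818, 74831, -12297991, 5324294, 316125, 2653571, -718, 2152867, -6901368, -8643247, -126, 6986117, 169108, -73992, 3159086, 418389, 5])) (.node (.leaf [33212711, 29308396, 54297555, 1508409, -256957559, 111998781, 6312870, 50254050, -24993, 53752397, -143507035, -178330248, -285, 138024015, 4685252, -1483018, 65181450, 7975921, -113]) (.leaf [81055, 78061, 142009, 3936, -652525, 284247, 15537, 124016, -130, 142288, -362766, -451637, 3, 345255, 12781, -3809, 164980, 19262, 0])))) (.node (.node (.node (.leaf []) (.leaf [])) (.node (.leaf [-238696, -222723, -406481, -11555, 1900929, -830002, -45933, -365043, 315, -411205, 1060562, 1313799, -41, -1008561, -36541, 11279, -481138, -57105, 2]) (.leaf [26, -603, -977, -10, 815, -309, 4, 315, 0, -558, 214, 760, 1, -135, -26, 9, -123, 14, 0]))) (.node (.node (.leaf [-33992, -25816, -50107, -1512, 247522,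 -107536, -6213, -51006, 27, -47373, 138557, 172917, 0, -136965, -3923, 1485, -63184, -8034, 0]) (.leaf [2071001560, 1688562344, 3201436489, 91963700, -15509496218, 6746832716, 385908918, 3120205053, -1354152, 3096988140, -8672749519, -10802197291, -51224, 8464276847, 263500406, -90551847, 3948271857, 494199433, -6477])) (.node (.leaf []) (.leaf [47477, 117555, 177139, 523, -602810, 266524, 13842, 67059, 472, 201215, -330065, -408756, -190, 256978, 20571, -790, 144757, 15977, -14])))))) (.node (.node (.node (.node (.node (.node (.leaf []) (.leaf [-36820734, -31409086, -58753832, -1653148, 280828318, -122306547, -6939776, -55593116, 25320, -57605001, 156933306, 195198390, 776, -151880210, -4970094, 1626930, -71343747, -8821366, 123])) (.leaf [2132, 2775, 4840, 108, -21916, 9629, 466, 3726, 0, 5907, -12231, -14534, 0, 10695, 599, -108, 5314, 606, 0])) (.node (.leaf [78306148, 79879402, 142296786, 3705207, -645384140, 282314655, 15485928, 119457336, -72015, 146417088, -359594485, -444968706, 903, 336340788, 13261685, -3633846,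 162625911, 19060543, -249]) (.leaf [112517, 85784, 166530, 4966, -824059, 358063, 20606, 169401, -76, 158852, -461301, -574717, 0, 455127, 13200, -4890, 210080, 26728, 0]))) (.node (.node (.leaf []) (.leaf [1122749690, 1213461111, 2130619750, 54313281, -9510729219, 4166742342, 225932175, 1720735317, -1141385, 2226368290, -5294644087, -6538306620, 40154, 4894416728, 204456452, -53201068, 2389928414, 274913482, -10982])) (.node (.leaf [0, 0, 0, 0, 0, 1, 0, 0, 0, 0, 0, 0, 0, 0, 0, 0, 0, 0, 0]) (.leaf [-3798131, -2351383, -4870566, -147748, 25580099, -11052179, -670695, -5617152, -1215, -4289586, 14376779, 18052365, 1049, -14704292, -327043, 147840, -6586995, -901927, 74])))) (.node (.node (.node (.leaf []) (.leaf [2, -15, -16, 0, 2, -3, 0, 13, 0, -15, 0, 3, 0, 12, 0, 0, 1, -1, 0])) (.node (.leaf []) (.leaf [630707, 856773, 1425033, 24587, -5846654, 2567784, 138657, 944278, 1033, 1526835, -3241510, -4009210, -561, 2868793, 145548, -25012, 1451447, 167245, -47]))) (.node (.node (.leaf [9, 9, 2, 0, 19, 1, 0, -5, 0, -3, -1, 4, 0,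 -15, 2, 0, -1, 0, 0]) (.leaf [0, 1, 0, 0, 1, -1, 0, 0, 0, 0, 0, 0, 0, -1, 1, 0, 0, 0, 0])) (.node (.leaf [-31563729, -27376287, -50970319, -1426922, 242455986, -105629985, -5972274, -47718789, 23346, -50210194, 135441640, 168396825, 314, -130693691, -4354887, 1403188, -61552384, -7567763, 74]) (.leaf [80161321, 73772542, 135060152, 3677211, -631164644, 275365952, 15403926, 121537171, -64170, 135202143, -352240391, -437253753, -297, 336150492, 11927090, -3612564, 159812387, 19321965, -180]))))) (.node (.node (.node (.node (.node (.leaf []) (.leaf [-538160, -595567, -1039828, -26125, 4606037, -2019007, -108997, -825066, 563, -1091166, 2562826, 3163865, -17, -2358658, -100627, 25578, -1156202, -132014, 1])) (.leaf [6130, 4719, 9155, 281, -45429, 19768, 1140, 9336, -6, 8853, -25453, -31615, -1, 25035, 722, -273, 11543, 1474, -1])) (.node (.leaf [0, 0, 0, 0, 0, 1, 0, 0, 0, 0, 0, 0, 0, 0, 0, 0, 0, 0, 0]) (.leaf [12464144678, 9570629104, 18482498651, 543812666, -91159906648, 39597965775, 2290555149, 18721169160, -6943980, 17557403121,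 -51026328128, -63660836672, -523798, 50336097539, 1464078678, -536258853, 23266841222, 2963068109, -86035]))) (.node (.node (.leaf []) (.leaf [22463, 19718, 36091, 960, -174272, 76223, 4365, 34144, 0, 36792, -97764, -120499, 0, 93204, 3212, -960, 44276, 5493, 0])) (.node (.leaf [16455755, 7290603, 17323170, 649452, -100787167, 43244968, 2720871, 24252279, -4652, 13419780, -56844033, -71913531, -996, 61066696, 836357, -643932, 26301227, 3773830, 128]) (.leaf [60681775, 44371634, 87045172, 2624260, -435717759, 189043577, 11022723, 90966663, -33427, 81421414, -244059148, -304909893, -2249, 242846213, 6671572, -2588331, 111451885, 14360263, -253])))) (.node (.node (.node (.leaf []) (.leaf [-191363, -137810, -271396, -8307, 1368162, -593564, -34677, -287299, 108, -253588, 766819, 957544, 5, -764317, -20745, 8194, -350260, -45224, 0])) (.node (.leaf [-1039633136, -910235083, -1690070336, -47082907, 8016525184, -3493414683, -197219895, -1572297828, 765234, -1669315044, 4477700669, 5565591549, 12444, -4312975104, -145173911, 46301325,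 -2034247236, -249537509, 3904]) (.leaf [-2895, -1979, -3998, -133, 22369, -9810, -537, -4680, 1, -4590, 12701, 15084, -3, -12153, -412, 135, -5624, -738, 0]))) (.node (.node (.leaf [236118, 181324, 350310, 10449, -1729585, 751437, 43321, 355359, -163, 333380, -968015, -1207206, 0, 954729, 27832, -10286, 441476, 55907, 0]) (.leaf [498748, 474695, 861931, 23222, -3988494, 1741542, 96720, 758520, -442, 870731, -2224277, -2758440, 14, 2109701, 77310, -22791, 1008056, 120484, -3])) (.node (.leaf [-6155749, -6681794, -11720122, -297676, 52223138, -22879547, -1239312, -9430812, 6408, -12246861, 29066326, 35901042, -198, -26854176, -1125562, 291471, -13121964, -1506511, -5]) (.leaf [31760, 30179, 54453, 1416, -253989, 111249, 6255, 48158, 0, 55980, -142153, -175244, 0, 133862, 4949, -1416, 64147, 7817, 0])))))))) (.node (.node (.node (.node (.node (.node (.node (.node (.leaf []) (.leaf [28, 25, 58, -1, -77, 25, 1, -2, 0, -3, -24, -80, 2, 53, 0, 0, 25, -2, 0])) (.leaf [-3564940, -3180079, -5887519, -174339, 27874425, -12156236, -674826,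 -5446014, 5694, -5872453, 15552539, 19301625, -888, -14931033, -514799, 169616, -7070264, -842502, -83])) (.node (.leaf []) (.leaf [660500270, 502321389, 973024521, 28795544, -4812965300, 2090175627, 121066500, 991682319, -379071, 921457881, -2694327899, -3362470842, -24493, 2662525240, 76582206, -28389624, 1229000863, 156797263, -2355]))) (.node (.node (.leaf []) (.leaf [0, 1, 0, 0, 0, 0, 0, 0, 0, 0, 0, 0, 0, 0, 0, 0, 0, 0, 0])) (.node (.leaf []) (.leaf [-522042, -580211, -1011894, -25390, 4476719, -1962508, -105873, -800487, 555, -1062849, 2490696, 3074511, -18, -2290290, -98119, 24852, -1123569, -128122, 1])))) (.node (.node (.node (.node (.leaf []) (.leaf [7664026, 8278976, 14539509, 370340, -64873924, 28418408, 1540575, 11738523, -7976, 15174552, -36109700, -44607672, 252, 33394773, 1393096, -362625, 16304422, 1874318, 9])) (.leaf [-37184, -28246, -54792, -1649, 270766, -117620, -6798, -55794, 24, -51828, 151580, 189156, 0, -149808, -4304, 1626, -69130, -8800, 0])) (.node (.leaf []) (.leaf [-89566, -85368, -155178, -4197,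 716696, -312850, -17325, -136215, 87, -156431, 399450, 495729, -5, -379147, -13884, 4114, -181114, -21561, 0]))) (.node (.node (.leaf []) (.leaf [])) (.node (.leaf [0, 0, 0, 0, -1, 0, 0, 0, 0, 0, 0, 0, 0, 1, 0, 0, 0, 0, 0]) (.leaf []))))) (.node (.node (.node (.node (.node (.leaf [-1, 0, 0, -1, 0, 0, 0, 0, 1, 0, 0, 0, 0, 0, 0, 0, 0, 0, 0]) (.leaf [-35, 71, 129, 1, -366, 171, -3, -18, 0, 246, -190, -162, 0, 69, 25, 0, 51, 1, 0])) (.leaf [-201, -225, -389, -9, 1850, -785, -38, -350, 0, -417, 1007, 1266, 0, -957, -45, 9, -476, -48, 0])) (.node (.leaf []) (.leaf [17919343, 15879080, 29384654, 817629, -138919448, 60557041, 3408726, 27132474, -14277, 29130700, -77576966, -96385410, 87, 74554626, 2542891, -803405, 35234098, 4301347, -34]))) (.node (.node (.leaf [-1007798682, -882263944, -1638188827, -45637318, 7770649722, -3386253991, -191175819, -1524133329, 741108, -1618003325, 4340370047, 5394927993, 12268, -4180794330, -140706168, 44880139, -1971864049, -241896654, 3803]) (.leaf [-706620, -460292, -939668, -29552, 4860016, -2102031,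 -125013, -1052748, 251, -842292, 2726422, 3419913, 86, -2768802, -65892, 29211, -1248983, -166054, 4])) (.node (.leaf []) (.leaf [42, 308, 677, 9, -2470, 1130, 29, 173, 0, 1104, -1347, -1351, 0, 943, 72, -9, 423, 77, 0])))) (.node (.node (.node (.leaf []) (.leaf [-988987429, -785582362, -1501222696, -43524398, 7329633934, -3186463816, -183209967, -1487904124, 585161, -1441048683, 4100565042, 5110979250, 36765, -4020660534, -121563152, 42895581, -1867956118, -235721904, 6891])) (.node (.leaf []) (.leaf [-3178877293, -2460875102, -4740284519, -139059808, 23323936679, -10133508860, -585258087, -4776794406, 1820519, -4514651417, 13053760684, 16282031526, 123517, -12858472647, -377549207, 137095881, -5950914852, -756047601, 19892]))) (.node (.node (.leaf [-1, 0, 0, -1, 0, 0, 0, 0, 1, 0, 0, 0, 0, 0, 0, 0, 0, 0, 0]) (.leaf [68397, 62348, 114001, 3207, -540072, 235471, 13113, 104745, -75, 115399, -301579, -373477, 8, 287624, 10385, -3140, 137044, 16456, 0])) (.node (.leaf []) (.leaf [-13880112, -15104664, -26476981, -671614, 117891634,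 -51652897, -2796639, -21267603, 14484, -27683721, 65613591, 81036186, -450, -60588594, -2545839, 657588, -29619011, -3397966, -8])))))) (.node (.node (.node (.node (.node (.node (.leaf [0, 1, 0, 0, 0, 0, 0, 0, 0, 0, 0, 0, 0, 0, 0, 0, 0, 0, 0]) (.leaf [-3158, -2391, -4569, -135, 23167, -10036, -589, -4815, 0, -4410, 12971, 16158, 0, -12801, -377, 135, -5956, -756, 0])) (.leaf [53021, 50060, 90944, 2453, -423395, 184947, 10276, 80766, -42, 92343, -236364, -292597, 1, 224018, 8242, -2412, 107033, 12841, 0])) (.node (.leaf [33062688, 29173775, 54047326, 1499331, -255760720, 111475328, 6284985, 50018625, -24345, 53498234, -142840187, -177506601, -450, 137385346, 4662945, -1474411, 64877565, 7942501, -125]) (.leaf [3737998341, 2806298393, 5458374639, 162369651, -27101969937, 11765925060, 683075096, 5608441148, -2094623, 5147142369, -15174562331, -18945410611, -149762, 15030407886, 425778998, -160114711, 6924530078, 886487759, -10555]))) (.node (.node (.leaf [-11, -199, -311, -3, -86, 70, -3, 132, 0, 30, -148, 144, 0, 33, 25, 3,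 23, 10, 0]) (.leaf [-8, 0, 3, 0, -12, -1, -1, 2, 0, 6, 1, -5, 0, 6, 0, 0, 0, 0, 0])) (.node (.leaf [0, 2, 1, 0, 1, 0, 0, 0, 0, 0, 0, -1, 0, -1, 0, 0, 0, 0, 0]) (.leaf [-2582507728, -1834206353, -3631887014, -110063500, 18340299407, -7952060395, -466798650, -3864401889, 1049110, -3367196863, 10279856020, 12850865751, 180833, -10277168208, -272873373, 108792000, -4696096448, -611672850, 41557])))) (.node (.node (.node (.leaf []) (.leaf [2756, 2143, 4089, 121, -19469, 8480, 509, 3944, 2, 3686, -10897, -13723, 0, 10788, 283, -123, 4995, 649, 0])) (.node (.leaf [13323630, 11576003, 21532408, 593800, -102300643, 44569619, 2525657, 20108133, -7672, 21206666, -57156415, -71069037, -823, 55128984, 1839216, -585183, 25965664, 3206130, -122]) (.leaf [-423515, -541270, -913584, -20765, 3880040, -1707420, -90292, -652283, 290, -989646, 2155446, 2649071, 45, -1923769, -93785, 20413, -966672, -106848, 17]))) (.node (.node (.leaf [0, -1, 0, 0, -1, 0, 0, 0, 0, 0, 0, 0, 0, 1, 0, 0, 0, 0, 0]) (.leaf [665, 522, 852, 23, -4675, 1996, 114, 1020,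 -1, 855, -2653, -3312, 0, 2550, 126, -21, 1270, 153, 0])) (.node (.leaf [0, 0, 0, 0, 0, 1, 0, 0, 0, 0, 0, 0, 0, 0, 0, 0, 0, 0, 0]) (.leaf [17110511, 15167881, 28062079, 778669, -132645587, 57822819, 3256157, 25901068, -13111, 27821656, -74076281, -92034958, -69, 71182153, 2428836, -765436, 33641877, 4109985, -53]))))) (.node (.node (.node (.node (.node (.leaf []) (.leaf [1737221521, 1315613863, 2551847948, 75599997, -12637928678, 5487758490, 318141431, 2607625068, -973955, 2413243177, -7075257242, -8831007178, -70150, 6997068052, 200253982, -74548175, 3227671933, 412363261, -7717])) (.leaf [-17, 68, 92, -6, 129, -1, -1, -114, 0, 84, 48, 85, 0, -150, -2, 6, -63, -6, 0])) (.node (.leaf [-159, -55, -85, -6, 1128, -470, -36, -315, 0, -153, 663, 774, 0, -652, -31, 6, -323, -45, 0]) (.leaf [36901999, 31486452, 58894473, 1656999, -281477374, 122589856, 6955467, 55716540, -25410, 57746436, -157295032, -195647531, -771, 152223732, 4982651, -1630695, 71507843, 8840881, -123]))) (.node (.node (.leaf []) (.leaf [-30, -45, -34, -3, -40,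 15, 0, 9, 0, 39, -18, 33, 0, 8, 4, 3, -7, -4, 0])) (.node (.leaf []) (.leaf [-45101, -42466, -77182, -2118, 359572, -156978, -8724, -68756, 48, -78111, 200644, 248639, -3, -190464, -6982, 2073, -90995, -10871, 0])))) (.node (.node (.node (.leaf []) (.leaf [-35966, -33089, -60446, -1682, 282414, -123164, -6870, -54510, 37, -60285, 157594, 195837, 2, -150495, -5385, 1644, -71636, -8599, 0])) (.node (.leaf [-3744397798, -3554955473, -6454154093, -174257039, 29894250930, -13053365749, -725162679, -5690298531, 3372699, -6517789973, 16674276282, 20677647357, -69627, -15817666721, -579792857, 170966152, -7558735633, -903704359, -12185]) (.leaf [0, 2, 0, 0, 1, 0, 0, 0, 0, 0, 0, 0, 0, -1, 0, 0, 0, 0, 0]))) (.node (.node (.leaf []) (.leaf [1510917, 1006697, 2035445, 63185, -10475304, 4535936, 269286, 2252070, -473, 1846380, -5878180, -7360818, -150, 5939118, 145867, -62556, 2689912, 356185, -6])) (.node (.leaf []) (.leaf [4069, 3571, 6573, 182, -31749, 13869, 785, 6243, -1, 6711, -17807, -21943, 1, 16979, 607, -181, 8058, 988, 0])))))))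 (.node (.node (.node (.node (.node (.node (.node (.leaf []) (.leaf [-264905, -252443, -458371, -12392, 2118521, -924639, -51268, -402814, 253, -462153, 1180886, 1465586, -8, -1120735, -41132, 12148, -535626, -63833, -1])) (.leaf [15317, 14007, 25270, 678, -119794, 52439, 3018, 23127, 0, 25701, -67163, -82926, 0, 63635, 2266, -678, 30458, 3743, 0])) (.node (.leaf []) (.leaf [-4, 39, 55, 0, -49, 15, 0, -17, 0, 27, -6, -48, 0, 9, 0, 0, 13, -3, 0]))) (.node (.node (.leaf [-6, -4, 0, 0, -4, 0, 0, 0, 0, 6, 0, 3, 0, 1, 0, 0, -3, 0, 0]) (.leaf [-3837426, -2956158, -5703672, -168824, 28124928, -12218342, -705351, -5771721, 2409, -5429080, 15741169, 19633086, 77, -15517949, -453705, 166333, -7177955, -910954, 5])) (.node (.leaf [2, -30, -46, 0, 45, -12, 0, 10, 0, -18, 6, 45, 0, -15, 0, 0, -12, 3, 0]) (.leaf [-117431, -111096, -202235, -5573, 937381, -409208, -22664, -178781, 132, -203853, 522597, 648343, -7, -496481, -18095, 5451, -237039, -28184, -3])))) (.node (.node (.node (.leaf [0, 0, 0, 1, 0, 0, 0, 0, 0, 0, 0, 0, 0, 0, 0, 0,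 0, 0, 0]) (.leaf [4511, 3971, 7273, 201, -35373, 15375, 861, 6997, 0, 7419, -19788, -24468, 0, 18939, 697, -201, 9015, 1097, 0])) (.node (.leaf [-422596, -400697, -728592, -19941, 3377107, -1474302, -81687, -643572, 447, -735623, 1883031, 2335425, -29, -1787591, -65420, 19525, -853872, -101685, -2]) (.leaf [-2047568, -1580115, -3045289, -88465, 14989399, -6513978, -377166, -3070806, 865, -2898152, 8392827, 10466415, 176, -8267534, -241776, 87409, -3823847, -488160, 16]))) (.node (.node (.leaf []) (.leaf [-10371, 599, -4930, -1449, 58134, -25362, -1053, -18708, 255, -2886, 32763, 39637, -80, -39231, 129, 1281, -15957, -972, -7])) (.node (.leaf [-1032147686, -818000897, -1564269855, -45401835, 7642653660, -3322359493, -191096448, -1552672131, 610190, -1500515355, 4275821430, 5329780569, 38234, -4194238191, -126483267, 44746464, -1947932552, -245953679, 6948]) (.leaf [577122, 736894, 1242078, 23829, -5209648, 2286627, 123834, 868683, 559, 1321880, -2892078, -3575571, -369, 2590401, 124811, -23986, 1297646, 149872, -33])))))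 (.node (.node (.node (.node (.node (.leaf [0, 1, 0, 0, 1, 0, 0, 0, 0, 0, 0, 0, 0, -1, 0, 0, 0, 0, 0]) (.leaf [56, -99, -177, 0, 483, -223, 4, 18, 0, -321, 244, 221, 0, -102, -24, 0, -60, -4, 0])) (.leaf [0, 0, 0, 1, 0, 0, 0, 0, 0, 0, 0, 0, 0, 0, 0, 0, 0, 0, 0])) (.node (.leaf [5, -7, -5, 0, 19, -19, 1, 3, 0, -27, 18, 0, 0, 6, 0, 0, 2, 0, 0]) (.leaf [-1580, -926, -1712, -63, 9720, -4160, -282, -2349, 0, -1287, 5498, 7097, 0, -5764, -125, 63, -2669, -336, 0]))) (.node (.node (.leaf [-14580116, -14863481, -26481091, -691484, 120152695, -52559650, -2881596, -22248021, 13999, -27249732, 66945466, 82836810, -327, -62622894, -2468512, 677849, -30279814, -3545201, -37]) (.leaf [-1559756, -1049753, -2113501, -65226, 10852940, -4701873, -278916, -2325357, 459, -1927278, 6090848, 7621314, 139, -6139875, -152909, 64623, -2785885, -368222, 5])) (.node (.leaf []) (.leaf [-65537, 26824, 4598, -2158, 198320, -78350, -7515, -92496, 32, 48902, 116614, 160551, -10, -188034, 8184, 2141, -59176, -13113, -5])))) (.node (.node (.node (.leaf [-5,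 22, 44, 0, -123, 63, 1, 1, 0, 69, -67, -63, 0, 36, 4, 0, 18, 0, 0]) (.leaf [33123607, 19261764, 40933803, 1355120, -219584676, 94769532, 5745471, 49183605, -9480, 35390843, -123434046, -155125154, -2705, 127496984, 2623640, -1342624, 56698964, 7736249, -311])) (.node (.leaf []) (.leaf [267369, 255129, 463861, 12549, -2140422, 934507, 51736, 406338, -261, 467829, -1193010, -1480251, 9, 1131918, 41459, -12297, 540669, 64434, 0]))) (.node (.node (.leaf [-6, -5, -3, 0, -10, 1, 0, 3, 0, 3, 0, 0, 0, 7, -2, 0, 0, 0, 0]) (.leaf [0, 0, 0, 1, 0, 0, 0, 0, 0, 0, 0, 0, 0, 0, 0, 0, 0, 0, 0])) (.node (.leaf []) (.leaf [0, 1, 0, 0, 0, 0, 0, 0, 0, 0, 0, 0, 0, 0, 0, 0, 0, 0, 0])))))) (.node (.node (.node (.node (.node (.node (.leaf []) (.leaf [1, 0, 4, 0, 1, -1, 1, -4, 0, 0, 2, 0, 0, -1, 0, 0, 0, 0, 0])) (.leaf [-2, 49, 114, 0, -232, 97, -5, -6, 0, 123, -110, -138, 0, 81, 13, 0, 28, 4, 0])) (.node (.leaf [-7, -8, -1, 0, -19, -1, -1, 4, 0, 3, 1, -4, 0, 15, -1, 0, 1, 0, 0]) (.leaf [56767114, 50533261, 93400601, 2591221, -440907377, 192214119,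 10811243, 85965027, -45054, 92694196, -246192527, -305857828, 140, 236412642, 8100542, -2546186, 111800565, 13634074, -120]))) (.node (.node (.leaf [3744160425, 3554742890, 6453760802, 174244753, -29892382005, 13052549756, 725117847, 5689933128, -3372177, 6517394165, -16673233388, -20676356073, 69517, 15816667785, 579758034, -170954269, 7558261534, 903648929, 12176]) (.leaf [17, -67, -92, 6, -127, -1, 1, 114, 0, -84, -48, -85, 0, 148, 4, -6, 63, 6, 0])) (.node (.leaf []) (.leaf [436570, 498646, 863639, 21308, -3792000, 1663570, 89349, 670320, -450, 913368, -2109157, -2601009, 11, 1928133, 84870, -20865, 950494, 107638, -3])))) (.node (.node (.node (.leaf [354, 262, 646, 18, -3622, 1401, 36, 765, 0, 684, -1839, -2406, 0, 1993, 115, -18, 945, 56, 0]) (.leaf [232290322, 199494837, 372455222, 10437932, -1776501997, 773792374, 43861952, 350824413, -158325, 365807998, -992626360, -1234503445, -5723, 959526995, 31625383, -10272533, 451172171, 55703522, -1351])) (.node (.leaf [6391, 4848, 9338, 276, -46375, 20133, 1171, 9559, 0,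 8871, -25993, -32409, 0, 25632, 758, -276, 11872, 1526, 0]) (.leaf [384375463, 387908241, 693576359, 18812085, -3152032320, 1378019017, 75032460, 586800519, -626290, 708598927, -1754181079, -2174583237, 66897, 1647579924, 63995715, -18287046, 795774517, 91708068, 34354]))) (.node (.node (.leaf []) (.leaf [-175557, -168329, -305661, -8242, 1406375, -613990, -33991, -266499, 173, -307762, 783635, 972945, -3, -743358, -27264, 8072, -355253, -42273, 0])) (.node (.leaf [6251287193, 4903112559, 9406615001, 274625721, -46100170308, 20035139241, 1154146191, 9399636468, -3776850, 8993316802, -25794609804, -32163681288, -206855, 25351201880, 755427513, -270618635, 11755812912, 1487520145, -23382]) (.leaf [-2887084, -3071770, -5415052, -139132, 24271360, -10627864, -577608, -4419358, 3003, -5631696, 13512743, 16699965, -96, -12535026, -515465, 136236, -6104563, -704692, -11]))))) (.node (.node (.node (.node (.node (.leaf []) (.leaf [6155756, 6681794, 11720119, 297675, -52223128, 22879547, 1239312, 9430817, -6408, 12246849, -29066326,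 -35901042, 198, 26854176, 1125562, -291471, 13121964, 1506509, 7])) (.leaf [])) (.node (.leaf []) (.leaf [-41277516, -82958081, -129133014, -2498892, 490405605, -218123058, -10476693, -66709950, 77940, -151923535, 270309754, 327656692, -4693, -218820849, -15396376, 2423606, -119660133, -11084970, 2040]))) (.node (.node (.leaf [0, -1, 0, 0, -1, 0, 0, 0, 0, 0, 0, 0, 0, 1, 0, 0, 0, 0, 0]) (.leaf [1559989, 1050019, 2114167, 65229, -10855399, 4702811, 278914, 2325744, -459, 1927815, -6092003, -7622976, -139, 6141189, 152993, -64626, 2786493, 368227, -5])) (.node (.leaf [7534498, 5888967, 11309686, 331078, -55513368, 24126088, 1390556, 11333497, -4352, 10812432, -31066631, -38730772, -276, 30543825, 907700, -326408, 14157337, 1793141, -42]) (.leaf [-405069, -469590, -810482, -19841, 3543121, -1554952, -83293, -622404, 425, -859860, 1970201, 2428767, -10, -1795749, -80124, 19422, -887510, -100029, 4])))) (.node (.node (.node (.leaf []) (.leaf [-140468583, -108745905, -209479866, -6153949, 1030690176, -447797853, -25854162, -211097424,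 83655, -199485996, 576822510, 719502759, 4641, -568224926, -16682407, 6065073, -262982928, -33389560, 580])) (.node (.leaf [0, -1, 0, 0, -1, 0, 0, 0, 0, 0, 0, 0, 0, 1, 0, 0, 0, 0, 0]) (.leaf []))) (.node (.node (.leaf [-49815724, -46522617, -84833602, -2298115, 394812899, -172328664, -9611367, -75606424, 40755, -85305367, 220298127, 273302691, 12, -209614110, -7554609, 2257229, -99893549, -12022556, 119]) (.leaf [690143453, 573935297, 1081737126, 30794326, -5209663357, 2267365689, 129236992, 1040791623, -461869, 1052593309, -2912303508, -3625313702, -16085, 2832037835, 90119664, -30313760, 1325045548, 164974167, -2612])) (.node (.leaf []) (.leaf [-4300526306, -3145985419, -6169636145, -184922851, 30877053984, -13396956432, -782041440, -6443939538, 2012666, -5773150770, 17297645388, 21608213910, 252591, -17207346400, -473093242, 182608110, -7896774692, -1019791165, 49484])))))))))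

def threeL6 : Janko.Tree (List ℤ) :=
  (.node (.node (.node (.node (.node (.node (.node (.node (.node (.leaf []) (.leaf [0, 81, 98, -3, 168, -23, 0, -120, 0, 48, 72, 81, 0, -156, -6, 3, -59, -3, 0])) (.leaf [3272687732, 2518932105, 4860919921, 142905584, -23956529303, 10406679021, 601658460, 4915936773, -1858053, 4620271913, -13408696825, -16728433003, -132795, 13222392090, 385583143, -140897480, 6113971086, 777949883, -17256])) (.node (.leaf [-6, -9, -17, 0, 19, -3, 0, 0, 0, 3, 3, 24, 0, -15, 0, 0, -7, 0, 0]) (.leaf [-7121255979, -6463719080, -11880849029, -326982464, 55753120299, -24316955040, -1362374646, -10792712944, 6032171, -11849074602, 31119386000, 38644723513, -68002, -29777412165, -1041149620, 321054342, -14126552150, -1711538850, -36047]))) (.node (.node (.leaf [12, -24, -39, 0, 51, -13, 0, 3, 0, -24, 9, 42, 0, -18, 0, 0, -9, 3, 0]) (.leaf [455470353, 350828779, 676875118, 19921848, -3335367332, 1448912276, 83732163, 684291306, -268006, 643543817, -1866769633, -2328885822, -15847, 1840617476, 53723251, -19636330,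 851218269, 108226738, -1665])) (.node (.leaf [32, 257, 413, 11, 350, -209, 6, -190, -2, -171, 325, -123, 0, -90, -50, -9, -89, -4, 0]) (.leaf [0, 0, 2, 1, 0, 0, 0, 0, 0, 0, 0, 0, 0, 0, 0, -1, 0, 0, 0])))) (.node (.node (.node (.node (.leaf [6, 0, -1, 0, 11, -6, 0, 0, 0, -12, 6, 0, 0, 0, 0, 0, 1, 0, 0]) (.leaf [-9552603, -11119198, -19167477, -460596, 83625761, -36698591, -1969556, -14654049, 7995, -20333894, 46502107, 57335926, 461, -42351764, -1895868, 452058, -20940493, -2369446, 82])) (.leaf [30929, 23591, 45792, 1385, -225326, 97923, 5645, 46316, -23, 43245, -126111, -157410, 0, 124605, 3569, -1362, 57476, 7306, 0])) (.node (.leaf [0, 0, 1, 0, 0, 0, 0, 0, 0, 0, 0, 0, 0, 0, 0, 0, 0, 0, 0]) (.leaf [19779461, 15915317, 30294809, 872869, -147330299, 64072295, 3676452, 29772432, -11652, 29193913, -82410606, -102676854, -753, 80613633, 2472205, -860261, 37523459, 4720931, -203]))) (.node (.node (.leaf [8, -27, -66, -4, 6, -21, 0, 37, 1, -60, 15, 3, 0, 24, 0, 3, 30, -7, 0]) (.leaf [-205, 39, 65, -13, 1079, -429, -38, -408, 0,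 -21, 672, 747, 0, -717, -31, 13, -341, -63, 0])) (.node (.leaf [-3, -1, 0, 1, -4, -1, 0, 0, -2, 4, 1, 0, 1, 0, 0, 0, 0, 0, 0]) (.leaf [53787, 40894, 79223, 2365, -391839, 170192, 9838, 80743, -37, 75021, -219352, -273723, 0, 216741, 6250, -2328, 100077, 12729, 0]))))) (.node (.node (.node (.node (.node (.leaf [0, 3, 2, 0, -1, 0, 0, 0, 0, 0, 0, -3, 0, 0, 0, 0, 1, 0, 0]) (.leaf [-4056, -3709, -6758, -178, 31908, -13912, -784, -6190, -1, -6792, 17823, 22113, 0, -17013, -607, 179, -8103, -979, 0])) (.leaf [-95304591, -83099380, -154473758, -4312358, 733683397, -319682387, -18061209, -144123486, 69881, -152409120, 409828525, 509460099, 1062, -395059713, -13240859, 4241038, -186215649, -22867841, 377])) (.node (.leaf [155, -261, -571, 3, 967, -519, 6, 246, 0, -885, 478, 353, 0, -72, -26, -3, -10, -17, 0]) (.leaf [-3066394688, -2508829705, -4751673987, -136283535, 22995592847, -10004203638, -571866648, -4620632160, 2017281, -4601275805, 12858152020, 16013792028, 74433, -12541249632, -391920476, 134182635, -5853126218, -731920081,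 9186]))) (.node (.node (.leaf [13388376, 13350008, 23924547, 633431, -109268298, 47769872, 2627739, 20413539, -13306, 24480106, -60896454, -75404784, 468, 57220473, 2206096, -620684, 27567316, 3244153, 91]) (.leaf [-1164949, -1212308, -2148798, -54212, 9653430, -4222007, -231780, -1770457, 835, -2208469, 5374820, 6659002, 72, -5014452, -200534, 53287, -2430575, -285199, 18])) (.node (.leaf [0, 1, -1, -2, 0, 0, 0, 0, 0, 0, 0, -1, 0, 0, 0, 2, 0, 0, 0]) (.leaf [-311461, -379459, -646308, -15360, 2795001, -1228284, -65247, -481179, 322, -696177, 1553742, 1910577, -6, -1400037, -65828, 15039, -698787, -77593, 5])))) (.node (.node (.node (.leaf [-157, 338, 662, -6, -768, 502, -5, -389, 0, 957, -406, -228, 0, -126, 21, 6, -63, 14, 0]) (.leaf [1789010142, 1497708172, 2817126001, 79795734, -13541283035, 5894520277, 335747138, 2698692048, -1142222, 2747286710, -7569593816, -9420308078, -55416, 7351200612, 235707572, -78582739, 3442848014, 428309042, -15357])) (.node (.leaf [6, -23, -45, 0, 126, -61, 0, -3, 0, -69, 66, 66, 0, -39, -4,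 0, -18, 0, 0]) (.leaf [1, 0, 0, 0, 0, 0, 0, 0, 0, 0, 0, 0, 0, 0, 0, 0, 0, 0, 0]))) (.node (.node (.leaf [-17, -8, -16, 0, 19, -8, -1, -3, 0, 12, 9, 30, 0, -21, 0, 0, -10, 0, 0]) (.leaf [0, 0, 0, 0, 1, 0, 0, 0, 0, 0, 0, 0, 0, 0, 0, 0, 0, 0, 0])) (.node (.leaf [882, 1285, 2382, 45, -10096, 4428, 182, 1510, 0, 2968, -5541, -6526, 0, 4782, 277, -45, 2346, 272, 0]) (.leaf [-15, -9, -14, 1, 14, -4, 0, -6, 0, 15, 6, 30, 0, -21, 0, -1, -8, 0, 0])))))) (.node (.node (.node (.node (.node (.node (.leaf []) (.leaf [159463, 146787, 268085, 7808, -1266468, 552940, 30633, 245022, -234, 272327, -707211, -874858, 39, 673035, 24364, -7613, 321080, 38074, 0])) (.leaf [-9602, -7232, -13938, -412, 69373, -30101, -1756, -14340, -2, -13188, 38889, 48522, 0, -38403, -1131, 414, -17782, -2291, 0])) (.node (.leaf [0, 0, 0, 2, -2, 0, 0, 0, 0, 0, 0, 0, 0, 0, 0, -2, 2, 0, 0]) (.leaf [-74459268, -64793670, -120515034, -3365837, 572702546, -249533130, -14103264, -112575159, 54050, -118838207, 319921848, 397711689, 1046, -308498478, -10317323, 3310474,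 -145366825, -17864057, 267]))) (.node (.node (.leaf [1, 0, 0, 0, 1, 0, 0, 0, 0, -1, 0, 0, 0, 0, 0, 0, 0, 0, 0]) (.leaf [-2, -21, -29, 0, 23, -7, 0, 8, 0, -9, 3, 27, 0, -6, 0, 0, -8, 2, 0])) (.node (.leaf []) (.leaf [-124215, -97615, -187977, -5537, 917206, -398779, -22884, -186589, 91, -179447, 513045, 639739, 0, -504318, -14922, 5446, -233441, -29550, 0])))) (.node (.node (.node (.leaf [30, 18, 28, -1, -31, 8, 0, 12, 0, -30, -12, -60, 0, 42, 0, 1, 19, 0, 0]) (.leaf [1579733, 1752567, 3057473, 76783, -13536289, 5933646, 320202, 2422513, -1674, 3210660, -7531434, -9297027, 54, 6927756, 296448, -75159, 3397841, 387625, -4])) (.node (.leaf [278, 201, 384, 12, -2091, 855, 38, 456, 0, 363, -1135, -1462, 0, 1161, 62, -12, 567, 54, 0]) (.leaf [-1233657531, -1047995891, -1963002964, -55491868, 9394571078, -4090846386, -232151249, -1862868351, 898199, -1921905838, 5249684770, 6531145549, 13257, -5085369582, -165642084, 54579671, -2387305237, -295164918, 741]))) (.node (.node (.leaf []) (.leaf [-111, 56, 8, 0, 495, -140, 3, -191, 0,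 67, 232, 357, 0, -390, -26, 0, -172, -3, 0])) (.node (.leaf [1322548883, 1199899629, 2205632231, 60489443, -10352734507, 4515439604, 253252101, 2004129498, -1022604, 2200433755, -5779341633, -7175987320, -8961, 5529522822, 193321729, -59451197, 2622790585, 318468836, -6681]) (.leaf [-1320529, -599050, -1408843, -52392, 8138176, -3494719, -219030, -1946790, 399, -1103379, 4589329, 5801196, 82, -4913264, -69934, 51931, -2121567, -302917, -20]))))) (.node (.node (.node (.node (.node (.leaf []) (.leaf [-179433, -219696, -372895, -8317, 1620579, -712188, -38181, -278352, -5, -406350, 902321, 1106244, 44, -809778, -38633, 8256, -404502, -46024, 22])) (.leaf [-138257163, -107331673, -206575485, -6054688, 1015471762, -441208448, -25465622, -207776427, 81248, -196862961, 568280925, 708816730, 5019, -559547079, -16477375, 5967800, -259065689, -32878388, 621])) (.node (.leaf []) (.leaf [5054750026, 3860822728, 7468478275, 220404545, -36893530654, 16023599978, 927574603, 7590463094, -2858121, 7082117487, -20652047089, -25770389354, -202347,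 20392722678, 589471692, -217319213, 9418850251, 1200725413, -24864]))) (.node (.node (.leaf [-17467397, -15454229, -28612619, -796259, 135321757, -58986763, -3321450, -26443161, 13773, -28351682, 75569917, 93896226, -39, -72647205, -2473303, 782483, -34322886, -4192893, 42]) (.leaf [1195014512, 969662699, 1841412863, 53292305, -8930827683, 3884281679, 222034326, 1800131007, -907748, 1776878968, -4993151065, -6221950560, -2266, 4879334316, 150921485, -52397400, 2274600801, 284191847, 15109])) (.node (.leaf [17, 15, 23, 0, -26, 4, 0, 4, 0, -16, -5, -42, 0, 27, 0, 0, 15, 0, 0]) (.leaf [-259492, -300567, -517550, -7790, 2186815, -953452, -54335, -376527, -816, -522854, 1214024, 1519826, 360, -1117306, -47978, 8226, -546915, -68948, 20])))) (.node (.node (.node (.leaf [1152445421, 1016850484, 1883820938, 52265965, -8914820648, 3885599768, 219070308, 1743496236, -849879, 1864701652, -4978863738, -6187176735, -15238, 4788741801, 162529380, -51396380, 2261391822, 276840683, -4468]) (.leaf [-72271, -67607, -123209, -3395, 574856,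 -250923, -13933, -110184, 74, -124424, 320739, 397573, -8, -304961, -11064, 3329, -145466, -17399, 0])) (.node (.leaf [6385, 4842, 9347, 290, -46378, 20131, 1171, 9559, 0, 8877, -25993, -32403, 0, 25632, 758, -290, 11869, 1528, 0]) (.leaf []))) (.node (.node (.leaf [-4, 6, 0, 0, 4, 0, 0, 2, 0, 4, -1, 0, 0, -6, 0, 0, -2, 0, 0]) (.leaf [10793317104, 8691376492, 16541202735, 478138892, -80424778111, 34974385187, 2004445705, 16250924211, -7133734, 15937421180, -44978974466, -56047308603, -244878, 44001282828, 1350448456, -470761423, 20486236212, 2571558300, 1143])) (.node (.leaf [1, -50, -114, 0, 232, -97, 6, 6, 0, -123, 110, 138, 0, -81, -13, 0, -28, -4, 0]) (.leaf [31445515, 670735, 15550841, 1052904, -136913400, 56607013, 4078881, 43699712, -75782, -1916409, -77231916, -103939052, 2961, 100674009, -1487534, -1003396, 38130513, 6201755, 23313]))))))) (.node (.node (.node (.node (.node (.node (.node (.leaf [17, -77, -135, 0, 369, -167, 3, 15, 0, -222, 187, 183, 0, -84, -25, 0, -63, -1, 0]) (.leaf [-255, -49, -202, -15, 2134,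 -820, -39, -572, 0, -280, 1146, 1418, 0, -1272, -58, 15, -582, -64, 0])) (.leaf [-804638, -845861, -1495893, -38748, 6726657, -2944500, -160341, -1230747, 855, -1550544, 3745415, 4630983, -30, -3483267, -141484, 37926, -1692823, -195999, -3])) (.node (.leaf [2, 0, 0, 0, 2, 0, 0, 0, 0, -2, 0, 0, 0, 0, 0, 0, 0, 0, 0]) (.leaf [-2906, -2222, -4390, -134, 21605, -9394, -535, -4430, 3, -4197, 12065, 15025, 0, -11943, -325, 131, -5465, -692, 0]))) (.node (.node (.leaf [-35935629, -31417893, -58356536, -1626500, 276921193, -120675717, -6814728, -54338859, 26272, -57621568, 154684512, 192266460, 462, -149025531, -5008770, 1599641, -70274527, -8624603, 125]) (.leaf [-248904837, -233132017, -424761515, -11471988, 1974895084, -862054578, -48070665, -377747658, 199040, -427393324, 1101917444, 1366979232, 1650, -1047902610, -37875590, 11270325, -499601223, -60115606, 973])) (.node (.leaf [-9, -24, -37, 0, 44, -12, 0, 0, 0, 0, 9, 51, 0, -27, 0, 0, -17, 3, 0]) (.leaf [])))) (.node (.node (.node (.node (.leaf [0, 0, 0, -2, 0, 0, 0, 0, 2,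 0, -1, 0, 0, 0, 0, 0, 0, 0, 0]) (.leaf [0, 0, 0, 0, 0, 0, 0, 0, 0, 0, 0, 0, 0, 0, 0, 0, 1, 0, 0])) (.leaf [-437942831, -389734149, -720396571, -20030468, 3399861817, -1482090750, -83303685, -663002734, 376184, -714243002, 1898116068, 2358766694, -5941, -1823320461, -62402458, 19664580, -862290038, -104974036, -4355])) (.node (.leaf [84863, 76988, 141169, 4258, -672670, 293861, 16266, 130923, -141, 144034, -375945, -464163, 29, 358047, 12833, -4142, 170574, 20217, -4]) (.leaf [-3576721014, -2340211970, -4765262327, -149835996, 24661084735, -10671546783, -634878081, -5333172472, 1334553, -4294790946, 13838227961, 17340572989, 259951, -14029293318, -336449571, 148207074, -6337208190, -841511047, 34418]))) (.node (.node (.leaf [0, 0, 1, -1, 2, 0, 0, 0, 0, 0, 0, 0, 0, 0, 0, 1, -2, 0, 0]) (.leaf [])) (.node (.leaf [920943939, 1035086782, 1800418516, 45231882, -7948488341, 3485754445, 187480986, 1415493381, -1020425, 1899033313, -4421931194, -5454179949, 49533, 4055658651, 175903997, -44253729, 1993770616, 226257503, -7261]) (.leaf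 [-538059472, -445703240, -841007350, -23943953, 4054759003, -1764525411, -100677668, -811147390, 347589, -817321357, 2266858298, 2822235223, 15786, -2205984627, -69885474, 23577929, -1031466192, -128632997, 2649]))))) (.node (.node (.node (.node (.node (.leaf []) (.leaf [15, 6, 9, 0, -8, 0, 0, 3, 0, -18, 0, -21, 0, 15, 0, 0, 11, -1, 0])) (.leaf [194, 236, 395, 9, -1783, 815, 40, 286, 0, 514, -1034, -1170, 0, 837, 57, -9, 432, 53, 0])) (.node (.leaf [2, -19, -40, 0, 118, -50, 2, -6, 0, -54, 56, 66, 0, -45, -4, 0, -19, -1, 0]) (.leaf [-22628357, -20323888, -37478591, -1041703, 176504502, -76965297, -4317123, -34309776, 19734, -37299167, 98534689, 122375661, -579, -94465578, -3268493, 1022560, -44739359, -5431454, -12]))) (.node (.node (.leaf [3074865, 3645965, 6257904, 148955, -27163903, 11930575, 638757, 4720629, -2324, 6674785, -15106712, -18604779, -183, 13695957, 624283, -146361, 6793370, 766318, -87]) (.leaf [13, -41, -83, -2, 241, -107, 1, -10, 0, -123, 119, 129, 0, -81, -8, 2, -37, -1, 0])) (.node (.leaf [46635341, 42701856,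 78295058, 2142491, -366525155, 159899290, 8948193, 70716576, -38079, 78307848, -204569879, -253942800, 102, 195394233, 6898416, -2104485, 92823035, 11229885, -29]) (.leaf [574410098, 507024659, 939322075, 26162769, -4444623202, 1937211939, 109113495, 869268161, -461729, 929669397, -2481999421, -3084580271, 2001, 2387398122, 81041994, -25704448, 1127552942, 137770376, 1407])))) (.node (.node (.node (.leaf [0, 0, -1, -1, 0, 0, 0, 0, 0, 0, 0, 0, 0, 0, 0, 1, 0, 0, 0]) (.leaf [0, 0, 0, 0, 1, 0, 0, 0, 0, 0, 0, 0, 0, 0, 0, 0, 0, 0, 0])) (.node (.leaf [-300363, -283034, -514992, -14212, 2391611, -1044068, -57996, -456987, 321, -518899, 1333924, 1654716, -24, -1267584, -46078, 13915, -605112, -72208, 0]) (.leaf [26, -601, -973, -5, 818, -309, 4, 315, 0, -558, 214, 761, 1, -139, -26, 4, -122, 14, 0]))) (.node (.node (.leaf [3189, 2431, 4685, 139, -23246, 10085, 585, 4788, 3, 4458, -13023, -16239, -1, 12843, 381, -141, 5946, 766, 0]) (.leaf [1497598539, 1237432140, 2336849742, 66816745, -11275325370, 4906431325, 279874507, 2257880491,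 -1036360, 2269063916, -6303381093, -7848610536, -26289, 6137457198, 193872980, -65754233, 2868821645, 357521389, 137])) (.node (.leaf [-2126, -1681, -3254, -89, 15708, -6841, -386, -3165, 1, -3120, 8797, 10944, 0, -8613, -264, 88, -3975, -509, 0]) (.leaf [-444539, -402692, -739762, -18101, 3426902, -1491498, -85473, -660476, -145, -721081, 1911714, 2388110, 161, -1837508, -62598, 18077, -868428, -109030, 8])))))) (.node (.node (.node (.node (.node (.node (.leaf [-1, 0, 0, 0, -1, 0, 0, 0, 0, 1, 0, 0, 0, 0, 0, 0, 0, 0, 0]) (.leaf [-35902306, -31232889, -58097113, -1621649, 276085996, -120295260, -6800049, -54271734, 25782, -57281220, 154229527, 191732024, 571, -148728052, -4971605, 1595163, -70077237, -8614420, 133])) (.leaf [1067, 1400, 2452, 54, -11002, 4837, 232, 1860, 0, 2979, -6138, -7297, 0, 5364, 301, -54, 2659, 303, 0])) (.node (.leaf [67418353, 59870300, 110714019, 3061418, -522895026, 227943432, 12837516, 102019719, -49785, 109777763, -292003566, -362809656, -978, 280517370, 9585448, -3010369, 132600832, 16206283,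 -286]) (.leaf [-72365821, -64044886, -118564566, -3301077, 560715196, -244413937, -13760555, -109563794, 57673, -117489840, 313122337, 389060962, -357, -301003731, -10251433, 3243638, -142221510, -17367878, 123]))) (.node (.node (.leaf [-12, 102, 149, 0, -129, 47, 0, -52, 1, 84, -21, -117, 0, 15, 0, -1, 30, -9, 0]) (.leaf [0, 0, 0, 0, 1, 0, 0, 0, 0, 0, 0, 0, 0, 0, 0, 0, 0, 0, 0])) (.node (.leaf [29173192, 26199330, 48294215, 1328532, -227333478, 99127912, 5571367, 44170775, -21924, 48034894, -126928304, -157656269, -360, 121678314, 4207618, -1306125, 57620633, 7019649, -123]) (.leaf [-17582580, -12826394, -25182078, -764223, 126246642, -54774014, -3191552, -26385732, 10308, -23568097, 70717653, 88331374, 426, -70381664, -1932190, 753505, -32297149, -4156069, -16])))) (.node (.node (.node (.leaf []) (.leaf [16195, 15850, 28793, 773, -128580, 56126, 3138, 24158, -17, 28075, -71549, -89532, 0, 68124, 2420, -756, 32381, 3910, 0])) (.node (.leaf [0, 0, -2, -2, 0, 0, 0, 0, 0, 0, 0, 0, 0, 0, 0, 2, 0, 0, 0]) (.leaf [-295450, -235707,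 -449470, -13150, 2196240, -955318, -54801, -445422, 206, -433463, 1228930, 1530219, -1, -1203035, -36675, 12945, -559741, -70264, 0]))) (.node (.node (.leaf [-225, -134, -292, -12, 1958, -777, -38, -464, 0, -321, 1048, 1335, 0, -1113, -50, 12, -524, -54, 0]) (.leaf [-21, 23, 44, 0, -120, 51, 0, 3, 0, 72, -54, -60, 0, 36, 1, 0, 12, 1, 0])) (.node (.leaf [1458580, 1766885, 3017638, 70620, -13010819, 5717666, 305327, 2239221, -977, 3231805, -7233956, -8904477, -134, 6529024, 303375, -69456, 3250133, 365165, -53]) (.leaf [-93906768, -85516228, -157026277, -4293253, 736111226, -321087589, -17998982, -142288693, 72241, -156778748, 410900951, 510175840, 976, -392875229, -13786377, 4219670, -186458266, -22622613, 366]))))) (.node (.node (.node (.node (.node (.leaf []) (.leaf [-40354, -38614, -70169, -1883, 322993, -141008, -7818, -61283, 29, -70627, 180054, 223512, 0, -170826, -6254, 1854, -81540, -9768, 0])) (.leaf [0, 0, 0, 0, 1, 0, 0, 0, 0, 0, 0, 0, 0, 0, 0, 0, 0, 0, 0])) (.node (.leaf [1, 0, 0, 0, 0, 0, 0, 0, 0, 0, 0, 0, 0, 0,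 0, 0, 0, 0, 0]) (.leaf [3494878066, 3087304838, 5717873011, 158761379, -27051154859, 11790879344, 664503362, 5288521953, -2625298, 5662179898, -15107457982, -18772864352, -30145, 14527378371, 493707926, -156091630, 6861630993, 839428905, -14306]))) (.node (.node (.leaf []) (.leaf [0, 0, 0, 0, -1, 0, 0, 0, 0, 1, 0, 0, 0, 0, 0, 0, 0, 0, 0])) (.node (.leaf [-1498996321, -1239951300, -2340862882, -66896443, 11290727667, -4913235892, -280205928, -2260087609, 1039942, -2273587643, 6311837559, 7859005583, 26145, -6144552696, -194321804, 65830662, -2872604452, -357879326, -306]) (.leaf [0, 0, 0, 0, 1, 0, 0, 0, 0, 0, 0, 0, 0, 0, 0, 0, 0, 0, 0])))) (.node (.node (.node (.leaf [10, 67, 126, 0, -244, 107, 0, -6, 0, 108, -112, -165, 0, 93, 5, 0, 43, 2, 0]) (.leaf [3873434, 2989254, 5764161, 170527, -28407331, 12341523, 712219, 5826219, -2454, 5489381, -15898799, -19828932, -78, 15668441, 459096, -167991, 7249565, 919572, -4])) (.node (.leaf [0, -3, -4, 0, 0, -1, 0, 3, 0, -3, 0, 0, 0, 3, 0, 0, 1, 0, 0]) (.leaf [-5175, -4002, -7775, -228,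 37914, -16474, -937, -7745, 3, -7341, 21196, 26474, 0, -20925, -610, 225, -9648, -1219, 0]))) (.node (.node (.leaf [-4015251321, -3314413256, -6261186444, -179220961, 30217856458, -13148748630, -750025402, -6053418510, 2831568, -6076866219, 16892729884, 21035411053, 59152, -16451991249, -519040298, 176338882, -7689029784, -958106729, -8641]) (.leaf [-175828, -125679, -248833, -7593, 1254626, -544039, -31737, -263856, 100, -231508, 702829, 878307, 10, -702093, -18808, 7483, -321031, -41491, 0])) (.node (.leaf [1, -6, -10, 0, 10, -1, 0, 1, 0, -1, 0, 12, 0, -6, 0, 0, -3, 0, 0]) (.leaf [16383, 16073, 28987, 738, -133995, 58700, 3244, 25079, 0, 30174, -74880, -92143, 0, 70155, 2671, -738, 33666, 4068, 0])))))))) (.node (.node (.node (.node (.node (.node (.node (.node (.leaf []) (.leaf [-286, -22, -318, -16, 2802, -950, 1, -771, 0, -273, 1329, 1874, 2, -1758, -97, 15, -773, -27, 0])) (.leaf [68781530, 60640269, 112383972, 3130737, -532039451, 231893312, 13067259, 104097270, -53582, 111239102, -297131578, -369234729, -42, 285833073,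 9694170, -3076941, 134967476, 16507199, -172])) (.node (.leaf [-7, 1, 0, -8, 0, 1, 1, 0, 8, 0, -2, 0, 0, 0, -2, 0, 0, 0, 0]) (.leaf [660547120, 502369283, 973109506, 28797413, -4813348808, 2090343101, 121075914, 991752900, -379032, 921544853, -2694541755, -3362736033, -24518, 2662725260, 76590094, -28391506, 1229097398, 156809097, -2357]))) (.node (.node (.leaf [-1, 0, 0, 0, -1, 0, 0, 0, 0, 1, 0, 0, 0, 0, 0, 0, 0, 0, 0]) (.leaf [-397935289, -326382485, -617647588, -17633604, 2986690416, -1299431762, -74300933, -599530485, 242470, -598562675, 1670086912, 2079758587, 14880, -1628069587, -51020462, 17373358, -760070970, -95115924, 2896])) (.node (.leaf [25408417, 28771224, 49956731, 1247184, -219936849, 96460062, 5180877, 39037705, -28494, 52725979, -122324484, -150899211, 1179, 112055762, 4890169, -1219901, 55154290, 6243427, 32]) (.leaf [3, 3, 6, 0, 2, 2, 0, -4, 0, 2, 0, 0, 0, -3, 0, 0, -1, -1, 0])))) (.node (.node (.node (.node (.leaf [0, 0, -1, -1, 0, 0, 0, 0, 0, 0, 0, 0, 0, 0, 0, 1, 0, 0, 0]) (.leaf [1, 0, 0, 0, 0, 0, 0,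 0, 0, 0, 0, 0, 0, 0, 0, 0, 0, 0, 0])) (.leaf [821129988, 654996276, 1250079610, 36186522, -6095700261, 2650291792, 152258133, 1235633001, -493317, 1201454615, -3409982420, -4249774068, -29076, 3341057520, 101491215, -35658769, 1553212870, 195754645, -5360])) (.node (.leaf [1177, 2325, 4116, 66, -15605, 7002, 273, 1960, 0, 5181, -8591, -9984, 0, 6921, 465, -66, 3503, 380, 0]) (.leaf [15, 6, 8, 0, -8, 0, 0, 3, 0, -18, 0, -21, 0, 15, 0, 0, 11, -1, 0]))) (.node (.node (.leaf []) (.leaf [-122, -144, -272, -9, 1605, -684, -39, -317, 0, -410, 888, 1028, 0, -810, -35, 9, -385, -50, 0])) (.node (.leaf [0, -1, -3, -4, 2, 0, 0, 0, 0, 0, 0, 1, 0, 0, 0, 4, -2, 0, 0]) (.leaf [-4, -49, -71, -3, 108, -65, -2, 24, 4, -90, 68, 64, -1, 1, -12, 0, -18, 1, 0]))))) (.node (.node (.node (.node (.node (.leaf []) (.leaf [-19639935, -17500620, -32338997, -899756, 152646548, -66549798, -3740394, -29755677, 16335, -32111646, 85231317, 105877611, -288, -81828747, -2807562, 883695, -38705977, -4713857, 14])) (.leaf [-201, -226, -390, -9, 1850, -785, -38,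 -350, 0, -417, 1007, 1267, 0, -957, -46, 9, -476, -47, 0])) (.node (.leaf [-4004831, -2718665, -5462566, -165964, 27919288, -12091659, -716931, -5964558, 851, -4975656, 15661125, 19611789, 545, -15781221, -395517, 164547, -7162795, -947440, 21]) (.leaf [11606, 11428, 20787, 557, -93989, 41201, 2265, 17512, -14, 21054, -52423, -64887, 0, 49371, 1823, -543, 23564, 2812, 0]))) (.node (.node (.leaf [12, -135, -217, -2, 140, -47, 0, 75, 0, -108, 21, 153, 0, -18, 0, 2, -14, 1, 0]) (.leaf [-108, -126, -315, -3, 1162, -449, 0, -177, 0, -267, 552, 777, 0, -612, -39, 3, -283, -5, 0])) (.node (.leaf [-615335786, -505343290, -956020528, -27355789, 4621428061, -2010724787, -114876984, -927362720, 400877, -926812980, 2583987593, 3217783326, 16272, -2518541664, -79037660, 26936180, -1176086725, -146957205, 2460]) (.leaf [-675, -524, -867, -27, 4753, -2026, -119, -1039, 0, -828, 2661, 3368, 0, -2610, -115, 27, -1315, -134, 0])))) (.node (.node (.node (.leaf []) (.leaf [35819, 34760, 63045, 1666, -287800, 125717, 6957, 54223, -22, 63328,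 -160305, -199167, 0, 151893, 5557, -1644, 72579, 8645, 0])) (.node (.leaf [5948, 4545, 8918, 273, -43832, 19045, 1087, 9006, -5, 8445, -24481, -30555, 0, 24252, 671, -268, 11135, 1402, 0]) (.leaf [-6251287019, -4903112341, -9406614647, -274625712, 46100168535, -20035138458, -1154146152, -9399636144, 3776850, -8993316335, 25794608800, 32163680115, 206855, -25351201017, -755427460, 270618626, -11755812468, -1487520098, 23382]))) (.node (.node (.leaf []) (.leaf [145786, 139024, 252627, 6834, -1167218, 509714, 28226, 221747, -146, 255184, -650798, -807090, 5, 617180, 22655, -6693, 294851, 35150, 0])) (.node (.leaf [-10794370059, -8692370139, -16543013015, -478192626, 80433230229, -34978080585, -2004648051, -16252542410, 7135732, -15939264124, 44983688912, 56053139441, 244493, -44005753497, -1350612247, 470813559, -20488374445, -2571807113, -1158]) (.leaf [-80367634, -71677726, -132389995, -3663031, 624594003, -272312387, -15316206, -121682114, 62297, -131461598, 348765255, 433255719, 351, -334766979, -11495159, 3600242, -158365801,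 -19312649, 141])))))) (.node (.node (.node (.node (.node (.node (.leaf []) (.leaf [-1000503, -956093, -1735179, -46429, 8013248, -3498818, -194141, -1520837, 851, -1753343, 4467973, 5541535, -7, -4235544, -155750, 45581, -2024360, -242026, 4])) (.leaf [])) (.node (.leaf [-308258431, -284331001, -520205998, -14126017, 2429404592, -1060039173, -59295441, -467342253, 236177, -521209339, 1355869287, 1682808492, 4254, -1293190464, -45995840, 13884250, -615008961, -74370383, 1336]) (.leaf [-69, 387, 573, 9, -477, 223, 0, -220, 1, 393, -105, -384, 0, -3, 0, -10, 87, -45, 0]))) (.node (.node (.leaf [15, 6, 10, 0, -5, 0, 0, 0, 0, -15, 0, -18, 0, 12, 0, 0, 8, 0, 0]) (.leaf [298519, 71953, 235687, 14412, -1654435, 706326, 44970, 448518, -813, 146935, -938129, -1188620, 231, 1066980, 4486, -13851, 440345, 62931, 21])) (.node (.leaf [0, 3, 5, 0, -5, 0, 0, 0, 0, 0, 0, -6, 0, 3, 0, 0, 2, 0, 0]) (.leaf [-112329, -85194, -165203, -4952, 818265, -355398, -20553, -168819, 76, -156428, 458053, 571569, 1, -452841, -12982, 4875, -208996, -26575,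 0])))) (.node (.node (.node (.leaf [-2, 0, 0, 0, 0, -2, 0, 0, 0, 0, 2, 0, 0, 0, 0, 0, 0, 0, 0]) (.leaf [15678, 15069, 27343, 724, -125549, 54895, 3048, 23735, -8, 27552, -70005, -86838, 0, 66312, 2409, -716, 31685, 3776, 0])) (.node (.leaf []) (.leaf [-427064, -544042, -918874, -20916, 3906634, -1718962, -90954, -657711, 284, -994907, 2170353, 2667513, 46, -1938306, -94257, 20569, -973469, -107710, 17]))) (.node (.node (.leaf [12, -55, -101, 0, 244, -108, 0, 6, 0, -138, 120, 135, 0, -69, -11, 0, -37, -3, 0]) (.leaf [-337308, -352663, -623150, -13115, 2770515, -1209400, -68019, -503832, -363, -633357, 1542879, 1918542, 215, -1440771, -57304, 13246, -696547, -85586, 17])) (.node (.leaf [62882395, 55574269, 102896249, 2839039, -486548865, 212068124, 11963457, 95079627, -43033, 101855431, -271737877, -337702665, -1920, 261286839, 8880020, -2793721, 123408240, 15124451, -365]) (.leaf [355606, 424108, 727528, 17535, -3151725, 1384327, 73791, 546739, -373, 775931, -1751694, -2158020, 12, 1587576, 72533, -17168, 788216, 88109, -6])))))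 (.node (.node (.node (.node (.node (.leaf []) (.leaf [-4378376, -4124413, -7516773, -214114, 34997947, -15282685, -842262, -6696792, 6537, -7602994, 19513887, 24183672, -906, -18539970, -676121, 208561, -8854301, -1043612, -78])) (.leaf [-126070, -95898, -185779, -5580, 918576, -399070, -23069, -189233, 92, -176001, 514281, 641616, 1, -508018, -14632, 5487, -234558, -29843, 0])) (.node (.leaf [489079337, 370510202, 718496562, 21188595, -3558426026, 1545243662, 89677438, 734007654, -235317, 679949476, -1992478588, -2486457000, -28628, 1969864629, 56433359, -20917556, 908638102, 116339759, -7095]) (.leaf [276507, 263908, 479218, 12950, -2212557, 965853, 53532, 420309, -267, 483234, -1233315, -1530520, 8, 1170115, 42957, -12693, 559201, 66641, 2]))) (.node (.node (.leaf [-3, 0, 0, 0, -4, 1, 0, 0, 0, 4, -1, 0, 0, 0, 0, 0, 0, 0, 0]) (.leaf [17, 2, 9, 0, -21, 6, 1, 9, 0, -18, -9, -30, 0, 27, 0, 0, 12, 0, 0])) (.node (.leaf [3876616, 2991729, 5768895, 170668, -28430689, 12351660, 712806, 5830989, -2462, 5493916, -15911865, -19845231,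 -78, 15681284, 459490, -168124, 7255545, 920324, -4]) (.leaf [0, 0, 0, 0, -1, 0, 0, 0, 0, 1, 0, 0, 0, 0, 0, 0, 0, 0, 0])))) (.node (.node (.node (.leaf [0, 0, 1, -1, -4, 0, 0, 0, 0, 0, 0, -3, 0, 3, 0, 1, 1, 0, 0]) (.leaf [10460230, 7700677, 15073621, 455207, -75358767, 32702900, 1902831, 15701985, -6116, 14148645, -42207575, -52706613, -268, 41939592, 1163781, -448821, 19270711, 2474840, -2])) (.node (.leaf [427065, 544042, 918874, 20916, -3906634, 1718962, 90954, 657711, -284, 994907, -2170353, -2667513, -46, 1938306, 94257, -20569, 973469, 107710, -17]) (.leaf [3, -3, -2, 0, -2, 0, 0, 0, 0, -3, 0, 0, 0, 3, 0, 0, 2, 0, 0]))) (.node (.node (.leaf []) (.leaf [-416348709, -345009892, -650907488, -18508530, 3137959844, -1365589481, -77931135, -627631555, 260624, -632724749, 1754375524, 2184077743, 14322, -1707041893, -54109145, 18230699, -798205635, -99586719, 2885])) (.node (.leaf [0, 0, -2, -2, 0, 0, 0, 0, 0, 0, 0, 0, 0, 0, 0, 2, 0, 0, 0]) (.leaf [7268903, 6725054, 12321668, 356886, -57705180, 25187895, 1390443, 11120884,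 -11466, 12412276, -32181040, -39896459, 1712, 30680327, 1098923, -347277, 14611291, 1726412, 145]))))))) (.node (.node (.node (.node (.node (.node (.node (.leaf []) (.leaf [0, 0, 0, 0, 1, 0, 0, 0, 0, 0, 0, 0, 0, 0, 0, 0, 0, 0, 0])) (.leaf [-32, -15, -20, 0, -6, -1, 0, 7, 0, 30, -5, 24, 0, -9, 0, 0, -15, 4, 0])) (.node (.leaf [-914990126, -721160362, -1381415895, -40179344, 6760374443, -2938428044, -169192323, -1376025138, 531486, -1322892214, 3782568315, 4715666769, 35708, -3714046308, -111303484, 39605528, -1723466348, -217967475, 6622]) (.leaf [3488455096, 3427759829, 6167139650, 164632549, -28273182622, 12355411454, 681199410, 5312224583, -3587111, 6280140683, -15758432661, -19526737248, 147825, 14854049205, 563580979, -161246303, 7138841144, 842711704, 53040]))) (.node (.node (.leaf [0, 0, 1, 2, -1, 0, 0, 0, 0, 0, 0, 0, 0, 0, 0, -2, 1, 0, 0]) (.leaf [-72525, -68650, -125020, -3471, 578745, -252565, -13981, -110400, 79, -125651, 322478, 400440, -5, -306686, -11118, 3399, -146402, -17357, -2])) (.node (.leaf [-3794817,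 -2890739, -5596243, -166358, 27691003, -12026620, -695777, -5704310, 2317, -5308927, 15501514, 19339738, 96, -15311217, -442101, 163939, -7070929, -900269, 6]) (.leaf [0, 0, 3, -2, 5, 0, 0, 0, 0, 0, 0, 0, 0, 0, 0, 2, -5, 0, 0])))) (.node (.node (.node (.leaf []) (.leaf [4, 0, 2, 0, -1, 1, 0, -3, 0, 1, -1, 0, 0, 0, 0, 0, 0, 1, 0])) (.node (.leaf [0, 0, 1, -1, 2, 0, 0, 0, 0, 0, 0, 0, 0, 0, 0, 1, -2, 0, 0]) (.leaf [-181174122, -137695036, -266758018, -7872067, 1319778164, -573149788, -33224577, -271960719, 94909, -252626918, 738891427, 922073874, 8967, -730172217, -20991011, 7766626, -336986572, -43060332, 1565]))) (.node (.node (.leaf [2, 0, 0, 0, 0, 1, 0, 0, 0, 0, -1, 0, 0, 0, 0, 0, 0, 0, 0]) (.leaf [134191, 127604, 231859, 6303, -1073315, 468580, 25967, 204239, -135, 234185, -598448, -742228, 6, 567822, 20829, -6174, 271304, 32345, 0])) (.node (.leaf [-332348916, -262060386, -501924286, -14600759, 2456023407, -1067532622, -61458126, -499836981, 194828, -480726274, 1374175469, 1713144189, 12522, -1349184835, -40453364, 14391164,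 -626122891, -79165153, 2245]) (.leaf [-366119509, -297617333, -564691291, -16134065, 2737566264, -1190767802, -68239523, -551179901, 204283, -545734810, 1531069461, 1907153066, 18528, -1494934881, -46379857, 15907573, -696912606, -87530334, 3681]))))) (.node (.node (.node (.node (.node (.leaf [0, -3, -5, 0, 4, 0, 0, 0, 0, 0, 0, 6, 0, -3, 0, 0, -1, 0, 0]) (.leaf [14, 139, 243, 0, -462, 228, 2, -26, 0, 251, -240, -295, 0, 138, 16, 0, 73, 4, 0])) (.leaf [106702985, 84953102, 162241853, 4715374, -791663459, 344189755, 19767252, 160598406, -68424, 155853985, -442854204, -551940903, -2581, 434064618, 13158512, -4644038, 201746908, 25408690, -331])) (.node (.leaf [0, 0, 0, -2, 0, 0, 0, 0, 2, 0, -1, 0, 0, 0, 0, 0, 0, 0, 0]) (.leaf [0, 0, 1, 0, 1, -1, 0, 0, 0, 0, 0, 0, 0, 0, 0, 0, -1, 1, 0]))) (.node (.node (.leaf [-33239954, -29359173, -54376300, -1507924, 257234434, -112119638, -6320088, -50288904, 24580, -53835394, 143659760, 178523196, 444, -138150819, -4693560, 1482775, -65248642, -7985429, 125]) (.leaf [4036175346, 3121562020,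 6014727394, 176471062, -29602533096, 12861012901, 742952247, 6064581300, -2293334, 5726571333, -16567986891, -20666047605, -161318, 16322965214, 478729442, -173989929, 7553130575, 959947516, -26481])) (.node (.leaf [0, 3, 0, 1, 2, 0, 0, 0, 0, 0, 0, 0, 0, -3, 0, -1, 1, 0, 0]) (.leaf [-1044, -1242, -2152, -54, 10451, -4573, -234, -1878, 0, -2703, 5859, 6930, 0, -5172, -282, 54, -2576, -300, 0])))) (.node (.node (.node (.leaf []) (.leaf [-109713436, -92918654, -174180701, -4908196, 834232424, -363245743, -20645985, -165566322, 72054, -170389044, 466242733, 580078533, 3189, -451848945, -14668138, 4832233, -211997281, -26284467, 720])) (.node (.leaf [1370697478, 1266371499, 2315978125, 62926766, -10812333827, 4718040289, 263773875, 2078850798, -1069263, 2322014613, -6034267501, -7488550506, -11782, 5753387546, 205029368, -61838895, 2736946349, 330689504, -6826]) (.leaf [121828, 92546, 179384, 5377, -887283, 385437, 22286, 182885, -88, 169809, -496719, -619818, 0, 490881, 14105, -5289, 226593, 28816, 0]))) (.node (.node (.leaf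 [30, 12, 29, 0, -46, 12, 0, 9, 0, -24, -15, -60, 0, 48, 0, 0, 22, 0, 0]) (.leaf [62394446, 55663088, 102832638, 2874998, -485373272, 211624465, 11881338, 94597887, -55674, 102179150, -270997147, -336602659, 2128, 260117340, 8938765, -2821540, 123075276, 14957952, 88])) (.node (.leaf [4291, 3368, 6478, 185, -31370, 13644, 780, 6351, -2, 6144, -17564, -21912, 0, 17241, 523, -183, 7985, 1021, 0]) (.leaf [-543, 261, 384, -23, 1979, -735, -83, -996, 8, 363, 1251, 1474, 0, -1629, -23, 15, -713, -136, 0])))))) (.node (.node (.node (.node (.node (.node (.leaf []) (.leaf [452109182, 340709590, 661802009, 19547270, -3282703331, 1425329550, 82807205, 678305801, -210900, 625253841, -1838265129, -2294347604, -27953, 1819064577, 51794185, -19301446, 838410521, 107528318, -6972])) (.leaf [114203, 109959, 199850, 5464, -918620, 400776, 22041, 173975, -134, 201293, -511377, -635234, 6, 485313, 17915, -5336, 232010, 27388, 0])) (.node (.leaf [-8171, -7778, -14049, -363, 65297, -28615, -1601, -12352, 0, -14442, 36566, 45053, 0, -34386, -1288,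 363, -16469, -2012, 0]) (.leaf [-2810578, -2562714, -4711867, -141765, 22212336, -9696280, -534493, -4311951, 5309, -4739060, 12390772, 15357611, -994, -11840583, -418827, 137554, -5631926, -661256, -104]))) (.node (.node (.leaf []) (.leaf [-8, -89, -121, 6, -128, 4, 2, 123, 0, -66, -51, -54, 0, 141, 0, -6, 53, 5, 0])) (.node (.leaf []) (.leaf [-46435232, -46055326, -82624749, -2168165, 377731740, -165117594, -9114510, -70673277, 38363, -84390689, 210575346, 260796579, 507, -198037227, -7590023, 2129042, -95304415, -11285010, 253])))) (.node (.node (.node (.leaf [-3, 9, 5, 0, -13, 19, 0, -3, 0, 24, -18, 0, 0, -9, 0, 0, -2, 0, 0]) (.leaf [0, 0, 0, 0, 1, 0, 0, 0, 0, 0, 0, 0, 0, 0, 0, 0, 0, 0, 0])) (.node (.leaf [1527740926, 1301563435, 2435881430, 68743031, -11646633063, 5071826403, 287677594, 2306997022, -1116077, 2386464334, -6507763799, -8095996611, -17844, 6300929499, 205843927, -67610070, 2959250166, 365585532, 960]) (.leaf [1846775038, 1462366651, 2797883646, 81901096, -13669046824, 5941524946, 341078110, 2778715962,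 -1372681, 2679847151, -7645043580, -9533201530, -5370, 7503970872, 225791267, -80547588, 3485207838, 438248969, 24543]))) (.node (.node (.leaf []) (.leaf [60021, 45623, 88377, 2644, -437090, 189877, 10981, 90065, -43, 83694, -244718, -305337, 0, 241764, 6969, -2601, 111632, 14204, 0])) (.node (.leaf [-15, -9, -13, 0, 13, -1, 0, -3, 0, 18, 0, 27, 0, -18, 0, 0, -13, 2, 0]) (.leaf [0, 0, 0, 0, 1, 0, 0, 0, 0, 0, 0, 0, 0, 0, 0, 0, 0, 0, 0]))))) (.node (.node (.node (.node (.node (.leaf []) (.leaf [12306997, 13359620, 23432995, 595145, -104410860, 45743724, 2477763, 18854609, -12814, 24486315, -58112870, -71777598, 396, 53689392, 2250427, -582738, 26234879, 3011932, 11])) (.leaf [60174, 45817, 88676, 2655, -438446, 190487, 11017, 90291, -44, 84072, -245510, -306252, 0, 242403, 7015, -2611, 111971, 14253, 0])) (.node (.leaf [-3432, -1467, -2906, -140, 20678, -9256, -663, -5115, -1, -3054, 12265, 14466, -4, -12102, -230, 145, -5519, -850, 0]) (.leaf [24712, 23161, 42208, 1159, -196691, 85795, 4770, 37702, -22, 42614, -109776, -136101,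 0, 104346, 3824, -1137, 49731, 6007, 0]))) (.node (.node (.leaf [-6, -3, -7, 0, -10, -1, 0, 3, 0, 3, 0, 0, 0, 3, 0, 0, 4, 0, 0]) (.leaf [290, 193, 536, 10, -2530, 914, -2, 543, 0, 366, -1197, -1764, -2, 1488, 87, -9, 678, 17, 0])) (.node (.leaf [-9025, -8004, -14605, -426, 71022, -30855, -1722, -14029, 10, -14923, 39689, 49102, 0, -37965, -1411, 416, -18134, -2176, 0]) (.leaf [-510, -370, -648, -28, 3128, -1358, -77, -663, 2, -543, 1791, 2265, 0, -1734, -84, 26, -851, -103, 0])))) (.node (.node (.node (.leaf []) (.leaf [44438, 42156, 76648, 2091, -355495, 155244, 8607, 67705, -44, 77562, -198268, -245735, 2, 188089, 6881, -2049, 89843, 10719, 0])) (.node (.leaf [430, 219, 451, 18, -3453, 1439, 78, 828, 0, 618, -1954, -2316, 0, 1929, 90, -18, 906, 123, 0]) (.leaf [16517350, 11800582, 23326205, 711515, -117649070, 51015473, 2985159, 24753954, -8658, 21675294, -65923099, -82398447, -664, 65850638, 1762732, -702195, 30123579, 3901851, 2]))) (.node (.node (.leaf [-55413592, -52589503, -95478882, -2568736, 442271650, -193120026,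 -10737849, -84182504, 46585, -96426120, 246713480, 305930151, -168, -234026136, -8576495, 2522207, -111819394, -13392295, 112]) (.leaf [-1278839814, -1001435841, -1922126597, -56064956, 9424259351, -4095624897, -236083784, -1922504331, 739994, -1836825008, 5273512943, 6575822450, 50523, -5184152958, -154200390, 55266867, -2403322639, -304441155, 7572])) (.node (.leaf []) (.leaf [2483488409, 2209488663, 4083651262, 112851111, -19284422123, 8407491808, 473502225, 3760105475, -1761046, 4054819444, -10770154507, -13377636119, -39891, 10340358774, 354326348, -111016922, 4889303751, 597758478, -33252])))))))))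

def threeL7 : Janko.Tree (List ℤ) :=
  (.node (.node (.node (.node (.node (.node (.node (.node (.node (.leaf []) (.leaf [27, -13, -60, 4, 126, -55, 0, 24, 0, -93, 42, 39, -2, -21, -3, -3, -10, 10, 0])) (.leaf [])) (.node (.leaf [-23, -18, -24, 0, 14, -3, 0, 2, 0, 18, 3, 36, 0, -18, 0, 0, -14, 0, 0]) (.leaf [3665483676, 2223534745, 4651843995, 150895906, -24627168072, 10638202076, 640910227, 5448476591, -1102304, 4080828728, -13834596918, -17371205612, -311401, 14198349438, 308722604, -149447354, 6348232354, 858463283, -34847]))) (.node (.node (.leaf []) (.leaf [-6547453, -4510090, -8995528, -246745, 45788911, -19846174, -1199244, -9703179, -7971, -8292608, 25750455, 32161842, 3157, -25793295, -662370, 250438, -11706234, -1607591, 1121])) (.node (.leaf [-7378816058, -5231126154, -10365693304, -315586719, 52360927047, -22700572034, -1331569372, -11041059494, 3552905, -9596141079, 29344033098, 36693556448, 397990, -29354308053, -776950859, 311597440, -13410781626, -1743763006, 38384]) (.leaf [0, 0, 0, 1, 0, 0, 0, 0, 0, 0, 0,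 0, 0, 0, 0, 0, 0, 0, 0])))) (.node (.node (.node (.node (.leaf [1, 1, 0, 0, 0, 1, -1, 0, 0, 0, 0, 0, 0, 0, 0, 0, 0, 0, 0]) (.leaf [-6859377, -7433155, -13043675, -331601, 58147387, -25473972, -1380236, -10507761, 7125, -13624104, 32364353, 39976747, -223, -29911508, -1251624, 324705, -14611622, -1678316, -5])) (.leaf [])) (.node (.leaf []) (.leaf [-13433192, -13392510, -24001868, -635529, 109627214, -47926579, -2636412, -20481924, 13341, -24558502, 61096689, 75652824, -468, -57410337, -2213097, 622748, -27657971, -3255005, -92]))) (.node (.node (.leaf [-2, 69, 112, 2, -226, 115, 1, -17, -2, 145, -125, -131, 0, 45, 16, 0, 36, 0, 0]) (.leaf [-665, -522, -854, -22, 4675, -1998, -114, -1020, 1, -855, 2653, 3312, 0, -2550, -126, 21, -1270, -151, 0])) (.node (.leaf [819257242, 672944576, 1273105404, 36508312, -6153357491, 2677205725, 152861661, 1234797294, -568337, 1233881364, -3440229224, -4284437454, -13799, 3353420397, 105224619, -35927215, 1566063890, 195444194, 1039]) (.leaf [-1146180, -440106, -1111371, -42500, 6741677, -2888282,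 -186791, -1673322, -299, -809655, 3816247, 4835606, 222, -4164667, -44264, 42572, -1767508, -263713, 5]))))) (.node (.node (.node (.node (.node (.leaf []) (.leaf [0, 1, 0, 0, 0, 0, 0, 0, 0, 0, 0, 0, 0, 0, 0, 0, 0, 0, 0])) (.leaf [1, 0, 0, 1, 0, 1, 0, 0, -1, 0, 0, 0, 0, 0, 0, 0, 0, 0, 0])) (.node (.leaf [16456, 16127, 29081, 738, -133945, 58714, 3243, 25031, 0, 30150, -74880, -92180, 0, 70140, 2671, -738, 33655, 4070, 0]) (.leaf [19639935, 17500623, 32339002, 899756, -152646548, 66549800, 3740394, 29755674, -16335, 32111649, -85231317, -105877611, 288, 81828744, 2807562, -883695, 38705976, 4713856, -13]))) (.node (.node (.leaf [32, -282, -409, 2, 356, -126, 0, 138, -2, -222, 54, 330, 0, -48, 0, 0, -86, 27, 0]) (.leaf [-75530678, -72171742, -130795274, -3501236, 604461716, -263978394, -14665403, -114742878, 62328, -132272558, 337149189, 418035322, 286, -319416983, -11781479, 3438292, -152772696, -18274299, 330])) (.node (.leaf []) (.leaf [2535649, 2033271, 3888955, 124357, -19036216, 8281389, 465849, 3867216, -4629, 3771004,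 -10635089, -13232802, 858, 10412196, 320628, -120671, 4852359, 589660, 85])))) (.node (.node (.node (.leaf [0, 0, -1, 0, 0, 0, 0, 0, 0, 0, 0, 1, 0, 0, 0, 0, 0, 0, 0]) (.leaf [187, 108, 137, 4, -846, 383, 36, 188, 0, 132, -543, -639, 1, 462, 32, -3, 252, 53, -1])) (.node (.leaf [13, -64, -136, 0, 363, -163, 1, -11, 0, -183, 179, 201, 0, -126, -12, 0, -54, 0, 0]) (.leaf [134196644, 234339862, 373094313, 7889379, -1465254816, 649578494, 31858842, 214118942, -303696, 429023459, -808894191, -985022818, 33468, 676019570, 42771076, -7624003, 360184623, 34629329, 4852]))) (.node (.node (.leaf [427034, 544026, 918840, 20918, -3906597, 1718949, 90954, 657704, -286, 994934, -2170340, -2667454, -46, 1938264, 94256, -20569, 973447, 107714, -17]) (.leaf [])) (.node (.leaf [0, 2, 0, 0, 5, -3, 0, 0, 0, 0, 0, 0, 0, -5, 3, 0, 0, 0, 0]) (.leaf [0, 0, 0, 1, 0, 0, 0, 0, 0, 0, 0, 0, 0, 0, 0, 0, 0, 0, 0])))))) (.node (.node (.node (.node (.node (.node (.leaf []) (.leaf [-132651, -126879, -230696, -6223, 1061472, -463432, -25660, -201240, 126, -232027,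 591451, 734403, -2, -561360, -20502, 6098, -268086, -31925, 2])) (.leaf [202340, 206615, 368040, 8428, -1652960, 721775, 40328, 304160, 78, 373780, -920685, -1143725, -86, 863280, 33588, -8411, 415966, 50527, -9])) (.node (.leaf []) (.leaf [-449528, -362223, -689939, -20229, 3352526, -1458000, -83340, -677513, 363, -664380, 1874398, 2335980, -12, -1834194, -56211, 19878, -853944, -106682, 0]))) (.node (.node (.leaf [0, -3, -4, 0, 1, 0, 0, 0, 0, 0, 0, 4, 0, -1, 0, 0, 0, 0, 0]) (.leaf [-506670, -722384, -1189301, -24961, 4915626, -2170950, -113034, -785457, 132, -1324780, 2729809, 3336747, 102, -2373255, -128176, 24692, -1217694, -131309, 35])) (.node (.leaf []) (.leaf [-112517, -85784, -166530, -4966, 824059, -358064, -20606, -169401, 76, -158852, 461301, 574717, 0, -455127, -13199, 4890, -210080, -26728, 0])))) (.node (.node (.node (.leaf []) (.leaf [4511, 3968, 7242, 207, -35398, 15370, 861, 7024, -3, 7389, -19782, -24486, 0, 18960, 697, -204, 9049, 1088, 0])) (.node (.leaf [0, 2, 0, 0, 0, 1, 0, 0, 0, 0, 0, 0, 0, 0, -1,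 0, 0, 0, 0]) (.leaf [-7, 75, 110, -1, -99, 30, 0, -33, 1, 51, -12, -96, 1, 20, 0, 0, 27, -8, 0]))) (.node (.node (.leaf []) (.leaf [0, -2, -4, 0, 2, -1, 0, 0, 0, 0, 0, 4, 0, -2, 1, 0, 0, 0, 0])) (.node (.leaf [231960231, 204661495, 379164805, 10527222, -1794397132, 782105446, 44090463, 350951043, -172869, 375323021, -1002151889, -1245356604, -2486, 963893153, 32713979, -10351033, 455183448, 55711520, -833]) (.leaf [-1360964, -637916, -1479524, -54341, 8461645, -3636070, -226860, -2007960, 446, -1174398, 4769736, 6025083, 80, -5084190, -76197, 53835, -2203090, -312724, -20]))))) (.node (.node (.node (.node (.node (.leaf []) (.leaf [-1379555, -1365118, -2452183, -64333, 11227288, -4906064, -270731, -2103459, 1111, -2505371, 6258006, 7750711, 18, -5889598, -225282, 63181, -2832354, -335653, 23])) (.leaf [7, -75, -110, 2, 99, -30, 0, 33, -1, -51, 12, 96, -1, -20, 0, 0, -27, 8, 0])) (.node (.leaf [2, 0, -1, 2, 0, 0, 0, 0, -2, 0, 0, 0, 0, 0, 0, 0, 0, 1, 0]) (.leaf [2438540, 1708956, 3396570, 103803, -17229093, 7470430, 439258,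 3645385, -1029, 3138763, -9660917, -12076821, -153, 9675524, 253236, -102616, 4414913, 576150, -5]))) (.node (.node (.leaf [421154, 422200, 755321, 17965, -3417613, 1492002, 83331, 634428, 48, 765254, -1904215, -2365272, -132, 1791186, 68687, -17872, 861270, 104348, -9]) (.leaf [893521430, 709643911, 1355791084, 38931658, -6622015122, 2879079117, 165945795, 1343803857, -370214, 1303155428, -3706056296, -4617401313, -69058, 3631938351, 109942314, -38465949, 1686993819, 213963237, -26437])) (.node (.leaf [27, -83, -186, 0, 427, -193, 3, 18, 0, -246, 198, 220, 0, -136, -4, 0, -45, -8, 0]) (.leaf [-840, -796, -1310, -37, 6335, -2810, -156, -1201, 0, -1443, 3640, 4375, 2, -3246, -179, 36, -1648, -200, 0])))) (.node (.node (.node (.leaf []) (.leaf [0, 1, 0, 0, 0, 0, 0, 0, 0, 0, 0, 0, 0, 0, 0, 0, 0, 0, 0])) (.node (.leaf [-2030967625, -1675806731, -3165945380, -90502590, 15283001348, -6650221843, -379530204, -3061813818, 1365894, -3073438885, 8544384638, 10638802923, 43678, -8321016391, -262493275, 89087780, -3888580429, -485041008,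 5238]) (.leaf [-4, 0, -6, 0, 4, 0, 1, 6, 0, -3, 0, 1, 0, 0, -2, 0, -1, 0, 0]))) (.node (.node (.leaf [7, 8, 1, 0, 18, 1, 1, -4, 0, -3, -1, 4, 0, -14, 1, 0, -1, 0, 0]) (.leaf [10794519941, 8692455780, 16543191930, 478191578, -80434106918, 34978449797, 2004675678, 16252734977, -7134181, 15939385291, -44984181706, -56053789163, -245043, 44006282758, 1350619990, -470813484, 20488601101, 2571849413, 1130])) (.node (.leaf [-10, -55, -126, 0, 214, -98, 5, 12, 0, -117, 110, 138, 0, -75, -13, 0, -22, -4, 0]) (.leaf [-30140558, -22340437, -43629336, -1311050, 217618295, -94453506, -5492235, -45237282, 17474, -41023302, 121875903, 152175612, 846, -120962640, -3381146, 1292618, -55633029, -7137838, 112]))))))) (.node (.node (.node (.node (.node (.node (.node (.leaf [-19668, -19471, -35278, -924, 159075, -69524, -3828, -29661, 15, -35379, 88521, 110070, 0, -83688, -3083, 909, -40008, -4756, 0]) (.leaf [8, 11, 8, 0, -34, 16, -1, 14, 0, 0, -21, -33, 0, 20, 4, 0, 14, -3, 0])) (.leaf [2475971, 1977364, 3786821, 121474, -18562927, 8074884,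 454404, 3776634, -4545, 3668884, -10371348, -12905052, 852, 10160826, 311606, -117866, 4732564, 575431, 85])) (.node (.leaf [3278, 2318, 4497, 144, -23155, 9998, 588, 4935, -3, 4200, -12998, -16254, 0, 12967, 381, -141, 5988, 779, 0]) (.leaf [0, 0, 0, 1, 0, 0, 0, 0, 0, 0, 0, 0, 0, 0, 0, 0, 0, 0, 0]))) (.node (.node (.leaf [-1, 0, 0, -1, 0, 0, 0, 0, 1, 0, 0, 0, 0, 0, 0, 0, 0, 0, 0]) (.leaf [-194643390, -151106525, -290801662, -8509082, 1429634761, -621175061, -35867088, -292495548, 108267, -277219353, 800117112, 997889904, 8497, -787718308, -23206480, 8390844, -364704238, -46323604, 1474])) (.node (.leaf [-13880095, -15104733, -26477085, -671615, 117891727, -51652950, -2796639, -21267560, 14484, -27683808, 65613618, 81036249, -450, -60588588, -2545839, 657588, -29619024, -3397955, -7]) (.leaf [522063, 580220, 1011914, 25388, -4476702, 1962512, 105873, 800481, -555, 1062834, -2490696, -3074523, 18, 2290293, 98119, -24849, 1123565, 128121, -2])))) (.node (.node (.node (.node (.leaf []) (.leaf [0, 0, 0, 0, 0, 0, 0, 0, 0, 0, 0,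 0, 0, 0, 0, 0, 0, 1, 0])) (.leaf [0, 0, 0, 1, 0, 0, 0, 0, 0, 0, 0, 0, 0, 0, 0, 0, 0, 0, 0])) (.node (.leaf [2392955218, 2110803740, 3910766022, 108496835, -18508356309, 8066962655, 454855875, 3620081820, -1758852, 3870723255, -10336857316, -12845628009, -33312, 9942654422, 337347284, -106695213, 4695010298, 574846457, -9458]) (.leaf [4, -2, -1, 8, 0, -1, 1, 0, -7, 0, 2, 1, 0, 0, 1, -1, 0, 0, 0]))) (.node (.node (.leaf []) (.leaf [-10, 41, 104, 0, -259, 113, -1, -1, 0, 132, -121, -139, 0, 93, 6, 0, 34, 3, 0])) (.node (.leaf [-2123348464, -1602774371, -3112009627, -92314731, 15427133825, -6698410909, -388549005, -3186601155, 1184358, -2939906427, 8637220693, 10781585160, 87333, -8546675383, -243673734, 91035108, -3940618169, -503874982, 7932]) (.leaf [-538051225, -445642480, -840922879, -23943536, 4054496918, -1764406889, -100672785, -811130144, 347701, -817209318, 2266715771, 2822067631, 15733, -2205894912, -69873187, 23577461, -1031405819, -128628655, 2642]))))) (.node (.node (.node (.node (.node (.leaf []) (.leaf [-17557049,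 -15516631, -28737075, -802422, 135980722, -59274212, -3336879, -26586375, 14370, -28472621, 75938554, 94351878, -219, -73014696, -2483453, 788257, -34493273, -4211119, 14])) (.leaf [0, -1, -1, 0, -1, 0, 0, 0, 0, 0, 0, 1, 0, 1, 0, 0, 0, 0, 0])) (.node (.leaf [13, -41, -85, 1, 241, -110, 1, -9, -1, -123, 119, 129, 0, -81, -8, 0, -37, 2, 0]) (.leaf [-19639935, -17500623, -32339003, -899755, 152646548, -66549801, -3740394, -29755674, 16335, -32111649, 85231317, 105877611, -288, -81828744, -2807562, 883695, -38705976, -4713855, 13]))) (.node (.node (.leaf [3414202803, 3263565432, 5914344433, 159278879, -27339803706, 11939983088, 662393751, 5190743679, -3128550, 5983429987, -15247641670, -18904797222, 73801, 14445548971, 533215267, -156237578, 6910762099, 824386672, 13448]) (.leaf [3198, 2411, 4639, 138, -23123, 10040, 587, 4788, 1, 4395, -12969, -16174, 0, 12801, 375, -138, 5927, 762, 0])) (.node (.leaf [-10552, 916, -4415, -1448, 59389, -25948, -1092, -19356, 255, -2934, 33679, 40224, -81, -40059, 92, 1281, -16335, -1035, -7])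 (.leaf [-13669036, -7825829, -16732557, -566994, 90322106, -38976599, -2361779, -20331555, 5922, -14425114, 50781562, 63809059, 439, -52558334, -1063555, 560573, -23339011, -3179250, 60])))) (.node (.node (.node (.leaf []) (.leaf [41148539, 43559891, 76879334, 1976665, -345052283, 151076019, 8221017, 62948457, -42273, 79848079, -192123819, -237477756, 1368, 178397706, 7297774, -1935866, 86805480, 10040012, 106])) (.node (.leaf [-288030, -273316, -497073, -13637, 2301200, -1004578, -55641, -438324, 312, -501219, 1282902, 1591653, -19, -1218157, -44519, 13344, -581811, -69242, 0]) (.leaf []))) (.node (.node (.leaf [18593, 14124, 27396, 825, -135383, 58811, 3398, 27897, -12, 25914, -75790, -94578, 0, 74904, 2152, -813, 34565, 4400, 0]) (.leaf [-7061844671, -6097197195, -11366577956, -318721097, 54139511409, -23584655070, -1334813493, -10672564278, 5116146, -11182612958, 30246719254, 37610437279, 90605, -29209998821, -968518375, 313488979, -13746985400, -1692860793, 25367])) (.node (.leaf []) (.leaf [-490421, -429237, -795446,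 -17683, 3700857, -1606518, -93870, -720432, -629, -759831, 2065183, 2590254, 342, -2002236, -65253, 17952, -939036, -122002, 18])))))) (.node (.node (.node (.node (.node (.node (.leaf [0, -1, 0, 0, -1, 0, 0, 0, 0, 0, 0, 0, 0, 1, 0, 0, 0, 0, 0]) (.leaf [-36901943, -31486208, -58894124, -1656992, 281478284, -122590328, -6955455, -55716774, 25410, -57746940, 157295702, 195647611, 770, -152223965, -4982753, 1630689, -71508015, -8840902, 123])) (.leaf [244395, 230879, 419892, 11517, -1947478, 849993, 47133, 371774, -265, 422905, -1085942, -1347548, 12, 1031823, 37701, -11264, 492742, 58693, 0])) (.node (.leaf [33493296, 29720314, 54970876, 1520404, -259692180, 113205089, 6376605, 50681658, -24645, 54497740, -145024654, -180191511, -495, 139337439, 4757648, -1495121, 65857474, 8051089, -143]) (.leaf []))) (.node (.node (.leaf [-19, 180, 261, 0, -227, 78, 0, -87, 1, 138, -33, -213, 0, 33, 0, 0, 56, -17, 0]) (.leaf [-19, 45, 98, 0, -264, 103, -4, -1, 0, 141, -117, -138, 0, 84, 13, 0, 39, 3, 0])) (.node (.leaf [-3576263829, -2339843353,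 -4764560452, -149815430, 24657673627, -10670063305, -634793294, -5332483181, 1334193, -4294114635, 13836320746, 17338196370, 259963, -14027427402, -336392284, 148186856, -6336339317, -841402511, 34418]) (.leaf [-17748797, -12984138, -25468056, -771959, 127576173, -55354971, -3223821, -26638859, 10440, -23858942, 71459979, 89249990, 423, -71084252, -1958202, 761113, -32633245, -4196336, -16])))) (.node (.node (.node (.leaf []) (.leaf [5238958986, 3885067785, 7585190273, 225698223, -37814015713, 16412774472, 956259557, 7855698630, -2329123, 7132928880, -21181516930, -26445773668, -333336, 21017211042, 587568620, -222943069, 9664190710, 1244883939, -92695])) (.node (.leaf [0, 0, 0, 1, 0, 0, 0, 0, 0, 0, 0, 0, 0, 0, 0, 0, 0, 0, 0]) (.leaf [-228046, -173774, -336594, -10093, 1664438, -722966, -41763, -342902, 168, -319040, 931583, 1162439, 0, -920376, -26526, 9925, -425022, -53925, 0]))) (.node (.node (.leaf [0, 0, -1, 0, 0, 0, 0, 0, 0, 0, 0, 1, 0, 0, 0, 0, 0, 0, 0]) (.leaf [496162, 473671, 859745, 23105, -3973173, 1734601, 96207,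 754719, -444, 868540, -2215184, -2747733, 7, 2100614, 77234, -22667, 1004016, 119851, -1])) (.node (.leaf [-65035034, -57080009, -105909125, -2946355, 501988716, -218765840, -12344853, -98367453, 47971, -104677568, 280376937, 348476862, 810, -269942844, -9109966, 2897358, -127369060, -15613631, 216]) (.leaf [28675508, 23147335, 44017579, 1274254, -213985787, 93066595, 5330077, 43209913, -19327, 42482877, -119679048, -149084613, -421, 117002274, 3605348, -1254426, 54500997, 6833858, -80]))))) (.node (.node (.node (.node (.node (.leaf []) (.leaf [6486426159, 4954142617, 9583536003, 282813920, -47341223422, 20561202145, 1190258446, 9740064121, -3670714, 9087241724, -26500319736, -33068454248, -259166, 26167986821, 756325530, -278853980, 12086197715, 1540757574, -30060])) (.leaf [])) (.node (.leaf [1912, 2100, 3706, 90, -18065, 7882, 388, 3320, 0, 4515, -10135, -12060, 0, 9078, 495, -90, 4472, 522, 0]) (.leaf [-1517089563, -1277623470, -2399131762, -67996472, 11511640563, -5011712571, -284944158, -2289642846, 1057740, -2343238268,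 6433857095, 8006066506, 26068, -6242109762, -201415184, 66908536, -2926314041, -362905007, 4129]))) (.node (.node (.leaf [-23514, -22216, -40169, -1047, 187226, -81997, -4611, -35552, 0, -41109, 104786, 129278, 0, -98826, -3625, 1047, -47291, -5776, 0]) (.leaf [458, 303, 576, 18, -3721, 1567, 76, 842, 0, 720, -2096, -2514, 0, 2032, 104, -18, 969, 119, 0])) (.node (.leaf [-1718263, -2183784, -3689922, -84115, 15698900, -6907348, -365688, -2645790, 1150, -3993599, 8722190, 10720611, 181, -7793058, -378262, 82714, -3912435, -433282, 71]) (.leaf [12, 3, 1, 0, 15, 1, 0, -5, 0, -6, -1, 4, 0, -9, 2, 0, 0, 0, 0])))) (.node (.node (.node (.leaf [0, -2, 0, 0, 0, -2, 0, 0, 0, 0, 0, 0, 0, 0, 2, 0, 0, 0, 0]) (.leaf [13174988452, 9956579573, 19324532812, 572278138, -95769372836, 41584268441, 2412466677, 19773382725, -7038590, 18266516550, -53620315814, -66926443215, -607759, 53043310083, 1514694641, -564532547, 24460050618, 3128854048, -99242])) (.node (.leaf [-1289878644, -1123998700, -2089839794, -58364288, 9926793712, -4325365592, -244385475,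 -1950350913, 948063, -2061425427, 5545092396, 6893241654, 14563, -5345846448, -179025594, 57396906, -2519536300, -309449728, 4755]) (.leaf []))) (.node (.node (.leaf []) (.leaf [239386, 182816, 353261, 10588, -1749374, 760295, 43947, 360174, -162, 336335, -979680, -1221093, 5, 966293, 28032, -10431, 446743, 56697, 0])) (.node (.leaf [1, 60, 116, 0, -231, 104, -3, -18, 0, 138, -118, -134, 0, 59, 18, 0, 34, 3, 0]) (.leaf [-31054, -101712, -148565, 221, 469899, -208304, -10599, -42004, -477, -171572, 255706, 317239, 190, -187186, -17932, 52, -111281, -11908, 14])))))))) (.node (.node (.node (.node (.node (.node (.node (.node (.leaf []) (.leaf [-6811820, -4720524, -9417538, -283081, 47828958, -20724275, -1225104, -10150101, 1446, -8635746, 26821325, 33570156, 913, -26933350, -692091, 280686, -12260508, -1614327, 37])) (.leaf [-47, -10, -28, 2, -27, 0, -3, -3, 0, 60, -7, 36, 1, -37, 13, -3, 4, -5, 0])) (.node (.leaf []) (.leaf [660712470, 502524426, 973392679, 28805396, -4814665716, 2090917972, 121107690, 992005032, -379251, 921830018,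 -2695275959, -3363646800, -24493, 2663423815, 76615362, -28399294, 1229430570, 156848583, -2358]))) (.node (.node (.leaf [0, 0, 1, 0, -1, 0, 0, 0, 0, 0, 0, -1, 0, 1, 0, 0, 0, 0, 0]) (.leaf [0, -5, -4, 0, -1, -4, 0, 3, 0, -6, 3, 0, 1, 5, -1, 0, 1, 0, 0])) (.node (.leaf [-449528, -362223, -689940, -20229, 3352526, -1458001, -83340, -677513, 363, -664380, 1874398, 2335980, -12, -1834194, -56211, 19878, -853944, -106681, 0]) (.leaf [9, -13, -43, 0, 125, -47, 2, -12, 0, -51, 52, 71, 0, -58, -2, 0, -16, 0, 0])))) (.node (.node (.node (.node (.leaf []) (.leaf [0, 1, 0, 0, 0, 0, 0, 0, 0, 0, 0, 0, 0, 0, 0, 0, 0, 0, 0])) (.leaf [21924, 16599, 32124, 962, -158929, 69035, 4005, 32781, -15, 30324, -89019, -111114, 1, 87962, 2547, -948, 40642, 5180, 0])) (.node (.leaf [0, 2, 2, 0, 0, -1, 0, 0, 0, 0, 0, -2, 0, 0, 1, 0, 0, 0, 0]) (.leaf [401642570, 365154599, 670826135, 18401554, -3147024232, 1372681562, 76936434, 608778216, -318774, 669679002, -1756717448, -2181088776, -837, 1680119313, 58879267, -18080859, 797227559, 96692247, -1084])))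 (.node (.node (.leaf [-5, 1, 0, -7, 0, 1, 0, 0, 7, 0, -2, 0, 0, 0, -1, 0, 0, 0, 0]) (.leaf [5, 6, 13, 0, -22, 4, -1, 5, 0, -3, -6, -24, 0, 19, 1, 0, 6, 0, 0])) (.node (.leaf [-660712470, -502524427, -973392681, -28805395, 4814665716, -2090917974, -121107690, -992005032, 379251, -921830018, 2695275959, 3363646800, 24492, -2663423814, -76615361, 28399294, -1229430570, -156848581, 2358]) (.leaf [-1, -1, 0, -1, 0, -1, 0, 0, 1, 0, 0, 0, 0, 0, 1, 0, 0, 0, 0]))))) (.node (.node (.node (.node (.node (.leaf []) (.leaf [0, 0, 0, 0, 0, 1, 0, 0, 0, 0, 0, 0, 0, 0, 0, 0, 0, 0, 0])) (.leaf [])) (.node (.leaf []) (.leaf [-1729, -574, -740, -70, 4497, -1669, -276, -2004, 0, 1527, 2482, 4847, 1, -4152, 154, 69, -1873, -207, 0]))) (.node (.node (.leaf [19686, 19291, 35017, 925, -158848, 69445, 3828, 29748, -15, 35241, -88488, -109857, 0, 83655, 3083, -909, 39952, 4773, 0]) (.leaf [-233, -266, -667, -3, 2459, -938, 2, -387, 0, -537, 1155, 1662, 0, -1314, -84, 3, -608, -4, 0])) (.node (.leaf [-3172821076, -2581788549, -4897859490, -140797708,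 23741873177, -10327526880, -590948004, -4779687978, 2061588, -4735270278, 13276665748, 16537439950, 81077, -12962152490, -402631984, 138644646, -6044514857, -757039603, 10397]) (.leaf [76991, 74552, 134864, 3513, -619021, 270301, 15029, 116750, -45, 136350, -345074, -428142, -7, 326457, 12111, -3459, 156221, 18756, -2])))) (.node (.node (.node (.leaf []) (.leaf [48472512, 39624852, 75057726, 2140993, -363299184, 158051071, 9047634, 73004133, -27495, 72676133, -203172917, -253022291, -2308, 198164161, 6187952, -2110630, 92460989, 11594195, -560])) (.node (.leaf [3211, 2424, 4654, 141, -23098, 10038, 588, 4773, -2, 4395, -12965, -16170, 0, 12780, 378, -138, 5923, 762, 0]) (.leaf [-6251287049, -4903112347, -9406614666, -274625712, 46100168575, -20035138463, -1154146152, -9399636162, 3776850, -8993316299, 25794608812, 32163680175, 206855, -25351201071, -755427460, 270618626, -11755812491, -1487520098, 23382]))) (.node (.node (.leaf [-34428464, -30869946, -56927794, -1565831, 268095186, -116899247, -6573357, -52118637, 25269,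 -56600513, 149695702, 185938521, 584, -143540207, -4955594, 1539799, -67955035, -8285735, 179]) (.leaf [])) (.node (.leaf [-23514, -22216, -40168, -1047, 187226, -81996, -4611, -35552, 0, -41109, 104786, 129278, 0, -98826, -3625, 1047, -47291, -5777, 0]) (.leaf [95014175, 84328019, 155964488, 4308356, -736758703, 321167102, 18094923, 143770251, -67971, 154639625, -411451003, -511211790, -1895, 395289875, 13500868, -4237831, 186831126, 22852115, -659])))))) (.node (.node (.node (.node (.node (.node (.leaf []) (.leaf [-2643440, -1870852, -3708008, -112090, 18735792, -8125072, -477297, -3950148, 999, -3433766, 10503652, 13129871, 207, -10504480, -277448, 110872, -4797696, -625792, 12])) (.leaf [8163, 7775, 14054, 363, -65316, 28614, 1600, 12351, 0, 14451, -36565, -45058, 0, 34395, 1288, -363, 16470, 2013, 0])) (.node (.leaf []) (.leaf [0, 0, 0, 1, 0, 0, 0, 0, 0, 0, 0, 0, 0, 0, 0, 0, 0, 0, 0]))) (.node (.node (.leaf [0, 0, 0, 0, 0, 1, 0, 0, 0, 0, 0, 0, 0, 0, 0, 0, 0, 0, 0]) (.leaf [7472604, 8008927, 14093106, 360594, -63026560,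 27603327, 1498349, 11441333, -7770, 14680659, -35085175, -43352536, 251, 32499466, 1345544, -353094, 15846248, 1825493, 19])) (.node (.leaf []) (.leaf [101062665, 89179440, 165214324, 4601640, -782033867, 340868794, 19206169, 152969007, -78881, 163593949, -436752908, -542703656, 72, 420054977, 14262998, -4522587, 198385137, 24255718, -244])))) (.node (.node (.node (.leaf [1, -1, 0, 0, 0, -1, -1, 0, 0, 0, 0, 0, 0, 0, 2, 0, 0, 0, 0]) (.leaf [])) (.node (.leaf []) (.leaf [16549802, 14849524, 27377456, 755122, -128922152, 56216131, 3159327, 25060541, -13027, 27226269, -71982912, -89409247, -6, 69015811, 2384591, -741986, 32680179, 3979948, -103]))) (.node (.node (.leaf [121418560, 103906190, 194201760, 5482150, -927739520, 404064232, 22893867, 183506229, -90590, 190648077, -518376143, -644691207, -532, 501415218, 16476464, -5390852, 235676756, 29066025, -176]) (.leaf [666, 522, 855, 23, -4675, 2000, 114, 1020, -2, 855, -2653, -3312, 0, 2550, 126, -21, 1270, 150, 0])) (.node (.leaf [551831171, 567062392, 1008262266, 26167969,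 -4563775133, 1996722322, 109375998, 842327454, -511131, 1039529928, -2542553420, -3145419042, 7336, 2374649084, 94324232, -25661718, 1149593687, 134438687, -2456]) (.leaf [-522055, -580217, -1011910, -25391, 4476705, -1962512, -105873, -800483, 555, -1062840, 2490696, 3074517, -18, -2290290, -98119, 24852, -1123565, -128120, 2]))))) (.node (.node (.node (.node (.node (.leaf [-2, 0, 0, -4, 0, 1, 0, 0, 4, 0, -2, 0, 0, 0, 0, 0, 0, 0, 0]) (.leaf [-1324023, -1423914, -2503407, -63892, 11184772, -4899055, -265791, -2027492, 1365, -2610159, 6226100, 7692150, -42, -5763000, -239403, 62571, -2811584, -323641, -1])) (.leaf [])) (.node (.leaf []) (.leaf [-181, 318, 515, 1, 1254, -585, -39, -648, 0, -48, 916, 587, -1, -827, -38, 0, -378, -63, 0]))) (.node (.node (.leaf [0, -3, 0, 0, -4, 1, 0, 0, 0, 0, 0, 0, 0, 4, -1, 0, 0, 0, 0]) (.leaf [4039624364, 3391014222, 6373351489, 180510789, -30614822218, 13327792244, 758662125, 6095757969, -2619016, 6221813801, -17113239243, -21294269298, -109957, 16610382722, 534320186, -177743735, 7782737081,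 967279119, -38081])) (.node (.leaf [6, -2, 0, 8, 0, -1, 0, 0, -8, 0, 2, 0, 0, 0, 2, 0, 0, 0, 0]) (.leaf [10, -38, -103, 0, 261, -114, 1, 1, 0, -132, 121, 138, 0, -95, -5, 0, -34, -3, 0])))) (.node (.node (.node (.leaf []) (.leaf [12575, 11673, 21254, 590, -100113, 43652, 2424, 19299, -11, 21594, -55881, -69195, 0, 53142, 1956, -579, 25377, 3036, 0])) (.node (.leaf []) (.leaf [268467, 235815, 436353, 9922, -2030902, 882094, 51393, 395106, 290, 418221, -1133477, -1420482, -170, 1097429, 36015, -10035, 515373, 66554, -7]))) (.node (.node (.leaf [8, -39, -52, 0, 33, -21, 0, 28, 0, -45, 9, 24, 0, 15, 0, 0, -3, 3, 0]) (.leaf [4023728077, 3325873877, 6280224196, 179581988, -30298216326, 13184223811, 751952362, 6066528195, -2809157, 6098214390, -16937613867, -21090018152, -66056, 16491166175, 521091795, -176711010, 7708875563, 960450420, 4235])) (.node (.leaf [0, 0, 0, 1, 0, 0, 0, 0, 0, 0, 0, 0, 0, 0, 0, 0, 0, 0, 0]) (.leaf [4292139724, 3245133602, 6297680394, 186678738, -31207189129, 13550758816, 785882010, 6442588689, -2361066,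 5953871549, -17472120906, -21807603162, -179475, 17282962037, 493804988, -184111252, 7970502138, 1018982523, -26945]))))))) (.node (.node (.node (.node (.node (.node (.node (.leaf [0, -1, -1, 0, 0, 0, 0, 0, 0, 0, 0, 1, 0, 0, 0, 0, 0, 0, 0]) (.leaf [412, 411, 676, 18, -3441, 1455, 77, 701, 0, 702, -1893, -2395, 0, 1821, 86, -18, 918, 93, 0])) (.leaf [-367207, -435336, -747319, -18013, 3249073, -1426787, -76134, -565431, 381, -797961, 1806352, 2224458, -6, -1638258, -74724, 17634, -812854, -91110, 4])) (.node (.leaf [717591642, 564905986, 1082508034, 31515783, -5299545146, 2303405937, 132642309, 1079144448, -420911, 1036271912, -2965229400, -3696837345, -26844, 2912160360, 87155534, -31063396, 1351135402, 170898754, -4632]) (.leaf [38765129, -271777098, -342782810, -3359897, 827316934, -389173983, -8979337, 28924603, 658199, -495189203, 435820609, 490152224, -124494, -151922846, -57348449, 2859533, -180088548, 3928111, -33341]))) (.node (.node (.leaf []) (.leaf [-8749713, -7191431, -13600878, -390447, 65759637, -28613079, -1633641,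 -13194735, 5995, -13196370, 36768464, 45779436, 123, -35828211, -1126276, 384299, -16735168, -2088407, 30])) (.node (.leaf []) (.leaf [0, 0, 0, 1, 0, 0, 0, 0, 0, 0, 0, 0, 0, 0, 0, 0, 0, 0, 0])))) (.node (.node (.node (.leaf [-25, 204, 296, -1, -258, 96, 0, -102, 1, 168, -42, -234, 0, 30, 0, 0, 60, -20, 0]) (.leaf [-4, 35, 42, 0, -132, 60, 2, -5, 0, 75, -68, -70, 0, 25, 8, 0, 32, 1, 0])) (.node (.leaf []) (.leaf [-70100560, -54422998, -104743303, -3071352, 514900906, -223719496, -12911643, -105353952, 41488, -99825733, 288150400, 359403960, 2439, -283715985, -8355773, 3027119, -131361120, -16668823, 306]))) (.node (.node (.leaf [7, 26, 2, 0, 6, 21, 8, -15, 0, 18, -18, 0, 0, -36, 2, 0, 12, -2, 0]) (.leaf [3304493959, 3072632618, 5609921020, 152490741, -26144706093, 11410379902, 636798603, 5015423859, -2731272, 5635080710, -14589065859, -18101218616, 14814, 13893292538, 498480043, -149762908, 6616334344, 797036100, -11375])) (.node (.leaf [-1299350108, -1022896443, -1960120513, -57051276, 9595876087, -4170773508, -240189345,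 -1953974337, 756976, -1876408573, 5369165387, 6693880401, 49941, -5273030784, -157813770, 56235386, -2446478997, -309478825, 8973]) (.leaf [-2032776887, -1556037407, -3007939466, -88649061, 14848940917, -6449536459, -373237069, -3052705269, 1142930, -2854262020, 8311838315, 10371171585, 83608, -8204232460, -237748256, 87411678, -3790513021, -483013151, 10845]))))) (.node (.node (.node (.node (.node (.leaf []) (.leaf [-3, 4, 2, 0, 4, 0, 0, 0, 0, 3, 0, 1, 0, -4, 0, 0, -3, 0, 0])) (.leaf [-102831251, -77669410, -150783232, -4483127, 747464094, -324553875, -18813882, -154378902, 60765, -142501679, 418464949, 522330909, 3240, -414034117, -11816740, 4418983, -190930597, -24385867, 139])) (.node (.leaf []) (.leaf [-18372105, -16298880, -30153730, -839938, 142515696, -62127055, -3495333, -27824793, 14994, -29905059, 79582296, 98871762, -198, -76466049, -2611302, 825120, -36144478, -4408770, 22]))) (.node (.node (.leaf [1, 0, 0, -1, 2, 0, 0, 0, 1, -2, 0, 0, 0, 0, 0, 0, 0, 0, 0]) (.leaf [])) (.node (.leaf [0, 0, 0, 1, 0, 0, 0, 0, 0,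 0, 0, 0, 0, 0, 0, 0, 0, 0, 0]) (.leaf [-402, -480, -808, -18, 3617, -1602, -78, -619, 0, -942, 2041, 2437, 0, -1773, -106, 18, -902, -100, 0])))) (.node (.node (.node (.leaf []) (.leaf [-13880091, -15104814, -26477207, -671616, 117891837, -51653006, -2796639, -21267519, 14484, -27683883, 65613648, 81036342, -450, -60588600, -2545839, 657588, -29619048, -3397943, -6])) (.node (.leaf [-1022623773, -844781015, -1595421373, -45587215, 7698951159, -3350200852, -191152857, -1541787852, 689943, -1549347953, 4304222492, 5359103097, 21517, -4190815962, -132374780, 44873125, -1958804219, -244245159, 2630]) (.leaf [-1015426560, -837848810, -1582873813, -45248649, 7641042835, -3324911048, -189753980, -1530819828, 682902, -1536619490, 4271936957, 5319084760, 21837, -4160266090, -131237717, 44541292, -1944174431, -242506654, 2618]))) (.node (.node (.leaf [427072, 544068, 918918, 20924, -3906689, 1718980, 90954, 657708, -286, 994919, -2170367, -2667564, -46, 1938333, 94255, -20575, 973485, 107710, -17]) (.leaf [328886519, 290156330, 537562243,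 14915916, -2544009955, 1108826046, 62516592, 497561427, -242634, 532092812, -1420814716, -1765632447, -4302, 1366587399, 46376428, -14667709, 645333883, 79003739, -1271])) (.node (.leaf [-458208, -519366, -900881, -22335, 3965279, -1739277, -93567, -703353, 468, -951267, 2205927, 2720832, -11, -2019588, -88300, 21873, -994422, -112860, 5]) (.leaf [-44225, -41003, -74624, -2050, 348928, -152318, -8520, -67119, 37, -75024, 194851, 241665, 1, -185446, -6697, 2013, -88459, -10636, 0])))))) (.node (.node (.node (.node (.node (.node (.leaf [-1, 0, -1, 0, 0, 0, 0, 1, 0, 0, 0, 0, 0, 0, 0, 0, 0, 0, 0]) (.leaf [-41081390, -30801361, -59932107, -1789894, 297892777, -129332489, -7506870, -61684349, 23442, -56559572, 166808739, 208208130, 1322, -165220666, -4680555, 1764940, -76113610, -9740714, 190])) (.leaf [])) (.node (.leaf []) (.leaf [32955219, 27654969, 52004472, 1487708, -249915247, 108793401, 6180170, 49789557, -25498, 50770917, -139670366, -173799895, 285, 135603438, 4361033, -1462522, 63540675, 7867657, 27]))) (.node (.node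 (.leaf []) (.leaf [34907381, 29437576, 55262616, 1573188, -265137590, 115439634, 6555766, 52719525, -26310, 54021261, -148177623, -184359298, -13, 143719386, 4646583, -1546839, 67396978, 8341763, -26])) (.node (.leaf [-32645128, -28783854, -53334549, -1480035, 252452662, -110031937, -6204594, -49385634, 23997, -52784142, 140995501, 175215847, 448, -135627864, -4599983, 1455462, -64041083, -7841845, 128]) (.leaf [7848222, 6074861, 11703354, 345657, -57628775, 25038731, 1444182, 11807280, -4970, 11157136, -32251850, -40219917, -152, 31766996, 934030, -340541, 14704739, 1863691, 6])))) (.node (.node (.node (.leaf []) (.leaf [2, -9, -10, 0, 4, -3, 0, 7, 0, -9, 0, 3, 0, 6, 0, 0, -1, 1, 0])) (.node (.leaf []) (.leaf [1922835068, 1516110679, 2904513384, 85169586, -14208395087, 6175334426, 354785342, 2892592386, -1414423, 2778491842, -7947290215, -9911166594, -7899, 7806507139, 233771333, -83771700, 3623376935, 456193808, 24437]))) (.node (.node (.leaf []) (.leaf [])) (.node (.leaf [-422599, -400696, -728587, -19941, 3377100, -1474296,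 -81687, -643575, 447, -735614, 1883028, 2335425, -30, -1787592, -65420, 19525, -853873, -101686, -1]) (.leaf [-445, -231, -463, -18, 3444, -1443, -78, -827, 0, -606, 1956, 2328, 0, -1929, -90, 18, -909, -121, 0]))))) (.node (.node (.node (.node (.node (.leaf []) (.leaf [6155758, 6681794, 11720119, 297677, -52223125, 22879547, 1239312, 9430815, -6408, 12246849, -29066326, -35901042, 198, 26854176, 1125562, -291471, 13121964, 1506511, 4])) (.leaf [-22, 64, 127, 0, -364, 168, -1, 12, 1, 192, -182, -192, 0, 117, 12, 0, 55, -2, 0])) (.node (.leaf []) (.leaf [-1378343561, -1137278269, -2148522213, -61373325, 10371679153, -4513123910, -257610018, -2077834785, 910548, -2085817015, 5798694831, 7219982293, 33743, -5646985363, -178142386, 60423845, -2638904459, -329274675, 5189]))) (.node (.node (.leaf [-3800844, -2920506, -5638959, -167072, 27828405, -12088836, -698232, -5715837, 2389, -5363684, 15576208, 19428294, 83, -15361647, -447992, 164593, -7103136, -902211, 7]) (.leaf [95, 197, 419, -3, -1101, 458, -2, 81, 0, 345, -519, -744,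 0, 510, 39, 3, 246, -4, 0])) (.node (.leaf [3270, 2325, 4511, 149, -23192, 10013, 589, 4936, -5, 4219, -13009, -16271, 0, 12978, 380, -144, 5995, 776, 0]) (.leaf [-433, -435, -757, -19, 3687, -1567, -78, -707, 2, -804, 2020, 2530, 0, -1917, -100, 18, -966, -92, 0])))) (.node (.node (.node (.leaf [29, 18, 26, 0, -74, 17, 0, 25, 0, -30, -24, -86, 0, 66, 2, 0, 38, -3, 0]) (.leaf [0, 0, 0, 0, -1, 0, 0, 0, 0, 0, 0, 0, 0, 1, 0, 0, 0, 0, 0])) (.node (.leaf [-6155753, -6681797, -11720117, -297676, 52223125, -22879548, -1239312, -9430819, 6408, -12246852, 29066328, 35901042, -198, -26854173, -1125562, 291471, -13121963, -1506510, -5]) (.leaf [-788047, -871640, -1523101, -43251, 6826372, -2998319, -158559, -1230885, 1931, -1624585, 3800145, 4668129, -393, -3486817, -150720, 41732, -1714689, -188333, -19]))) (.node (.node (.leaf []) (.leaf [554915051, 452738368, 858201353, 24639058, -4156770885, 1808273361, 103423764, 836062299, -361120, 830367914, -2324407908, -2895070920, -14218, 2268258222, 70664784, -24261757, 1058156189, 132438248,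 -1962])) (.node (.leaf [-8, 2, 0, -10, 0, 1, 0, 0, 10, 0, -2, 0, 0, 0, -2, 0, 0, 0, 0]) (.leaf [-2753289210, -2191364495, -4185405155, -121578193, 20420948109, -8877952929, -509903412, -4143041697, 1777253, -4018470672, 11422927738, 14238519324, 69348, -11198125861, -339194904, 119730906, -5204398494, -655437080, 686])))))))))

def threeL8 : Janko.Tree (List ℤ) :=
  (.node (.node (.node (.node (.node (.node (.node (.node (.node (.leaf []) (.leaf [-182506786, -151003463, -285042732, -8123454, 1374745094, -598248981, -34140441, -275126281, 117760, -276935684, 768591432, 956899563, 5235, -748092516, -23668378, 7999358, -349721485, -43628276, 1101])) (.leaf [461615, 512516, 893675, 22338, -3954531, 1733725, 93645, 707199, -468, 938613, -2200604, -2716191, 11, 2023365, 86654, -21876, 992551, 113427, -5])) (.node (.leaf [3901021, 2992211, 5780641, 171455, -28541020, 12397698, 716302, 5865855, -2452, 5494377, -15975102, -19927856, -84, 15760899, 458528, -168913, 7285806, 925699, -6]) (.leaf [3665506480, 2223168962, 4651373124, 150898905,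 -24626025373, 10637677384, 640890850, 5448502797, -1103493, 4080193461, -13833990095, -17370490465, -310912, 14198091351, 308650214, -149449698, 6347982638, 858451321, -34802]))) (.node (.node (.leaf []) (.leaf [])) (.node (.leaf [-3, 39, 58, 3, -49, 15, 0, -17, -1, 27, -6, -48, 0, 9, 0, -2, 13, -3, 0]) (.leaf [])))) (.node (.node (.node (.node (.leaf [0, 0, -2, 0, 0, 0, 0, 2, 0, 0, -1, 0, 0, 0, 0, 0, 0, 0, 0]) (.leaf [-3697470, -4012716, -7038830, -178804, 31365389, -13741447, -744347, -5664604, 3843, -7354782, 17457360, 21562486, -121, -16129367, -675934, 175083, -7881158, -904862, -1])) (.leaf [98513, 74889, 144910, 4343, -717606, 311747, 18043, 147915, -70, 137466, -401867, -501231, 0, 396822, 11477, -4273, 183318, 23347, 0])) (.node (.leaf []) (.leaf [-366361897, -331138902, -609331361, -16764143, 2863544006, -1248850803, -70066209, -555153191, 290285, -607323415, 1598614427, 1985124165, 552, -1530607644, -53311962, 16472502, -725614119, -88142593, 804]))) (.node (.node (.leaf [0, 0, -1, -1, 0, 0, 0, 0, 0, 0, 0, 0, 0,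 0, 0, 1, 0, 0, 0]) (.leaf [475128, 370435, 711926, 20537, -3492762, 1517600, 87723, 713367, -211, 678722, -1954729, -2438319, -45, 1923372, 56834, -20280, 890699, 113366, -1])) (.node (.leaf []) (.leaf [-6425, -4847, -9306, -280, 46196, -20080, -1177, -9546, 5, -8790, 25933, 32340, 0, -25560, -756, 275, -11846, -1524, 0]))))) (.node (.node (.node (.node (.node (.leaf []) (.leaf [0, -1, 1, 1, 0, 0, 0, 0, 0, 0, 0, 1, 0, 0, 0, -1, 0, 0, 0])) (.leaf [-3380259564, -2649276990, -5083867364, -148553361, 24921191333, -10830599274, -623923645, -5082727219, 2063811, -4859466186, 13944312804, 17387677583, 105283, -13706490003, -408092228, 146373589, -6355316009, -804166032, 10677])) (.node (.leaf [16417, 15835, 28560, 738, -132912, 58220, 3244, 25067, 0, 29631, -74359, -91516, 0, 69801, 2636, -738, 33480, 4066, 0]) (.leaf []))) (.node (.node (.leaf []) (.leaf [18468732, 620392, 9397581, 600633, -85210279, 35671509, 2648668, 26470077, 11730, 1264103, -48863310, -63420907, -4225, 60771249, -615177, -607659, 23178223, 4099796, -479]))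 (.node (.leaf [-41291325, -82968621, -129153262, -2499473, 490506304, -218166755, -10479228, -66730683, 77940, -151942864, 270366160, 327727015, -4693, -218876442, -15398031, 2424185, -119685910, -11088269, 2041]) (.leaf [66186, 50487, 97740, 2933, -483000, 209841, 12117, 99396, -46, 92751, -270404, -337275, -1, 266950, 7722, -2886, 123300, 15686, 0])))) (.node (.node (.node (.leaf []) (.leaf [449528, 362224, 689939, 20230, -3352525, 1458001, 83340, 677513, -363, 664380, -1874398, -2335980, 11, 1834194, 56211, -19878, 853944, 106682, 0])) (.node (.leaf [1, 0, 0, 0, 0, 0, 0, 0, 0, 0, 0, 0, 0, 0, 0, 0, 0, 0, 0]) (.leaf [4057767835, 3193515963, 6120256606, 178327448, -29963765014, 13023326221, 749856505, 6102249173, -2432283, 5857627234, -16765068464, -20902411371, -140277, 16466581245, 492597935, -175735646, 7639669295, 966019775, -19242]))) (.node (.node (.leaf []) (.leaf [13, 5, 7, 0, 23, -8, 1, -7, 0, -17, 10, 0, 0, -6, 0, 0, 0, 0, 0])) (.node (.leaf [901, 1206, 2246, 45, -9797, 4285, 184, 1542, 0, 2760, -5386, -6378, 0,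 4728, 260, -45, 2309, 265, 0]) (.leaf [-13883367, -15107087, -26481631, -671760, 117914932, -51662963, -2797228, -21272481, 14486, -27688035, 65626625, 81052550, -449, -60601567, -2546220, 657729, -29625024, -3398733, -6])))))) (.node (.node (.node (.node (.node (.node (.leaf [-1, 0, 0, 0, 0, -1, 0, 0, 0, 0, 1, 0, 0, 0, 0, 0, 0, 0, 0]) (.leaf [1095043, 1043687, 1894879, 51130, -8763327, 3825667, 212154, 1666116, -1026, 1913614, -4885901, -6060803, 29, 4634690, 170243, -50135, 2215002, 264223, 2])) (.leaf [-5331, -3964, -7653, -244, 38336, -16634, -980, -7975, 0, -7218, 21504, 26829, 0, -21270, -615, 244, -9848, -1270, 0])) (.node (.leaf [0, 0, 0, 0, 1, 0, 0, 0, 0, 0, 0, 0, 0, 0, 0, 0, 0, 0, 0]) (.leaf [-4304954437, -3321600411, -6404900032, -188143767, 31545465414, -13704369995, -791983667, -6467851744, 2442798, -6093688474, 17656035524, 22024617070, 170628, -17402198001, -509005619, 185502228, -8049720804, -1023652162, 28113]))) (.node (.node (.leaf [0, 3, 4, 0, -5, 0, 0, 0, 0, 0, 0, -6, 0, 3, 0, 0, 2, 0, 0]) (.leaf [0,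 -6, -8, 0, 2, -5, 0, 6, 0, -9, 3, 0, 0, 6, 0, 0, 2, 0, 0])) (.node (.leaf [-11680, -11918, -21577, -577, 93242, -40773, -2277, -17130, 16, -20700, 51771, 65088, 0, -49170, -1723, 561, -23372, -2811, 0]) (.leaf [-1726217776, -785036928, -1843021906, -66825994, 10630951554, -4563775441, -287596499, -2540374458, 4939, -1442703192, 5996886987, 7582087373, 237979, -6418241478, -91450447, 66549375, -2770199238, -399175646, 33701])))) (.node (.node (.node (.leaf []) (.leaf [-128497967, -118155449, -216387374, -5906643, 1011691385, -441406662, -24686463, -194880094, 104197, -216670026, 564630354, 700813620, -36, -538863900, -19107772, 5802224, -256157693, -30961862, 258])) (.node (.leaf [11, -138, -237, 0, 651, -272, 7, 13, 0, -351, 319, 353, 0, -171, -51, 0, -129, -2, 0]) (.leaf [-351563848, -272454456, -524658737, -15396739, 2580529828, -1121169563, -64726599, -528322353, 207532, -499760868, 1444166136, 1801360053, 12284, -1422384484, -41806798, 15175410, -658394178, -83584662, 1513]))) (.node (.node (.leaf [-11818, -13576, -23807,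 -540, 104848, -46226, -2407, -18306, 0, -26013, 58545, 71304, 0, -52902, -2419, 540, -25933, -2996, 0]) (.leaf [201, 229, 395, 9, -1847, 784, 38, 347, 0, 420, -1007, -1267, 0, 954, 46, -9, 473, 49, 0])) (.node (.leaf [1289878647, 1123998691, 2089839786, 58364288, -9926793716, 4325365593, 244385475, 1950350919, -948063, 2061425421, -5545092399, -6893241654, -14563, 5345846457, 179025594, -57396906, 2519536302, 309449728, -4755]) (.leaf [2593026012, 2291729923, 4243586387, 117587540, -20078620150, 8752296334, 493540944, 3924422184, -1813978, 4205727873, -11214903035, -13932805500, -46270, 10780769134, 366811769, -115692783, 5092188499, 623787565, -34509]))))) (.node (.node (.node (.node (.node (.leaf []) (.leaf [-3460028073, -2763550420, -5272409055, -152763298, 25699680638, -11174037221, -641569393, -5207446272, 2167182, -5068847575, 14375724132, 17915985560, 101384, -14082590814, -428376317, 150481887, -6548322685, -824432971, 12846])) (.leaf [72439895, 55921435, 107817782, 3172167, -530956808, 230669741, 13324137, 108851046,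 -43056, 102592603, -297164625, -370689450, -2381, 292875065, 8571194, -3126440, 135491018, 17214665, -290])) (.node (.leaf [1, 0, 0, 2, 0, 0, 0, 0, -2, 0, 1, 0, 0, 0, 0, 0, 0, 0, 0]) (.leaf [3148822497, 2349704881, 4579161046, 136606092, -22777448522, 9887018553, 574565237, 4723115155, -1761598, 4309527864, -12754269155, -15926635505, -125618, 12646782717, 355708288, -134712467, 5821228095, 746321931, -6409]))) (.node (.node (.leaf [-422596, -400702, -728596, -19940, 3377106, -1474303, -81687, -643569, 447, -735626, 1883031, 2335425, -30, -1787586, -65420, 19525, -853871, -101685, -2]) (.leaf [6764089, 4602728, 9239675, 282537, -47222252, 20456322, 1211262, 10082243, -1912, 8433729, -26489411, -33158900, -721, 26674242, 671389, -279881, 12114785, 1598324, -23])) (.node (.leaf [755, 771, 1452, 36, -6924, 3032, 150, 1224, 0, 1737, -3866, -4587, 0, 3498, 168, -36, 1689, 208, 0]) (.leaf [-131440, -105054, -198599, -3363, 933336, -403528, -25032, -186019, -469, -179459, 522419, 660862, 173, -516279, -14670, 3652, -237720, -33832,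 7])))) (.node (.node (.node (.leaf [-2548829571, -2791814502, -4886869993, -124693798, 21719102177, -9517457323, -513640305, -3909290643, 3075097, -5115304687, 12083990109, 14923954695, -185124, -11147244504, -471070260, 121846231, -5456387164, -622039691, -42406]) (.leaf [-22315, -22907, -41500, -1067, 181551, -79641, -4379, -33093, 23, -41238, 101002, 125743, 0, -94998, -3459, 1044, -45315, -5419, 0])) (.node (.leaf [231087887, 203955386, 377819222, 10479926, -1787785058, 779224494, 43931253, 349604703, -170220, 374005718, -998459341, -1240771593, -3144, 960287202, 32600896, -10305658, 453495138, 55514437, -904]) (.leaf [-3964945120, -3417322320, -6373620479, -178562890, 30378230750, -13233423043, -749603098, -5991909018, 2706215, -6270081881, 16973832903, 21104479810, 82780, -16394834635, -542802537, 175733947, -7713409369, -951407192, 39948]))) (.node (.node (.leaf [-15, 0, -3, 0, -6, 0, 0, 0, 0, 15, 0, 6, 0, -6, 0, 0, -3, 0, 0]) (.leaf [10793787188, 8691815078, 16542004428, 478165162, -80428579623, 34976050656, 2004535461,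 16251658457, -7135107, 15938251303, -44981097302, -56049920279, -244531, 44003291726, 1350522545, -470786682, 20487198457, 2571667132, 1158])) (.node (.leaf [-16149, -15656, -28473, -769, 129012, -56367, -3132, -24319, 16, -28302, 71887, 89478, 0, -68220, -2470, 753, -32490, -3905, 0]) (.leaf [-161868, 4084978, 5338313, 43807, -14133526, 6545115, 205627, 101949, -3460, 7410914, -7553162, -8694040, 60, 3563307, 840068, -40488, 3159184, 66540, 81]))))))) (.node (.node (.node (.node (.node (.node (.node (.leaf [-6, 6, 8, 0, -7, 5, 0, -6, 0, 15, -3, 0, 0, -6, 0, 0, -2, 0, 0]) (.leaf [-184, 51, 73, -12, 1141, -444, -38, -429, 0, -39, 690, 768, 0, -750, -31, 12, -352, -59, 0])) (.leaf [32334318, 28231944, 52463431, 1464023, -249047653, 108520887, 6128961, 48895803, -23891, 51776292, -139111482, -172926036, -369, 134066406, 4499094, -1439654, 63205310, 7758159, -109])) (.node (.leaf [353021, 267976, 519467, 15569, -2572132, 1117136, 64578, 530436, -237, 492096, -1439894, -1796593, 0, 1423104, 40935, -15332, 656932, 83564, 0]) (.leaf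 [449353, 362121, 689807, 20225, -3351657, 1457606, 83304, 677319, -363, 664230, -1873843, -2335341, 11, 1833726, 56179, -19875, 853692, 106630, 2]))) (.node (.node (.leaf [3202, 2411, 4645, 140, -23125, 10037, 586, 4780, 1, 4399, -12968, -16172, 0, 12798, 377, -141, 5928, 765, 0]) (.leaf [-47269049, -47848283, -85411413, -2231094, 388226108, -169786941, -9328056, -72077568, 42765, -87703517, 216335425, 267768237, -429, -202663464, -7928005, 2188509, -97859090, -11499323, 249])) (.node (.leaf [0, 0, 0, 0, 1, 0, 0, 0, 0, 0, 0, 0, 0, 0, 0, 0, 0, 0, 0]) (.leaf [-75706879, -68772081, -126372633, -3466480, 592942480, -258627514, -14498967, -114732437, 59711, -126115077, 330993650, 410969772, 264, -316615269, -11083719, 3406271, -150212544, -18225440, 234])))) (.node (.node (.node (.node (.leaf [16119, 15408, 28018, 754, -129430, 56564, 3126, 24554, -11, 28410, -72198, -89418, 0, 68364, 2520, -743, 32656, 3891, 0]) (.leaf [0, 0, 0, 0, 0, 0, 0, 0, 0, 0, 0, 0, 0, 0, 0, 0, 0, 0, 1])) (.leaf [694653429, 534722026, 1031809114, 30304011,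 -5085352576, 2209115030, 127750941, 1043445501, -380613, 980986720, -2846455978, -3550938522, -30995, 2806622088, 81874462, -29886821, 1297770014, 165217067, -5582])) (.node (.leaf [871242, 576007, 1170269, 40282, -6081780, 2636896, 153909, 1314312, -1172, 1073958, -3412249, -4260261, 210, 3444927, 85208, -39340, 1562735, 200982, 20]) (.leaf [4, -4, 1, 10, 0, -1, 1, 0, -7, 0, 2, 2, 0, 0, 1, -3, 0, 0, 0]))) (.node (.node (.leaf []) (.leaf [-428021484, -298503344, -595370963, -18879344, 3018623948, -1307765646, -76257473, -640760009, 461685, -545283339, 1689860620, 2117178468, -35346, -1698557011, -43825294, 18484237, -774728802, -99383773, -31232])) (.node (.leaf [-3401905473, -2966473300, -5514405774, -153922722, 26187923569, -11410946983, -644666370, -5143884450, 2494602, -5440440596, 14628402287, 18184613876, 40815, -14100943587, -472571434, 151374492, -6646579409, -816229945, 12813]) (.leaf [-226298640, -186238400, -352166659, -10112015, 1701237776, -740192149, -42230202, -341194701, 165119, -341482326, 951040750, 1184405559,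 1499, -926800209, -29138247, 9946027, -432955610, -53957882, -630]))))) (.node (.node (.node (.node (.node (.leaf [1, 0, 0, 2, 0, 0, 0, 0, -2, 0, 1, 0, 0, 0, 0, 0, 0, 0, 0]) (.leaf [0, 3, 4, 0, 2, 1, 0, -3, 0, 3, 0, 0, 0, -3, 0, 0, -1, 0, 0])) (.leaf [-80, 78, 260, -6, -126, 9, -37, -138, 0, 171, 84, -38, 0, -15, 12, 6, -30, -47, 0])) (.node (.leaf []) (.leaf [-70656962, -59495682, -111726782, -3177842, 536275421, -233482107, -13269024, -106688359, 51553, -109164138, 299726930, 372932526, 375, -290782896, -9385299, 3125704, -136328847, -16891234, 210]))) (.node (.node (.leaf [-1773548557, -1343113661, -2605202731, -77193688, 12902390124, -5602595725, -324789228, -2662223013, 997353, -2463739608, 7223303053, 9015763596, 70689, -7143483195, -204448201, 76117924, -3295222169, -420970531, 7722]) (.leaf [6532083823, 5003813960, 9670596867, 285005120, -47728580669, 20730899224, 1199460321, 9809919519, -3715176, 9178156057, -26715904544, -33334805706, -258700, 26367108828, 764681297, -281000985, 12183518510, 1551951688, -30259]))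 (.node (.leaf [16161, 15626, 28377, 764, -129031, 56341, 3132, 24376, -14, 28212, -71867, -89493, 0, 68265, 2470, -750, 32554, 3892, 0]) (.leaf [-1948773, -2021869, -3584990, -85298, 16051211, -7014109, -388580, -2939949, 207, -3659534, 8936629, 11092685, 512, -8351517, -331231, 84533, -4040547, -482205, 46])))) (.node (.node (.node (.leaf []) (.leaf [5925773, -1381833, 921120, 170236, -21518451, 8755650, 761221, 8346556, 5788, -2491812, -12547526, -16745816, -1674, 17891037, -522935, -174206, 6120486, 1278120, -144])) (.node (.leaf [-369659, -350051, -636695, -17485, 2952796, -1289053, -71409, -563067, 402, -642726, 1646459, 2042012, -27, -1563375, -57150, 17110, -746677, -88880, 0]) (.leaf [2149, 1074, 2291, 98, -14895, 6531, 390, 3480, -1, 2565, -8583, -10179, 2, 8475, 238, -99, 3854, 523, 0]))) (.node (.node (.leaf []) (.leaf [5358510136, 4674678334, 8688845605, 242649689, -41259680277, 17978471991, 1015502153, 8103286965, -3972753, 8573766761, -23047093263, -28649255529, -50800, 22214265063, 744860779, -238607356, 10471701100,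 1285528498, -18780])) (.node (.leaf [-2132, -1684, -3250, -81, 15705, -6840, -386, -3165, 1, -3114, 8797, 10948, -1, -8613, -264, 81, -3977, -509, 0]) (.leaf [26550847, 22508477, 42192714, 1200718, -202155202, 88027086, 4992659, 40127357, -20575, 41315804, -112966091, -140525149, 192, 109463478, 3560343, -1180329, 51375798, 6345389, -6])))))) (.node (.node (.node (.node (.node (.node (.leaf [0, 0, -1, 0, -1, 0, 0, 0, 0, 0, 0, 0, 0, 0, 0, 0, 1, 0, 0]) (.leaf [143283510, 142270152, 255174862, 6717473, -1166534935, 509965044, 28126485, 218199797, -124365, 260812877, -650298304, -805271418, 282, 611406694, 23467805, -6592740, 294315826, 34798178, -650])) (.leaf [696, 826, 1432, 36, -6968, 3048, 156, 1254, 0, 1800, -3906, -4620, 0, 3450, 188, -36, 1718, 200, 0])) (.node (.leaf [-3, 0, 0, 0, -2, -1, 0, 0, 0, 2, 1, 0, 0, 0, 0, 0, 0, 0, 0]) (.leaf [-4595235435, -4001763220, -7441933598, -208064413, 35357654699, -15406081816, -870431976, -6948697839, 3416244, -7339836943, 19750785949, 24552847340, 38817, -19043352729, -637338232,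 204593737, -8974506520, -1102159127, 15615]))) (.node (.node (.leaf [15265218, 15654348, 27848011, 724572, -126121176, 55178368, 3022419, 23297157, -14558, 28694385, -70264621, -86931834, 288, 65652027, 2602752, -710322, 31774552, 3714963, 20]) (.leaf [502317, 476231, 865529, 23581, -4002955, 1747511, 97079, 762386, -497, 870745, -2232029, -2770437, 24, 2119815, 77288, -23108, 1012379, 120891, 0])) (.node (.leaf [-1, 2, 5, -4, 4, 1, -1, -2, 3, -1, 2, 1, 0, -3, 1, 1, 0, -4, 0]) (.leaf [-17507741, -12920241, -25271044, -759928, 126211069, -54770471, -3187065, -26274168, 9731, -23726079, 70685322, 88274094, 629, -70214683, -1952734, 749568, -32270726, -4145369, 0])))) (.node (.node (.node (.leaf []) (.leaf [0, 0, 2, 2, -1, 0, 0, 0, 0, 0, 0, 0, 0, 0, 0, -2, 1, 0, 0])) (.node (.leaf [912416253, 797527403, 1481477992, 41267579, -7030245427, 3063476964, 173025615, 1379638263, -661320, 1462519572, -3926938383, -4881309316, -13903, 3783647151, 127123050, -40588590, 1784091739, 219014707, -3766]) (.leaf [-72485, -42711, -93273, -5674,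 518972, -226534, -11652, -117734, 664, -88860, 290067, 357341, -195, -295991, -6792, 5222, -133974, -13698, -17]))) (.node (.node (.leaf [-77, 17, 26, -6, 181, -22, -1, -132, 0, 135, 75, 205, 0, -219, -2, 6, -97, -7, 0]) (.leaf [0, -3, -4, 0, 0, -1, 0, 3, 0, -3, 0, 0, 0, 3, 0, 0, 1, 0, 0])) (.node (.leaf []) (.leaf [37393693, 30342268, 57608857, 1662073, -279604201, 121622244, 6960530, 56354092, -24700, 55686033, -156369648, -194759384, -720, 152724295, 4733011, -1636513, 71194493, 8918279, -140]))))) (.node (.node (.node (.node (.node (.leaf []) (.leaf [-1055608, -1526621, -2506198, -39204, 10080514, -4432558, -238285, -1575549, -2376, -2712263, 5584081, 6900326, 1159, -4875543, -261037, 40320, -2493581, -285889, 101])) (.leaf [317, 381, 650, 18, -3486, 1517, 78, 634, 0, 913, -1942, -2256, 0, 1704, 93, -18, 869, 95, 0])) (.node (.leaf [-15356, -14887, -26731, -693, 124459, -54584, -3056, -23419, 0, -27882, 69713, 85650, 0, -65220, -2487, 693, -31357, -3817, 0]) (.leaf [1125551560, 861883802, 1665955357, 49198144, -8223704117,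 3571973582, 206603601, 1690591623, -668526, 1581012304, -4603090562, -5743530525, -36871, 4543362170, 131717823, -48490163, 2099356808, 267249033, -2584]))) (.node (.node (.leaf [28, 80, 135, 0, -216, 118, 4, -14, 0, 102, -119, -162, 0, 75, 3, 0, 39, 1, 0]) (.leaf [-22741, -21159, -38339, -1011, 179575, -78606, -4457, -34330, 0, -38985, 100513, 124164, 0, -95142, -3406, 1011, -45448, -5572, 0])) (.node (.leaf [142892392, 102039700, 201701175, 6118068, -1016885408, 440950743, 25838271, 213916575, -66841, 187278446, -569858843, -712344963, -8032, 569264577, 15210447, -6041950, 260348985, 33807421, -1245]) (.leaf [-329, -391, -689, -18, 3438, -1472, -77, -647, 0, -841, 1894, 2295, 0, -1743, -84, 18, -854, -97, 0])))) (.node (.node (.node (.leaf [1050, 764, 1442, 45, -7567, 3281, 199, 1609, 0, 1392, -4251, -5289, 0, 4209, 117, -45, 1966, 251, 0]) (.leaf [-3198, -2431, -4685, -140, 23240, -10086, -585, -4788, -2, -4451, 13024, 16239, 1, -12843, -381, 141, -5946, -766, 0])) (.node (.leaf [0, 0, 0, 0, -1, 1, 0, 0, 0, 1, -1, 0, 0,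 0, 0, 0, 0, 0, 0]) (.leaf [-20940, -16254, -31386, -909, 153968, -66877, -3830, -31428, 7, -29925, 86117, 107403, 0, -84813, -2506, 902, -39230, -4984, 0]))) (.node (.node (.leaf []) (.leaf [])) (.node (.leaf [0, 0, -2, 0, -2, 0, 0, 0, 0, 0, 0, 0, 0, 0, 0, 0, 2, 0, 0]) (.leaf [0, 0, 0, 0, 1, 0, 0, 0, 0, 0, 0, 0, 0, 0, 0, 0, 0, 0, 0])))))))) (.node (.node (.node (.node (.node (.node (.node (.node (.leaf []) (.leaf [-44, -1, 23, -1, 10, 15, 2, -57, 0, 90, 9, 69, 2, -69, -3, 0, -32, -4, 0])) (.leaf [0, 0, 0, 2, -2, 0, 0, 0, 0, 0, 0, 0, 0, 0, 0, -2, 2, 0, 0])) (.node (.leaf []) (.leaf [11, -48, -98, 0, 251, -113, 1, -3, 0, -131, 123, 139, 0, -84, -8, 0, -36, -2, 0]))) (.node (.node (.leaf [0, 3, 3, 0, -1, 0, 0, 0, 0, 0, 0, -3, 0, 0, 0, 0, 1, 0, 0]) (.leaf [1, 0, -1, 2, 0, 0, 0, 0, -1, 0, 0, 0, -1, 1, 0, 0, 0, 1, 0])) (.node (.leaf [15631, 15480, 28027, 730, -126309, 55235, 3048, 23548, -10, 28074, -70291, -87414, 0, 66456, 2430, -720, 31779, 3764, 0]) (.leaf [0, 0, 2, 0, 1, 0, 0, 0, 0, 0, 0, 0, 0, 0, 0, 0, -1, 0, 0])))) (.node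 (.node (.node (.node (.leaf []) (.leaf [0, 0, 1, 0, 0, 0, 0, 0, 0, 0, 0, 0, 0, 0, 0, 0, 0, 0, 0])) (.leaf [62295237, 53966648, 100505949, 2815355, -478313825, 208376979, 11785985, 94185020, -45562, 98986444, -267207123, -332226456, -612, 257890236, 8584199, -2768932, 121437802, 14937955, -249])) (.node (.leaf [188, 357, 616, 9, -2470, 1063, 32, 317, 0, 789, -1327, -1576, 0, 1089, 98, -9, 592, 50, 0]) (.leaf [-15, -9, -14, 0, 5, -1, 0, 3, 0, 12, 0, 18, 0, -9, 0, 0, -7, 0, 0]))) (.node (.node (.leaf [19658, 19573, 35425, 922, -159204, 69573, 3828, 29610, -13, 35463, -88545, -110187, 0, 83703, 3083, -909, 40038, 4747, 0]) (.leaf [-205, 33, 56, -12, 1076, -432, -38, -402, 0, -27, 672, 747, 0, -711, -31, 12, -338, -62, 0])) (.node (.leaf [134204, 128017, 232547, 6309, -1073402, 468553, 25968, 203952, -135, 234308, -598297, -742599, 5, 567784, 20825, -6181, 271305, 32320, 2]) (.leaf [-98407, -90938, -165481, -4706, 785990, -343538, -19107, -151732, 105, -170520, 439662, 541849, -17, -416460, -15327, 4613, -199004, -23876, 5])))))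 (.node (.node (.node (.node (.node (.leaf [0, 1, -3, -4, 0, 0, 0, 0, 0, 0, 0, -1, 0, 0, 0, 4, 0, 0, 0]) (.leaf [-79540852, -81463503, -144934225, -3748047, 656468368, -287196757, -15757663, -121287319, 68392, -149262233, 365779675, 452573894, 649, -341822686, -13530692, 3678524, -165384363, -19393956, 482])) (.leaf [])) (.node (.leaf [4420, 2161, 4447, 186, -26005, 11158, 810, 6327, 0, 3157, -14714, -18927, 0, 15786, 170, -186, 7062, 1007, 0]) (.leaf [-40, -218, -358, -7, -399, 222, -6, 177, 0, 198, -329, 75, 0, 99, 50, 7, 102, 0, 0]))) (.node (.node (.leaf [1267830, 1201734, 2185253, 59819, -10130854, 4422742, 245061, 1930893, -1341, 2206578, -5649021, -7005849, 90, 5362704, 196260, -58575, 2561505, 305086, 7]) (.leaf [-4, 20, 46, 0, -121, 52, 0, 5, 0, 58, -58, -69, 0, 45, 4, 0, 18, 0, 0])) (.node (.leaf [-3085909889, -2527851237, -4785982890, -137217544, 23153495057, -10073204362, -575667141, -4650417405, 2040039, -4636220119, 12946174515, 16122822381, 72537, -12624323013, -395053527, 135096007, -5893009244, -736619802,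 8961]) (.leaf [-1015797070, -838009880, -1583262917, -45272284, 7643467754, -3325961124, -189813217, -1531411684, 685047, -1536968125, 4273305050, 5320773024, 21184, -4161708222, -131262889, 44563481, -1944808100, -242582732, 2571])))) (.node (.node (.node (.leaf [-244, -168, -335, -12, 1998, -831, -39, -432, 0, -390, 1105, 1350, 0, -1083, -60, 12, -525, -57, 0]) (.leaf [0, 0, 0, -2, 2, 0, 0, 0, 0, 0, 0, 0, 0, 0, 0, 2, -2, 0, 0])) (.node (.leaf [819684303, 673488616, 1274024276, 36529225, -6157264126, 2678924688, 152952615, 1235455008, -568617, 1234876269, -3442399578, -4287104967, -13846, 3355358706, 105318876, -35947784, 1567037360, 195551902, 1022]) (.leaf [-35661613, -30164081, -56570783, -1600713, 271107764, -118045171, -6705223, -53838697, 25104, -55333358, 151513788, 188504658, 595, -146873144, -4762805, 1574933, -68901740, -8533297, 81]))) (.node (.node (.leaf [-18815073, -939931, -9981544, -613739, 87898321, -36840348, -2715917, -26984313, -12100, -1835276, 50362679, 65294776, 4464, -62208456, 565064, 620877, -23858063,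 -4186427, 498]) (.leaf [81448, 77056, 140140, 3848, -650341, 283888, 15729, 124092, -90, 141462, -362641, -449774, 7, 344388, 12594, -3765, 164487, 19577, 0])) (.node (.leaf [-279, -242, -452, -12, 2169, -906, -37, -423, 0, -443, 1183, 1502, 0, -1161, -62, 12, -565, -62, 0]) (.leaf [264294140, 231688874, 430018770, 11944453, -2038607058, 888400995, 50167589, 399604773, -186531, 424817214, -1138697185, -1415339965, -5582, 1096538447, 36950636, -11750719, 517256740, 63487872, -1621])))))) (.node (.node (.node (.node (.node (.node (.leaf []) (.leaf [1019691042, 841953562, 1590304416, 45448546, -7675335709, 3339886650, 190582886, 1537315923, -686923, 1544153560, -4291056489, -5342786272, -21697, 4178360991, 131910530, -44737299, 1952838250, 243537354, -2627])) (.leaf [-8013, -7933, -14297, -358, 66391, -29032, -1602, -12430, 1, -14979, 37024, 45583, 0, -34731, -1317, 357, -16681, -1998, 0])) (.node (.leaf [45, 27, 42, -2, -46, 12, 0, 18, 0, -45, -18, -90, 0, 63, 0, 2, 28, 0, 0]) (.leaf [15518534, 16015645, 28442811, 737058, -128579116,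 56263905, 3078936, 23689826, -14625, 29356880, -71629551, -88600311, 237, 66838653, 2666840, -722668, 32383427, 3780603, -2]))) (.node (.node (.leaf [1, 0, 0, 0, 0, 0, 0, 0, 0, 0, 0, 0, 0, 0, 0, 0, 0, 0, 0]) (.leaf [273169, 300125, 525146, 13381, -2329485, 1020875, 55102, 418772, -342, 549103, -1295804, -1600954, 24, 1195236, 50467, -13063, 585130, 66602, 0])) (.node (.leaf [0, 0, 0, 0, 1, 0, 0, 0, 0, 0, 0, 0, 0, 0, 0, 0, 0, 0, 0]) (.leaf [1019208, 1046949, 1863480, 45678, -8387949, 3665268, 202361, 1544538, -373, 1904429, -4670162, -5793002, -185, 4371889, 171988, -45102, 2111772, 250860, -18])))) (.node (.node (.node (.leaf [10, -63, -92, 0, 80, -33, 0, 32, 0, -57, 15, 69, 0, -6, 0, 0, -17, 8, 0]) (.leaf [-3158834, -3417060, -5998819, -152657, 26756517, -11721290, -635265, -4838678, 3279, -6263379, 14892877, 18396612, -102, -13768947, -575238, 149484, -6724119, -772725, -4])) (.node (.leaf [10766, 12696, 22113, 495, -96806, 42730, 2218, 16721, 0, 24354, -54059, -65730, 0, 48540, 2276, -495, 23912, 2740, 0]) (.leaf [229785421,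 190661599, 359601116, 10247487, -1733078397, 754232641, 43009102, 346518284, -152406, 349704029, -968864430, -1206127875, -5520, 942542856, 29919838, -10088487, 440836266, 54924329, -1074]))) (.node (.node (.leaf []) (.leaf [-575513428, -507852553, -940932573, -26211282, 4452631561, -1940689735, -109314981, -870926303, 462452, -931191798, 2486484058, 3090175553, -1995, -2391837930, -81168094, 25752232, -1129599096, -138031486, -1407])) (.node (.leaf [7058213, 7449315, 13139955, 326172, -58914079, 25787366, 1412763, 10742823, -4386, 13604380, -32813793, -40590336, -711, 30487095, 1241874, -321072, 14823081, 1734628, -3]) (.leaf [3206758, 3462987, 6082250, 154876, -27141032, 11889376, 644567, 4911499, -3315, 6347835, -15107344, -18662350, 103, 13971992, 582700, -151668, 6821133, 784281, 4]))))) (.node (.node (.node (.node (.node (.leaf [0, 0, 0, 0, -1, 0, 0, 0, 0, 1, 0, 0, 0, 0, 0, 0, 0, 0, 0]) (.leaf [1838420, 1996691, 3501803, 88926, -15600351, 6834786, 370181, 2816517, -1917, 3659520, -8682721, -10724332, 61, 8021033, 336365,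 -87072, 3919756, 449935, 2])) (.leaf [-3212, -2423, -4653, -138, 23098, -10042, -589, -4773, 1, -4395, 12968, 16170, 0, -12780, -378, 137, -5923, -761, 0])) (.node (.leaf [0, 0, 0, 0, 1, 0, 0, 0, 0, 0, 0, 0, 0, 0, 0, 0, 0, 0, 0]) (.leaf [-3735390094, -3361188037, -6192949895, -170818183, 29141303663, -12707807424, -713528615, -5659022822, 2958815, -6164645196, 16269627912, 20205989357, -174, -15590887247, -540385284, 167848974, -7385781672, -898241070, 10568]))) (.node (.node (.leaf [85, -142, -250, 0, 728, -340, 6, 39, 0, -510, 380, 309, 0, -123, -50, 0, -95, -5, 0]) (.leaf [0, -3, -4, 0, 0, -1, 0, 3, 0, -3, 0, 0, 0, 3, 0, 0, 1, 0, 0])) (.node (.leaf [-4469167, -3289584, -6437342, -192240, 32152531, -13957813, -813706, -6693901, 2004, -6040445, 18015216, 22491825, 325, -17893137, -495723, 189884, -8219193, -1060038, 27]) (.leaf [10, -41, -102, 0, 261, -114, 1, 1, 0, -132, 121, 139, 0, -93, -6, 0, -36, -2, 0])))) (.node (.node (.node (.leaf []) (.leaf [284828, 270904, 492429, 13498, -2278075, 994543, 55056, 433544, -313,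 496820, -1269934, -1575479, 19, 1205359, 44141, -13204, 575883, 68475, 0])) (.node (.leaf [0, 0, 0, 1, -1, 0, 0, 0, 0, 0, 0, 0, 0, 0, 0, -1, 1, 0, 0]) (.leaf [0, 0, 0, 0, 1, 0, 0, 0, 0, 0, 0, 0, 0, 0, 0, 0, 0, 0, 0]))) (.node (.node (.leaf [8443, 7763, 14177, 378, -67995, 29587, 1638, 13197, 0, 14692, -37970, -46842, 0, 36087, 1354, -378, 17216, 2084, 0]) (.leaf [-29292169, -15224069, -33722302, -1086702, 186823017, -80429871, -5037149, -43070661, -21525, -27932455, 105353959, 132707939, 10083, -110519134, -1937670, 1095619, -48380675, -6950870, 2525])) (.node (.leaf []) (.leaf [-4970757414, -3951630554, -7549776410, -219060690, 36851929844, -16021155164, -920775700, -7479112675, 3040278, -7248249369, 20615854881, 25695950703, 161156, -20212100319, -611605286, 215835452, -9391711399, -1184260438, 23805]))))))) (.node (.node (.node (.node (.node (.node (.node (.leaf []) (.leaf [5139401, 3762957, 7375204, 222001, -36928711, 16025532, 934420, 7705894, -2659, 6911980, -20689036, -25835973, -223, 20571477, 567342, -219108, 9445414,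 1217096, -11])) (.leaf [0, -3, -4, 0, 0, -1, 0, 3, 0, -3, 0, 0, 0, 3, 0, 0, 1, 0, 0])) (.node (.leaf [3665491, 3079192, 5782204, 160623, -27726435, 12070684, 689133, 5513631, -1678, 5634643, -15501220, -19295343, -321, 15043995, 483344, -158610, 7048025, 880382, -14]) (.leaf [2230156864, 2405423789, 4226784780, 108827322, -18863289583, 8262356984, 446916681, 3416822269, -2775178, 4405087694, -10496208330, -12971778387, 181230, 9715028232, 404228455, -106291016, 4742995195, 542494933, 57642]))) (.node (.node (.leaf []) (.leaf [6463658524, 4825880883, 9402433821, 279726739, -46769952587, 20302442533, 1180585529, 9695526842, -3277885, 8855450092, -26191943101, -32700908707, -327354, 25963613406, 731156243, -276057510, 11951171315, 1534305729, -63990])) (.node (.leaf [0, -2, 4, 5, 0, 0, 0, 0, 0, 0, 0, 2, 0, 0, 0, -5, 0, 0, 0]) (.leaf [-6155749, -6681800, -11720120, -297675, 52223125, -22879547, -1239312, -9430818, 6408, -12246855, 29066326, 35901042, -198, -26854170, -1125562, 291471, -13121962, -1506509, -6])))) (.node (.node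 (.node (.leaf [-3785015, -4515179, -7738839, -184648, 33555468, -14741638, -787668, -5818089, 3109, -8272618, 18660281, 22970913, 141, -16893330, -774877, 181297, -8389715, -943011, 101]) (.leaf [8, 3, 7, 0, 2, -1, 0, -2, 0, -6, 0, -6, 0, 3, 0, 0, 1, 1, 0])) (.node (.leaf [-134213, -128032, -232541, -6300, 1073394, -468553, -25968, -203952, 135, -234299, 598297, 742608, -5, -567778, -20825, 6172, -271311, -32320, -2]) (.leaf [-1481901666, -1252347366, -2349333603, -66538178, 11259781165, -4902372700, -278477209, -2236840516, 1070144, -2296242517, 6292391765, 7829927321, 18912, -6101547948, -197573710, 65450046, -2862002384, -354375128, -924]))) (.node (.node (.leaf [-2, 3, 30, 0, 25, 6, 0, -22, 0, 30, -6, 18, 0, -21, 0, 0, -34, 8, 0]) (.leaf [-81448, -77056, -140140, -3848, 650342, -283888, -15729, -124092, 90, -141462, 362641, 449774, -7, -344388, -12594, 3765, -164487, -19577, 0])) (.node (.leaf []) (.leaf [-2110391820, -1620426292, -3129364101, -92088560, 15433938768, -6704112303, -387769808, -3169652031, 1189556, -2972264727,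 8638888830, 10778376009, 87045, -8522426268, -247840686, 90800679, -3939317083, -501586870, 11280]))))) (.node (.node (.node (.node (.node (.leaf [0, 0, 0, 0, 1, 0, 0, 0, 0, 0, 0, 0, 0, 0, 0, 0, 0, 0, 0]) (.leaf [-722, -984, -1734, -36, 7519, -3313, -154, -1233, 0, -2076, 4185, 4987, 0, -3642, -207, 36, -1801, -203, 0])) (.leaf [-435427051, -362384515, -682834461, -19400756, 3287585750, -1430840964, -81569751, -656583086, 283237, -664535127, 1837831778, 2287775437, 12482, -1786928253, -56905400, 19102844, -836132884, -104137933, 2193])) (.node (.leaf [10, -18, -37, 5, 118, -46, 1, -7, 0, -54, 50, 66, 0, -45, -4, -5, -19, 2, 0]) (.leaf [0, -3, -4, 0, 0, -1, 0, 3, 0, -3, 0, 0, 0, 3, 0, 0, 1, 0, 0]))) (.node (.node (.leaf []) (.leaf [24023, 18180, 35603, 1063, -175749, 76261, 4372, 36263, -15, 33519, -98162, -122709, 0, 97446, 2711, -1048, 44784, 5650, 0])) (.node (.leaf [415075810, 378547712, 694828931, 19037096, -3256651261, 1420607925, 79572855, 629259792, -332115, 694237369, -1817813711, -2256742122, -369, 1737529635, 61092289,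 -18703616, 824885499, 99947231, -996]) (.leaf [20169611, 17971400, 33213564, 927593, -156802957, 68364162, 3839860, 30570596, -17600, 32986892, -87549358, -108750776, 548, 84055021, 2883948, -910572, 39760647, 4836587, 31])))) (.node (.node (.node (.leaf [-3191, -2431, -4686, -137, 23244, -10085, -584, -4788, -2, -4455, 13020, 16239, 0, -12843, -381, 139, -5946, -763, 0]) (.leaf [-75937476, -75821306, -135822238, -3575903, 619909112, -271023670, -14922348, -115719205, 69582, -139000010, 345509457, 427811274, -1101, -324541233, -12525286, 3507325, -156367231, -18435809, 97])) (.node (.leaf [12237, 9652, 18793, 554, -91170, 39616, 2235, 18459, -2, 17946, -50875, -63459, 0, 50118, 1454, -552, 23106, 2908, 0]) (.leaf [-6585868550, -5639136490, -10538045532, -296544586, 50316167170, -21914551240, -1242190787, -9948601230, 4711683, -10342353911, 28114302796, 34967626638, 94324, -27192895507, -893498178, 291716547, -12781002667, -1577630160, 22032]))) (.node (.node (.leaf [-6, 6, 5, 0, -19, 19, 0, -3, 0, 27, -18, 0, 0, -6, 0, 0,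 -2, 0, 0]) (.leaf [68667707, 59294292, 110533744, 3097534, -526453888, 229340339, 12979855, 103772416, -49410, 108751408, -294121976, -365721924, -1045, 284029766, 9419056, -3046869, 133673621, 16462394, -210])) (.node (.leaf [41, 77, 138, 3, -202, 111, 4, -14, -4, 84, -111, -165, 0, 81, 3, 1, 37, 2, 0]) (.leaf [794232, 950543, 1629916, 41840, -7099974, 3121200, 164427, 1234788, -1421, 1754463, -3946489, -4849323, 203, 3569270, 164880, -40629, 1776099, 194340, 7])))))) (.node (.node (.node (.node (.node (.node (.leaf []) (.leaf [0, 0, 0, 0, 1, 0, 0, 0, 0, 0, 0, 0, 0, 0, 0, 0, 0, 0, 0])) (.leaf [-10794014796, -8691991241, -16542342015, -478170875, 80430170623, -34976735653, -2004578117, -16251979931, 7134346, -15938547160, 44981985658, 56051051758, 244851, -44004180795, -1350546456, 470792821, -20487604759, -2571725168, -1143])) (.node (.leaf []) (.leaf [139695202, 124974842, 230625086, 6355541, -1086847679, 473873816, 26652528, 211472153, -103885, 229152442, -606868440, -753855414, -1947, 582178824, 20051167, -6249063, 275518357,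 33604705, -646]))) (.node (.node (.leaf [4844614716, 4221061674, 7848563283, 219333078, -37283624342, 16245455150, 917807484, 7325783628, -3591648, 7741902895, -20826517075, -25889813107, -44637, 20078643342, 672345244, -215679930, 9463124726, 1162085572, -16863]) (.leaf [-138773708, -107653423, -207243998, -6083102, 1019065792, -442767596, -25554353, -208572627, 83028, -197479167, 570296827, 711325511, 4510, -561595968, -16526277, 5994981, -259994245, -32991504, 582])) (.node (.leaf [-722914988, -637472735, -1181189141, -32782935, 5590782029, -2436753749, -137397575, -1093650791, 533305, -1169009493, 3122439542, 3880282726, 9414, -3003546912, -101874918, 32237450, -1418234666, -173646386, 2766]) (.leaf [0, 0, -1, 1, -2, 0, 0, 0, 0, 0, 0, 0, 0, 0, 0, -1, 2, 0, 0])))) (.node (.node (.node (.leaf []) (.leaf [7115827441, 6457806205, 11870488429, 326727486, -55707108006, 24296804434, 1361278738, 10784426762, -6028381, 11838275063, -31093779622, -38613067127, 68449, 29753756583, 1040157152, -320803631, 14114994650, 1710201338,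 36077])) (.node (.leaf [33185324, 29276559, 54240210, 1504900, -256692036, 111880967, 6308024, 50204190, -24460, 53687935, -143361014, -178153503, -445, 137890059, 4679306, -1479867, 65114467, 7971829, -128]) (.leaf [1924893396, 1517639191, 2907496208, 85258400, -14223239248, 6181777733, 355160604, 2895674193, -1415423, 2781290917, -7955603687, -9921551136, -8026, 7814757817, 234001550, -83859384, 3627171432, 456681819, 24433]))) (.node (.node (.leaf [-432, -435, -757, -18, 3687, -1567, -78, -707, 0, -804, 2021, 2530, 0, -1917, -100, 18, -966, -92, 0]) (.leaf [0, 0, 2, 1, 0, 0, 0, 0, 0, 0, 0, 0, 0, 0, 0, -1, 0, 0, 0])) (.node (.leaf [3, -6, -8, 0, 5, -5, 0, 6, 0, -12, 3, 0, 0, 6, 0, 0, 2, 0, 0]) (.leaf [-45080908, -45774012, -81624198, -2124911, 370699903, -162142393, -8906748, -68733589, 39779, -83893180, 206574646, 255647487, -39, -193376748, -7589940, 2084926, -93430194, -10975516, 245]))))) (.node (.node (.node (.node (.node (.leaf [0, 0, -1, -1, 0, 0, 0, 0, 0, 0, 0, 0, 0, 0, 0, 1, 0, 0, 0]) (.leaf [27942435, 30545158,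 53447945, 1320363, -237335409, 103988342, 5650759, 42681425, -20896, 55859311, -132113033, -163204739, -1681, 121873095, 5137409, -1297441, 59604468, 6884755, -345])) (.leaf [-50840570, -39914424, -76553980, -2244428, 375302722, -163117853, -9387480, -76517805, 32673, -73280535, 209993717, 261783261, 983, -206319543, -6162797, 2210656, -95703415, -12089557, 116])) (.node (.leaf [-1, 0, 0, 0, -1, 0, 0, 0, 0, 1, 0, 0, 0, 0, 0, 0, 0, 0, 0]) (.leaf [0, 0, -4, -2, -2, 0, 0, 0, 0, 0, 0, 0, 0, 0, 0, 2, 2, 0, 0]))) (.node (.node (.leaf []) (.leaf [280169, 265810, 483038, 13134, -2233014, 974735, 54162, 425214, -274, 485743, -1245013, -1545627, 9, 1182540, 43106, -12869, 564725, 67465, 0])) (.node (.leaf [3939938, 2486630, 5130377, 166373, -26860272, 11619288, 692977, 5873817, -1964, 4576815, -15081583, -18904009, -149, 15371571, 352980, -164277, 6911968, 921132, 17]) (.leaf [4345834628, 3282427578, 6372087413, 188952439, -31585187348, 13714537377, 795531231, 6522811896, -2383314, 6022222047, -17684016488, -22072782702, -183352, 17495716050,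 499291195, -186358463, 8067398796, 1031665983, -27310])))) (.node (.node (.node (.leaf [-4200, -3934, -7161, -189, 34047, -14839, -819, -6552, 0, -7437, 19008, 23436, 0, -18006, -677, 189, -8604, -1035, 0]) (.leaf [164, -29, -49, 3, -890, 397, 37, 303, 0, 96, -600, -578, -1, 541, 30, -2, 254, 60, 0])) (.node (.leaf []) (.leaf [-171453, -130213, -252301, -7561, 1248906, -542490, -31377, -257499, 124, -238992, 699197, 872391, 0, -690921, -19880, 7437, -318993, -40576, 0]))) (.node (.node (.leaf [-15, -9, -14, -1, 17, -4, 0, -6, 0, 15, 6, 30, 0, -21, 0, 1, -11, 0, 0]) (.leaf [-1387428736, -1082340975, -2080524219, -61441848, 10208989356, -4435820377, -255166938, -2086207056, 1070319, -1982902079, 5710634490, 7124826648, -6439, -5621092375, -166219921, 60404363, -2604964214, -328479876, -26395])) (.node (.leaf [-3393121782, -2865497774, -5376569721, -152253408, 25773982810, -11221482059, -637574369, -5121393954, 2424437, -5254117855, 14403783524, 17923558426, 49512, -13968558735, -451977060, 149779141, -6551339546, -811509557,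 318]) (.leaf [-175, -7, -21, -2, 1059, -455, -35, -327, 0, -123, 660, 710, 0, -633, -35, 2, -303, -49, 0])))))))))

def threeL9 : Janko.Tree (List ℤ) :=
  (.node (.node (.node (.node (.node (.node (.node (.node (.node (.leaf []) (.leaf [4455987055, 3596526963, 6839696155, 197204619, -33234312458, 14453664688, 828349164, 6709620579, -2826494, 6596204456, -18587334760, -23158102269, -128478, 18173985816, 559368805, -194233167, 8464224318, 1062677996, -16480])) (.leaf [87726, 85314, 154789, 4109, -706223, 308532, 17034, 132876, -68, 155826, -393394, -488481, 0, 372429, 13704, -4041, 177968, 21211, 0])) (.node (.leaf []) (.leaf [3122424051, 1783955168, 3816603808, 126842995, -20572158310, 8874543419, 539886522, 4630637610, -755991, 3274611365, -11566803557, -14545990320, -296068, 11982155140, 240289558, -125758121, 5315621999, 728922850, -32815]))) (.node (.node (.leaf [8, 3, 1, 0, 2, 0, 0, 1, 0, -9, 0, -6, 0, 3, 0, 0, 4, 0, 0]) (.leaf [-750151, -713464, -1296680, -35292, 5980219, -2610528, -144870, -1137156, 773, -1301727, 3333131,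 4139949, -42, -3166309, -115264, 34560, -1512156, -180227, 1])) (.node (.leaf []) (.leaf [-7616, -7365, -13334, -348, 60834, -26612, -1485, -11459, 3, -13347, 33904, 42129, 0, -32130, -1149, 345, -15357, -1829, 0])))) (.node (.node (.node (.node (.leaf [7, 6, 1, 0, 16, 1, 1, -4, 0, -3, -1, 4, 0, -12, 1, 0, -1, 0, 0]) (.leaf [-4213970, -4943483, -8504587, -191837, 36833717, -16152465, -873474, -6413391, 906, -8975141, 20475070, 25294662, 1056, -18642563, -836198, 189778, -9216814, -1058490, 97])) (.leaf [-15399, -11704, -22747, -688, 112252, -48765, -2814, -23121, 14, -21498, 62818, 78408, 0, -62115, -1775, 675, -28639, -3638, 0])) (.node (.leaf [201, 226, 390, 9, -1850, 784, 38, 350, 0, 417, -1007, -1267, 0, 957, 46, -9, 476, 48, 0]) (.leaf [-1501434754, -1257155645, -2364682703, -67151491, 11365798756, -4947496190, -281621733, -2265250014, 1025439, -2305708596, 6352989658, 7906739332, 30581, -6170151511, -197841024, 66090438, -2889964069, -359059073, 5033]))) (.node (.node (.leaf []) (.leaf [1, 0, 0, 1, 0, 1, 0, 0, -1, 0,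 0, 0, 0, 0, 0, 0, 0, 0, 0])) (.node (.leaf [-236118, -181323, -350310, -10449, 1729585, -751437, -43321, -355359, 163, -333380, 968015, 1207206, 0, -954729, -27832, 10286, -441476, -55907, 0]) (.leaf [-3023, -2302, -4493, -137, 22132, -9619, -552, -4554, 3, -4251, 12377, 15444, 0, -12246, -344, 135, -5635, -713, 0]))))) (.node (.node (.node (.node (.node (.leaf []) (.leaf [-10, 44, 111, 0, -260, 115, -1, -7, 0, 138, -121, -138, 1, 89, 5, 0, 32, 3, 0])) (.leaf [0, 1, 0, 0, 1, 0, 0, 0, 0, 0, 0, 0, 0, -1, 0, 0, 0, 0, 0])) (.node (.leaf []) (.leaf [17104275, 15097155, 27968487, 780116, -132384843, 57704320, 3250272, 25893894, -13653, 27698487, -73933275, -91865913, 108, 71103336, 2415042, -766545, 33582974, 4103679, -26]))) (.node (.node (.leaf []) (.leaf [])) (.node (.leaf [1475805633, 1194660646, 2269989631, 65497304, -11021189193, 4793569669, 274466295, 2222923353, -979800, 2191306180, -6163521661, -7678377732, -30761, 6023263482, 186018070, -64484654, 2806642127, 351818510, -2089]) (.leaf [-199317, -254797, -429061, -5126,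 1748831, -763167, -43314, -286263, -861, -438971, 968726, 1213842, 359, -875121, -40969, 5608, -434998, -54690, 20])))) (.node (.node (.node (.leaf []) (.leaf [427226, 544143, 918997, 20921, -3907564, 1719372, 90990, 657926, -286, 995075, -2170931, -2668179, -45, 1938801, 94290, -20572, 973736, 107762, -18])) (.node (.leaf [542806256, 450938647, 850152371, 24169319, -4095248800, 1782266225, 101639310, 818403497, -351380, 826890524, -2289388207, -2850069853, -16023, 2226740565, 70767354, -23799243, 1041631066, 129802392, -2673]) (.leaf [2853332758, 2285181730, 4356142136, 126049359, -21215661299, 9224971675, 529406624, 4294805216, -1795598, 4191150377, -11866899377, -14788425519, -83377, 11619408018, 354512524, -124160738, 5405168133, 680001897, -9645]))) (.node (.node (.leaf []) (.leaf [-386, -350, -624, -18, 3198, -1403, -76, -613, 0, -738, 1812, 2155, 0, -1649, -80, 18, -811, -99, 0])) (.node (.leaf [52929235, 46887194, 86773537, 2410811, -410220126, 178817221, 10068814, 80122854, -41172, 86002633, -229082363, -284635952,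 -67, 220174479, 7505532, -2369438, 104043193, 12709534, -134]) (.leaf [136966951, 122405661, 225945463, 6226464, -1065100171, 464380589, 26126229, 207316041, -100890, 224431763, -594740094, -738814242, -2187, 570652899, 19631640, -6122722, 270017632, 32949085, -665])))))) (.node (.node (.node (.node (.node (.node (.leaf [0, -1, 0, 0, 0, -1, 0, 0, 0, 0, 0, 0, 0, 0, 1, 0, 0, 0, 0]) (.leaf [-370577, -354670, -643945, -17341, 2968257, -1295868, -71794, -563010, 350, -649309, 1654339, 2053143, -6, -1569048, -57625, 16997, -749896, -89357, 0])) (.leaf [2070987753, 1688551805, 3201416244, 91963121, -15509395512, 6746789008, 385906382, 3120184319, -1354152, 3096968802, -8672693103, -10802126971, -51224, 8464221257, 263498751, -90551268, 3948246079, 494196136, -6477])) (.node (.leaf [-67418353, -59870303, -110714023, -3061418, 522895026, -227943433, -12837516, -102019716, 49785, -109777766, 292003566, 362809656, 978, -280517367, -9585448, 3010369, -132600831, -16206283, 286]) (.leaf [-21012327, -16421459, -31537468, -921702, 154681093,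 -67212054, -3874943, -31579892, 13216, -30092774, 86546720, 107953506, 522, -85133421, -2524205, 907844, -39455366, -4996976, 120]))) (.node (.node (.leaf []) (.leaf [0, 0, 0, 0, 0, 1, 0, 0, 0, 0, 0, 0, 0, 0, 0, 0, 0, 0, 0])) (.node (.leaf [112517, 85785, 166530, 4966, -824059, 358064, 20606, 169401, -76, 158852, -461301, -574717, 0, 455127, 13199, -4890, 210080, 26728, 0]) (.leaf [-2542116, -2451904, -4436301, -118304, 20454370, -8932555, -494774, -3870117, 2164, -4499345, 11404189, 14137170, -6, -10788845, -401641, 116124, -5166198, -615754, 22])))) (.node (.node (.node (.leaf [1191784, 1513095, 2555995, 58052, -10883912, 4789608, 253857, 1834665, -693, 2769327, -6048940, -7431579, -141, 5402352, 262416, -57165, 2712380, 301085, -53]) (.leaf [])) (.node (.leaf [0, 1, 1, -1, 0, 2, 0, 0, 0, 0, 0, 0, 1, -1, -1, 0, 0, -1, 0]) (.leaf [-7, 77, 113, -1, -98, 30, 0, -36, 1, 54, -12, -96, 0, 18, 1, 0, 26, -7, 0]))) (.node (.node (.leaf [-8170, -7802, -14056, -363, 65310, -28635, -1608, -12336, 0, -14469, 36583, 45058, 0, -34359,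 -1289, 363, -16482, -2011, 0]) (.leaf [-10797881775, -8695176004, -16548362094, -478341617, 80459240711, -34989381972, -2005300971, -16257806598, 7136580, -15944384990, 44998237754, 56071293099, 245031, -44020016358, -1351044797, 470961136, -20495001587, -2572650299, -1130])) (.node (.leaf [1289878650, 1123998685, 2089839782, 58364288, -9926793721, 4325365596, 244385475, 1950350922, -948063, 2061425418, -5545092402, -6893241654, -14563, 5345846463, 179025594, -57396906, 2519536303, 309449728, -4755]) (.leaf [93860138, 66164086, 131336285, 3992822, -664674183, 288136252, 16934190, 140392137, -38169, 121437599, -372585895, -465892701, -6632, 372988789, 9812269, -3946759, 170253478, 22212830, -1262]))))) (.node (.node (.node (.node (.node (.leaf []) (.leaf [-3460038757, -2763558154, -5272424111, -152763757, 25699757368, -11174070602, -641571384, -5207462397, 2167182, -5068861959, 14375767315, 17916039171, 101384, -14082633532, -428377484, 150482346, -6548342313, -824435568, 12846])) (.leaf [-67213255, -52759058, -101191025,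 -2946061, 495725508, -215437161, -12414315, -101042355, 38943, -96741033, 277372015, 345877818, 2736, -272580144, -8127037, 2904027, -126406510, -16003850, 355])) (.node (.leaf [-33672778, -20022214, -42191642, -1381854, 224831928, -97086375, -5866959, -50033040, 9591, -36787524, 126350710, 158690199, 2800, -130045725, -2758101, 1369113, -58000896, -7878081, 350]) (.leaf [-73663180, -64168164, -119314698, -3330324, 566823674, -246977893, -13956522, -111376787, 53458, -117690299, 316633330, 393611185, 1055, -305266626, -10220928, 3275545, -143867720, -17675351, 267]))) (.node (.node (.leaf [10552, -928, 4403, 1448, -59388, 25946, 1092, 19362, -255, 2928, -33679, -40218, 81, 40065, -92, -1281, 16334, 1036, 7]) (.leaf [4265006037, 3453158930, 6561022286, 189100709, -31849309434, 13852262564, 793233586, 6423254988, -2798496, 6332482447, -17811178562, -22190054516, -103144, 17406225195, 537539950, -186193451, 8110676173, 1016883324, -5618])) (.node (.leaf [-19779476, -15915332, -30294826, -872871, 147330336, -64072298, -3676452,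 -29772447, 11652, -29193892, 82410615, 102676908, 753, -80613672, -2472205, 860261, -37523479, -4720933, 205]) (.leaf [124360, 161270, 271235, 6086, -1148790, 505718, 26706, 191844, -86, 295350, -638174, -783531, -12, 567483, 28084, -5982, 285971, 31561, -6])))) (.node (.node (.node (.leaf [-2405780103, -1844921899, -3564367643, -105055921, 17586345022, -7638866529, -441832659, -3613351521, 1390920, -3384077165, 9843650528, 12282007152, 89853, -9713279186, -282063261, 103566238, -4489057483, -571519190, 8910]) (.leaf [])) (.node (.leaf [0, 0, 0, 0, 0, 1, 0, 0, 0, 0, 0, 0, 0, 0, 0, 0, 0, 0, 0]) (.leaf [1259034, 1346606, 2369369, 58109, -10564532, 4623814, 252900, 1915584, -741, 2454015, -5880792, -7278258, -142, 5454486, 224409, -57216, 2656135, 310086, -10]))) (.node (.node (.leaf []) (.leaf [10793698132, 8691731471, 16541852323, 478161004, -80427871169, 34975741318, 2004518259, 16251522923, -7135027, 15938097625, -44980701912, -56049430259, -244536, 44002916220, 1350508845, -470782599, 20487019190, 2571645669, 1158])) (.node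 (.leaf [-4, 3, 1, -8, 0, 1, -1, 0, 7, 0, -2, -1, 0, 0, -1, 1, 0, 0, 0]) (.leaf [-17908261, -8894634, -20122340, -728022, 113411144, -48796037, -3017598, -26532127, 6983, -16438475, 63889478, 80535421, 477, -67506536, -1117130, 720498, -29466516, -4129070, 65]))))))) (.node (.node (.node (.node (.node (.node (.node (.leaf []) (.leaf [-2889322697, -1790153807, -3716445447, -119481266, 19551715314, -8449937154, -507358809, -4298558721, 904589, -3285929264, 10980264902, 13778947989, 239363, -11230537012, -251137724, 118305471, -5035440456, -677689233, 31843])) (.leaf [4171300, 3358294, 6390963, 185192, -31100538, 13525655, 774963, 6286047, -2748, 6165932, -17395494, -21668982, -77, 17012738, 523064, -182356, 7921931, 994076, -11])) (.node (.leaf [731935153, 583971599, 1114449498, 32255396, -5434053525, 2362636538, 135728178, 1101430161, -439097, 1071197262, -3039851657, -3788441727, -26074, 2978272128, 90495896, -31785429, 1384606314, 174498457, -4796]) (.leaf [6255, 4747, 9179, 279, -45325, 19691, 1140, 9349, -6, 8643, -25381,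 -31700, 0, 25089, 724, -273, 11593, 1472, 0]))) (.node (.node (.leaf []) (.leaf [-82683578, -75524570, -138561916, -3785991, 649016104, -283121769, -15859935, -125316912, 64344, -138472094, 362268175, 449741394, 690, -346169379, -12188200, 3720691, -164375358, -19921254, 267])) (.node (.leaf [14, 12, 18, 0, -17, 3, 0, 1, 0, -12, -3, -30, 0, 18, 0, 0, 11, 0, 0]) (.leaf [-78378292, -65174844, -122821864, -3475941, 591317414, -257340892, -14683976, -118112420, 47401, -119443343, 330570630, 411559465, 3413, -321480911, -10223147, 3424693, -150395869, -18759346, 434])))) (.node (.node (.node (.node (.leaf []) (.leaf [0, 0, -1, 1, 0, 0, 0, 0, 0, 0, 0, 0, 0, 0, 0, 0, 0, 1, 0])) (.leaf [1718269, 2183787, 3689924, 84116, -15698888, 6907342, 365688, 2645787, -1150, 3993590, -8722184, -10720611, -181, 7793055, 378262, -82714, 3912435, 433283, -71])) (.node (.leaf [3583044617, 2718012832, 5269265589, 156034349, -26083310812, 11326607389, 656410419, 5378899128, -2025051, 4985820377, -14602149490, -18224771736, -140642, 14436502297, 413986831,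 -153853183, 6661097372, 850559357, -15473]) (.leaf [259532, 300560, 517568, 7808, -2186803, 953469, 54336, 376527, 809, 522854, -1214058, -1519830, -360, 1117315, 47979, -8237, 546894, 68966, -20]))) (.node (.node (.leaf [-75783, -71213, -129938, -3628, 602296, -262842, -14571, -115140, 93, -130299, 335700, 416910, -6, -319599, -11521, 3543, -152392, -18126, -2]) (.leaf [1830321288, 1547311981, 2902244956, 82067406, -13909808712, 6056322235, 344138325, 2762811438, -1268073, 2837801396, -7773804374, -9672371792, -34882, 7536738915, 244217454, -80758147, 3535297959, 438062811, -6304])) (.node (.leaf [72058886, 49557697, 99277510, 3133370, -506600290, 219502437, 12893856, 107958258, -49734, 91114114, -283975380, -355295745, 1444, 285547320, 7295428, -3085028, 129937944, 16909109, -51]) (.leaf [-538747346, -446585334, -842493822, -23973578, 4060999829, -1767266080, -100825137, -812187873, 347195, -818909219, 2270322380, 2826513462, 16146, -2209083551, -70035586, 23607553, -1033020507, -128810434, 2684]))))) (.node (.node (.node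 (.node (.node (.leaf [-1791836641, -842932240, -1950280348, -69802699, 11138548175, -4785016296, -300069762, -2639649648, 53499, -1548873911, 6280376463, 7934374722, 238786, -6690907134, -100704372, 69476464, -2898960271, -414937665, 33950]) (.leaf [0, 0, 0, 0, 0, 1, 0, 0, 0, 0, 0, 0, 0, 0, 0, 0, 0, 0, 0])) (.leaf [2737614, 1953824, 3859840, 116746, -19466403, 8443659, 495208, 4094496, -1141, 3586055, -10912232, -13636247, -186, 10896171, 291230, -115413, 4984307, 647948, -6])) (.node (.leaf [3, -18, -41, 0, 118, -50, 1, -6, 0, -54, 56, 66, 0, -45, -4, 0, -19, 0, 0]) (.leaf [-34572594, -30557011, -56584786, -1575501, 267712534, -116693006, -6572667, -52336059, 27213, -56053286, 149507393, 185769827, -83, -143750695, -4889371, 1548295, -67908573, -8297815, 76]))) (.node (.node (.leaf [10513, -562, 4931, 1448, -59846, 26107, 1092, 19182, -255, 3216, -33748, -40644, 81, 40125, -92, -1281, 16444, 1004, 7]) (.leaf [6, 40, 57, 5, -100, 81, 6, -9, 1, 78, -82, -57, 0, 9, 2, -6, 13, 0, 0])) (.node (.leaf [205614, 185938, 343499, 10547,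 -1621599, 707914, 38895, 315567, -432, 344709, -904353, -1120967, 85, 865776, 30273, -10209, 411048, 48097, 9]) (.leaf [-338027, -353243, -624085, -13137, 2775328, -1211475, -68133, -504853, -361, -634246, 1545620, 1921981, 215, -1443378, -57442, 13267, -697863, -85736, 16])))) (.node (.node (.node (.leaf []) (.leaf [47179727, 34491084, 67657772, 2034327, -338728520, 146965710, 8573923, 70715439, -24060, 63304764, -189749793, -237037863, -2263, 188786985, 5188134, -2007699, 86638585, 11175792, -305])) (.node (.leaf []) (.leaf [-89090, -85138, -154676, -4183, 713743, -311602, -17243, -135483, 87, -156074, 397804, 493589, -3, -377358, -13847, 4099, -180309, -21473, 0]))) (.node (.node (.leaf []) (.leaf [-328886528, -290156284, -537562150, -14915915, 2544009713, -1108825933, -62516592, -497561424, 242634, -532092683, 1420814593, 1765632315, 4302, -1366587321, -46376420, 14667709, -645333848, -79003738, 1271])) (.node (.leaf [-1072, -803, -1562, -46, 7666, -3342, -195, -1581, 1, -1461, 4308, 5370, 0, -4251, -121, 45, -1954, -253,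 0]) (.leaf [-119837, -113305, -206300, -5648, 956779, -417684, -23147, -182529, 129, -208025, 533410, 661703, -9, -506810, -18432, 5538, -241928, -28769, -10])))))) (.node (.node (.node (.node (.node (.node (.leaf []) (.leaf [-86612358, -56102625, -114620233, -3601580, 594977872, -257413397, -15356184, -129042486, 25225, -102977472, 333963275, 418551759, 8023, -339069327, -8031645, 3566994, -152937760, -20399546, 1338])) (.leaf [-54, -67, -92, 0, 133, -78, 0, 8, 0, -42, 88, 127, 0, -48, -12, 0, -43, 0, 0])) (.node (.leaf [0, 0, 0, 0, -2, 2, 0, 0, 0, 3, -3, 0, 0, -1, 1, 0, 0, 0, 0]) (.leaf [-72796004, -64591299, -119487974, -3322130, 564644984, -246142937, -13852099, -110226315, 57960, -118489206, 315305663, 391744574, -311, -302954799, -10346066, 3264342, -143200912, -17476348, 140]))) (.node (.node (.leaf [-13, 102, 148, -1, -129, 48, 0, -51, 1, 84, -21, -117, 0, 15, 0, 0, 30, -10, 0]) (.leaf [-8009478, -6496559, -12336063, -355794, 59878963, -26045776, -1490808, -12069997, 5274, -11922660, 33487669, 41709907, 157, -32709540,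 -1013156, 350331, -15246900, -1910342, 32])) (.node (.leaf []) (.leaf [-17727410, -13126840, -25646819, -770120, 127946849, -55528183, -3229509, -26605358, 9913, -24101098, 71653462, 89477513, 621, -71136029, -1985756, 759587, -32710135, -4198285, -1])))) (.node (.node (.node (.leaf [-198, -75, -106, -12, 1227, -483, -36, -357, 0, -108, 699, 889, 0, -744, -34, 12, -375, -51, 0]) (.leaf [])) (.node (.leaf []) (.leaf [-495486, -473178, -858944, -23084, 3968673, -1732666, -96094, -753720, 443, -867746, 2212603, 2744532, -8, -2098140, -77111, 22646, -1002785, -119698, 3]))) (.node (.node (.leaf [-33, -33, -48, 1, 93, -22, 1, -24, -1, 27, 30, 112, 0, -78, -2, 0, -42, 2, 0]) (.leaf [3084463636, 2524722323, 4781152259, 137115226, -23135342178, 10065118224, 575294055, 4648011588, -2033667, 4630462134, -12936197746, -16110759249, -73688, 12616352772, 394463787, -134998734, 5888585536, 736243915, -9138])) (.node (.leaf [-1092559864, -878416947, -1671912698, -47804486, 8141351633, -3541083538, -203706168, -1645192125, 432115, -1615244109,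 4556270151, 5672554656, 82910, -4453619211, -136895240, 47245576, -2072587471, -262205882, 43885]) (.leaf [15477251, 12360262, 23579572, 682251, -114981111, 49997723, 2872029, 23298324, -8838, 22689002, -64327768, -80148450, -649, 62998771, 1918037, -672649, 29293886, 3691974, -115]))))) (.node (.node (.node (.node (.node (.leaf []) (.leaf [522067, 580220, 1011911, 25388, -4476697, 1962513, 105873, 800485, -555, 1062828, -2490698, -3074523, 18, 2290293, 98119, -24849, 1123565, 128120, -1])) (.leaf [-34, -27, -43, 0, 96, -23, 1, -27, 0, 30, 30, 110, 0, -83, -1, 0, -43, 3, 0])) (.node (.leaf []) (.leaf [328880099, 290151607, 537553167, 14915643, -2543964314, 1108806263, 62515422, 497551890, -242634, 532084325, -1420789102, -1765600431, -4302, 1366562010, 46375694, -14667433, 645322121, 79002212, -1274]))) (.node (.node (.leaf [2, -64, -118, 0, 226, -104, 3, 18, 0, -141, 118, 133, 0, -54, -18, 0, -31, -3, 0]) (.leaf [-505034, -464547, -849948, -20703, 3936701, -1714285, -97563, -755087, -165, -838353, 2196202, 2737538, 191,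 -2102082, -73537, 20664, -996406, -124240, 13])) (.node (.leaf [77687, 58997, 114335, 3440, -565591, 245723, 14220, 116574, -50, 108309, -316740, -395097, 0, 312858, 9022, -3390, 144424, 18414, 0]) (.leaf [0, 1, -1, 0, 1, 0, 0, 0, 0, 0, 0, 1, 0, -1, 0, 0, 0, 0, 0])))) (.node (.node (.node (.leaf [-3197, -2293, -4408, -141, 22601, -9825, -588, -4782, 3, -4176, 12740, 15840, 0, -12591, -368, 138, -5834, -758, 0]) (.leaf [35658410, 30161668, 56566138, 1600573, -271084641, 118035135, 6704637, 53833917, -25105, 55328960, -151500819, -188488485, -594, 146860346, 4762428, -1574792, 68895813, 8532530, -82])) (.node (.leaf [0, 3, 0, 0, 5, -2, 0, 0, 0, 0, 0, 0, 0, -5, 2, 0, 0, 0, 0]) (.leaf [-20, -45, -124, 0, 104, -74, 4, 33, 1, -84, 67, 78, 0, -33, -4, 0, 13, -2, 0]))) (.node (.node (.leaf [-3153, -2420, -4662, -140, 23209, -10102, -588, -4777, 2, -4512, 13028, 16170, 0, -12783, -379, 138, -5914, -759, 0]) (.leaf [19883463, 15206661, 29403260, 876640, -145322769, 63124332, 3646778, 29900043, -14131, 27926000, -81342153, -101473452,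 120, 80292097, 2327797, -862538, 37104683, 4712411, -91])) (.node (.leaf []) (.leaf [1586421, 1574513, 2823194, 72618, -12875585, 5625963, 311601, 2406386, -1014, 2872939, -7176333, -8897744, -119, 6753564, 258185, -71480, 3249168, 386609, -6])))))))) (.node (.node (.node (.node (.node (.node (.node (.node (.leaf []) (.leaf [-303, -41, -334, -19, 2758, -928, 0, -759, 0, -240, 1302, 1878, 2, -1746, -93, 18, -774, -29, 0])) (.leaf [])) (.node (.leaf [-95301337, -83096853, -154468901, -4312178, 733659946, -319672147, -18060618, -144118746, 69867, -152404483, 409815317, 509443722, 1063, -395046864, -13240450, 4240871, -186209685, -22867055, 377]) (.leaf [1, -2, 4, 0, -1, -1, 1, -4, 0, 0, 2, 0, 0, 1, 0, 0, 0, 0, 0]))) (.node (.node (.leaf []) (.leaf [-106087539, -79847918, -155172870, -4598258, 769802219, -334212994, -19405065, -159151875, 56079, -146427869, 431016269, 538094784, 5193, -426724924, -12122070, 4536385, -196653489, -25184580, 601])) (.node (.leaf []) (.leaf [3548158, 3872244, 6782945, 171747, -30175893, 13222286,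 715550, 5437197, -3687, 7096800, -16794018, -20739694, 115, 15498782, 653002, -168171, 7580239, 868968, -4])))) (.node (.node (.node (.node (.leaf [2, 0, 0, 1, 0, 0, 0, -1, -1, 0, 0, 0, 0, 0, 0, 0, 0, 1, 0]) (.leaf [0, 0, 0, 1, 0, 0, 0, 0, 0, 0, 0, 0, 0, 0, 0, 0, 0, 0, 0])) (.leaf [95628357, 83362264, 154972712, 4326893, -736104682, 320735781, 18121422, 144611582, -70135, 152891279, -411182505, -511146578, -1057, 396382128, 13281821, -4255324, 186832357, 22944777, -377])) (.node (.leaf [81448, 77055, 140137, 3849, -650341, 283888, 15729, 124092, -90, 141462, -362641, -449772, 6, 344388, 12594, -3765, 164487, 19578, 0]) (.leaf [0, 0, 0, 0, 0, 1, 0, 0, 0, 0, 0, 0, 0, 0, 0, 0, 0, 0, 0]))) (.node (.node (.leaf []) (.leaf [-817776, -763295, -1390611, -35085, 6442784, -2809079, -158565, -1231095, 59, -1387692, 3595069, 4469790, 200, -3425556, -122574, 34810, -1629685, -200354, 16])) (.node (.leaf [81267, 77372, 140653, 3850, -649091, 283303, 15690, 123444, -90, 141414, -361725, -449187, 5, 343564, 12556, -3765, 164110, 19515, 0])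 (.leaf [19814617, 15139187, 29282780, 873785, -144763513, 62880012, 3633037, 29794949, -14162, 27800944, -81029385, -101087678, 144, 79998985, 2316326, -859679, 36963576, 4695039, -88]))))) (.node (.node (.node (.node (.node (.leaf []) (.leaf [351790743, 311309505, 576303680, 16048346, -2725693801, 1188140749, 66896124, 532626237, -280116, 571120895, -1522153883, -1891251915, 1789, 1463210420, 49834077, -15769348, 691361965, 84430673, -671])) (.leaf [-257, -130, -217, -9, 1366, -561, -42, -365, 0, -99, 763, 1046, 0, -852, -22, 9, -415, -44, 0])) (.node (.leaf [-354, -275, -657, -18, 3632, -1395, -35, -772, 0, -672, 1833, 2431, 0, -2006, -114, 18, -954, -55, 0]) (.leaf [-35, 71, 129, 0, -366, 171, -3, -18, 0, 246, -190, -162, 0, 69, 25, 0, 51, 1, 0]))) (.node (.node (.leaf []) (.leaf [-465, -435, -742, -18, 3333, -1495, -77, -607, 0, -771, 1920, 2314, 0, -1706, -96, 18, -856, -101, 0])) (.node (.leaf [-13433213, -13392675, -24002118, -635532, 109627427, -47926629, -2636412, -20481882, 13341, -24558559, 61096725, 75653088,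 -468, -57410436, -2213097, 622751, -27658029, -3255006, -91]) (.leaf [-191, -259, -480, -9, 2059, -910, -37, -313, 0, -591, 1133, 1333, 0, -981, -56, 9, -487, -50, 0])))) (.node (.node (.node (.leaf [0, 0, 0, 0, 0, -1, 0, 0, 0, 0, 0, 0, 0, 0, 1, 0, 0, 0, 0]) (.leaf [1638431, 910867, 1965674, 65443, -10687373, 4610953, 282297, 2422295, -141, 1673057, -6015939, -7564026, -213, 6250074, 121001, -65080, 2764392, 382646, -8])) (.node (.leaf [3211, 2424, 4653, 140, -23098, 10038, 588, 4773, -2, 4395, -12965, -16170, 0, 12780, 378, -138, 5923, 763, 0]) (.leaf [-24272301, -21230121, -39430921, -1098318, 187065869, -81519014, -4602591, -36699637, 17885, -38932337, 104488981, 129879829, 344, -100663416, -3384045, 1080040, -47470394, -5824720, 49]))) (.node (.node (.leaf []) (.leaf [81629, 76735, 139621, 3847, -651596, 284473, 15768, 124743, -90, 141507, -363557, -450361, 8, 345218, 12632, -3765, 164866, 19640, 0])) (.node (.leaf [0, 0, 0, 0, -1, 0, 0, 0, 0, 0, 0, 0, 0, 1, 0, 0, 0, 0, 0]) (.leaf [47522333, 48209790, 86006533, 2243589,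 -390684331, 170872610, 9384573, 72470124, -42831, 88366222, -217700421, -269436939, 378, 203850105, 7992093, -2200865, 98468022, 11564934, -270])))))) (.node (.node (.node (.node (.node (.node (.leaf []) (.leaf [358136, 340643, 618839, 16799, -2864153, 1250326, 69300, 545052, -357, 624741, -1596872, -1980881, 16, 1515333, 55589, -16458, 724067, 86281, 1])) (.leaf [44927, 42212, 76782, 2093, -357539, 156123, 8674, 68370, -42, 77640, -199569, -247277, 1, 189453, 6938, -2052, 90445, 10840, 0])) (.node (.leaf [0, 0, 0, 1, 0, 0, 0, 0, 0, 0, 0, 0, 0, 0, 0, 0, 0, 0, 0]) (.leaf [-4, 0, -4, 0, 16, 6, 0, -11, 0, 18, -3, 24, 0, -24, 0, 0, -10, 1, 0]))) (.node (.node (.leaf []) (.leaf [4290988451, 3243690124, 6295235430, 186629104, -31196843312, 13546218525, 785637093, 6440844446, -2361659, 5951268114, -17466376445, -21800506549, -178890, 17277798630, 493559592, -184061666, 7967922717, 1018686591, -26889])) (.node (.leaf []) (.leaf [259498, 300592, 517648, 7790, -2187040, 953553, 54333, 376539, 816, 522947, -1214133, -1519959, -359,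 1117413, 47981, -8227, 546939, 68949, -20])))) (.node (.node (.node (.leaf [13, -102, -149, 1, 129, -48, 0, 51, -1, -84, 21, 117, 0, -15, 0, 0, -30, 11, 0]) (.leaf [-4956, -4310, -7947, -228, 39254, -17045, -939, -7814, 3, -8277, 21983, 27048, 0, -20991, -808, 225, -9986, -1213, 0])) (.node (.leaf [-1062, -1374, -2732, -54, 11510, -5101, -217, -1705, 0, -3360, 6343, 7399, 0, -5544, -264, 54, -2606, -337, 0]) (.leaf [-427076, -543994, -918776, -20916, 3906383, -1718850, -90955, -657708, 285, -994776, 2170230, 2667374, 46, -1938222, -94249, 20569, -973433, -107708, 17]))) (.node (.node (.leaf []) (.leaf [-475292, -370408, -711877, -20538, 3493649, -1517997, -87760, -713670, 211, -678818, 1955329, 2438898, 46, -1923911, -56864, 20280, -890952, -113426, 1])) (.node (.leaf [-2126407, -1959928, -3594440, -105091, 16864312, -7362193, -406239, -3255333, 3480, -3622009, 9406508, 11658075, -555, -8970879, -320474, 102212, -4271009, -504092, -45]) (.leaf [3696553, 4012337, 7038047, 178764, -31358783, 13738692, 744186, 5662903, -3843,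 7353777, -17453576, -21557961, 120, 16125552, 675766, -175044, 7879371, 904622, 3]))))) (.node (.node (.node (.node (.node (.leaf [0, -1, 0, 0, -1, 0, 0, 0, 0, 0, 0, 0, 0, 1, 0, 0, 0, 0, 0]) (.leaf [0, 0, -3, -1, -4, 0, 0, 0, 0, 0, 0, 0, 0, 0, 0, 0, 3, 0, 1])) (.leaf [0, 0, 0, 1, 0, 0, 0, 0, 0, 0, 0, 0, 0, 0, 0, 0, 0, 0, 0])) (.node (.leaf []) (.leaf [668004303, 512107408, 989492371, 29183930, -4882686962, 2120848317, 122666322, 1003345521, -390009, 939371550, -2732997687, -3410000514, -23770, 2696958913, 78291642, -28767855, 1246374641, 158667062, -2296]))) (.node (.node (.leaf [3, 0, 1, -1, 5, -2, 0, 0, 0, -6, 3, 0, 0, 0, 0, 0, 0, -1, 1]) (.leaf [6251286989, 4903112332, 9406614624, 274625712, -46100168494, 20035138451, 1154146152, 9399636129, -3776850, 8993316368, -25794608788, -32163680055, -206855, 25351200966, 755427460, -270618626, 11755812446, 1487520098, -23382])) (.node (.leaf []) (.leaf [-29083, -27045, -49587, -1418, 231703, -101136, -5562, -44462, 45, -50116, 129178, 160046, -7, -122991, -4441, 1382, -58589, -6936,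 -2])))) (.node (.node (.node (.leaf [-231087890, -203955383, -377819218, -10479926, 1787785056, -779224492, -43931253, -349604706, 170220, -374005712, 998459341, 1240771593, 3144, -960287205, -32600896, 10305658, -453495139, -55514437, 904]) (.leaf [-2756, -2142, -4089, -121, 19469, -8480, -509, -3944, -2, -3686, 10897, 13723, 0, -10788, -283, 123, -4995, -649, 0])) (.node (.leaf [0, 0, 0, 1, 0, 0, 0, 0, 0, 0, 0, 0, 0, 0, 0, 0, 0, 0, 0]) (.leaf [-16418, -15844, -28575, -738, 132911, -58220, -3243, -25055, 0, -29643, 74359, 91517, 0, -69792, -2638, 738, -33476, -4068, 0]))) (.node (.node (.leaf [-2, 4, -2, 0, 10, -4, -1, 3, 0, -3, 3, 2, 0, -5, 0, 0, -2, 0, 0]) (.leaf [2887, 2396, 4656, 130, -21968, 9564, 534, 4371, -2, 4410, -12200, -15282, 2, 12018, 332, -129, 5538, 668, 0])) (.node (.leaf [-9028, -7936, -14490, -413, 70796, -30740, -1722, -14041, 5, -14778, 39564, 48972, 0, -37920, -1394, 408, -18098, -2177, 0]) (.leaf [-3910616458, -3102745199, -5931496757, -172240848, 28970022514, -12593965810, -724077783, -5883444835,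 2377068, -5691338945, 16207100953, 20201791051, 129218, -15895175329, -479921958, 169714751, -7383614198, -931590751, 19812]))))))) (.node (.node (.node (.node (.node (.node (.node (.leaf []) (.leaf [1559187674, 1242845779, 2372592229, 68837793, -11571981765, 5031202071, 288943164, 2346449493, -985266, 2279626450, -6473221515, -8067799418, -43120, 6343521652, 192531944, -67805183, 2948866634, 371381857, -4224])) (.leaf [])) (.node (.leaf [-419016204, -332350563, -635422847, -18459670, 3103672386, -1349220504, -77570328, -630393102, 257343, -609585953, 1736308244, 2164342659, 13262, -1703038862, -51396168, 18187264, -791058213, -99798985, 1801]) (.leaf [-1638443, -910843, -1965636, -65445, 10687324, -4610940, -282297, -2422298, 141, -1673033, 6015930, 7563984, 213, -6250056, -121001, 65083, -2764385, -382649, 8]))) (.node (.node (.leaf []) (.leaf [16461885, 12729521, 24529383, 723266, -120805291, 52482866, 3029625, 24759003, -10097, 23368886, -67609302, -84324126, -367, 66609972, 1955375, -712719, 30826761, 3911823, -83]))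 (.node (.leaf []) (.leaf [526581, 584188, 1019157, 25595, -4512094, 1977882, 106734, 807504, -558, 1070217, -2510478, -3099009, 18, 2309253, 98816, -25053, 1132614, 129209, -2])))) (.node (.node (.node (.leaf [-3278, -2317, -4497, -144, 23156, -9998, -588, -4935, 3, -4200, 12998, 16254, 0, -12968, -381, 141, -5988, -779, 0]) (.leaf [])) (.node (.leaf [-286206, -266725, -487416, -13909, 2277393, -994302, -54966, -437466, 399, -492024, 1270263, 1574310, -54, -1208937, -43628, 13569, -576391, -68284, -5]) (.leaf [-188336908, -146826011, -282232259, -8273660, 1386012912, -602289060, -34725384, -283208506, 113333, -269451541, 775609006, 967178926, 5862, -763042202, -22591191, 8153632, -353523910, -44792755, 833]))) (.node (.node (.leaf [16139, 15306, 27816, 748, -128983, 56339, 3126, 24558, -13, 28149, -71959, -89172, 0, 68241, 2499, -735, 32593, 3898, 0]) (.leaf [-81267, -77373, -140653, -3850, 649087, -283303, -15690, -123444, 90, -141414, 361725, 449185, -5, -343561, -12556, 3765, -164109, -19514, 0])) (.node (.leaf [1537929448,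 1225827498, 2340089216, 67786127, -11413563218, 4962302513, 285095844, 2314241499, -931876, 2248519842, -6384854757, -7957491339, -52380, 6256725014, 189895363, -66793034, 2908362119, 366559591, -8837]) (.leaf [-312444644, -260343363, -490320596, -13861382, 2359730303, -1027060062, -58594149, -470986923, 182075, -477420182, 1319263823, 1642085961, 14648, -1282266363, -40896734, 13661345, -600056839, -74851565, 3315]))))) (.node (.node (.node (.node (.node (.leaf []) (.leaf [363618, 323749, 596625, 14421, -2785518, 1211101, 69673, 540774, 181, 580224, -1554470, -1942394, -161, 1498517, 50616, -14437, 706889, 89319, -4])) (.leaf [-67418521, -59870282, -110713984, -3061422, 522895982, -227943843, -12837552, -102020037, 49785, -109777859, 292004184, 362810286, 979, -280517951, -9585479, 3010372, -132601111, -16206342, 286])) (.node (.leaf []) (.leaf []))) (.node (.node (.leaf [-2506532900, -1933896817, -3729165248, -109633225, 18366092674, -7978736382, -460987011, -3765812625, 1466973, -3547258085, 10279123648, 12823138920, 90638,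 -10132054614, -296291116, 108066370, -4686849644, -595715436, 9244]) (.leaf [122541, 93035, 180466, 5402, -893237, 387927, 22409, 184181, -85, 170901, -499947, -623883, 0, 494253, 14186, -5316, 228083, 28999, 0])) (.node (.leaf [13433213, 13392675, 24002117, 635533, -109627427, 47926628, 2636412, 20481882, -13341, 24558559, -61096725, -75653088, 468, 57410436, 2213097, -622751, 27658029, 3255007, 91]) (.leaf [0, 1, 0, 0, 0, 0, 0, 0, 0, 0, 0, 0, 0, 0, 0, 0, 0, 0, 0])))) (.node (.node (.node (.leaf []) (.leaf [-62057386, -60716558, -109345137, -2904287, 502017374, -219370705, -12125709, -94451655, 55098, -111316181, 279895833, 346775022, -651, -263952657, -9979447, 2849737, -126748205, -15037859, 103])) (.node (.leaf [-1021509762, -843711754, -1593484153, -45531850, 7689948647, -3346266250, -190937103, -1540075833, 688182, -1547367410, 4299201926, 5352894039, 21787, -4186069845, -132197124, 44819242, -1956528556, -243979038, 2639]) (.leaf [0, 0, 0, 1, 0, 0, 0, 0, 0, 0, 0, 0, 0, 0, 0, 0, 0, 0, 0]))) (.node (.node (.leaf [-11,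 4, 2, 0, -31, 25, -1, 0, 0, 36, -24, 0, 0, -3, 0, 0, -2, 0, 0]) (.leaf [843090784, 633307210, 1231580135, 36617519, -6114333204, 2654504269, 154108836, 1265042172, -466089, 1161725252, -3423500955, -4274010731, -34901, 3390505826, 96123760, -36112789, 1562129134, 200002467, -3740])) (.node (.leaf [60231, 45830, 88684, 2649, -438284, 190430, 11022, 90264, -48, 83964, -245433, -306225, 0, 242367, 7006, -2601, 111953, 14251, 0]) (.leaf [-44853, -42285, -76888, -2086, 358079, -156330, -8676, -68415, 37, -77892, 199799, 247539, 0, -189624, -6954, 2049, -90563, -10830, 0])))))) (.node (.node (.node (.node (.node (.node (.leaf [0, 1, 1, 0, 0, 0, 0, 0, 0, 0, 0, -1, 0, 0, 0, 0, 0, 0, 0]) (.leaf [13, 10, 11, 0, 24, 0, 1, -12, 0, -3, 1, 4, 0, -18, 3, 0, -3, 0, 0])) (.leaf [])) (.node (.leaf [-5, -6, 2, 0, -16, -1, -1, 2, 0, 3, 1, -5, 0, 12, 0, 0, 1, 0, 0]) (.leaf [1019456243, 841726731, 1589894687, 45437907, -7673448549, 3339062782, 190537070, 1536959229, -686782, 1543738447, -4290004208, -5341481173, -21679, 4177365655, 131873396,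 -44726816, 1952361530, 243480187, -2630]))) (.node (.node (.leaf [-1152445421, -1016850484, -1883820938, -52265965, 8914820647, -3885599769, -219070308, -1743496236, 849879, -1864701652, 4978863738, 6187176735, 15238, -4788741801, -162529380, 51396380, -2261391822, -276840683, 4469]) (.leaf [17, -65, -92, 6, -129, 5, 1, 114, 0, -81, -51, -85, 0, 147, 2, -6, 63, 6, 0])) (.node (.leaf []) (.leaf [779196, 821329, 1451512, 37535, -6520619, 2854544, 155388, 1191669, -822, 1505088, -3630519, -4488849, 30, 3374721, 137381, -36744, 1640788, 189828, 2])))) (.node (.node (.node (.leaf []) (.leaf [-15629135, -14312681, -26237714, -708850, 122737865, -53537033, -3002771, -23669099, 10074, -26218177, 68509108, 85065108, 781, -65441232, -2309205, 697882, -31079090, -3776163, 113])) (.node (.leaf []) (.leaf [1946380138, 1537823209, 2944234304, 86248115, -14393910859, 6256287209, 359313801, 2928280326, -1432264, 2818292716, -8050834717, -10039669770, -8313, 7905256837, 237284236, -84831951, 3670342435, 461873389, 24413]))) (.node (.node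 (.leaf [0, 0, 0, 0, 0, -1, 0, 0, 0, 0, 0, 0, 0, 0, 1, 0, 0, 0, 0]) (.leaf [0, 0, 0, 1, 0, 0, 0, 0, 0, 0, 0, 0, 0, 0, 0, 0, 0, 0, 0])) (.node (.leaf [0, 0, 0, 0, 0, 1, 0, 0, 0, 0, 0, 0, 0, 0, 0, 0, 0, 0, 0]) (.leaf [1635529, 908617, 1961237, 65312, -10665554, 4601482, 281762, 2417817, -139, 1668812, -6003781, -7548856, -214, 6238021, 120670, -64951, 2758872, 381961, -8]))))) (.node (.node (.node (.node (.node (.leaf []) (.leaf [427388, 544513, 919655, 20944, -3910165, 1720499, 91032, 658323, -289, 995863, -2172317, -2669871, -45, 1940021, 94351, -20593, 974328, 107814, -17])) (.leaf [-10, 23, 43, -1, -123, 59, 0, 3, 1, 69, -63, -63, 0, 36, 4, 0, 18, -1, 0])) (.node (.leaf [22, -5, -12, 0, 140, -57, -1, -27, 0, -60, 66, 63, 0, -53, -3, 0, -27, 3, 0]) (.leaf [13433214, 13392905, 24002482, 635536, -109627043, 47926434, 2636418, 20481663, -13341, 24558439, -61096393, -75653112, 468, 57410274, 2213047, -622754, 27657926, 3254989, 92]))) (.node (.node (.leaf []) (.leaf [-28592333, -24188586, -45359743, -1285374, 217421331, -94669432,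 -5376656, -43180506, 20419, -44381506, 121510582, 151167717, 313, -117781119, -3821668, 1264556, -55259001, -6840805, 86])) (.node (.leaf [-449356, -915908, -1423566, -20469, 5266568, -2329161, -115602, -697620, -490, -1628717, 2891785, 3550086, 438, -2354306, -164708, 20487, -1283871, -126982, 34]) (.leaf [89259, 84320, 153364, 4193, -713202, 311486, 17286, 136080, -89, 155451, -397987, -492930, 6, 377478, 13840, -4110, 180269, 21565, 0])))) (.node (.node (.node (.leaf [-51, 75, 111, -6, 105, 1, -1, -137, 0, 132, 57, 98, 0, -171, -1, 6, -66, -11, 0]) (.leaf [-109378698, -82179525, -159778798, -4729877, 793253037, -344400059, -20013126, -164082066, 52794, -150794311, 444215407, 554492775, 6396, -439827411, -12479109, 4669427, -202636839, -25993457, 1260])) (.node (.leaf [6, -6, 0, 0, -2, -1, 0, -2, 0, -6, 2, 0, 0, 6, 0, 0, 2, 0, 0]) (.leaf [-445479, -497211, -865861, -21592, 3825547, -1677389, -90519, -682641, 458, -910464, 2128645, 2627019, -12, -1955122, -84155, 21141, -959958, -109527, 5]))) (.node (.node (.leaf []) (.leaf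 [-541035119, -437633678, -831724316, -23967464, 4038880436, -1756620924, -100627161, -814795140, 346639, -802684241, 2258795022, 2814035544, 14670, -2207670399, -68118976, 23604184, -1028537547, -129040338, 1971])) (.node (.leaf []) (.leaf [0, 84, 101, -2, 168, -23, 0, -123, 0, 51, 72, 81, 0, -159, -6, 3, -60, -2, 0])))))))))

def threeL10 : Janko.Tree (List ℤ) :=
  (.node (.node (.node (.node (.node (.node (.node (.node (.node (.leaf []) (.leaf [-201506573, -167824886, -316164442, -8976294, 1521801742, -662350100, -37760597, -303837414, 129141, -307756739, 850732182, 1058971357, 6248, -827036330, -26355791, 8839533, -387014211, -48207957, 1372])) (.leaf [305487005, 280867886, 514357590, 14006134, -2404520076, 1049103438, 58704909, 463138671, -237487, 514938684, -1342031781, -1665758256, -2874, 1280785323, 45403012, -13764517, 608799241, 73658968, -1256])) (.node (.leaf [-218689, -164653, -320173, -9622, 1587698, -689417, -39927, -328342, 148, -301957, 888767, 1109657, 0, -880119, -24958, 9474, -405622, -51685, 0]) (.leaf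 [3120150270, 1782459554, 3813569052, 126750875, -20556495800, 8867764450, 539481401, 4627260174, -755912, 3271874699, -11558010632, -14534972589, -295676, 11973252589, 240074721, -125666489, 5311598428, 728384290, -32798]))) (.node (.node (.leaf [-4, 0, -2, 0, 0, -1, 0, 3, 0, 0, 1, 0, 0, 0, 0, 0, 0, -1, 0]) (.leaf [-2849668172, -2282391137, -4350739374, -125888704, 21188921088, -9213357933, -528734717, -4289296073, 1793347, -4186024176, 11851929791, 14769750345, 83295, -11604622206, -354085580, 124002423, -5398339875, -679132540, 9639])) (.node (.leaf [-109206743, -92196213, -172991322, -4883235, 829316719, -361074734, -20532951, -164780882, 71922, -169064231, 463512885, 576741705, 3087, -449475666, -14539962, 4807546, -210779560, -26153170, 680]) (.leaf [0, 0, -2, -4, -1, 0, 0, -1, 1, 1, 0, 0, 0, 0, 0, 3, 0, 0, 0])))) (.node (.node (.node (.node (.leaf []) (.leaf [2, 0, 0, 0, 1, 0, 0, 0, 0, -1, 0, 0, 0, 0, 0, 0, 0, 0, 0])) (.leaf [-47430834, -44367955, -80873154, -2197381, 376296029, -164247395, -9151155, -72034533, 41403,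 -81369703, 209944822, 260447913, -712, -199715820, -7212271, 2156727, -95209994, -11436574, -37])) (.node (.leaf [-426283, -402067, -731415, -19957, 3384963, -1477664, -82316, -645728, 412, -733791, 1887706, 2344029, -24, -1794690, -64932, 19569, -856466, -102550, 0]) (.leaf [-433902117, -395244815, -725724894, -19901312, 3402722018, -1484287004, -83153157, -657786000, 348321, -724886823, 1899379776, 2358070065, -102, -1815903306, -63768685, 19552100, -861932814, -104460738, 993]))) (.node (.node (.leaf []) (.leaf [-603375, -332948, -723063, -26776, 3962697, -1711453, -102882, -902300, 681, -621334, 2229210, 2796746, -115, -2315646, -45155, 26224, -1025626, -137687, -14])) (.node (.leaf [-6992140, -4776504, -9576268, -292630, 48886690, -21179288, -1253024, -10425144, 2083, -8752769, 27420994, 34321341, 721, -27594618, -697916, 289803, -12539807, -1652250, 23]) (.leaf [427022, 544017, 918832, 20917, -3906623, 1718960, 90954, 657713, -286, 994949, -2170352, -2667454, -46, 1938273, 94256, -20569, 973448, 107712, -16]))))) (.node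 (.node (.node (.node (.node (.leaf [1, 0, 2, 0, 0, 0, 0, -2, 0, 0, 1, 0, 0, 0, 0, 0, 0, 0, 0]) (.leaf [1476333, 1457580, 2620240, 68845, -12003147, 5244849, 289496, 2250672, -1195, 2675208, -6690515, -8287096, -16, 6299705, 240331, -67611, 3028268, 359029, -23])) (.leaf [-3458928446, -2762520139, -5270532917, -152714208, 25690991160, -11170247241, -641356907, -5205786258, 2166618, -5066972672, 14370877665, 17909961318, 101254, -14077975158, -428210368, 150433492, -6546123675, -824166324, 12843])) (.node (.leaf []) (.leaf [-19471, -18168, -33285, -913, 151736, -66124, -3727, -29092, 18, -32278, 84550, 105785, 1, -81091, -2801, 894, -38367, -4692, 0]))) (.node (.node (.leaf [0, -2, -1, 1, 0, 0, 0, 0, 0, 0, 0, 2, 0, 0, 0, -1, 0, 0, 0]) (.leaf [-3116602658, -1779961938, -3808611685, -126602655, 20531440233, -8856903888, -538841289, -4621969773, 755042, -3267305534, 11543964212, 14517398652, 295223, -11959184224, -239706424, 125519609, -5305180071, -727542969, 32781])) (.node (.leaf [4535, 3854, 7124, 217, -35194, 15291, 861,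 7060, -7, 7300, -19749, -24345, 0, 18933, 697, -210, 8961, 1123, 0]) (.leaf [-3187, -2421, -4729, -133, 23377, -10110, -575, -4805, 0, -4485, 13052, 16314, -1, -12932, -385, 134, -5959, -763, 0])))) (.node (.node (.node (.leaf []) (.leaf [226750, 172198, 333889, 9992, -1652849, 717881, 41485, 340801, -149, 316298, -925185, -1154417, 0, 914469, 26265, -9843, 422082, 53660, 0])) (.node (.leaf [6, -18, -39, 3, 118, -50, 1, -7, -1, -54, 55, 66, 0, -45, -4, -2, -19, 1, 0]) (.leaf [2860042396, 2290055411, 4365723604, 126339774, -21263753063, 9245835366, 530623938, 4304869176, -1799228, 4200105423, -11893841705, -14822081463, -83617, 11646240531, 355245200, -124447276, 5417472507, 681588806, -9653]))) (.node (.node (.leaf [-4, 0, 0, 0, 0, -8, -3, 1, 0, 0, 6, 0, 0, 0, 3, 0, 0, 0, 0]) (.leaf [0, 0, 2, 0, -4, -1, 0, 0, 0, 0, 0, -3, 0, 3, 0, 0, 1, 1, 0])) (.node (.leaf []) (.leaf [20005055, 14888841, 29040184, 872244, -144642947, 62788277, 3648231, 30026393, -12002, 27333064, -81000741, -101130879, -438, 80339520, 2254725, -859711,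 36970748, 4737188, -93])))))) (.node (.node (.node (.node (.node (.node (.leaf [15, -87, -127, 3, 111, -53, 0, 48, 0, -87, 24, 90, 0, -3, 0, -3, -21, 13, 0]) (.leaf [2074653614, 1594837003, 3078847515, 90576693, -15179700938, 6593876043, 381299321, 3116235485, -1176853, 2925404529, -8496416096, -10600220099, -83664, 8380132947, 244034492, -89305214, 3874230200, 493112340, -10962])) (.leaf [-33009292, -29132643, -53967649, -1496958, 255369369, -111305265, -6275218, -49938502, 24306, -53422511, 142621218, 177233502, 450, -137169459, -4656632, 1472074, -64777827, -7929859, 128])) (.node (.leaf [-2136422, -2494008, -4296481, -103384, 18737740, -8226418, -441417, -3278721, 1697, -4567803, 10422667, 12841515, 93, -9480228, -425955, 101542, -4689823, -530893, 52]) (.leaf [1268984135, 915059691, 1803187409, 54600169, -9062025179, 3930325200, 229770494, 1900457071, -668914, 1678401945, -5076944731, -6345802355, -56267, 5064245829, 136782608, -53872317, 2319417587, 300022441, -2671]))) (.node (.node (.leaf [0, 0, 0, 0, 1, 0, 0, 0,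 0, 0, 0, 0, 0, 0, 0, 0, 0, 0, 0]) (.leaf [44842, 42373, 77060, 2108, -358454, 156526, 8682, 68396, -47, 78129, -200002, -247732, 3, 189705, 6969, -2064, 90618, 10828, 0])) (.node (.leaf [19692, 19201, 34839, 923, -158795, 69421, 3828, 29811, -15, 35163, -88479, -109764, 0, 83652, 3083, -908, 39980, 4767, 0]) (.leaf [-112698, -85468, -166025, -4974, 825319, -358648, -20645, -170046, 76, -158903, 462217, 575306, -1, -455954, -13238, 4899, -210461, -26792, 0])))) (.node (.node (.node (.leaf [-2, 0, 0, 0, -2, 0, 0, 0, 0, 2, 0, 0, 0, 0, 0, 0, 0, 0, 0]) (.leaf [-9330264, -10113917, -17746277, -451054, 79105205, -34655731, -1877625, -14293227, 9696, -18537786, 44029206, 54384492, -300, -40689441, -1703209, 441667, -19877769, -2283011, -9])) (.node (.leaf [-6, 3, 4, 0, -8, 4, 0, -3, 0, 9, 0, 0, 0, 0, -3, 0, -1, 0, 0]) (.leaf [6559870837, 5231936516, 9985852448, 289319078, -48696404950, 21172218380, 1216135008, 9871817664, -4022798, 9596929199, -27240729909, -33949763982, -211397, 26691228780, 810675075, -285051274, 12408421511, 1563345297,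 -33609]))) (.node (.node (.leaf [-4, 18, 41, 0, -118, 50, -1, 7, 0, 54, -56, -66, 0, 45, 4, 0, 19, 0, 0]) (.leaf [193, 266, 491, 9, -2090, 904, 36, 333, 0, 570, -1132, -1377, 0, 1020, 55, -9, 500, 50, 0])) (.node (.leaf [163127618, 154451182, 280573019, 7537071, -1300333707, 567755537, 31599456, 247700064, -131353, 283120397, -725416182, -899636145, -1200, 688424622, 25162085, -7403817, 328790189, 39443538, -701]) (.leaf [82918639, 58550601, 116163559, 3529881, -587621413, 254739853, 14966626, 124052013, -34088, 107478607, -329381797, -411846440, -5677, 329644261, 8690629, -3488889, 150503557, 19627325, -1227]))))) (.node (.node (.node (.node (.node (.leaf []) (.leaf [-3460038033, -2763557123, -5272422334, -152763721, 25699749740, -11174067227, -641571227, -5207461172, 2167182, -5068859811, 14375763061, 17916034118, 101384, -14082629883, -428377269, 150482310, -6548340482, -824435364, 12846])) (.leaf [1, 0, 0, 0, 1, 0, 0, 0, 0, -1, 0, 0, 0, 0, 0, 0, 0, 0, 0])) (.node (.leaf [6426, 4847, 9307, 281, -46196, 20081, 1177, 9546,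 -6, 8790, -25933, -32340, 0, 25560, 756, -275, 11846, 1524, 0]) (.leaf [74003689, 64426820, 119816073, 3345333, -569305637, 248055849, 14018820, 111888516, -53681, 118165304, -318022648, -395344734, -1057, 306639729, 10260422, -3290326, 144501578, 17755953, -269]))) (.node (.node (.leaf [-37047054, -32737502, -60643002, -1696641, 286969107, -125088051, -7038816, -56112165, 31273, -60083572, 160250334, 199109706, -699, -154092315, -5240374, 1666050, -72792771, -8881546, 17]) (.leaf [7455508, 5126505, 10255900, 313025, -52255053, 22642127, 1337683, 11120787, -2388, 9395181, -29306771, -36674818, -721, 29460159, 751192, -309893, 13400217, 1761913, -23])) (.node (.leaf [15, 18, 23, 0, -36, 5, 0, 12, 0, -18, -9, -54, 0, 36, 0, 0, 19, 0, 0]) (.leaf [412, 684, 1270, 18, -4624, 2042, 77, 611, 0, 1409, -2508, -3051, 0, 2157, 133, -18, 1058, 104, 0])))) (.node (.node (.node (.leaf [230449932, 203334029, 376698093, 10451355, -1782653211, 776984118, 43806528, 348639615, -169929, 372872903, -995599049, -1237220835, -3051, 957583443, 32499886,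 -10277481, 452199793, 55358639, -894]) (.leaf [-448535, -425156, -772617, -21021, 3575210, -1560967, -86709, -680831, 436, -778035, 1993674, 2473889, -25, -1892972, -69027, 20610, -904186, -107962, 0])) (.node (.leaf [1572312122, 615248703, 1546371435, 59319219, -9315036662, 3987003980, 256470944, 2304262057, 166528, 1131481312, -5264692963, -6678188182, -245803, 5743969422, 62744916, -59205760, 2439783981, 361486154, -34184]) (.leaf [-14552, -13166, -23925, -640, 112107, -49085, -2813, -21609, -1, -23844, 62819, 77833, 0, -59784, -2070, 641, -28479, -3523, 0]))) (.node (.node (.leaf []) (.leaf [35624, 33873, 61829, 1685, -280856, 122556, 6861, 53387, -38, 60671, -156505, -195327, 0, 149310, 5283, -1647, 70875, 8596, 0])) (.node (.leaf [0, 0, 0, -1, 0, 0, 0, 0, 0, 0, 0, 0, 0, 0, 0, 1, 0, 0, 0]) (.leaf [-18253053, -9460175, -21030763, -741369, 116950323, -50356437, -3099180, -27052809, 6193, -17445942, 65844791, 82943187, 890, -69168809, -1215913, 734183, -30336268, -4224470, 103]))))))) (.node (.node (.node (.node (.node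 (.node (.node (.leaf [1, 0, 0, 0, 0, 0, 0, 0, 0, 0, 0, 0, 0, 0, 0, 0, 0, 0, 0]) (.leaf [0, 15, 20, 0, 6, 5, 0, -15, 0, 15, 0, 0, 0, -15, 0, 0, -5, 0, 0])) (.leaf [7517485, 8229836, 14404690, 364142, -64024978, 28056333, 1517550, 11521296, -7851, 15082158, -35630638, -43998039, 240, 32861793, 1388620, -356528, 16080870, 1841861, -3])) (.node (.leaf [-3192, -2431, -4685, -139, 23244, -10085, -585, -4788, -3, -4455, 13023, 16239, 1, -12843, -381, 141, -5946, -766, 0]) (.leaf [16, 82, 159, 0, -334, 140, -5, 8, 0, 137, -156, -227, 0, 135, 15, 0, 62, 0, 0]))) (.node (.node (.leaf [0, -2, 3, 5, 0, 0, 0, 0, 0, 0, 0, 2, 0, 0, 0, -5, 0, 0, 0]) (.leaf [-82683583, -75524591, -138561945, -3785992, 649016143, -283121761, -15859935, -125316915, 64343, -138472079, 362268169, 449741448, 690, -346169412, -12188200, 3720691, -164375379, -19921255, 268])) (.node (.leaf [16632, 16228, 29522, 806, -132496, 57817, 3216, 24947, -20, 28977, -73752, -92136, 0, 70161, 2531, -786, 33358, 4023, 0]) (.leaf [224383, 1537421, 2115269, 6327, -6334185, 2879131,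 125889, 368799, 3732, 2731147, -3453950, -4096698, -1530, 2137233, 297685, -8376, 1466978, 112065, -153])))) (.node (.node (.node (.node (.leaf [968303, 1089212, 1893846, 47154, -8351147, 3662174, 197175, 1485831, -1019, 1995402, -4645692, -5732112, 30, 4260978, 184717, -46161, 2094751, 238120, -4]) (.leaf [0, -3, -4, 0, 0, 0, 0, 3, 0, -3, 0, 0, 0, 3, 0, 0, 1, 0, 0])) (.leaf [392, 524, 941, 18, -3942, 1730, 78, 615, 0, 1085, -2170, -2616, 0, 1905, 109, -18, 952, 100, 0])) (.node (.leaf [87798, 74866, 141290, 4938, -681150, 297344, 16152, 135840, -297, 140357, -379850, -470754, 72, 367572, 12092, -4722, 173164, 19798, 9]) (.leaf [-44923, -42215, -76786, -2091, 357541, -156124, -8673, -68370, 35, -77640, 199571, 247278, -1, -189452, -6937, 2057, -90448, -10840, 0]))) (.node (.node (.leaf [2, 0, 0, 0, 1, 0, 0, 0, 0, -1, 0, 0, 0, 0, 0, 0, 0, 0, 0]) (.leaf [0, 0, -2, -2, 0, 0, 0, 0, 0, 0, 0, 0, 0, 0, 0, 2, 0, 0, 0])) (.node (.leaf [-145241371, -135179324, -246692699, -6654218, 1148986390, -501448230, -28012086, -220259547, 108756,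 -247773723, 641177971, 795581391, 3145, -610473192, -21919934, 6541638, -290742250, -35091171, 679]) (.leaf [-325829796, -280090143, -522787484, -14653565, 2493037227, -1085899758, -61533356, -492186803, 225715, -513615378, 1392939619, 1732328840, 7026, -1346289900, -44422467, 14419240, -633138217, -78124458, 1584]))))) (.node (.node (.node (.node (.node (.leaf [19692, 19201, 34838, 923, -158795, 69421, 3828, 29811, -15, 35163, -88479, -109764, 0, 83652, 3083, -908, 39980, 4767, 0]) (.leaf [-250382523, -191640206, -370457067, -10908858, 1828937822, -794392701, -45982956, -376001182, 136598, -351574992, 1023805056, 1277407708, 11206, -1010511040, -29284712, 10759197, -466861118, -59519886, 1857])) (.leaf [])) (.node (.leaf [17, -47, -86, -1, 246, -118, 1, -6, 1, -138, 125, 126, 0, -72, -8, 0, -36, 2, 0]) (.leaf [16188975, 14253193, 26422585, 734985, -125131914, 54538295, 3075291, 24493092, -12177, 26142365, -69887546, -86850078, -132, 67244541, 2277185, -722619, 31745153, 3886771, -57]))) (.node (.node (.leaf [-443700, -398852,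 -737410, -22835, 3495880, -1526195, -83871, -682287, 957, -741488, 1950389, 2415861, -192, -1867710, -65236, 22087, -886537, -103757, -17]) (.leaf [-22334189, -18434358, -34813811, -968174, 167728513, -72975538, -4184379, -33554671, 7885, -33730794, 93796148, 116833779, 2691, -91342668, -2875065, 957181, -42657262, -5370423, 417])) (.node (.leaf [40, 218, 359, 8, 399, -223, 6, -177, 0, -198, 329, -75, 0, -99, -50, -8, -102, 1, 0]) (.leaf [-562088, -678828, -1159046, -22545, 4932518, -2160601, -118365, -843034, -605, -1215505, 2739597, 3395752, 385, -2485477, -113467, 22734, -1231823, -145128, 31])))) (.node (.node (.node (.leaf [9, -15, -39, 0, 132, -56, 1, -11, 0, -62, 63, 69, 0, -51, -4, 0, -19, 0, 0]) (.leaf [-196728965, -143726506, -281942249, -8409263, 1411803986, -612562854, -35815555, -294700710, 72591, -263911226, 791083865, 988042549, 15970, -786898481, -21617977, 8315963, -361009665, -46767369, 4739])) (.node (.leaf [-170383, -161910, -294358, -8033, 1362022, -594596, -32937, -259242, 177, -296930, 759315, 942018,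 -8, -720786, -26377, 7864, -344300, -41003, 0]) (.leaf [690, 540, 887, 27, -4789, 2017, 120, 1064, 0, 787, -2660, -3437, 0, 2664, 113, -27, 1338, 135, 0]))) (.node (.node (.leaf [235150359, 241993612, 430141656, 11192167, -1946226525, 851539520, 46600995, 359051975, -230098, 443606681, -1084179912, -1341235258, 6236, 1012366086, 40268329, -10968426, 490249480, 57226908, 121]) (.leaf [66019644, 58265954, 107936504, 2993944, -510745718, 222613508, 12550629, 99878601, -48612, 106846102, -285246364, -354471982, -901, 274342929, 9313371, -2944175, 129557544, 15859965, -256])) (.node (.leaf [67891, 43293, 89428, 2828, -459266, 198279, 11909, 100023, -26, 77290, -257086, -324659, -12, 263745, 5724, -2790, 118239, 15789, 0]) (.leaf [5844620313, 5103142899, 9482839001, 264675986, -45018182312, 19616603544, 1107888118, 8838610791, -4327305, 9359451752, -25146243668, -31257934002, -58352, 24233641053, 813320284, -260269521, 11425149216, 1402308476, -20808])))))) (.node (.node (.node (.node (.node (.node (.leaf []) (.leaf [-4880818,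 3634730, 2550011, -105602, 8524464, -2968088, -486452, -6640071, -7541, 6624375, 5390507, 8093203, 1694, -12188864, 945690, 111398, -2961156, -991234, 51])) (.leaf [-12868, -14332, -25245, -586, 112410, -49488, -2605, -19920, 1, -27390, 62783, 76596, 0, -57120, -2539, 585, -27900, -3248, 0])) (.node (.leaf [30, -90, -127, 3, 99, -64, 0, 63, 0, -123, 30, 60, 0, 30, 0, -3, -6, 13, 0]) (.leaf [-2536035221, -1792518416, -3554980101, -107914685, 17977864759, -7794017020, -457938496, -3793903059, 1006266, -3290654141, 10077524650, 12599595956, 182789, -10083154920, -266166913, 106683963, -4604219224, -600531369, 41667]))) (.node (.node (.leaf []) (.leaf [16824, 16758, 29980, 764, -139079, 61023, 3367, 25907, 0, 31794, -77892, -95383, 0, 72366, 2892, -764, 34919, 4219, 0])) (.node (.leaf [-144723425, -126225057, -234621469, -6544490, 1114177222, -485490224, -27428598, -218824788, 105031, -231508957, 622380737, 773658336, 2082, -599894686, -20112077, 6436841, -282775503, -34730551, 536]) (.leaf [265712, 254928, 462151, 12341, -2133291,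 931365, 51626, 404445, -226, 467726, -1189282, -1474888, 1, 1126667, 41666, -12116, 538897, 64302, 0])))) (.node (.node (.node (.leaf [-201, -147, -202, -6, 1082, -469, -35, -238, 0, -168, 642, 812, 0, -594, -36, 6, -320, -46, 0]) (.leaf [-3276, -2318, -4494, -147, 23159, -9998, -589, -4935, 2, -4203, 13001, 16253, 1, -12967, -381, 144, -5989, -782, 0])) (.node (.leaf [-28868462, -24297204, -45633373, -1297885, 219107268, -95382902, -5421569, -43603142, 20970, -44582292, 122454495, 152373972, 116, -118820868, -3834447, 1276697, -55704287, -6902677, 102]) (.leaf [474969627, 400801421, 752191151, 21309176, -3606947983, 1570384532, 89241583, 716915781, -336878, 735022490, -2015812603, -2508341283, -7101, 1955086636, 63218744, -20964541, 916844247, 113607451, -656]))) (.node (.node (.leaf []) (.leaf [208, 244, 413, 9, -1833, 787, 38, 333, 0, 427, -1006, -1267, 0, 936, 49, -9, 470, 47, 0])) (.node (.leaf [-1143456377, -1227826417, -2159293384, -55201847, 9656680860, -4229995602, -229650950, -1751736534, 1152127, -2252778581, 5376470315,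 6640639833, -39441, -4976543297, -206579728, 54078090, -2427343759, -279793929, 11071]) (.leaf [423519, 541266, 913580, 20768, -3880040, 1707419, 90292, 652286, -294, 989642, -2155445, -2649071, -44, 1923772, 93785, -20413, 966673, 106848, -17]))))) (.node (.node (.node (.node (.node (.leaf []) (.leaf [0, 0, 0, 0, 1, 0, 0, 0, 0, 0, 0, 0, 0, 0, 0, 0, 0, 0, 0])) (.leaf [-32, -14, -29, 0, 40, -13, -1, -9, 0, 27, 15, 60, 0, -45, 0, 0, -22, 1, 0])) (.node (.leaf []) (.leaf [726897, 561061, 1082868, 32551, -5344703, 2321906, 133477, 1096915, -613, 1033836, -2990512, -3728188, 34, 2946974, 86642, -31972, 1363870, 172015, 0]))) (.node (.node (.leaf [35, 82, 142, 0, -207, 121, 5, -18, 0, 99, -121, -162, 0, 72, 3, 0, 36, 1, 0]) (.leaf [])) (.node (.leaf []) (.leaf [-47, -43, -44, -3, -15, 9, -1, 0, 0, 57, -9, 64, 0, -24, 4, 3, -18, -4, 0])))) (.node (.node (.node (.leaf [-3, 6, 4, 0, 4, -2, 0, -3, 0, 3, 3, 0, 0, -6, 0, 0, -1, 0, 0]) (.leaf [])) (.node (.leaf [-5, 28, 52, 0, -125, 63, 1, -5, 0, 75, -67, -66, 0, 33, 4, 0, 17, 2, 0])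 (.leaf [-26398544, -23823816, -43880559, -1228332, 206468897, -90047218, -5038821, -40081746, 25905, -43752155, 115245361, 143091543, -1579, -110386695, -3840632, 1204118, -52328882, -6324867, -112]))) (.node (.node (.leaf [15642, 15453, 27961, 724, -126303, 55213, 3048, 23581, -7, 28014, -70278, -87411, 0, 66480, 2430, -717, 31809, 3761, 0]) (.leaf [24303076, 22269715, 40811414, 1110312, -190956167, 83313057, 4666801, 36820653, -17965, 40819692, -106592257, -132312576, -540, 101780529, 3596071, -1091771, 48356342, 5860338, -36])) (.node (.leaf [0, 0, 0, 0, 1, 0, 0, 0, 0, 0, 0, 0, 0, 0, 0, 0, 0, 0, 0]) (.leaf [1251910371, 1151796760, 2109431687, 57968315, -9857264709, 4300490897, 240033203, 1898934944, -1197776, 2109999686, -5499680427, -6828597611, 40056, 5250649754, 186077838, -56833276, 2496565884, 300487304, 22681])))))))) (.node (.node (.node (.node (.node (.node (.node (.node (.leaf [0, 0, -1, -1, 0, 0, 0, 0, 0, 0, 0, 0, 0, 0, 0, 1, 0, 0, 0]) (.leaf [2, 0, 0, 0, 1, 0, 0, 0, 0, -1, 0, 0, 0, 0, 0, 0, 0, 0, 0])) (.leaf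 [0, 0, 0, 0, 1, 0, 0, 0, 0, 0, 0, 0, 0, 0, 0, 0, 0, 0, 0])) (.node (.leaf []) (.leaf [2, 7, -1, 0, 5, 1, 1, -7, 0, 6, -2, 4, 0, -15, 3, 0, 4, 0, 0]))) (.node (.node (.leaf []) (.leaf [])) (.node (.leaf [3, -39, -58, -2, 49, -15, 0, 18, 0, -27, 6, 48, 0, -9, 0, 2, -13, 3, 0]) (.leaf [0, 0, 0, 0, 1, 0, 0, 0, 0, 0, 0, 0, 0, 0, 0, 0, 0, 0, 0])))) (.node (.node (.node (.node (.leaf [-1, 0, 0, 0, -1, 0, 0, 0, 0, 1, 0, 0, 0, 0, 0, 0, 0, 0, 0]) (.leaf [0, 0, 0, 0, 1, 0, 0, 0, 0, 0, 0, 0, 0, 0, 0, 0, 0, 0, 0])) (.leaf [91533443, 80151593, 148812771, 4146612, -705897122, 307606445, 17365204, 138450876, -67686, 146996775, -394278612, -490074183, -925, 379771872, 12786439, -4077645, 179129448, 21970332, -356])) (.node (.leaf [-223, -173, -270, -9, 1580, -664, -39, -363, 0, -261, 886, 1128, 0, -870, -46, 9, -449, -42, 0]) (.leaf [10753837408, 8658269878, 16478973066, 476386860, -80125938751, 34844300579, 1997032976, 16191416223, -7110288, 15876749567, -44811925885, -55839391130, -242957, 43839090003, 1345241230, -469034943, 20410259824,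 2562099301, 1328]))) (.node (.node (.leaf [0, 0, 1, 1, 0, 0, 0, 0, 0, 0, 0, 0, 0, 0, 0, -1, 0, 0, 0]) (.leaf [0, -12, -16, 0, -4, -4, 0, 12, 0, -12, 0, 0, 0, 12, 0, 0, 4, 0, 0])) (.node (.leaf []) (.leaf [62385, -30085, -10538, 2017, -172586, 67005, 6889, 87855, -39, -54800, -102290, -142759, 9, 174601, -8655, -1992, 52774, 12364, 5]))))) (.node (.node (.node (.node (.node (.leaf []) (.leaf [22211424, 19838619, 36645151, 1029655, -172967123, 75420793, 4228860, 33702102, -21267, 36446031, -96567150, -119922552, 1197, 92663871, 3190005, -1009648, 43856360, 5318968, 63])) (.leaf [-178102, -169101, -307478, -8363, 1425017, -622245, -34463, -271310, 175, -310946, 794647, 985123, -9, -753939, -27611, 8197, -360126, -42919, 0])) (.node (.leaf [192, 50, 64, 6, -1010, 444, 36, 294, 0, 117, -639, -714, 0, 597, 31, -6, 296, 54, 0]) (.leaf [1267830, 1201737, 2185264, 59818, -10130853, 4422744, 245061, 1930887, -1341, 2206584, -5649021, -7005849, 90, 5362701, 196260, -58575, 2561500, 305086, 8]))) (.node (.node (.leaf [-127381968, -118098277,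 -215796241, -5870076, 1006468674, -439225904, -24527499, -193272822, 104159, -216571955, 561650085, 696930444, -198, -535163892, -19140578, 5765736, -254733074, -30718210, 379]) (.leaf [1, 34, 77, 0, -114, 48, -4, -15, 0, 72, -54, -72, 0, 33, 9, 0, 9, 3, 0])) (.node (.leaf []) (.leaf [80, -90, -138, 0, 534, -208, 0, -33, 0, -275, 229, 265, 0, -162, -13, 0, -97, 3, 0])))) (.node (.node (.node (.leaf [34, -154, -272, 0, 738, -330, 6, 30, 0, -444, 374, 369, 0, -168, -53, 0, -126, -3, 0]) (.leaf [])) (.node (.leaf [365420, 300221, 566881, 16481, -2748295, 1196587, 68355, 551983, -286, 552169, -1537641, -1912255, 12, 1496466, 47201, -16207, 699652, 87161, 0]) (.leaf [-36730636, -31440839, -58759120, -1653323, 280585222, -122207738, -6927236, -55481820, 26279, -57667846, 156781259, 194994333, 555, -151645557, -4981256, 1626387, -71272291, -8798410, 102]))) (.node (.node (.leaf [106378577, 79766375, 155202257, 4610594, -770865073, 334647664, 19440249, 159576864, -56785, 146296317, -431635222, -538911417, -4960, 427614164, 12095589,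 -4548279, 196958469, 25242023, -570]) (.leaf [475214813, 400542031, 751978543, 21335768, -3607447394, 1570577421, 89255266, 717340081, -341585, 734654228, -2016122803, -2508734717, -5556, 1955775762, 63167214, -20988096, 917021639, 113630795, -531])) (.node (.leaf [3, -3, -1, 0, -1, 0, 0, 0, 0, -3, 0, 0, 0, 3, 0, 0, 1, 0, 0]) (.leaf [47030564, 46455467, 83454602, 2205408, -382061440, 166989778, 9215673, 71615903, -41652, 85162898, -212983386, -263805930, 396, 200482044, 7652350, -2163967, 96416420, 11411081, -185])))))) (.node (.node (.node (.node (.node (.node (.leaf [-2, 5, 3, 0, -5, 10, 1, -5, 0, 15, -9, 3, 0, -9, 0, 0, -1, 0, 0]) (.leaf [34612789, 29954064, 55800656, 1561390, -265580472, 115704223, 6546873, 52305354, -24723, 54933949, -148374242, -184480476, -559, 143219540, 4760558, -1535996, 67427468, 8300703, -112])) (.leaf [44927, 42217, 76786, 2098, -357539, 156123, 8674, 68370, -42, 77640, -199569, -247279, 1, 189449, 6938, -2057, 90449, 10840, 0])) (.node (.leaf [-13895003, -14072680, -25114266, -658390, 114184272,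 -49940974, -2740773, -21198837, 13437, -25805156, 63626332, 78741828, -366, -59593737, -2334272, 645376, -28785078, -3375432, -57]) (.leaf [-6, 0, -2, 0, -2, -1, 0, 3, 0, 2, 1, 0, 0, 0, 0, 0, 0, -1, 0]))) (.node (.node (.leaf [-4511, -3968, -7243, -200, 35398, -15371, -861, -7021, -2, -7389, 19784, 24486, 0, -18960, -697, 202, -9049, -1088, 0]) (.leaf [1365371, 641425, 1485903, 54498, -8496627, 3651245, 227712, 2015186, -445, 1181508, -4789332, -6048928, -78, 5102966, 76903, -53995, 2212185, 313745, 20])) (.node (.leaf [-15, -96, -150, 0, 87, -53, 0, 58, 0, -68, 25, 99, 0, -3, 0, 0, -16, 9, 0]) (.leaf [373749888, 305737976, 579006254, 16504475, -2801748059, 1218875340, 69765415, 562868343, -212960, 560630815, -1566801501, -1951305305, -18018, 1528076767, 47743165, -16269853, 713056133, 89389290, -3644])))) (.node (.node (.node (.leaf [0, -6, -8, 0, 1, -5, 0, 6, 0, -9, 3, 0, 0, 6, 0, 0, 2, 0, 0]) (.leaf [-8446, -7742, -14144, -378, 67971, -29573, -1638, -13211, 0, -14666, 37962, 46824, 0, -36090, -1354, 378, -17215, -2086,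 0])) (.node (.leaf [4246, 3281, 6330, 180, -31174, 13542, 777, 6372, 0, 6060, -17455, -21741, 0, 17166, 517, -180, 7948, 1013, 0]) (.leaf [-2813305521, -2251088843, -4292333765, -124243726, 20910401655, -9092035722, -521868666, -4234321554, 1765766, -4128593459, 11696323434, 14576256105, 83228, -11454268134, -349113690, 122385135, -5327605144, -670424555, 9597]))) (.node (.node (.leaf [-2, 12, 38, 0, -113, 39, -1, 11, 0, 39, -46, -69, 0, 54, 4, 0, 20, 0, 0]) (.leaf [-1178054, -904048, -1746314, -51532, 8614760, -3742271, -216329, -1769607, 681, -1658813, 4822122, 6015834, 47, -4757151, -138353, 50803, -2198828, -279778, 1])) (.node (.leaf [-3818287, -3540851, -6481544, -186826, 30331745, -13241521, -731343, -5838951, 5763, -6534546, 16917364, 20969502, -837, -16117584, -578887, 181965, -7678991, -908200, -65]) (.leaf [6, 0, 2, 0, 1, 1, 0, -3, 0, -1, -1, 0, 0, 0, 0, 0, 0, 1, 0]))))) (.node (.node (.node (.node (.node (.leaf [0, 0, -1, 0, -1, 0, 0, 0, 0, 0, 0, 0, 0, 0, 0, 0, 1, 0, 0]) (.leaf [43469060, 43535481, 77898342, 2035886,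 -355163020, 155297595, 8556873, 66199283, -36370, 79782685, -197971530, -245095815, -432, 185810598, 7193295, -1998816, 89570293, 10574422, -268])) (.leaf [-204, -123, -161, -4, 942, -411, -36, -216, 0, -123, 579, 725, -1, -531, -34, 3, -289, -50, 2])) (.node (.leaf [-12, 45, 100, 0, -251, 99, -4, -1, 0, 130, -113, -138, 0, 84, 13, 0, 37, 3, 0]) (.leaf [-3232994318, -3009485236, -5492946104, -149228170, 25591199378, -11169117672, -623211906, -4907185869, 2673669, -5519243248, 14279961672, 17717122342, -14256, -13596031395, -488379549, 146557465, -6475926523, -779884009, 11292]))) (.node (.node (.leaf [3, -6, -8, 0, 4, -5, 0, 6, 0, -12, 3, 0, 0, 6, 0, 0, 2, 0, 0]) (.leaf [-10, 48, 98, 0, -250, 112, -1, 3, 0, 130, -122, -139, 0, 84, 8, 0, 36, 2, 0])) (.node (.leaf [4, -2, 0, 7, 0, -1, 1, 0, -7, 0, 2, 0, 0, 0, 1, 0, 0, 0, 0]) (.leaf [])))) (.node (.node (.node (.leaf [1, 0, 0, 0, 1, 0, 0, 0, 0, -1, 0, 0, 0, 0, 0, 0, 0, 0, 0]) (.leaf [8073, 7548, 13718, 361, -65147, 28471, 1558, 12456, 5, 14340, -36432, -44764, 0, 34353, 1305,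 -366, 16454, 1983, 0])) (.node (.leaf [-1224456035, -1066312730, -1982950741, -55396902, 9420845632, -4104846313, -231951534, -1851375177, 899676, -1955637242, 5262520312, 6542089518, 13762, -5074032471, -169806545, 54478960, -2391189597, -293735785, 4504]) (.leaf [20, -51, -104, 0, 256, -102, 4, 4, 0, -139, 112, 138, 0, -81, -10, 0, -36, -3, 0]))) (.node (.node (.leaf [0, 0, 0, 0, -1, 0, 0, 0, 0, 0, 0, 0, 0, 0, 0, 0, 1, 0, 0]) (.leaf [4056773, 2764369, 5545907, 168140, -28321215, 12268058, 727095, 6042570, -839, 5061498, -15887097, -19889121, -532, 15995220, 402969, -166749, 7264872, 960156, -20])) (.node (.leaf [172739401, 156998189, 288448626, 7919332, -1353380633, 590317905, 33082788, 261846112, -138860, 287942816, -755472256, -937976091, 123, 722578710, 25316281, -7780301, 342859319, 41574739, -294]) (.leaf [-3910601033, -3102731125, -5931471360, -172240170, 28969902762, -12593913341, -724074767, -5883421752, 2377068, -5691313283, 16207033767, 20201708049, 129218, -15895111686, -479919689, 169714073, -7383583751, -931587003,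 19812]))))))) (.node (.node (.node (.node (.node (.node (.node (.leaf []) (.leaf [238761, 228550, 414354, 11012, -1914133, 835725, 46403, 363084, -181, 419340, -1067408, -1323539, -4, 1011231, 37359, -10825, 483567, 57892, -2])) (.leaf [-2, 0, 0, 0, -4, 1, 0, 0, 0, 4, -1, 0, 0, 0, 0, 0, 0, 0, 0])) (.node (.leaf [0, 0, 0, 1, -1, 0, 0, 0, 0, 0, 0, 0, 0, 0, 0, -1, 1, 0, 0]) (.leaf [123083573, 107298651, 199463939, 5554697, -947185308, 412717658, 23329001, 186043513, -86403, 196743800, -529113484, -657761761, -2636, 510051323, 17085421, -5464987, 240392614, 29550349, -671]))) (.node (.node (.leaf [-4514, -3965, -7213, -202, 35423, -15367, -861, -7044, 1, -7359, 19777, 24504, 0, -18981, -697, 201, -9083, -1078, 0]) (.leaf [-3632677, -2214349, -4624729, -151185, 24465397, -10574616, -635003, -5404950, 1441, -4073980, 13745169, 17245194, 234, -14086970, -309106, 149515, -6304598, -848764, -5])) (.node (.leaf []) (.leaf [199785774, 179625297, 331021006, 9128611, -1558055835, 679411331, 38155248, 302650264, -157190, 329445488, -869879583,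 -1080364767, -441, 833708550, 28876113, -8970561, 394902510, 48043132, -419])))) (.node (.node (.node (.leaf [0, 0, 1, 2, -1, 0, 0, 0, 0, 0, 0, 0, 0, 0, 0, -2, 1, 0, 0]) (.leaf [])) (.node (.leaf [1, 0, 0, 0, 1, 0, 0, 0, 0, -1, 0, 0, 0, 0, 0, 0, 0, 0, 0]) (.leaf [-243151235, -200368684, -378686096, -10826033, 1828874888, -795791909, -45433928, -366566067, 159623, -367540795, 1022532402, 1273169016, 6000, -995993265, -31379139, 10659312, -465345926, -58085596, 1098]))) (.node (.node (.leaf [0, 3, 4, 0, 1, 1, 0, -3, 0, 3, 0, 0, 0, -3, 0, 0, -1, 0, 0]) (.leaf [447448, 444801, 796472, 19282, -3624562, 1582349, 88396, 675859, 7, 808793, -2020503, -2507538, -126, 1901685, 72782, -19148, 914183, 110707, -15])) (.node (.leaf [1248579942, 984817310, 1886030044, 54840992, -9227806573, 4010982043, 230915749, 1877774577, -727141, 1806538562, -5163081689, -6436597149, -48360, 5068878204, 152034246, -54056572, 2352430966, 297446218, -8919]) (.leaf [-373596627, -305609564, -578765141, -16499908, 2800627034, -1218390686, -69736257, -562647636,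 213340, -560408974, 1566176154, 1950514872, 17849, -1527462312, -47724588, 16265082, -712771284, -89350474, 3637]))))) (.node (.node (.node (.node (.node (.leaf [1, 0, 0, 0, 2, -1, 0, 0, 0, -2, 1, 0, 0, 0, 0, 0, 0, 0, 0]) (.leaf [0, 0, 0, 0, 1, 0, 0, 0, 0, 0, 0, 0, 0, 0, 0, 0, 0, 0, 0])) (.leaf [-2840465, -2019942, -3994652, -117178, 20122929, -8725705, -514529, -4232568, 279, -3695621, 11282904, 14109634, 498, -11276934, -298727, 116372, -5150735, -676541, 29])) (.node (.leaf [-2, 1, 0, -1, 0, 1, 0, 0, 2, 1, -1, 0, -1, 0, 0, 0, 0, 0, 0]) (.leaf [-8017, -7538, -13729, -360, 64542, -28147, -1560, -12361, 0, -14078, 36016, 44520, 0, -34158, -1264, 360, -16306, -1964, 0]))) (.node (.node (.leaf [31422662, 27699488, 51327393, 1416414, -242874059, 105851307, 5974335, 47502486, -21144, 50771039, -135649378, -168592135, -1065, 130496910, 4422467, -1394016, 61607009, 7557818, -189]) (.leaf [546060, 634281, 1093988, 26175, -4773159, 2095324, 112710, 836472, -378, 1160493, -2655357, -3272877, -46, 2417973, 107959, -25735, 1194740,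 135842, -16])) (.node (.leaf [29085528, 25265852, 47006001, 1302532, -223389827, 97323812, 5510880, 43924435, -18143, 46299824, -124802524, -155179134, -1335, 120387306, 4016431, -1282872, 56703769, 6990841, -182]) (.leaf [-3548158, -3872244, -6782944, -171748, 30175894, -13222286, -715550, -5437197, 3687, -7096800, 16794018, 20739694, -115, -15498782, -653002, 168172, -7580240, -868968, 4])))) (.node (.node (.node (.leaf [-3780175325, -3072476138, -5831154376, -168032093, 28272171476, -12297444357, -703438002, -5694478122, 2601520, -5633363206, 15808853135, 19694554107, 65388, -15439924779, -478780576, 165373706, -7198918562, -900897419, -8521]) (.leaf [152696020, 136408866, 251833266, 6963916, -1187596447, 517786522, 29114322, 231235369, -118610, 250194125, -663121226, -823723143, -561, 636310506, 21890010, -6844353, 301092582, 36701505, -392])) (.node (.leaf [7192, 5619, 10966, 334, -52715, 22919, 1299, 10683, -6, 10266, -29434, -36822, 0, 29076, 828, -328, 13373, 1695, 0]) (.leaf [2465, 1981, 3669, 83, -18580, 8113, 492,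 3801, 3, 3662, -10423, -12900, -1, 10128, 300, -93, 4783, 576, 8]))) (.node (.node (.leaf [5, 0, 2, 0, 0, 1, 0, -3, 0, 0, -1, 0, 0, 0, 0, 0, 0, 1, 0]) (.leaf [2422831347, 2110039913, 3923847045, 109632164, -18641733584, 8122584696, 458964185, 3663400644, -1784281, 3869908356, -10413320252, -12945240489, -25933, 10040232447, 336029877, -107813164, 4731618856, 581199047, -8786])) (.node (.leaf [35, 8, 22, -5, 23, -6, 3, 3, 0, -60, 19, -33, -1, 36, -13, 6, 2, -1, 0]) (.leaf [1, 0, 0, 0, 0, 0, 0, 0, 0, 0, 0, 0, 0, 0, 0, 0, 0, 0, 0])))))) (.node (.node (.node (.node (.node (.node (.leaf [0, 0, 1, 0, 0, 0, 0, 0, 0, 0, 0, 0, 0, 0, 0, 0, 0, 0, 0]) (.leaf [1739936, 1135610, 2314108, 72961, -11984639, 5187532, 308528, 2593127, -676, 2085569, -6726484, -8426562, -129, 6819417, 163136, -72159, 3079736, 408908, 3])) (.leaf [135181, 85858, 176888, 5737, -924760, 399743, 23781, 202032, -64, 157950, -518880, -650760, -7, 528845, 12283, -5666, 237970, 31609, 0])) (.node (.leaf [0, 0, 0, -1, 0, -1, 0, 0, 1, 0, 0, 0, 0, 0, 0, 0, 0, 0, 0]) (.leaf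 [0, 0, 1, 1, -1, 0, 0, 0, 0, 0, 0, 0, 0, 0, 0, -1, 1, 0, 0]))) (.node (.node (.leaf []) (.leaf [])) (.node (.leaf [-6009565257, -5248719216, -9752515665, -272156136, 46294255304, -20172792775, -1139245080, -9088150296, 4448754, -9626405129, 25858917008, 32143563812, 60609, -24919070652, -836589473, 267625326, -11748841376, -1441933441, 21447]) (.leaf [0, 0, 0, 0, 1, 0, 0, 0, 0, 0, 0, 0, 0, 0, 0, 0, 0, 0, 0])))) (.node (.node (.node (.leaf [-5, 54, 117, 0, -272, 98, -4, 2, 0, 114, -107, -168, 0, 111, 7, 0, 47, 3, 0]) (.leaf [4518, 3966, 7243, 208, -35398, 15370, 860, 7021, -6, 7389, -19782, -24485, 0, 18960, 699, -202, 9049, 1088, 0])) (.node (.leaf []) (.leaf [-5697682358, -4467258261, -8571282302, -250164207, 42012505431, -18258614221, -1052020507, -8567102249, 3382420, -8194705812, 23508128506, 29311980038, 200474, -23104626480, -688275264, 246551048, -10713337053, -1356135980, 30265]))) (.node (.node (.leaf [-4, -12, -20, 0, 66, -16, 1, -12, 0, -3, 18, 52, 0, -39, -2, 0, -24, 4, 0]) (.leaf [72792846, 64588911, 119483409,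 3321995, -564621817, 246132901, 13851510, 110221497, -57960, 118484799, -315292692, -391728416, 311, 302941995, 10345689, -3264207, 143194955, 17475592, -139])) (.node (.leaf [691, 528, 879, 27, -4805, 2019, 120, 1067, 0, 786, -2663, -3437, 0, 2676, 113, -27, 1343, 135, 0]) (.leaf [0, 0, 1, 1, -1, 0, 0, 0, 0, 0, 0, 0, 0, 0, 0, -1, 1, 0, 0]))))) (.node (.node (.node (.node (.node (.leaf [-33062818, -29173850, -54047393, -1499333, 255761528, -111475719, -6285024, -50018820, 24350, -53498426, 142840738, 177507147, 449, -137385744, -4662978, 1474408, -64877783, -7942551, 126]) (.leaf [1055608, 1526621, 2506197, 39203, -10080515, 4432558, 238285, 1575549, 2376, 2712263, -5584081, -6900326, -1159, 4875543, 261037, -40319, 2493582, 285889, -101])) (.leaf [-21767115, 14860035, 9607063, -440507, 42516384, -15299665, -2273307, -29579594, -46756, 27159215, 26507557, 38962670, 11481, -55513236, 3952357, 474303, -14171496, -4535177, 1479])) (.node (.leaf [-258, -134, -337, -9, 2307, -918, -36, -531, 0, -402, 1227, 1533, 0, -1293, -70,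 9, -612, -50, 0]) (.leaf [0, 0, 0, 0, 1, 0, 0, 0, 0, 0, 0, 0, 0, 0, 0, 0, 0, 0, 0]))) (.node (.node (.leaf [2, 2, -1, 0, 0, 5, 1, 0, 0, 0, -2, 0, 0, 0, -3, 0, 0, 0, 0]) (.leaf [-243987, -230540, -419294, -11500, 1944530, -848685, -47057, -371186, 265, -422266, 1084231, 1345498, -12, -1030266, -37623, 11247, -491990, -58589, 0])) (.node (.leaf [-280850, -264555, -480947, -13047, 2227906, -972798, -54324, -424902, 241, -483041, 1242876, 1542645, -16, -1181051, -42699, 12822, -563803, -67707, 0]) (.leaf [12, 12, 7, 0, 25, 1, 0, -8, 0, -4, 0, 4, 0, -18, 2, 0, -3, 0, 0])))) (.node (.node (.node (.leaf [-13, 102, 149, 0, -129, 48, 0, -50, 0, 84, -21, -117, 0, 15, 0, 0, 30, -11, 0]) (.leaf [-71795783, -55515473, -106979157, -3142203, 526526988, -228750547, -13211523, -107879289, 42114, -101832775, 294677256, 367582344, 2570, -290345954, -8511964, 3097214, -134350277, -17066994, 305])) (.node (.leaf [115377, 87787, 170260, 5087, -841562, 365547, 21096, 173351, -77, 161256, -471003, -587744, 0, 465486, 13375, -5010, 214820, 27291,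 0]) (.leaf [-63380, -48206, -93278, -2794, 461449, -200458, -11600, -95069, 44, -88404, 258409, 322362, 0, -255165, -7391, 2750, -117880, -15018, 0]))) (.node (.node (.leaf []) (.leaf [1321416082, 1256829436, 2280368210, 61148315, -10562413146, 4612810044, 256689123, 2008722886, -986458, 2307534432, -5893376065, -7304368138, -14283, 5585462271, 205401591, -60117499, 2669456040, 320375460, -30075])) (.node (.leaf [37142861, 32208124, 59967401, 1683226, -285348831, 124319609, 7026601, 56173765, -28427, 59089557, -159404357, -198175092, -48, 153813582, 5126833, -1654700, 72445775, 8900651, -51]) (.leaf [-5564726, -3768489, -7576318, -231196, 38773586, -16794012, -995847, -8290218, 1311, -6903129, 21752609, 27234021, 684, -21921897, -548472, 229176, -9949041, -1315671, 25])))))))))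

def threeL11 : Janko.Tree (List ℤ) :=
  (.node (.node (.node (.node (.node (.node (.node (.node (.node (.leaf []) (.leaf [-216771774, -183479252, -344012495, -9700875, 1647922944, -717528508, -40783016, -327134547, 143700, -336451190, 920996827, 1145903179, 5960, -892688327, -28958543, 9549865, -418788752, -51922912, 1351])) (.leaf [1765371, 1828571, 3244357, 84350, -14650862, 6411706, 350478, 2695914, -1794, 3350917, -8160886, -10093887, 65, 7610152, 304621, -82616, 3689755, 429651, -5])) (.node (.leaf []) (.leaf [3113810011, 1777967287, 3804671110, 126486010, -20511617693, 8848309503, 538335786, 4617804474, -754409, 3263658689, -11532854551, -14503502001, -294846, 11948082864, 239410910, -125403989, 5300105470, 726879674, -32766]))) (.node (.node (.leaf [11, 111, 168, 0, -356, 175, 8, -13, 0, 180, -186, -232, 0, 102, 11, 0, 74, 1, 0]) (.leaf [3664565, 2790442, 5402470, 160654, -26739641, 11613470, 671907, 5509161, -2248, 5125913, -14969298, -18674808, -82, 14785617, 426924, -158317, 6828171, 869354, -6])) (.node (.leaf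 [2, 15, 19, 0, -18, -3, 0, -2, 0, -3, 3, -27, 0, 12, 0, 0, 9, 1, 0]) (.leaf [8882687, 7957499, 14677851, 405244, -69151276, 30156113, 1694630, 13448073, -6946, 14595257, -38613701, -47956537, -54, 37027053, 1277409, -398237, 17529009, 2134965, -7])))) (.node (.node (.node (.node (.leaf []) (.leaf [536, 667, 1314, 27, -5626, 2494, 109, 853, 0, 1614, -3111, -3630, 0, 2726, 129, -27, 1286, 167, 0])) (.leaf [-15380, -11750, -22834, -688, 112498, -48883, -2814, -23127, 13, -21636, 62944, 78534, 0, -62187, -1783, 675, -28675, -3635, 0])) (.node (.leaf [-909093385, -691560367, -1339492095, -39610747, 6624956070, -2877064498, -166656345, -1364895291, 514701, -1268548122, 3708678442, 4628396740, 35800, -3664780695, -105435132, 39056247, -1691655119, -215858367, 3999]) (.leaf [-816718369, -743702235, -1365654950, -37438649, 6403674827, -2793289200, -156509295, -1238037957, 650889, -1363916059, 3574530791, 4437830574, 1206, -3417648744, -119971506, 36784472, -1622112911, -196639463, 2083]))) (.node (.node (.leaf [-9025, -7936, -14488,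 -413, 70796, -30740, -1722, -14044, 5, -14778, 39564, 48972, 0, -37920, -1394, 408, -18098, -2176, 0]) (.leaf [-18395356, -5387577, -15690660, -671816, 102366799, -43597822, -2899153, -26805621, -3492, -9940771, 58044393, 74024352, 2914, -65377607, -362928, 672014, -27050744, -4182957, 380])) (.node (.leaf [-5299421397, -4530772232, -8470451508, -238473932, 40467542476, -17624849595, -999484509, -8005622640, 3707096, -8312179885, 22613001335, 28123986330, 86019, -21875979179, -717836429, 234644489, -10279477086, -1269918082, 36328]) (.leaf [-3232, -2445, -4687, -141, 23193, -10072, -588, -4795, 3, -4392, 13004, 16256, 0, -12843, -380, 138, -5958, -758, 0]))))) (.node (.node (.node (.node (.node (.leaf [3, -31, -57, 0, 154, -56, 0, -21, 0, -48, 66, 109, 0, -75, -3, 0, -31, 0, 0]) (.leaf [79227, 75942, 138408, 3747, -634468, 277065, 15300, 120015, -81, 138890, -353351, -438943, 3, 335522, 12176, -3667, 160056, 19031, -2])) (.leaf [-1713168029, -1294628192, -2512842388, -74510070, 12452709939, -5407046169, -313583709, -2571251919,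 955774, -2374746688, 6971794571, 8702404692, 69980, -6897352873, -196909898, 73476647, -3180664700, -406594429, 7669])) (.node (.leaf [8255, 8066, 14517, 375, -67596, 29606, 1643, 12707, 0, 15189, -37794, -46459, 0, 35400, 1350, -375, 17007, 2055, 0]) (.leaf [2123, 1676, 3262, 99, -15709, 6840, 386, 3165, -1, 3123, -8797, -10939, 1, 8612, 264, -99, 3974, 509, 0]))) (.node (.node (.leaf []) (.leaf [48839, 43056, 78055, 2041, -377636, 165937, 9630, 73287, 14, 80898, -212668, -260496, 11, 200757, 7042, -2067, 95973, 12038, 1])) (.node (.leaf [-152741497, -127731140, -240349165, -6821006, 1155540028, -502979532, -28645458, -230395344, 101658, -234234382, 645915023, 803942689, 3827, -627482315, -20087603, 6714689, -293826714, -36537669, 832]) (.leaf [56912, 43226, 83660, 2525, -414674, 180122, 10424, 85527, -39, 79392, -232216, -289617, -1, 229342, 6626, -2484, 105941, 13498, 0])))) (.node (.node (.node (.leaf []) (.leaf [-349579, -265688, -515020, -15422, 2548087, -1106741, -63953, -525198, 234, -487800, 1426296, 1779762, -1,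 -1409596, -40524, 15189, -650690, -82725, 0])) (.node (.leaf [-122540, -93039, -180459, -5400, 893236, -387938, -22413, -184182, 84, -170904, 499955, 623880, 0, -494244, -14184, 5316, -228088, -28996, 0]) (.leaf [2787277507, 2232106033, 4255066882, 123115294, -20723606267, 9010991871, 517143446, 4195282624, -1750877, 4093732214, -11591684914, -14445544972, -82509, 11350120716, 346257286, -121272401, 5279817850, 664268868, -9507]))) (.node (.node (.leaf [-22, -59, -100, 0, 274, -91, 1, -48, 0, -36, 105, 221, 0, -159, -4, 0, -79, 6, 0]) (.leaf [33071941, 29190490, 54073318, 1499904, -255865734, 111522072, 6287280, 50033784, -24384, 53529851, -142898472, -177576363, -444, 137432856, 4666181, -1474948, 64903451, 7944998, -128])) (.node (.leaf [3158, 2388, 4565, 135, -23168, 10036, 589, 4818, 0, 4407, -12971, -16158, 0, 12804, 377, -135, 5957, 756, 0]) (.leaf [142827420, 112173026, 215100369, 6262895, -1053747800, 457985135, 26389691, 214735722, -81525, 205766597, -589637905, -735155140, -5897, 579307679, 17290641, -6174442, 268678487,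 34018441, -1031])))))) (.node (.node (.node (.node (.node (.node (.leaf [12, -102, -148, 0, 129, -48, 0, 51, 0, -84, 21, 117, 0, -15, 0, 0, -30, 10, 0]) (.leaf [-15942541, -13932696, -25883839, -726599, 122885018, -53552396, -3021168, -24124089, 12906, -25564326, 68639218, 85309147, -191, -66132256, -2222835, 713886, -31188307, -3819742, -2])) (.leaf [-3193, -2435, -4692, -138, 23249, -10098, -586, -4780, 0, -4470, 13030, 16236, 0, -12834, -381, 138, -5945, -762, 0])) (.node (.leaf []) (.leaf [-74462461, -64796072, -120519648, -3365978, 572725419, -249543109, -14103852, -112579868, 54054, -118842599, 319934726, 397727683, 1046, -308511108, -10317697, 3310612, -145372677, -17864818, 267]))) (.node (.node (.leaf []) (.leaf [44850, 42281, 76895, 2093, -358100, 156332, 8675, 68414, -42, 77901, -199798, -247543, 1, 189633, 6954, -2052, 90565, 10829, 0])) (.node (.leaf [12, -321, -486, -3, 370, -123, 0, 159, 0, -222, 51, 387, 0, -66, 0, 3, -82, 19, 0]) (.leaf [-100915, -74318, -145685, -4407, 730021, -316849, -18342, -151906, 62,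 -137771, 408872, 509782, 0, -405747, -11375, 4345, -186503, -23919, 0])))) (.node (.node (.node (.leaf [0, 1, 0, 0, 1, 0, 0, 0, 0, 0, 0, 0, 0, -1, 0, 0, 0, 0, 0]) (.leaf [-522070, -580217, -1011912, -25388, 4476697, -1962512, -105873, -800483, 555, -1062825, 2490696, 3074523, -18, -2290296, -98119, 24849, -1123566, -128120, 2])) (.node (.leaf [0, 0, 0, 0, 0, 1, 0, 0, 0, 0, 0, 0, 0, 0, 0, 0, 0, 0, 0]) (.leaf [-40922686, -35220538, -65717790, -1849424, 313404495, -136518760, -7727889, -61862047, 30455, -64619463, 175101630, 217733588, 237, -169191563, -5593835, 1818649, -79593710, -9802727, 83]))) (.node (.node (.leaf []) (.leaf [414, 429, 746, 18, -3640, 1574, 76, 679, 0, 849, -2019, -2461, 0, 1854, 102, -18, 937, 92, 0])) (.node (.leaf [-662220862, -503942919, -975978849, -28877672, 4826692403, -2096168385, -121398168, -994305534, 381129, -924438815, 2701982250, 3371963043, 24293, -2669799373, -76846876, 28469914, -1232472746, -157209772, 2336]) (.leaf [109378321, 82179621, 159778945, 4729858, -793251049, 344399233, 20013053,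 164081322, -52794, 150794218, -444214120, -554491445, -6397, 439826122, 12479046, -4669406, 202636234, 25993332, -1260]))))) (.node (.node (.node (.node (.node (.leaf []) (.leaf [-1617480, -1676223, -2971760, -72404, 13345484, -5834266, -322200, -2448390, 544, -3044511, 7432037, 9214983, 309, -6940750, -276119, 71532, -3360449, -398516, 20])) (.leaf [0, 2, 0, 0, 1, 0, 0, 0, 0, 0, 0, 0, 0, -1, 0, 0, 0, 0, 0])) (.node (.leaf [2, 0, -2, 2, 0, -1, 0, 0, -2, 0, 0, 0, 0, 0, 0, 0, 0, 2, 0]) (.leaf [74462471, 64796092, 120519688, 3365979, -572725666, 249543186, 14103852, 112579935, -54053, 118842623, -319934828, -397727859, -1047, 308511261, 10317701, -3310612, 145372747, 17864817, -267]))) (.node (.node (.leaf [-3582578088, -2717580686, -5268474539, -156011439, 26079604640, -11324989286, -656321043, -5378185212, 2024343, -4985022108, 14600082108, 18222209949, 140749, -14434532857, -413916112, 153830868, -6660158986, -850448399, 15479]) (.leaf [5073200, 3511849, 7007952, 211886, -35621393, 15436095, 912102, 7563318, -1305, 6429561,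 -19976876, -24998715, -592, 20060023, 515333, -209964, 9132229, 1201146, -25])) (.node (.leaf []) (.leaf [-771, -732, -1251, -36, 6321, -2783, -156, -1218, 0, -1464, 3609, 4299, 0, -3244, -167, 36, -1613, -201, 0])))) (.node (.node (.node (.leaf []) (.leaf [2, -1, 0, 2, 0, 0, 0, 0, -2, 0, 0, 0, 0, 0, 1, 0, 0, 0, 0])) (.node (.leaf []) (.leaf [0, 0, 0, 1, 0, 0, 0, 0, 0, 0, 0, 0, 0, 0, 0, 0, 0, 0, 0]))) (.node (.node (.leaf [-4, 3, 0, 0, 1, 0, 0, 1, 0, 3, 0, 0, 0, -3, 0, 0, -1, 0, 0]) (.leaf [0, 1, 0, 0, 0, 0, 0, 0, 0, 0, 0, 0, 0, 0, 0, 0, 0, 0, 0])) (.node (.leaf []) (.leaf [-18748187, -9933089, -21885459, -759792, 120826527, -52043875, -3196173, -27782349, 5600, -18284607, 68005716, 85644810, 1215, -71226899, -1289864, 752858, -31315950, -4348519, 119]))))))) (.node (.node (.node (.node (.node (.node (.node (.leaf []) (.leaf [34, 36, 53, 0, -92, 25, -1, 21, 0, -24, -30, -112, 0, 75, 2, 0, 41, -3, 0])) (.leaf [-779190, -821338, -1451526, -37527, 6520617, -2854547, -155388, -1191660, 816, -1505097, 3630519, 4488849, -30, -3374712,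 -137381, 36744, -1640785, -189826, -3])) (.node (.leaf [-1446368, -1757625, -2999616, -70072, 12921926, -5679025, -303099, -2220897, 959, -3214807, 7184212, 8842377, 135, -6479803, -301985, 68925, -3227459, -362297, 53]) (.leaf [-17, -53, -85, 0, 253, -89, 1, -47, 0, -39, 102, 198, 0, -142, -4, 0, -72, 6, 0]))) (.node (.node (.leaf []) (.leaf [-15265225, -15654273, -27847902, -724573, 126121077, -55178338, -3022419, -23297190, 14559, -28694334, 70264609, 86931738, -288, -65652006, -2602752, 710322, -31774525, -3714970, -20])) (.node (.leaf [-3270, -2324, -4511, -149, 23192, -10013, -589, -4936, 5, -4219, 13009, 16271, 0, -12978, -380, 144, -5995, -776, 0]) (.leaf [-526583, -584185, -1019158, -25594, 4512095, -1977881, -106734, -807503, 558, -1070214, 2510476, 3099009, -18, -2309256, -98816, 25053, -1132615, -129208, 2])))) (.node (.node (.node (.leaf [-1, 0, 0, -1, 0, 0, 0, 0, 1, 0, 0, 0, 0, 0, 0, 0, 0, 0, 0]) (.leaf [0, -3, 0, 0, 7, -10, 0, 0, 0, -12, 12, 0, 0, 5, -2, 0, 0, 0, 0])) (.node (.leaf [227839, 209419, 384561,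 11356, -1805236, 788100, 43443, 348879, -393, 387052, -1006820, -1247988, 65, 960883, 34178, -11036, 457250, 53853, 8]) (.leaf [-8038, -7553, -13700, -349, 65159, -28453, -1557, -12456, -5, -14340, 36396, 44760, 0, -34344, -1306, 354, -16475, -1964, 0]))) (.node (.node (.leaf [0, 1, 0, 0, 1, 0, 0, 0, 0, 0, 0, 0, 0, -1, 0, 0, 0, 0, 0]) (.leaf [0, 0, 0, 1, 0, 0, 0, 0, 0, 0, 0, 0, 0, 0, 0, 0, 0, 0, 0])) (.node (.leaf [-1435120027, -1259178006, -2336532478, -65018504, 11075780100, -4826813819, -272397561, -2170610472, 1056819, -2309199129, 6186270370, 7688823045, 17708, -5956319655, -200945531, 63938544, -2810278554, -344540898, 5433]) (.leaf [-4289904124, -3242727287, -6293455905, -186581688, 31188477697, -13542574108, -785430421, -6439214631, 2361245, -5949518004, 17461705935, 21794691288, 178749, -17273304995, -493407333, 184014815, -7965800743, -1018424684, 26879]))))) (.node (.node (.node (.node (.node (.leaf [19650, 19651, 35538, 924, -159302, 69602, 3828, 29574, -15, 35517, -88554, -110283, 0, 83721, 3083, -909, 40064,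 4740, 0]) (.leaf [-264207190, -233980341, -433052500, -12054071, 2047764584, -892645671, -50252762, -400043943, 210162, -429264274, 1143558008, 1420809964, -1264, -1099110240, -37465356, 11844635, -519389766, -63417470, 538])) (.leaf [-34, -39, -57, 0, 91, -25, 1, -18, 0, 21, 30, 112, 0, -72, -2, 0, -40, 3, 0])) (.node (.leaf [-196416533, -149210846, -289120670, -8543182, 1430683828, -621305846, -36012149, -294874266, 105342, -273776877, 800974483, 999557577, 8944, -791598039, -22745487, 8427243, -365316528, -46669306, 1653]) (.leaf [14392963, 12020925, 22631771, 647823, -108907259, 47406509, 2696676, 21731631, -10851, 22063752, -60874171, -75757461, 66, 59147598, 1892196, -637008, 27695895, 3436280, -30]))) (.node (.node (.leaf [422596, 400699, 728592, 19940, -3377106, 1474302, 81687, 643572, -447, 735623, -1883031, -2335425, 30, 1787589, 65420, -19525, 853872, 101685, 2]) (.leaf [0, 1, 0, 0, 0, 0, 0, 0, 0, 0, 0, 0, 0, 0, 0, 0, 0, 0, 0])) (.node (.leaf [11, 199, 310, 3, 86, -71, 3, -132, 0, -30, 148, -144, 0, -33, -25, -3,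 -23, -9, 0]) (.leaf [-466683, -590806, -998450, -18114, 4181394, -1832848, -100023, -698406, -694, -1054502, 2320308, 2875395, 392, -2085780, -99178, 18385, -1041404, -122179, 31])))) (.node (.node (.node (.leaf [0, 1, 2, 0, -1, 0, 0, 0, 0, 0, 0, -2, 0, 1, 0, 0, 0, 0, 0]) (.leaf [1073448386, 852567501, 1629288766, 47244702, -7955296995, 3458455281, 198848352, 1614989631, -636372, 1563948020, -4450598017, -5547264846, -39538, 4363960729, 131927802, -46561465, 2027421932, 255843198, -7327])) (.node (.leaf [-271846, -256509, -466969, -12962, 2169710, -947233, -52461, -414456, 315, -471504, 1209952, 1500294, -28, -1149391, -41905, 12675, -548796, -65261, 0]) (.leaf [1004, 976, 1809, 45, -8584, 3723, 190, 1575, 0, 1992, -4760, -5804, 0, 4447, 192, -45, 2145, 256, 0]))) (.node (.node (.leaf []) (.leaf [394885931, 348407041, 645469467, 17909008, -3054609450, 1331376126, 75063516, 597409761, -291246, 638911155, -1705979117, -2120002156, -5203, 1640849388, 55687414, -17611029, 774853906, 94858879, -1530])) (.node (.leaf [-1093488,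 -1385240, -2342511, -54529, 9987003, -4393289, -231804, -1687974, 1194, -2534454, 5546526, 6818871, -25, -4961792, -240009, 53337, -2490764, -273691, 23]) (.leaf [-3519, -2856, -5360, -128, 26622, -11611, -683, -5388, -3, -5318, 14912, 18474, 1, -14493, -443, 138, -6805, -832, -7])))))) (.node (.node (.node (.node (.node (.node (.leaf []) (.leaf [13883371, 15107051, 26481579, 671760, -117914883, 51662948, 2797228, 21272495, -14486, 27688011, -65626619, -81052502, 449, 60601555, 2546220, -657729, 29625010, 3398737, 7])) (.leaf [-10790916991, -8688854690, -16536742814, -478023525, 80404705187, -34965598417, -2003967329, -16247250035, 7131316, -15932793611, 44967796650, 56033491763, 244947, -43990888887, -1350025804, 470648390, -20481184859, -2570973335, -1128])) (.node (.leaf [-33925081, -30149881, -55742985, -1541010, 263202718, -114738260, -6460911, -51338130, 25140, -55279888, 146978870, 182618061, 483, -141179952, -4827800, 1515245, -66743342, -8155212, 142]) (.leaf [-19744965, -17611510, -32535017, -905955, 153536128,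 -66939752, -3760981, -29920251, 16712, -32316354, 85725838, 106488020, -378, -82288782, -2826369, 889615, -38930746, -4737960, 6]))) (.node (.node (.leaf []) (.leaf [17574852, 12982179, 25383578, 762989, -126738075, 55000776, 3200040, 26375540, -9768, 23839347, -70980011, -88639163, -630, 70494776, 1962798, -752592, 32404371, 4161586, 1])) (.node (.leaf [449526, 362222, 689940, 20228, -3352526, 1458001, 83340, 677514, -362, 664380, -1874398, -2335980, 12, 1834194, 56212, -19878, 853944, 106680, 0]) (.leaf [0, 1, 0, 0, 0, 0, 0, 0, 0, 0, 0, 0, 0, 0, 0, 0, 0, 0, 0])))) (.node (.node (.node (.leaf []) (.leaf [-123086826, -107301060, -199468571, -5554851, 947208599, -412727729, -23329590, -186048394, 86406, -196748117, 529126521, 657778098, 2637, -510064284, -17085801, 5465137, -240398627, -29551113, 671])) (.node (.leaf [-287243, -262674, -483120, -14394, 2273195, -992387, -54663, -440310, 522, -486216, 1267910, 1571328, -93, -1210994, -42904, 13974, -575914, -67737, -9]) (.leaf [-495282, -473195, -858977, -23082, 3967722, -1732264,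 -96058, -753381, 443, -867704, 2211982, 2743862, -10, -2097521, -77078, 22646, -1002495, -119636, 4]))) (.node (.node (.leaf [-34, -33, -49, 0, 93, -23, 1, -24, 0, 27, 30, 112, 0, -78, -2, 0, -42, 3, 0]) (.leaf [0, -2, 0, 0, -4, 1, 0, 0, 0, 0, 0, 0, 0, 4, -1, 0, 0, 0, 0])) (.node (.leaf [676647902, 343922896, 771195209, 27479581, -4295417610, 1847433217, 113686866, 999168321, -410590, 626890946, -2415983445, -3052492287, -11517, 2552098477, 42795565, -27097216, 1116396123, 154934228, 39742]) (.leaf [1179012694, 1258502563, 2216487569, 56804570, -9929190065, 4348706310, 236372020, 1805471939, -1177187, 2309044472, -5528723938, -6829956386, 38799, 5123589900, 211453104, -55654971, 2496541038, 288320138, -11211]))))) (.node (.node (.node (.node (.node (.leaf [0, 1, 0, 0, 0, 0, 0, 0, 0, 0, 0, 0, 0, 0, 0, 0, 0, 0, 0]) (.leaf [-12316022, -13367559, -23447486, -595558, 104481656, -45774464, -2479485, -18868650, 12819, -24501096, 58152434, 71826570, -396, -53727309, -2251821, 583146, -26252976, -3014109, -11])) (.leaf [449324, 362100,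 689777, 20226, -3351583, 1457589, 83304, 677297, -363, 664257, -1873819, -2335255, 11, 1833663, 56177, -19875, 853655, 106633, 1])) (.node (.leaf [402, 477, 804, 18, -3618, 1602, 78, 622, 0, 939, -2041, -2437, 0, 1776, 106, -18, 903, 100, 0]) (.leaf [0, 1, 0, 0, 0, 0, 0, 0, 0, 0, 0, 0, 0, 0, 0, 0, 0, 0, 0]))) (.node (.node (.leaf [4, -30, -54, -7, 119, -70, -2, 4, 1, -81, 74, 60, 0, -24, -4, 6, -14, -1, 0]) (.leaf [54, 61, 84, 0, -135, 77, 0, -2, 0, 36, -88, -127, 0, 54, 12, 0, 45, 0, 0])) (.node (.leaf []) (.leaf [-444128638, -384471932, -716285492, -20157231, 3409124060, -1485182225, -83923988, -671532834, 357980, -705062614, 1904290094, 2367925369, -3172, -1838409669, -61116608, 19804305, -865647780, -106288905, -1882])))) (.node (.node (.node (.leaf [0, 0, 0, 0, 0, 1, 0, 0, 0, 0, 0, 0, 0, 0, 0, 0, 0, 0, 0]) (.leaf [8041, 7545, 13701, 361, -65162, 28452, 1559, 12456, -2, 14340, -36394, -44757, 0, 34347, 1307, -359, 16475, 1964, 0])) (.node (.leaf [822920944, 726072800, 1345137568, 37321480, -6365678843, 2774533348, 156428991,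 1244969718, -606954, 1331476031, -3555188730, -4417993527, -10843, 3419450637, 116051942, -36700495, 1614762592, 197681147, -3188]) (.leaf [-1072, -803, -1564, -46, 7666, -3344, -195, -1581, 1, -1461, 4308, 5370, 0, -4251, -121, 45, -1954, -251, 0]))) (.node (.node (.leaf []) (.leaf [337973, 353182, 624001, 13137, -2775192, 1211398, 68133, 504855, 362, 634209, -1545532, -1921854, -215, 1443324, 57430, -13267, 697818, 85736, -16])) (.node (.leaf [1, -3, -5, 0, -1, 1, 0, 4, 0, -3, -2, 0, 0, 3, 0, 0, 1, 0, 0]) (.leaf [29379108, 23913407, 45360077, 1307548, -219937918, 95675104, 5472267, 44280734, -19810, 43880535, -122992834, -153180545, -457, 120062268, 3733061, -1287168, 55995532, 7007281, -113])))))))) (.node (.node (.node (.node (.node (.node (.node (.node (.leaf []) (.leaf [1259, 1043, 1849, 54, -10023, 4352, 232, 2051, 0, 2163, -5705, -6825, 0, 5279, 272, -54, 2581, 320, 0])) (.leaf [-892521, -1017999, -1763908, -43528, 7748850, -3399332, -182604, -1370691, 927, -1865103, 4309992, 5315202, -24, -3941379, -173196, 42618,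 -1942359, -219994, 7])) (.node (.leaf [0, 1, 0, 0, 0, 0, 0, 0, 0, 0, 0, 0, 0, 0, 0, 0, 0, 0, 0]) (.leaf [-3673049, -5027798, -8374033, -193526, 34987600, -15416533, -796371, -5724710, 5673, -9206005, 19394462, 23793786, -427, -17083938, -885252, 188321, -8697331, -920576, -41]))) (.node (.node (.leaf []) (.leaf [-1072335806, -830966992, -1600114066, -46857422, 7870668463, -3419637203, -197527176, -1611298722, 592377, -1524502096, 4405071423, 5494212471, 47097, -4338235318, -127530082, 46208621, -2007971774, -255194138, 9327])) (.node (.leaf [0, 0, 0, 1, 0, 0, 0, 0, 0, 0, 0, 0, 0, 0, 0, 0, 0, 0, 0]) (.leaf [428, 225, 450, 18, -3454, 1443, 78, 835, 0, 615, -1956, -2322, 0, 1929, 90, -18, 910, 119, 0])))) (.node (.node (.node (.node (.leaf [0, -2, -1, 0, -1, 0, 0, 0, 0, 0, 0, 1, 0, 1, 0, 0, 0, 0, 0]) (.leaf [0, 0, 0, 0, 0, 1, 0, 0, 0, 0, 0, 0, 0, 0, 0, 0, 0, 0, 0])) (.leaf [316046968, 270065596, 504967984, 14207608, -2412457684, 1050647326, 59589669, 477329085, -221006, 495280105, -1348024821, -1676747946, -5821, 1304336802,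 42761700, -13979345, 612846094, 75720905, -1436])) (.node (.leaf [-36, 147, 260, 0, -707, 336, -5, -50, 0, 465, -375, -325, 0, 129, 54, 0, 113, 4, 0]) (.leaf [0, 1, 0, 0, 0, 0, 0, 0, 0, 0, 0, 0, 0, 0, 0, 0, 0, 0, 0]))) (.node (.node (.leaf [0, 0, 0, 1, 0, 0, 0, 0, 0, 0, 0, 0, 0, 0, 0, 0, 0, 0, 0]) (.leaf [34, 30, 45, 0, -94, 23, -1, 27, 0, -30, -30, -112, 0, 81, 2, 0, 43, -3, 0])) (.node (.leaf []) (.leaf [266458, 282410, 497649, 10155, -2193339, 957124, 53847, 396072, 331, 503706, -1220414, -1520283, -191, 1138626, 45591, -10281, 551147, 67747, -13]))))) (.node (.node (.node (.node (.node (.leaf [-427961058, -377599989, -699547526, -19409047, 3310498556, -1442908351, -81351381, -647448327, 315630, -692445539, 1848890675, 2297594823, 5647, -1778295120, -60353980, 19086112, -839763320, -102804635, 1658]) (.leaf [17919343, 15879086, 29384663, 817629, -138919447, 60557043, 3408726, 27132468, -14277, 29130706, -77576966, -96385410, 87, 74554620, 2542891, -803405, 35234096, 4301346, -33])) (.leaf [-28675511, -23147332, -44017578,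 -1274253, 213985788, -93066595, -5330077, -43209912, 19326, -42482874, 119679048, 149084613, 421, -117002277, -3605347, 1254426, -54500998, -6833859, 80])) (.node (.leaf []) (.leaf [0, 0, 0, 0, 0, 1, 0, 0, 0, 0, 0, 0, 0, 0, 0, 0, 0, 0, 0]))) (.node (.node (.leaf [3082337229, 2522762401, 4777557827, 137010135, -23118477865, 10057756034, 574887816, 4644756249, -2030187, 4626840131, -12926791238, -16099101174, -74242, 12607381888, 394143311, -134896522, 5884314525, 735739823, -9184]) (.leaf [-94877835, -82555700, -153555534, -4291429, 729780362, -317964968, -17970329, -143466447, 69584, -151415114, 407660141, 506794914, 1017, -393123210, -13146692, 4220468, -185243076, -22760215, 360])) (.node (.leaf [19779466, 15915360, 30294872, 872872, -147330073, 64072175, 3676455, 29772387, -11652, 29193784, -82410440, -102676824, -753, 80613582, 2472180, -860261, 37523415, 4720926, -206]) (.leaf [8163, 7779, 14058, 363, -65316, 28615, 1600, 12348, 0, 14454, -36565, -45058, 0, 34393, 1287, -363, 16469, 2013, 0])))) (.node (.node (.node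 (.leaf [-170383, -161909, -294359, -8032, 1362022, -594596, -32937, -259242, 177, -296930, 759315, 942018, -9, -720786, -26377, 7864, -344300, -41002, 0]) (.leaf [-48177262, -45611768, -82867963, -2232671, 384125564, -167717729, -9329070, -73184109, 40614, -83632370, 214282197, 265738668, -201, -203364021, -7433608, 2192149, -97129148, -11639907, 109])) (.node (.leaf [-33296204, -19384866, -41177761, -1362571, 220816105, -95303489, -5776621, -49442778, 9577, -35617878, 124123904, 155987145, 2717, -128186309, -2642065, 1349966, -57014041, -7776991, 311]) (.leaf [8468866307, 6353680129, 12360158183, 367098511, -61391337672, 26652416500, 1548340065, 12706217604, -4405602, 11657902964, -34376921338, -42915211287, -408721, 34049395213, 964204601, -362210333, 15684385831, 2010546647, -73855]))) (.node (.node (.leaf [-35613346, -30412682, -56881208, -1608437, 271870448, -118408296, -6710589, -53812638, 26784, -55804024, 151913813, 188939529, 100, -146998389, -4817969, 1581494, -69068161, -8522153, 59]) (.leaf [996017452, 822094278,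 1552967619, 44399407, -7496135238, 3261887839, 186136731, 1501638963, -673395, 1507773450, -4190893201, -5218094821, -20432, 4081093661, 128790584, -43703211, 1907284117, 237861756, -2369])) (.node (.leaf []) (.leaf [-15026778, -14261163, -25890640, -698878, 119956023, -52380992, -2910036, -22835694, 13446, -26153415, 66912477, 82969122, -255, -63470571, -2327097, 685770, -30331784, -3626762, -83])))))) (.node (.node (.node (.node (.node (.node (.leaf [0, -1, -1, 0, 0, 0, 0, 0, 0, 0, 0, 1, 0, 0, 0, 0, 0, 0, 0]) (.leaf [1586119, 1466032, 2686037, 73824, -12516314, 5459537, 304206, 2407011, -1569, 2683924, -6979691, -8670820, 65, 6664169, 236348, -72335, 3168163, 380542, 15])) (.leaf [])) (.node (.leaf [1876868, 2304085, 3923094, 91143, -16852552, 7408388, 394680, 2883738, -1254, 4214090, -9368122, -11526741, -180, 8431500, 396656, -89638, 4207153, 470834, -71]) (.leaf [4994357731, 3855579422, 7433356319, 218353584, -36604124368, 15902153942, 918834188, 7503735920, -2865933, 7072862111, -20486924017, -25556041063, -192653,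 20190917828, 590902278, -215267261, 9340500603, 1187437420, -27738]))) (.node (.node (.leaf [42876, 43029, 77902, 2028, -348144, 152202, 8358, 64461, -36, 77934, -193593, -240942, 0, 182805, 6750, -1992, 87405, 10380, 0]) (.leaf [537750300, 445288580, 840315563, 23931197, -4051886476, 1763263717, 100610028, 810678116, -347944, 816574312, -2265264812, -2820269554, -15555, 2204572491, 69814010, -23565070, 1030752671, 128551598, -2628])) (.node (.leaf [-150, -311, -682, -9, 2429, -1089, -33, -246, 0, -870, 1299, 1475, 0, -1082, -49, 9, -477, -68, 0]) (.leaf [31054, 101712, 148565, -220, -469899, 208304, 10599, 42004, 477, 171572, -255706, -317239, -190, 187186, 17932, -52, 111281, 11908, -14])))) (.node (.node (.node (.leaf [0, 0, 0, 0, 0, 1, 0, 0, 0, 0, 0, 0, 0, 0, 0, 0, 0, 0, 0]) (.leaf [-53, 176, 228, 0, 107, 33, 1, -220, 0, 216, 56, 77, 0, -257, 3, 0, -66, -19, 0])) (.node (.leaf [2126, 1681, 3258, 91, -15708, 6842, 386, 3165, -1, 3120, -8797, -10944, 0, 8613, 264, -90, 3975, 508, 0]) (.leaf [40450764, 34634157, 64721954,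 1826402, -309139674, 134643382, 7628253, 61135947, -30125, 63546555, -172731394, -214818486, -195, 167063655, 5492616, -1796016, 78529660, 9684190, -66]))) (.node (.node (.leaf [-348, -411, -712, -18, 3485, -1524, -78, -630, 0, -897, 1953, 2310, 0, -1728, -93, 18, -860, -100, 0]) (.leaf [-1036020894, -887481621, -1658393499, -46801959, 7917273800, -3448250627, -195301131, -1565362503, 795854, -1627479145, 4423367819, 5501959602, 1547, -4278553988, -140624409, 46006760, -2011239496, -247870487, -2202])) (.node (.leaf [-3828797, -3540301, -6486495, -188272, 30391594, -13267637, -732435, -5858121, 6018, -6537780, 16951115, 21010146, -918, -16157697, -578795, 183246, -7695431, -909200, -74]) (.leaf [-4, 37, 42, 0, -130, 60, 2, -5, 0, 75, -68, -70, 0, 23, 8, 0, 32, 1, 0]))))) (.node (.node (.node (.node (.node (.leaf []) (.leaf [-6, -25, -98, 1, 224, -101, 2, -12, 0, -93, 109, 134, -1, -107, -3, 0, -23, -1, 0])) (.leaf [])) (.node (.leaf [-150, 50, 70, -12, 1244, -469, -36, -453, 0, -78, 717, 810, 0, -791, -33, 12, -375, -52,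 0]) (.leaf [-3304493722, -3072632692, -5609921186, -152490734, 26144705749, -11410379789, -636798552, -5015423445, 2731272, -5635081166, 14589065613, 18101218109, -14814, -13893291944, -498480107, 149762902, -6616334138, -797036058, 11375]))) (.node (.node (.leaf [0, 0, 0, 0, 0, 1, 0, 0, 0, 0, 0, 0, 0, 0, 0, 0, 0, 0, 0]) (.leaf [7, -41, -61, 6, -88, 9, 2, 75, 0, -42, -42, -54, 0, 91, 2, -6, 39, 6, 0])) (.node (.leaf [-84418598, -74132491, -137528538, -3839499, 651973506, -284136595, -16021398, -127761207, 65991, -136000509, 364135721, 452538609, -90, -350540946, -11843684, 3773529, -165432060, -20249867, 69]) (.leaf [-468, -315, -503, -18, 2957, -1232, -81, -716, 0, -384, 1649, 2174, 0, -1716, -62, 18, -857, -89, 0])))) (.node (.node (.node (.leaf [0, -2, 0, 0, -2, 0, 0, 0, 0, 0, 0, 0, 0, 2, 0, 0, 0, 0, 0]) (.leaf [1737813900, 1316237892, 2552949144, 75623539, -12642804260, 5489886800, 318260625, 2608509159, -973456, 2414360160, -7077970388, -8834383947, -70500, 6999600751, 200355179, -74571853, 3228898079, 412512543, -7730]))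 (.node (.leaf [163871996, 144517428, 267770824, 7432507, -1267395231, 552400504, 31146357, 247916685, -121104, 265024780, -707838714, -879627111, -2052, 680868312, 23097066, -7308725, 321504133, 39362075, -626]) (.leaf [8, -57, -106, 0, 236, -104, 3, 9, 0, -138, 118, 133, 0, -64, -15, 0, -34, -3, 0]))) (.node (.node (.leaf []) (.leaf [541035117, 437633677, 831724317, 23967462, -4038880436, 1756620924, 100627161, 814795140, -346637, 802684241, -2258795022, -2814035544, -14670, 2207670399, 68118977, -23604184, 1028537547, 129040337, -1971])) (.node (.leaf [-2, 71, 112, 2, -224, 115, 1, -17, -2, 145, -125, -131, 0, 43, 16, 0, 36, 0, 0]) (.leaf [-452109191, -340709382, -661801627, -19547291, 3282702541, -1425329188, -82807206, -678305829, 210908, -625253440, 1838264758, 2294347113, 27952, -1819064322, -51794155, 19301461, -838410385, -107528331, 6971]))))))) (.node (.node (.node (.node (.node (.node (.node (.leaf []) (.leaf [0, 0, 0, 1, 0, 0, 0, 0, 0, 0, 0, 0, 0, 0, 0, 0, 0, 0, 0])) (.leaf [-30, 25, 13, 0, -160, 62, 2, 9, 0,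 90, -71, -63, 0, 28, 8, 0, 42, -2, 0])) (.node (.leaf [14326776, 14502343, 25886518, 679003, -117694944, 51474198, 2825079, 21855264, -13932, 26587385, -65580572, -81168495, 378, 61436271, 2404424, -665503, 29670981, 3479542, 55]) (.leaf [-109206725, -92196276, -172991421, -4883239, 829316817, -361074788, -20532951, -164780846, 71922, -169064312, 463512912, 576741768, 3087, -449475666, -14539962, 4807549, -210779578, -26153155, 681]))) (.node (.node (.leaf [-32606660, -28746399, -53267289, -1478381, 252144056, -109897454, -6197073, -49327434, 23985, -52716418, 140823600, 175001992, 439, -135465111, -4593848, 1453829, -63962948, -7832459, 128]) (.leaf [1210886139, 913370608, 1773792340, 52563458, -8795656128, 3819015409, 221639547, 1817161719, -640944, 1675728009, -4924774470, -6147160131, -56944, 4873344097, 138862823, -51855978, 2246631577, 287550624, -9592])) (.node (.leaf [112517, 85783, 166530, 4966, -824059, 358062, 20606, 169401, -76, 158852, -461301, -574717, 0, 455127, 13201, -4890, 210080, 26728, 0]) (.leaf [-6423959,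 -6844519, -12062041, -309615, 54037773, -23662932, -1285742, -9833336, 6658, -12547620, 30083999, 37179004, -215, -27899920, -1148608, 303192, -13590069, -1568169, -20])))) (.node (.node (.node (.leaf []) (.leaf [17, 3, 9, 0, 9, 0, 0, -5, 0, -12, 0, -6, 0, 3, 0, 0, 0, 2, 0])) (.node (.leaf [0, 2, 0, 0, 1, 0, 0, 0, 0, 0, 0, 0, 0, -1, 0, 0, 0, 0, 0]) (.leaf [-342164188, -290874936, -544700847, -15377581, 2606537260, -1135039412, -64422919, -516716565, 241731, -533523705, 1456585646, 1811995431, 5290, -1410705153, -45997713, 15129326, -662313164, -81919875, 1235]))) (.node (.node (.leaf [0, 0, 0, 0, 0, 1, 0, 0, 0, 0, 0, 0, 0, 0, 0, 0, 0, 0, 0]) (.leaf [10552, -918, 4411, 1447, -59388, 25948, 1092, 19356, -255, 2934, -33679, -40220, 82, 40057, -92, -1281, 16335, 1035, 7])) (.node (.leaf [2812991632, 2253006187, 4294730571, 124262035, -20916034710, 9094695274, 521929602, 4234049442, -1769113, 4132088548, -11699290111, -14579568120, -82663, 11455195137, 349519857, -122400721, 5328815670, 670396624, -9537]) (.leaf [-373700972, -306630555,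 -580145953, -16511777, 2804785787, -1220301907, -69812289, -562869992, 212796, -562278509, 1568448966, 1953147319, 18180, -1528791582, -47931073, 16277093, -713731524, -89406180, 3708]))))) (.node (.node (.node (.node (.node (.leaf [0, 1, 0, 0, 2, -1, 0, 0, 0, 0, 0, 0, 0, -2, 1, 0, 0, 0, 0]) (.leaf [-4, -6, -8, 0, -4, 0, 1, 6, 0, -3, 0, 1, 0, 6, -2, 0, 1, 0, 0])) (.leaf [-793053, -439715, -949181, -28717, 5134216, -2212045, -137400, -1162077, -585, -797487, 2890602, 3643635, 326, -3009869, -56977, 28962, -1327091, -188448, 14])) (.node (.leaf [-1, 0, 0, -1, 0, 0, 0, 0, 1, 0, 0, 0, 0, 0, 0, 0, 0, 0, 0]) (.leaf [-267, -89, -110, -9, 1104, -445, -43, -369, 0, 36, 642, 908, 0, -758, -18, 9, -382, -41, 0]))) (.node (.node (.leaf [992540864, 861744402, 1603929242, 44871974, -7627001222, 3322986945, 187873113, 1500498663, -726741, 1580488593, -4260674492, -5297100036, -11308, 4110383374, 137110455, -44130237, 1936140482, 238037515, -3688]) (.leaf [119347, 90661, 175873, 5270, -870220, 377978, 21831, 179394, -86, 166581, -487067,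 -607767, 0, 481467, 13808, -5184, 222172, 28235, 0])) (.node (.leaf [33503112, 29573069, 54784687, 1522934, -259254052, 113001345, 6368112, 50699406, -25515, 54243089, -144788204, -179917439, -191, 139247867, 4728582, -1497124, 65763328, 8044438, -104]) (.leaf [])))) (.node (.node (.node (.leaf [-1, 0, 0, -1, 0, 0, 0, 0, 1, 0, 0, 0, 0, 0, 0, 0, 0, 0, 0]) (.leaf [104015088, 82916851, 158283106, 4585396, -772047467, 335670880, 19283772, 156534704, -62787, 152126285, -431897062, -538246059, -3530, 423199742, 12849224, -4518424, 196724449, 24794300, -655])) (.node (.leaf [27278, 21132, 40718, 1168, -200639, 87113, 5001, 41031, -6, 38931, -112235, -139938, 0, 110526, 3279, -1161, 51182, 6501, 0]) (.leaf [-3160, -2514, -4830, -135, 23646, -10267, -581, -4782, 0, -4695, 13219, 16440, 0, -12942, -403, 135, -6009, -761, 0]))) (.node (.node (.leaf [-4, 36, 42, 0, -131, 60, 2, -5, 0, 75, -68, -70, 0, 24, 8, 0, 32, 1, 0]) (.leaf [723786262, 638573894, 1183051918, 32825502, -5598719987, 2440245817, 137582643, 1094991915, -533880, 1171023242,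 -3126850182, -3885704860, -9505, 3007492335, 102065493, -32279317, 1420213547, 173865916, -2800])) (.node (.leaf [3271, 2570, 4926, 141, -23535, 10265, 593, 4749, -6, 4584, -13191, -16500, 0, 12951, 386, -135, 6000, 762, 0]) (.leaf [-11602, -11467, -20845, -559, 94038, -41216, -2264, -17495, 14, -21081, 52429, 64935, 0, -49380, -1823, 545, -23577, -2809, 0])))))) (.node (.node (.node (.node (.node (.node (.leaf []) (.leaf [-1015541028, -837958145, -1583071988, -45253935, 7641959556, -3325311237, -189776217, -1530993990, 682989, -1536819914, 4272448160, 5319718764, 21841, -4160750649, -131255593, 44546485, -1944406174, -242534358, 2620])) (.leaf [705661, 773423, 1351556, 28681, -5928373, 2591611, 143817, 1058040, 528, 1390091, -3298137, -4095087, -392, 3051009, 127230, -28786, 1487565, 178773, -31])) (.node (.leaf []) (.leaf [1124073157, 934178540, 1761107277, 50213539, -8483611774, 3692208871, 210422625, 1695361335, -771078, 1713361376, -4742447415, -5903643537, -20790, 4612393518, 146669644, -49418878, 2157873532, 268579396,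 -2792]))) (.node (.node (.leaf [-822920944, -726072800, -1345137569, -37321480, 6365678843, -2774533348, -156428991, -1244969718, 606954, -1331476031, 3555188730, 4417993527, 10843, -3419450637, -116051942, 36700495, -1614762592, -197681146, 3188]) (.leaf [])) (.node (.leaf [-1085658668, -957845095, -1774547653, -49237385, 8397929349, -3660303365, -206370161, -1642456793, 800820, -1756506066, 4690190867, 5828452039, 14257, -4511155269, -153095771, 48418107, -2130281721, -260793925, 4202]) (.leaf [341759, 410813, 702951, 16793, -3043032, 1336834, 71181, 526344, -342, 752514, -1691456, -2082324, 6, 1529703, 70621, -16452, 760816, 84938, -5])))) (.node (.node (.node (.leaf [-69, 102, 131, -12, 589, -151, -9, -300, 0, 87, 291, 390, 0, -468, -15, 12, -208, -22, 0]) (.leaf [6524235796, 4999842784, 9661684755, 284692370, -47678704027, 20709434354, 1198130788, 9798314531, -3714162, 9170839742, -26687806695, -33299389331, -257859, 26337493755, 764179863, -280690193, 12170572592, 1550130717, -30156])) (.node (.leaf [-32999703, -29125376,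 -53953657, -1496546, 255299868, -111275097, -6273462, -49924170, 24306, -53409233, 142582262, 177184920, 450, -137131035, -4655497, 1471660, -64760030, -7927569, 130]) (.leaf [-4571211404, -3284002896, -6478939746, -196167901, 32597593608, -14136895898, -827311401, -6844150584, 2270075, -6024198864, 18264602178, 22830673842, 235041, -18229336246, -490258340, 193639939, -8344238038, -1081214946, 22846]))) (.node (.node (.leaf [-257861, -246845, -448119, -12165, 2061172, -899415, -49830, -391167, 270, -449682, 1148270, 1427052, -6, -1090419, -39952, 11901, -521067, -61990, 0]) (.leaf [2126, 1681, 3257, 91, -15708, 6841, 386, 3165, -1, 3120, -8797, -10944, 0, 8613, 264, -90, 3975, 509, 0])) (.node (.leaf [267, 86, 106, 9, -1106, 444, 43, 372, 0, -39, -642, -908, 0, 762, 18, -9, 383, 41, 0]) (.leaf [15518546, 16015576, 28442714, 737056, -128579034, 56263869, 3078936, 23689862, -14625, 29356817, -71629536, -88600239, 237, 66838650, 2666840, -722668, 32383408, 3780611, 1]))))) (.node (.node (.node (.node (.node (.leaf []) (.leaf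 [1578108, 2107069, 3518567, 64611, -14560666, 6396513, 344236, 2376859, 1821, 3775709, -8076733, -9977171, -1141, 7167762, 359246, -65188, 3618057, 414130, -102])) (.leaf [-537699148, -445421324, -840463427, -23922623, 4052014685, -1763327187, -100612606, -810580659, 346084, -816776852, 2265323181, 2820342474, 16184, -2204485985, -69838742, 23557674, -1030765319, -128553208, 2681])) (.node (.leaf []) (.leaf [415075794, 378547584, 694828737, 19037095, -3256650823, 1420607754, 79572858, 629259795, -332115, 694237177, -1817813509, -2256741828, -369, 1737529491, 61092264, -18703613, 824885399, 99947224, -998]))) (.node (.node (.leaf [-16462, -16152, -29083, -738, 133939, -58735, -3252, -25016, 0, -30168, 74898, 92180, 0, -70104, -2672, 738, -33667, -4068, 0]) (.leaf [])) (.node (.leaf [-3123231064, -1784503962, -3817704066, -126876746, 20577794012, -8876986378, -540031329, -4631840865, 756213, -3275619751, 11569966796, 14549945448, 296131, -11985336474, -240369814, 125791586, -5317068024, -729113636, 32816]) (.leaf [0, 1, 0,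 0, 1, -1, 0, 0, 0, 0, 0, 0, 0, -1, 1, 0, 0, 0, 0])))) (.node (.node (.node (.leaf []) (.leaf [168, -17, -31, 4, -956, 411, 36, 315, 0, 99, -618, -630, -1, 580, 32, -3, 278, 59, 0])) (.node (.leaf [-49510556, -46130635, -84176577, -2282257, 392027457, -171098828, -9546437, -75138929, 40275, -84593078, 218748725, 271401189, 58, -208236744, -7487431, 2241790, -99197808, -11947519, 134]) (.leaf [-60197, -45749, -88543, -2648, 438077, -190308, -11016, -90282, 45, -83865, 245315, 306063, 0, -242295, -7003, 2604, -111917, -14253, 0]))) (.node (.node (.leaf [-62057380, -60716585, -109345176, -2904287, 502017404, -219370723, -12125709, -94451637, 55098, -111316214, 279895842, 346775043, -651, -263952651, -9979447, 2849737, -126748208, -15037856, 103]) (.leaf [-568249351, -225258109, -562951275, -21763228, 3372287572, -1443222175, -92274253, -832406487, 119096, -411001626, 1903812621, 2417862288, 57175, -2077441972, -22945128, 21606205, -883862843, -129489804, -19248])) (.node (.leaf [3800835, 2920461, 5638844, 167060, -27828173, 12088740,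 698237, 5715843, -2376, 5363561, -15576100, -19428156, -83, 15361566, 447975, -164593, 7103108, 902208, -7]) (.leaf [-1926372656, -1518620623, -2909485248, -85320332, 14233481863, -6186211377, -355423722, -2897879538, 1415923, -2783090044, 7961350037, 9928750623, 8187, -7820571106, -234143359, 83920650, -3629801743, -457030170, -24428])))))))))

def threeL12 : Janko.Tree (List ℤ) :=
  (.node (.node (.node (.node (.node (.node (.node (.node (.node (.leaf []) (.leaf [-232290312, -199494900, -372455313, -10437933, 1776502077, -773792407, -43861952, -350824381, 158325, -365808055, 992626375, 1234503514, 5723, -959527001, -31625383, 10272533, -451172188, -55703515, 1352])) (.leaf [0, 0, 0, 1, -1, 0, 0, 0, 0, 0, 0, 0, 0, 0, 0, -1, 1, 0, 0])) (.node (.leaf [-1072247, -1279182, -2193008, -52737, 9500562, -4172593, -222600, -1647906, 1165, -2338830, 5280418, 6505881, -39, -4785247, -218813, 51591, -2376479, -265879, 20]) (.leaf [1791852786, 842947898, 1950308822, 69803461, -11138677187, 4785072664, 300072894, 2639673967, -53508, 1548902213,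 -6280448352, -7934464201, -238786, 6690975354, 100706841, -69477217, 2898992761, 414941570, -33950]))) (.node (.node (.leaf [-20, 87, 123, -3, -95, 58, 0, -58, 0, 105, -27, -66, 0, -21, 0, 3, 11, -12, 0]) (.leaf [3607654, 2747217, 5318810, 158128, -26324967, 11433348, 661482, 5423634, -2209, 5046521, -14737082, -18385191, -81, 14556275, 420298, -155833, 6722230, 855856, -5])) (.node (.leaf [8018, 7607, 13831, 360, -64614, 28180, 1560, 12324, 0, 14128, -36030, -44595, 0, 34164, 1264, -360, 16322, 1958, 0]) (.leaf [0, 0, 2, 2, -1, 0, 0, 0, 0, 0, 0, 0, 0, 0, 0, -2, 1, 0, 0])))) (.node (.node (.node (.node (.leaf []) (.leaf [-201, -223, -385, -9, 1852, -784, -38, -353, 0, -414, 1007, 1267, 0, -960, -46, 9, -478, -47, 0])) (.leaf [])) (.node (.leaf [0, 0, -1, -1, 0, 0, 0, 0, 0, 0, 0, 0, 0, 0, 0, 1, 0, 0, 0]) (.leaf [-415075794, -378547587, -694828741, -19037095, 3256650823, -1420607755, -79572858, -629259792, 332115, -694237180, 1817813509, 2256741828, 369, -1737529488, -61092264, 18703613, -824885398, -99947224, 998]))) (.node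 (.node (.leaf [2, -6, -4, 0, 5, -1, 0, 1, 0, -2, 0, 6, 0, 0, 0, 0, -3, 0, 0]) (.leaf [-607225, -339960, -735838, -27194, 4006841, -1729826, -103496, -909288, 744, -632720, 2251985, 2827695, -106, -2337828, -46305, 26570, -1036208, -138432, -14])) (.node (.leaf [-235954, -181352, -350359, -10448, 1728696, -751040, -43284, -355056, 163, -333284, 967415, 1206627, -1, -954188, -27802, 10286, -441223, -55847, 0]) (.leaf [-2346245035, -1625757326, -3245636635, -99283687, 16511828033, -7155089307, -421912061, -3506697455, 859212, -2984734661, 9258730000, 11582020086, 182707, -9295003569, -239529837, 98200520, -4232252854, -554996308, 41247]))))) (.node (.node (.node (.node (.node (.leaf [-52, 148, 261, 0, -735, 335, -6, -33, 0, 468, -377, -345, 0, 153, 50, 0, 114, 5, 0]) (.leaf [181702158, 150157616, 283546833, 8084716, -1368018254, 595304407, 33980105, 273895511, -116908, 275385048, -764845914, -952268518, -5264, 744609179, 23526881, -7961438, 348028643, 43432268, -1106])) (.leaf [0, 0, 0, 0, 1, 0, 0, 0, 0, 0, 0, 0, 0, 0, 0, 0,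 0, 0, 0])) (.node (.leaf [13, -99, -177, 6, 102, -98, 0, 105, 0, -183, 65, 49, 0, 57, -7, -6, 24, 5, 0]) (.leaf [0, 0, -2, -4, 1, 0, 0, 0, 0, 0, 0, 0, 0, 0, 0, 4, -1, 0, 0]))) (.node (.node (.leaf [282668212, 242322933, 452702721, 12752257, -2160914250, 941194401, 53326077, 427104675, -206934, 444489122, -1207381152, -1501614630, -2470, 1167552675, 38415415, -12541888, 548875065, 67698698, -965]) (.leaf [4449, 1988, 3845, 180, -23728, 10235, 822, 6129, 0, 2225, -13625, -17727, 0, 14820, 97, -180, 6683, 976, 0])) (.node (.leaf [0, 0, -3, -2, -1, 0, 0, 0, 0, 0, 0, 0, 0, 0, 0, 2, 1, 0, 0]) (.leaf [-6175426, -4248474, -8505476, -264835, 43406170, -18806368, -1106721, -9245370, 3263, -7811617, 24335871, 30444042, 193, -24462935, -626105, 261377, -11131748, -1453918, 2])))) (.node (.node (.node (.leaf []) (.leaf [1092210080, 878151297, 1671397742, 47789051, -8138802467, 3539976368, 203642177, 1644666519, -431881, 1614756288, -4554843183, -5670774146, -82911, 4452208898, 136854685, -47230374, 2071936440, 262123094, -43885])) (.node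 (.leaf [29245452, 23718610, 45040924, 1301882, -218653022, 95106971, 5441714, 44080933, -20086, 43530384, -122278397, -152304058, -346, 119444268, 3699812, -1281384, 55678667, 6971013, -66]) (.leaf [461105360, 379991935, 718220669, 20618468, -3468710280, 1509322801, 86089995, 695338636, -334289, 696970453, -1939170155, -2414639356, -3357, 1889052011, 59508772, -20281630, 882689246, 109975770, 808]))) (.node (.node (.leaf [97, 59, 69, 3, -432, 191, 17, 102, 0, 57, -273, -333, 0, 240, 17, -3, 135, 25, 0]) (.leaf [8424, 6532, 12520, 360, -62420, 27068, 1560, 12804, 0, 12132, -34920, -43464, 0, 34332, 1040, -360, 15956, 2024, 0])) (.node (.leaf [-198, -183, -297, -9, 1618, -674, -37, -347, 0, -303, 886, 1133, 0, -876, -37, 9, -439, -47, 0]) (.leaf [-655774, -13774944, -18573867, -233685, 53795063, -24687190, -850308, -2276436, 22800, -25215715, 28975433, 33687537, -3705, -16245456, -2813124, 215034, -12330978, -437853, -444])))))) (.node (.node (.node (.node (.node (.node (.leaf [0, -3, -4, 0, -1, -1, 0, 3, 0, -3, 0, 0, 0, 3,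 0, 0, 1, 0, 0]) (.leaf [1025563757, 847682044, 1600636851, 45724482, -7722848608, 3360642780, 191729172, 1546270251, -692382, 1554672001, -4317542799, -5375602576, -21537, 4203359748, 132853149, -45007899, 1964833881, 244959769, -2664])) (.leaf [0, 0, 0, 0, -1, 0, 0, 0, 0, 1, 0, 0, 0, 0, 0, 0, 0, 0, 0])) (.node (.leaf [5187453, 5592582, 9826276, 250528, -43871996, 19217373, 1042137, 7944977, -5390, 10251457, -24420634, -30168930, 168, 22593198, 940845, -245315, 11027220, 1268393, 9]) (.leaf [-449324, -362101, -689778, -20226, 3351584, -1457590, -83304, -677297, 363, -664257, 1873819, 2335255, -10, -1833663, -56177, 19875, -853655, -106632, -2]))) (.node (.node (.leaf [6, -6, 0, 0, -3, 0, 0, -2, 0, -5, 1, 0, 0, 6, 0, 0, 2, 0, 0]) (.leaf [-65, 65, 116, -1, -553, 215, 1, 44, 0, 261, -241, -265, 0, 183, 16, 1, 109, -5, 0])) (.node (.leaf [16651513, 14677343, 27199390, 757811, -128788595, 56134297, 3163665, 25201587, -12936, 26924116, -71927945, -89379561, -3, 69191925, 2346631, -744830, 32672598, 3996261, -42]) (.leaf [3437435596,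 2904608711, 5449037073, 154280017, -26117034014, 11371009128, 645992429, 5188504036, -2461158, 5325886966, -14595357868, -18161602051, -48819, 14152814493, 458235237, -151769701, 6638365440, 822134393, -339])))) (.node (.node (.node (.leaf [15, 9, 13, 0, -17, 4, 0, 6, 0, -15, -6, -30, 0, 21, 0, 0, 11, 0, 0]) (.leaf [2101802, 2332781, 4069370, 102169, -18012971, 7896158, 426075, 3223018, -2229, 4273464, -10022130, -12371550, 72, 9218055, 394567, -100008, 4521408, 515737, -4])) (.node (.leaf [-113216, -86024, -166862, -4996, 825647, -358585, -20705, -170204, 73, -158037, 462089, 576638, 0, -456801, -13108, 4923, -210809, -26784, 0]) (.leaf [-40926906, -35168770, -65651548, -1849566, 313241084, -136441889, -7725143, -61866202, 30636, -64525666, 175013281, 217634052, 186, -169156959, -5583366, 1818672, -79558655, -9801271, 72]))) (.node (.node (.leaf []) (.leaf [-2325195364, -2091790316, -3854004910, -105970947, 18140480883, -7910958493, -444639747, -3522589793, 1670176, -3838793472, 10129548200, 12577741877, 34800, -9704833696,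 -336512918, 104233351, -4596909535, -560257741, 32620])) (.node (.leaf [0, 0, 2, 1, 1, 0, 0, 0, 0, 0, 0, 0, 0, 0, 0, -1, -1, 0, 0]) (.leaf [181174121, 137695036, 266758019, 7872065, -1319778163, 573149788, 33224577, 271960719, -94908, 252626918, -738891427, -922073874, -8966, 730172216, 20991011, -7766626, 336986572, 43060331, -1565]))))) (.node (.node (.node (.node (.node (.leaf [0, 0, -1, 0, 0, -1, 0, 1, 0, 0, 0, 0, 0, 0, 0, 0, 0, 0, 0]) (.leaf [-1571070, -1560075, -2797083, -71934, 12753675, -5572580, -308590, -2383182, 1014, -2846284, 7108112, 8813524, 119, -6689130, -255848, 70796, -3218346, -382846, 6])) (.leaf [0, 0, 1, 0, 1, 0, 0, 0, 0, 0, 0, 0, 0, 0, 0, 0, -1, 0, 0])) (.node (.leaf [-1102322867, -131498657, -686547600, -36948713, 5424854446, -2284911454, -163325964, -1586625762, -626506, -244703400, 3097604499, 3997303728, 258276, -3720492861, 17755478, 37282519, -1459864793, -247106104, 34424]) (.leaf [1516060848, 1236652133, 2344248130, 67252597, -11355090097, 4939664171, 282585274, 2283965146, -967242, 2268111567,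 -6349755593, -7908655255, -43962, 6196459390, 193002420, -66234572, 2890555269, 361926191, -6821]))) (.node (.node (.leaf [-3601962597, -2733119388, -5298084251, -156865751, 26223774204, -11387681616, -659921124, -5407357557, 2035605, -5013525458, 14680731131, 18322700862, 141513, -14513474673, -416327190, 154672952, -6696884096, -855074202, 15681]) (.leaf [3298580, 2258532, 4523377, 136432, -23062767, 9990953, 591954, 4912656, -600, 4133913, -12936503, -16194195, -458, 13014430, 329737, -135357, 5914747, 781454, -17])) (.node (.leaf [8, 6, 11, 0, -4, 2, 0, -2, 0, -5, -1, -12, 0, 6, 0, 0, 3, 0, 0]) (.leaf [-2, 72, 163, 0, -343, 153, -5, -3, 0, 180, -170, -204, 0, 120, 17, 0, 43, 3, 0])))) (.node (.node (.node (.leaf [100578402, 88812592, 164501397, 4568867, -778358523, 339263268, 19120761, 152193957, -75825, 162880548, -434697843, -540172020, -817, 418038365, 14201119, -4491891, 197440489, 24154481, -334]) (.leaf [])) (.node (.leaf [7378793764, 5231308145, 10365922466, 315587419, -52361482129, 22700833421, 1331577022, 11041039866,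 -3552828, 9596471804, -29344329628, -36693888714, -398047, 29354412657, 776988937, -311598142, 13410901435, 1743764082, -38402]) (.leaf [-461393, -455339, -820169, -24391, 3776766, -1653020, -89463, -711342, 1050, -843087, 2104235, 2600400, -214, -1979604, -75780, 23562, -953925, -108705, -7]))) (.node (.node (.leaf [3573, 3592, 6484, 162, -28862, 12661, 702, 5311, 0, 6480, -16065, -19971, 0, 15135, 542, -162, 7247, 857, 0]) (.leaf [3276, 2318, 4495, 146, -23158, 9998, 589, 4935, -2, 4203, -13001, -16253, -1, 12967, 381, -143, 5988, 782, 0])) (.node (.leaf []) (.leaf [2423935491, 1692845194, 3370695114, 102789010, -17107501093, 7414582316, 436598471, 3624116164, -915063, 3107789805, -9591524867, -11995821568, -183846, 9616372161, 250189588, -101648584, 4383503208, 573622842, -41517]))))))) (.node (.node (.node (.node (.node (.node (.node (.leaf []) (.leaf [418, 460, 780, 19, -3669, 1560, 77, 695, -1, 819, -2008, -2530, 0, 1896, 97, -18, 954, 94, 0])) (.leaf [-522041, -580214, -1011894, -25389, 4476722, -1962508, -105873,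 -800484, 554, -1062852, 2490696, 3074511, -18, -2290287, -98119, 24852, -1123571, -128123, 1])) (.node (.leaf [-19, 180, 261, -1, -227, 77, 0, -87, 1, 138, -32, -213, 0, 33, 0, 0, 56, -17, 0]) (.leaf [7420, 5936, 11298, 315, -54796, 23804, 1361, 11089, 0, 10743, -30613, -38267, 0, 30066, 904, -315, 13987, 1755, 0]))) (.node (.node (.leaf []) (.leaf [-111818944, -104009116, -189848203, -5129993, 884348266, -385950568, -21560061, -169577709, 85184, -190627349, 493498879, 612362928, 1914, -469935759, -16859906, 5042336, -223786993, -27005672, 559])) (.node (.leaf [-20, 87, 130, 5, -95, 57, 0, -58, 0, 105, -27, -66, 0, -21, 0, -5, 11, -11, 0]) (.leaf [])))) (.node (.node (.node (.leaf []) (.leaf [416, 596, 1084, 18, -4370, 1869, 78, 687, 0, 1152, -2333, -2940, 0, 2151, 115, -18, 1067, 94, 0])) (.node (.leaf [3744397798, 3554955471, 6454154089, 174257040, -29894250930, 13053365749, 725162679, 5690298534, -3372699, 6517789970, -16674276282, -20677647357, 69626, 15817666724, 579792857, -170966152, 7558735634, 903704359, 12185])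 (.leaf [124216, 97615, 187977, 5537, -917206, 398779, 22884, 186589, -91, 179447, -513045, -639739, 0, 504318, 14922, -5446, 233441, 29550, 0]))) (.node (.node (.leaf [0, 0, 1, 0, 1, 0, 0, 0, 0, 0, 0, 0, 0, 0, 0, 0, -1, 0, 0]) (.leaf [-276688, -263594, -478708, -12949, 2213810, -966438, -53571, -420954, 267, -483285, 1234231, 1531109, -10, -1170939, -42995, 12693, -559578, -66705, -1])) (.node (.leaf []) (.leaf [-4290680929, -3243357439, -6294651109, -186614144, 31194242889, -13545079076, -785575355, -6440374281, 2361305, -5950660105, 17464929365, 21798717693, 178914, -17276459829, -493503984, 184047036, -7967269120, -1018611767, 26889]))))) (.node (.node (.node (.node (.node (.leaf [433148, 399774, 732999, 21388, -3436493, 1500248, 82779, 662931, -702, 738554, -1916710, -2375643, 111, 1827651, 65328, -20806, 870205, 102721, 9]) (.leaf [-660500244, -502321991, -973025493, -28795545, 4812966112, -2090175938, -121066496, -991682004, 379071, -921458439, 2694328113, 3362471600, 24493, -2662525375, -76582231, 28389626, -1229000982,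 -156797248, 2355])) (.leaf [102, 580, 934, 13, -1716, 716, 33, -38, -1, 714, -810, -1303, 0, 636, 54, -12, 366, 42, 0])) (.node (.leaf [-12209, -9291, -18090, -550, 89136, -38717, -2225, -18358, 12, -17061, 49841, 62255, 0, -49344, -1395, 538, -22731, -2872, 0]) (.leaf [-17919343, -15879083, -29384658, -817629, 138919448, -60557042, -3408726, -27132471, 14277, -29130703, 77576966, 96385410, -87, -74554623, -2542891, 803405, -35234097, -4301347, 34]))) (.node (.node (.leaf [0, 0, 0, -1, 0, 1, 0, 0, 1, 0, -1, 0, 0, 0, 0, 0, 0, 0, 0]) (.leaf [-163412494, -149702277, -274434701, -7493343, 1284384415, -560330391, -31367681, -247735917, 128973, -274490863, 716877982, 889892008, 893, -684642194, -24180748, 7362996, -325252435, -39376057, 481])) (.node (.leaf [-33212674, -29307992, -54296925, -1508403, 256957726, -111998922, -6312864, -50254314, 24993, -53752472, 143507331, 178329942, 285, -138024069, -4685302, 1483012, -65181488, -7975939, 113]) (.leaf [-221, -269, -444, -9, 1885, -842, -39, -310, 0, -493, 1064, 1282, 0, -918, -56,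 9, -474, -50, 0])))) (.node (.node (.node (.leaf [0, 0, -1, 0, 5, 0, 0, 0, 0, 0, 0, 3, 0, -3, 0, 0, -2, 0, 0]) (.leaf [-25501652, -28862820, -50122220, -1251706, 220693106, -96790344, -5199015, -39179949, 28617, -52893388, 122745387, 151421785, -1190, -112453724, -4905036, 1224311, -55345168, -6265754, -32])) (.node (.leaf [-3201, -2357, -4528, -138, 22854, -9933, -588, -4779, 0, -4287, 12855, 16005, 0, -12687, -373, 138, -5880, -760, 0]) (.leaf [261, 95, 122, 9, -1112, 451, 43, 360, 0, -21, -642, -907, 0, 756, 13, -9, 377, 43, 0]))) (.node (.node (.leaf [32046711, 27962724, 51971381, 1450324, -246769537, 107525759, 6073464, 48460419, -23674, 51282996, -137839916, -171348573, -361, 132857117, 4455629, -1426199, 62629755, 7688729, -90]) (.leaf [-10761444296, -8663528810, -16489471660, -476703125, 80179310547, -34867427450, -1998400631, -16202751155, 7111936, -15886374459, 44841858605, 55876852069, 243933, -43869154725, -1346011836, 469348546, -20423942695, -2563901561, -1290])) (.node (.leaf [538714914, 446273189, 842069283,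 23974790, -4059789201, 1766716908, 100800934, 812137023, -348406, 818360940, -2269665405, -2825730842, -15690, 2208697146, 69975263, -23608051, 1032744218, 128788058, -2643]) (.leaf [-10602007, -11388700, -20031147, -514703, 89520770, -39211340, -2126262, -16238349, 11957, -20875320, 49829981, 61568073, -676, -46138977, -1913458, 503404, -22506040, -2587187, 18])))))) (.node (.node (.node (.node (.node (.node (.leaf [-1, 0, 0, 0, 0, -1, 0, 0, 0, 0, 1, 0, 0, 0, 0, 0, 0, 0, 0]) (.leaf [13883381, 15107027, 26481547, 671758, -117914868, 51662924, 2797228, 21272521, -14486, 27687963, -65626607, -81052505, 449, 60601582, 2546220, -657729, 29625016, 3398740, 8])) (.leaf [-3234, -2493, -4792, -142, 23333, -10157, -589, -4763, 0, -4500, 13086, 16335, 0, -12870, -383, 142, -5963, -762, 0])) (.node (.leaf [0, -3, -4, 0, 0, -1, 0, 3, 0, -3, 0, 0, 0, 3, 0, 0, 1, 0, 0]) (.leaf [-10916918, -2908329, -8928770, -395238, 59715915, -25394594, -1703696, -15888235, -2168, -5379343, 33890360, 43284925, 1719, -38516704, -157915, 395517, -15821184,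 -2474354, 170]))) (.node (.node (.leaf [-427078, -544046, -918884, -20916, 3906654, -1718962, -90953, -657720, 283, -994888, 2170356, 2667543, 46, -1938333, -94257, 20570, -973481, -107710, 17]) (.leaf [-312448, -297119, -540180, -14762, 2492304, -1087637, -60285, -474190, 351, -542142, 1388714, 1725313, -22, -1319811, -48076, 14433, -630336, -74945, 0])) (.node (.leaf [-9031, -7915, -14482, -419, 70740, -30728, -1722, -14039, 8, -14778, 39562, 48933, 0, -37902, -1394, 411, -18060, -2189, 0]) (.leaf [4289904124, 3242727287, 6293455905, 186581689, -31188477697, 13542574108, 785430421, 6439214631, -2361245, 5949518004, -17461705935, -21794691287, -178749, 17273304995, 493407333, -184014816, 7965800743, 1018424684, -26879])))) (.node (.node (.node (.leaf []) (.leaf [101088145, 85879540, 160849783, 4555801, -770015922, 335320641, 19026771, 152701889, -74459, 157564637, -430306983, -535269918, -477, 416780748, 13583336, -4480547, 195671173, 24185363, -318])) (.node (.leaf [131436290, 115947677, 214817808, 5961108, -1016656611,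 443117024, 24983526, 198845982, -97011, 212629142, -567797929, -705596532, -1701, 546134991, 18532039, -5861889, 257894119, 31572670, -507]) (.leaf [443629191, 383996682, 715422660, 20133986, -3405130798, 1483438663, 83827155, 670773270, -357537, 704191055, -1902063134, -2365163505, 3158, 1836297340, 61039170, -19781493, 864638412, 106168271, 1886]))) (.node (.node (.leaf []) (.leaf [408, 438, 758, 18, -3644, 1578, 76, 670, 0, 864, -2019, -2461, 0, 1848, 99, -18, 932, 94, 0])) (.node (.leaf [-1411876803, -1499370919, -2644077316, -67904512, 11860974224, -5194034148, -282587721, -2161135077, 1406712, -2750571959, 6604764848, 8160931194, -45182, -6127347524, -251579848, 66531887, -2983035714, -345019067, 11095]) (.leaf [-464, -205, -399, -17, 3141, -1307, -81, -821, -1, -417, 1785, 2208, 0, -1857, -65, 18, -867, -112, 0]))))) (.node (.node (.node (.node (.node (.leaf []) (.leaf [-47358428, -39121570, -73883280, -2108978, 356541376, -155154135, -8855877, -71396456, 30791, -71762299, 199342270, 248180013, 1218, -194073720, -6130064,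 2076648, -90706490, -11318476, 321])) (.leaf [-36, -3, 2, 0, -67, 35, 0, 3, 0, 69, -36, 0, 0, 3, 0, 0, -5, 0, 0])) (.node (.leaf [22180, 20145, 36613, 978, -172557, 75520, 4333, 33326, 0, 36834, -96673, -119603, 0, 91938, 3187, -978, 43785, 5413, 0]) (.leaf [0, -1, -3, -2, 0, 0, 0, 0, 0, 0, 0, 1, 0, 0, 0, 2, 0, 0, 0]))) (.node (.node (.leaf []) (.leaf [105466, 99518, 180780, 4897, -841305, 367566, 20443, 160496, -86, 183396, -469715, -581504, 4, 445199, 16340, -4815, 212707, 25522, 0])) (.node (.leaf [-564504383, -300905753, -661266913, -22539020, 3640102246, -1567983527, -96511014, -835125610, 70126, -552957274, 2049028155, 2580646088, 65640, -2144252985, -39041976, 22391902, -942947099, -131528030, 11352]) (.leaf [0, 0, 0, 0, 1, 0, 0, 0, 0, 0, 0, 0, 0, 0, 0, 0, 0, 0, 0])))) (.node (.node (.node (.leaf [1, 0, 0, 0, 0, 0, 0, 0, 0, 0, 0, 0, 0, 0, 0, 0, 0, 0, 0]) (.leaf [8037, 7552, 13700, 349, -65159, 28453, 1558, 12456, 5, 14340, -36396, -44760, 0, 34344, 1306, -354, 16475, 1964, 0])) (.node (.leaf [-1289878647, -1123998694,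 -2089839790, -58364288, 9926793716, -4325365594, -244385475, -1950350916, 948063, -2061425424, 5545092399, 6893241654, 14563, -5345846454, -179025594, 57396906, -2519536301, -309449728, 4755]) (.leaf [-91150, 45274, 18931, -2531, 265638, -105043, -10750, -131919, -91, 73532, 160379, 213177, 9, -259349, 11639, 2614, -79826, -19394, -1]))) (.node (.node (.leaf [0, 0, -2, -2, 0, 0, 0, 0, 0, 0, 0, 0, 0, 0, 0, 2, 0, 0, 0]) (.leaf [833469, 826337, 1482899, 36221, -6743687, 2944002, 164226, 1258548, -81, 1501901, -3758063, -4666275, -208, 3541382, 134538, -35913, 1700562, 205437, -19])) (.node (.leaf [-226762, -172198, -333895, -9995, 1652845, -717887, -41485, -340801, 149, -316297, 925197, 1154420, 0, -914472, -26265, 9846, -422076, -53666, 0]) (.leaf [176501, 167315, 304154, 8190, -1399674, 610966, 34159, 266078, -147, 303655, -780246, -970153, 9, 741987, 26683, -8052, 354026, 42561, 0])))))))) (.node (.node (.node (.node (.node (.node (.node (.node (.leaf []) (.leaf [-15611, -15022, -27162, -702, 126341, -55309, -3089, -23854,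 0, -28053, 70607, 87030, 0, -66465, -2454, 702, -31823, -3863, 0])) (.leaf [-27985830, -24833440, -45933477, -1270748, 217001886, -94594659, -5327750, -42350469, 20689, -45539386, 121182747, 150568255, 399, -116431649, -3975815, 1249557, -55031220, -6726730, 103])) (.node (.leaf [236118, 181323, 350311, 10451, -1729585, 751437, 43321, 355359, -163, 333380, -968015, -1207205, 0, 954729, 27832, -10288, 441476, 55907, 0]) (.leaf []))) (.node (.node (.leaf [214, 123, 240, 9, -1721, 736, 39, 400, 0, 333, -986, -1149, 0, 942, 45, -9, 446, 59, 0]) (.leaf [-489079535, -370510349, -718496764, -21188601, 3558427107, -1545244127, -89677473, -734007892, 235317, -679949644, 1992479227, 2486457812, 28628, -1969865223, -56433395, 20917562, -908638421, -116339806, 7095])) (.node (.leaf [15026771, 14261184, 25890672, 698878, -119956055, 52381010, 2910036, 22835683, -13446, 26153442, -66912486, -82969143, 255, 63470571, 2327097, -685770, 30331789, 3626757, 83]) (.leaf [2231947330, 2183946482, 3932910138, 104527503, -18061183189, 7892779414,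 436317991, 3398140414, -1953655, 4006197062, -10070649141, -12474768140, 25753, 9495271752, 359206162, -102584241, 4559712566, 541149933, -15360])))) (.node (.node (.node (.node (.leaf [-30, -18, -28, 0, 32, -8, 0, -12, 0, 30, 12, 60, 0, -42, 0, 0, -20, 0, 0]) (.leaf [0, 0, 0, 0, 0, 0, 1, 0, 0, 0, 0, 0, 0, 0, 0, 0, 0, 0, 0])) (.leaf [130962970, 113261000, 211039810, 5912911, -1004767935, 437717445, 24765843, 197957427, -94978, 207737990, -561329252, -697948515, -1657, 541920056, 18003273, -5815817, 255111453, 31400361, -459])) (.node (.leaf [8014, 7933, 14297, 358, -66391, 29032, 1602, 12430, -1, 14979, -37024, -45583, 0, 34731, 1317, -357, 16681, 1998, 0]) (.leaf [1338613, 615011, 1438007, 53267, -8280106, 3556410, 222481, 1974867, -425, 1133160, -4668696, -5899334, -80, 4989183, 72739, -52782, 2157796, 307286, 20]))) (.node (.node (.leaf []) (.leaf [-168873, -162287, -294376, -7995, 1349145, -588529, -32620, -255646, 184, -294322, 751277, 934766, -3, -713697, -26159, 7814, -341124, -40560, 0])) (.node (.leaf [-4485041824,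 -3623147579, -6888482630, -198520576, 33462479224, -14553213340, -833936261, -6753598146, 2844290, -6644987450, 18714719391, 23316223908, 130047, -18295607694, -563662421, 195529289, -8521987728, -1069705939, 16950]) (.leaf [402392, 317561, 607247, 15541, -2932972, 1271844, 74790, 594375, 221, 568195, -1639973, -2056581, -172, 1617051, 47351, -15584, 747847, 97766, -6]))))) (.node (.node (.node (.node (.node (.leaf []) (.leaf [18372105, 16298886, 30153740, 839936, -142515695, 62127058, 3495333, 27824787, -14994, 29905065, -79582296, -98871762, 198, 76466043, 2611302, -825120, 36144476, 4408768, -20])) (.leaf [59234, 57685, 104584, 2875, -478742, 208668, 11395, 90512, -87, 105133, -266187, -331187, 0, 252651, 9456, -2788, 120958, 14123, 0])) (.node (.leaf []) (.leaf [2173607913, 1473968707, 2964143856, 91443159, -15178100186, 6573807295, 389130673, 3245493361, -728219, 2706310024, -8513813752, -10656283643, -181764, 8578083063, 215282964, -90492445, 3893869006, 513559641, -40731]))) (.node (.node (.leaf [3064987327, 2509213234,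 4751532862, 136250601, -22990778468, 10002258522, 571685526, 4618684557, -2020623, 4601987089, -12855323876, -16009986966, -73482, 12537102090, 392059598, -134147496, 5851747277, 731607924, -9000]) (.leaf [489079352, 370510190, 718496520, 21188595, -3558425889, 1545243621, 89677444, 734007645, -235317, 679949414, -1992478538, -2486456931, -28628, 1969864572, 56433353, -20917556, 908638084, 116339757, -7095])) (.node (.leaf [-163753370, -141590707, -263845204, -7399059, 1256308632, -547305191, -30962658, -247538672, 120220, -259725996, 701860476, 872663454, 1647, -677603376, -22508360, 7276675, -318980875, -39254492, 517]) (.leaf [590, 874, 1625, 30, -6599, 2897, 113, 1009, 0, 1914, -3626, -4334, 0, 3162, 185, -30, 1523, 170, 0])))) (.node (.node (.node (.leaf [-6, 6, 8, 0, -7, 5, 0, -6, 0, 12, 0, 0, 0, -3, -3, 0, -2, 0, 0]) (.leaf [629481561, 515157036, 975607135, 27956369, -4721011923, 2053880048, 117419997, 948504817, -406675, 944822868, -2639822568, -3287633661, -17205, 2574591411, 80482422, -27529819, 1201611784, 150299745,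 -2670])) (.node (.leaf [-53095410, -24307191, -56901611, -2073088, 327802559, -140756958, -8848118, -78217890, 4690, -44730213, 184886941, 233673597, 5965, -197669163, -2855090, 2061762, -85407831, -12258654, 671]) (.leaf [-35661602, -30164102, -56570827, -1600713, 271107886, -118045222, -6705222, -53838702, 25103, -55333420, 151513843, 188504724, 595, -146873186, -4762809, 1574933, -68901758, -8533296, 82]))) (.node (.node (.leaf []) (.leaf [-240153755, -81753485, -220034062, -8897073, 1377591799, -588088106, -38467842, -350787846, -34923, -150315722, 779760088, 992089904, 38772, -864855336, -7052013, 8889051, -362450762, -54883671, 4173])) (.node (.leaf []) (.leaf [9315215, 10186925, 17835055, 451237, -79295701, 34746839, 1879716, 14275858, -9754, 18668159, -44129194, -54495096, 306, 40709691, 1718458, -441789, 19917647, 2281753, 0])))))) (.node (.node (.node (.node (.node (.node (.leaf []) (.leaf [4474233829, 3599983463, 6852844408, 197962766, -33330245949, 14494360813, 831070108, 6736444732, -2851215, 6602939996, -18641837450,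 -23227840901, -122449, 18237528948, 559380831, -194973690, 8489874048, 1066628034, -15411])) (.leaf [44955, 42263, 76871, 2114, -357644, 156200, 8676, 68346, -46, 77730, -199661, -247347, 2, 189456, 6950, -2070, 90457, 10851, 0])) (.node (.leaf [-32768537, -28240376, -52686401, -1487311, 251154720, -109406848, -6187098, -49554768, 25951, -51824211, 140308663, 174464871, -240, -135550248, -4486909, 1461574, -63780127, -7842783, 26]) (.leaf [-2, 9, 11, 0, -3, 2, 0, -7, 0, 9, 0, -3, 0, -6, 0, 0, 0, 0, 0]))) (.node (.node (.leaf [75784, 71210, 129934, 3633, -602299, 262841, 14571, 115143, -98, 130298, -335698, -416910, 6, 319602, 11521, -3543, 152393, 18126, 2]) (.leaf [-134801, -102777, -199376, -5969, 984588, -427713, -24660, -202617, 89, -189000, 550990, 687453, 0, -544374, -15642, 5880, -251214, -31906, 0])) (.node (.leaf [376, 387, 728, 18, -3465, 1517, 75, 612, 0, 870, -1933, -2295, 0, 1749, 84, -18, 846, 103, 0]) (.leaf [54568, 123928, 188734, 825, -657125, 290301, 15210, 77556, 477, 212681, -360492, -446517, -190, 286012,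 21557, -1099, 158572, 17684, -13])))) (.node (.node (.node (.leaf [1, 0, 0, 0, 0, 0, 0, 0, 0, 0, 0, 0, 0, 0, 0, 0, 0, 0, 0]) (.leaf [-443, -231, -461, -18, 3446, -1446, -78, -829, 0, -606, 1956, 2328, 0, -1929, -90, 18, -911, -118, 0])) (.node (.leaf [-4212, -3266, -6260, -180, 31210, -13534, -780, -6402, 0, -6066, 17460, 21732, 0, -17166, -520, 180, -7978, -1012, 0]) (.leaf [-1011514959, -1112473195, -1945087798, -49277302, 8639681834, -3786792805, -204572086, -1552216201, 1075989, -2040985289, 4808212546, 5934587621, -45493, -4429337910, -188158937, 48238927, -2169336185, -247995669, 7879]))) (.node (.node (.leaf [-29, -79, -135, 0, 216, -120, -5, 15, 0, -102, 121, 162, 0, -75, -3, 0, -39, -1, 0]) (.leaf [-938660, -720407, -1391509, -40935, 6862015, -2980836, -172419, -1409313, 516, -1321230, 3841106, 4792374, 46, -3789454, -110140, 40372, -1751362, -223089, 1])) (.node (.leaf [129158171, 121618679, 221256987, 5956005, -1027065806, 448378324, 24982101, 196049601, -102736, 222933389, -573020526, -710757954, -1197, 544373982,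 19784389, -5851551, 259759754, 31215796, -521]) (.leaf [-19, -18, -42, 0, -32, -7, 0, 25, 0, -9, 3, 0, 0, 18, 0, 0, 23, -5, 0]))))) (.node (.node (.node (.node (.node (.leaf []) (.leaf [0, 0, -2, 1, -4, 0, 0, 0, 0, 0, 0, 0, 0, 0, 0, -1, 4, 0, 0])) (.leaf [106747, 81089, 157392, 4715, -779126, 338366, 19528, 160642, -68, 149160, -436009, -544044, 0, 431079, 12348, -4647, 198887, 25261, 0])) (.node (.leaf [2, 2, 3, 0, 0, 4, 1, -3, 0, 3, -3, 0, 0, -3, 0, 0, 0, 0, 0]) (.leaf [-6764436312, -5835358905, -10881196255, -305242663, 51841032236, -22582893729, -1278309879, -10222685526, 4898010, -10702448861, 28962982568, 36015060368, 86469, -27974784611, -926693442, 300233974, -13163880620, -1621428648, 24210]))) (.node (.node (.leaf [4, -97, -164, 0, 471, -182, 5, -26, 0, -195, 213, 290, 0, -174, -24, 0, -102, 0, 0]) (.leaf [-7, -1, -7, 0, 33, -6, 1, -12, 0, 9, 9, 30, 0, -30, 0, 0, -12, 1, 0])) (.node (.leaf [3632699, 2214347, 4624740, 151201, -24465392, 10574624, 635004, 5404950, -1448, 4073980, -13745185, -17245197, -234, 14086973,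 309107, -149524, 6304590, 848773, 5]) (.leaf [35971, 36032, 64716, 1757, -286258, 124379, 6912, 53410, -55, 62411, -158649, -199852, -3, 151293, 5618, -1699, 72556, 8565, 0])))) (.node (.node (.node (.leaf [0, 0, 1, 0, -5, 0, 0, 0, 0, 0, 0, -3, 0, 3, 0, 0, 2, 0, 0]) (.leaf [-59374, -54383, -99193, -2710, 466647, -203907, -11481, -90055, 42, -100095, 260963, 323023, -1, -248315, -8843, 2669, -118236, -14381, 0])) (.node (.leaf [900223555, 747687214, 1409830594, 40224612, -6791730515, 2955751564, 168435909, 1357570635, -632318, 1370892236, -3796490017, -4726606701, -14370, 3693179382, 117318566, -39578685, 1727667716, 214971138, 761]) (.leaf [41, 88, 153, 0, -196, 123, 5, -24, 0, 99, -121, -162, 0, 66, 3, 0, 31, 1, 0]))) (.node (.node (.leaf []) (.leaf [-68356908, -59849348, -111120618, -3091851, 527021489, -229663068, -12968301, -103358732, 49394, -109740684, 294375231, 365906570, 1116, -283547187, -9542850, 3041089, -133734614, -16410928, 252])) (.node (.leaf [0, 0, -2, -4, 2, 0, 0, 0, 0, 0, 0, 0, 0, 0, 0, 4, -2, 0, 0]) (.leaf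 [-489079349, -370510210, -718496561, -21188595, 3558426011, -1545243678, -89677444, -734007651, 235317, -679949474, 1992478601, 2486456997, 28628, -1969864614, -56433357, 20917556, -908638103, -116339757, 7095]))))))) (.node (.node (.node (.node (.node (.node (.node (.leaf []) (.leaf [-1015797106, -838009730, -1583262653, -45272284, 7643467047, -3325960788, -189813222, -1531411737, 685047, -1536967657, 4273304675, 5320772699, 21184, -4161708096, -131262835, 44563481, -1944807988, -242582728, 2572])) (.leaf [-2, -3, -6, 0, -2, 0, 0, 5, 0, -3, 0, 0, 0, 3, 0, 0, 2, -1, 0])) (.node (.leaf []) (.leaf [-217, -123, -242, -9, 1719, -737, -39, -399, 0, -331, 986, 1149, 0, -942, -45, 9, -446, -58, 0]))) (.node (.node (.leaf [-19652, -18983, -34480, -916, 159194, -69644, -3822, -29988, 15, -35361, 88808, 109689, 0, -83751, -3133, 901, -40082, -4766, 0]) (.leaf [33337531, 27586764, 52070737, 1490145, -251259094, 109340400, 6235239, 50296821, -22980, 50622639, -140469250, -174865320, -440, 136713607, 4330150, -1466597, 63923270, 7962676,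 -128])) (.node (.leaf [-4047, -3773, -6851, -179, 31988, -13945, -783, -6158, -1, -6849, 17838, 22182, 0, -17019, -607, 180, -8120, -972, 0]) (.leaf [-6608842, -7196432, -12612771, -319870, 56146701, -24600437, -1331820, -10126050, 6912, -13188648, 31248448, 38593419, -216, -28852047, -1212904, 313177, -14105859, -1617976, -3])))) (.node (.node (.node (.leaf []) (.leaf [-1469890265, -525317973, -1379533461, -54679534, 8524341443, -3642412151, -237025811, -2149346293, -241559, -966554583, 4823058512, 6129305551, 244414, -5318816472, -48389709, 54642893, -2239167117, -336892969, 33786])) (.node (.leaf [0, 0, 1, 0, 1, 0, 0, 0, 0, 0, 0, 0, 0, 0, 0, 0, -1, 0, 0]) (.leaf [983316393, 720862667, 1412776315, 42364103, -7065794848, 3065832174, 178839783, 1473657339, -485290, 1322682371, -3958010596, -4944290091, -52096, 3936163482, 108476255, -41818197, 1806992246, 233069127, -8520]))) (.node (.node (.leaf [1, 0, 0, 0, 0, 0, 0, 0, 0, 0, 0, 0, 0, 0, 0, 0, 0, 0, 0]) (.leaf [12681, 762, 7678, 1554, -75093, 32788, 1478, 22521, -256, 6051,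 -42476, -51161, 83, 48666, 172, -1388, 20314, 1544, 7])) (.node (.leaf [551616925, 467492175, 876313785, 24837422, -4196134439, 1827031457, 103675578, 832821141, -421247, 856970303, -2344662700, -2917605393, -2044, 2272641918, 73797766, -24417213, 1066520499, 131808655, 3082]) (.leaf [2981607654, 2373593107, 4533007404, 131541894, -22117535815, 9615788386, 552419411, 4486739547, -1860018, 4353701533, -12372608127, -15420957343, -87796, 12127493712, 367538909, -129583000, 5636410179, 710243409, -11079]))))) (.node (.node (.node (.node (.node (.leaf [-291, -526, -975, -18, 4192, -1857, -69, -573, 0, -1380, 2313, 2601, 0, -1872, -134, 18, -940, -108, 0]) (.leaf [432287919, 360292654, 678604186, 19269165, -3265807605, 1421408590, 81010215, 651901724, -282145, 660692502, -1825610214, -2272476671, -12213, 1774583854, 56602161, -18972622, 830541576, 103398402, -2185])) (.leaf [-70237127, -55048520, -105632693, -3079955, 517747530, -225005024, -12967521, -105587643, 41067, -100952441, 289703665, 361256742, 2720, -284766817, -8476604,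 3035812, -132030441, -16719270, 356])) (.node (.leaf [-26388, -26324, -46772, -1174, 222112, -97572, -5274, -41335, 19, -51233, 124211, 151144, -6, -114837, -4703, 1161, -56038, -6402, 0]) (.leaf [-85, 139, 248, 0, -727, 339, -6, -39, 0, 510, -380, -306, 0, 123, 50, 0, 94, 6, 0]))) (.node (.node (.leaf [-364097059, -321334701, -595268179, -16519996, 2816854350, -1227759430, -69213984, -550862568, 270138, -589278928, 1573182401, 1954953036, 4312, -1513041854, -51366809, 16244189, -714537799, -87457351, 1357]) (.leaf [-18704, -90856, -128301, 751, 374701, -166450, -8220, -23701, -478, -151086, 202189, 251467, 192, -136345, -16238, -479, -87412, -8834, 14])) (.node (.leaf [17446335, 15455719, 28603295, 793365, -135202519, 58934708, 3319266, 26404614, -13263, 28345535, -75502487, -93815364, -123, 72567015, 2473487, -779925, 34290105, 4190853, -54]) (.leaf [442, 288, 596, 19, -3771, 1606, 76, 844, 0, 765, -2127, -2516, -1, 2056, 98, -18, 951, 117, 0])))) (.node (.node (.node (.leaf []) (.leaf [54845584, 46272164, 86841466, 2455264,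 -416437197, 181310994, 10309148, 82767690, -36915, 84865117, -232750624, -289604659, -1283, 225727103, 7297526, -2416765, 105846134, 13129752, -301])) (.node (.leaf [1554038381, 1357192732, 2521795033, 70344241, -11970630555, 5216198104, 294607245, 2349995364, -1142547, 2489053909, -6686552352, -8311703208, -18189, 6443618070, 216303350, -69177707, 3037976500, 372911603, -5798]) (.leaf [-16, -82, -159, 0, 333, -140, 5, -8, 0, -136, 156, 227, 0, -135, -15, 0, -62, 0, 0]))) (.node (.node (.leaf [2, 0, 2, 0, 0, -1, 0, -2, 0, 0, 0, 0, 0, 0, 0, 0, 0, 1, 0]) (.leaf [-65999411, -58250733, -107907272, -2993091, 510599614, -222550131, -12546923, -99848336, 48612, -106818400, 285164457, 354369777, 900, -274262031, -9310990, 2943320, -129520041, -15855140, 259])) (.node (.leaf [-1052, -818, -1567, -45, 7803, -3384, -195, -1599, 0, -1519, 4365, 5433, 0, -4290, -130, 45, -1994, -253, 0]) (.leaf [276428, 261851, 476228, 13077, -2207162, 963366, 53377, 420829, -298, 480138, -1230473, -1526717, 19, 1168777, 42693, -12798, 558234, 66432,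 0])))))) (.node (.node (.node (.node (.node (.node (.leaf []) (.leaf [-577438, -551062, -1000393, -26941, 4622256, -2017905, -111897, -878160, 534, -1009948, 2576909, 3196930, -12, -2444169, -89790, 26419, -1168131, -139365, 0])) (.leaf [-63216, -48002, -92973, -2777, 460121, -199851, -11563, -94846, 38, -88032, 257620, 321450, 0, -254544, -7341, 2739, -117545, -14971, 0])) (.node (.leaf [4, -18, -41, -1, 118, -50, 1, -7, 0, -54, 56, 66, 0, -45, -4, 1, -19, 0, 0]) (.leaf []))) (.node (.node (.leaf [2, 0, 0, 0, 2, 0, 0, 0, 0, -2, 0, 0, 0, 0, 0, 0, 0, 0, 0]) (.leaf [-109378321, -82179621, -159778944, -4729856, 793251049, -344399233, -20013053, -164081322, 52794, -150794218, 444214120, 554491445, 6397, -439826122, -12479046, 4669405, -202636234, -25993332, 1260])) (.node (.leaf []) (.leaf [-290437, -10203, -154626, -17186, 1449601, -611901, -38790, -448335, 1760, -47465, 823268, 1050180, -522, -1006545, 5880, 15998, -395193, -55094, -50])))) (.node (.node (.node (.leaf [2, -1, 0, 0, 0, 3, 1, 0, 0, 0, -3, 0, 0, 0, 0, 0, 0, 0,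 0]) (.leaf [-41190052, -33258826, -63240609, -1828918, 307397178, -133695713, -7657905, -62062908, 27064, -61042271, 171926072, 214163229, 804, -168067018, -5180284, 1800904, -78288571, -9819410, 146])) (.node (.leaf [-390, -533, -975, -18, 4055, -1768, -77, -629, 0, -1120, 2216, 2685, 0, -1962, -113, 18, -973, -100, 0]) (.leaf [-1210514964, -961113740, -1837267736, -53650237, 8968812896, -3898748062, -223762754, -1821449376, 880452, -1761332480, 5016179122, 6254428941, 8990, -4921025496, -148535941, 52774978, -2286446730, -287452492, -14183]))) (.node (.node (.leaf [0, -6, -4, 0, -1, -4, 0, 3, 0, -6, 3, 0, 0, 6, 0, 0, 1, 0, 0]) (.leaf [-33072490, -29190967, -54074116, -1499925, 255870001, -111523942, -6287393, -50034626, 24384, -53530798, 142900923, 177579278, 443, -137435061, -4666300, 1474969, -64904566, -7945141, 129])) (.node (.leaf [35, -73, -127, 0, 366, -173, 4, 18, 0, -246, 190, 161, 0, -69, -23, 0, -51, -2, 0]) (.leaf [4286642933, 3130878350, 6143154543, 184251093, -30759139083, 13345293487, 779244212, 6422667048,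 -1998180, 5745462759, -17232018772, -21527161381, -253040, 17146744836, 470547022, -181950381, 7867149674, 1016392427, -49492]))))) (.node (.node (.node (.node (.node (.leaf [-1, 0, 0, 0, -1, 0, 0, 0, 0, 1, 0, 0, 0, 0, 0, 0, 0, 0, 0]) (.leaf [1055608, 1526621, 2506197, 39202, -10080512, 4432558, 238285, 1575549, 2376, 2712263, -5584081, -6900326, -1159, 4875543, 261037, -40318, 2493580, 285889, -101])) (.leaf [-536670384, -444162153, -838321827, -23885040, 4042981039, -1759372288, -100393901, -809051919, 348109, -814538182, 2260306277, 2814114042, 15184, -2199943590, -69629582, 23519150, -1028511987, -128282825, 2597])) (.node (.leaf []) (.leaf [-4, 3, 29, 4, 25, 6, 0, -18, -1, 30, -7, 18, 0, -21, 0, -3, -34, 8, 0]))) (.node (.node (.leaf [3, 0, -7, 0, 3, 9, 3, 7, 0, -6, -7, -1, 0, 3, -5, 0, 0, 0, 0]) (.leaf [56182, 51951, 94508, 2570, -443402, 193821, 10896, 85267, -44, 95638, -247939, -306784, 2, 235473, 8462, -2528, 112290, 13615, 0])) (.node (.leaf []) (.leaf [-34, -36, -53, 0, 93, -25, 1, -21, 0, 24, 30, 112, 0, -75,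 -2, 0, -42, 4, 0])))) (.node (.node (.node (.leaf []) (.leaf [-1828281014, -1529831254, -2878216244, -81820217, 13835599804, -6022410436, -342771007, -2758204279, 1280194, -2805258627, 7733234734, 9625358691, 30772, -7512150510, -240636692, 80508046, -3518212387, -436976825, 1205])) (.node (.leaf [201, 147, 202, 5, -1082, 469, 35, 238, 0, 168, -642, -812, 0, 594, 36, -5, 320, 46, 0]) (.leaf [-13384158, -9621356, -18980434, -579471, 95578791, -41454059, -2421723, -20071809, 7582, -17681669, 53551777, 66915348, 371, -53430975, -1441665, 571516, -24466396, -3160984, 2]))) (.node (.node (.leaf [-11, -15, -14, 0, 14, -4, 0, -6, 0, 11, 6, 30, 0, -15, 0, 0, -10, 0, 0]) (.leaf [5298541591, 4530184928, 8469262835, 238433537, -40461386796, 17622180306, 999328609, 8004296595, -3705991, 8311087070, -22609547874, -28119674463, -86211, 21872497641, 717749496, -234604993, 10277895901, 1269714589, -36342])) (.node (.leaf [3380368, 2437091, 4802999, 146499, -24165181, 10481484, 612003, 5070090, -1936, 4478369, -13538894, -16916295, -94, 13501680,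 365615, -144466, 6185198, 798473, -3]) (.leaf [2274622, 1599903, 3175403, 96888, -16111705, 6985526, 410439, 3406682, -931, 2943278, -9034090, -11289218, -160, 9040572, 238464, -95792, 4127967, 538145, -5])))))))))

def threeL13 : Janko.Tree (List ℤ) :=
  (.node (.node (.node (.node (.node (.node (.node (.node (.node (.leaf []) (.leaf [4040472508, 2916278795, 5744222259, 173141547, -28864745375, 12519848184, 732585621, 6050575056, -1825371, 5351970992, -16173778806, -20211621681, -247767, 16126629232, 436375800, -171020263, 7386358475, 957290947, -48146])) (.leaf [522072, 580220, 1011917, 25389, -4476696, 1962512, 105873, 800478, -555, 1062828, -2490696, -3074523, 18, 2290293, 98119, -24849, 1123565, 128121, -2])) (.node (.leaf [5, -2, 0, 5, 0, 0, 0, 0, -5, 0, 0, 0, 0, 0, 2, 0, 0, 0, 0]) (.leaf [3576716511, 2340207996, 4765255054, 149835800, -24661049362, 10671531408, 634877222, 5333165471, -1334559, 4294783527, -13838208172, -17340548520, -259951, 14029274379, 336448875, -148206872, 6337199175, 841509951, -34418]))) (.node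 (.node (.leaf []) (.leaf [-71587, -70009, -126972, -3361, 577240, -252193, -13908, -108318, 55, -127677, 321435, 399309, 0, -304188, -11204, 3306, -145375, -17314, 0])) (.node (.leaf [-15, 116, 179, -3, -137, 70, -1, -74, 0, 123, -33, -112, 0, -5, 2, 3, 19, -14, 0]) (.leaf [])))) (.node (.node (.node (.node (.leaf [-1, 0, -1, 0, 0, 0, 0, 1, 0, 0, 0, 0, 0, 0, 0, 0, 0, 0, 0]) (.leaf [-81477, -77612, -141040, -3852, 650935, -284088, -15728, -123794, 90, -141822, 362732, 450462, -5, -344515, -12602, 3768, -164593, -19561, -1])) (.leaf [434247431, 347979047, 663220682, 19182731, -3229545971, 1404291324, 80586534, 653639268, -271875, 638232947, -1806434305, -2251101501, -12974, 1768553897, 53994998, -18896101, 822769557, 103505917, -1781])) (.node (.leaf []) (.leaf [-401642592, -365154994, -670826751, -18401560, 3147024061, -1372681418, -76936440, -608777955, 318774, -669678939, 1756717152, 2181089064, 837, -1680119250, -58879217, 18080865, -797227514, -96692229, 1084]))) (.node (.node (.leaf [-5, 52, 104, 0, -242, 104, -3, -9,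 0, 135, -118, -134, 0, 70, 15, 0, 37, 3, 0]) (.leaf [-338153, -353106, -623869, -13139, 2775872, -1211714, -68169, -505146, -362, -634221, 1546051, 1922301, 218, -1443786, -57458, 13267, -698026, -85804, 16])) (.node (.leaf [-1791853123, -842949082, -1950310745, -69803505, 11138683134, -4785075473, -300073008, -2639674479, 53523, -1548904518, 6280451605, 7934468013, 238786, -6690977694, -100707015, 69477246, -2898994063, -414941636, 33950]) (.leaf [-28, -64, -100, 0, 329, -114, 1, -69, 0, -39, 135, 260, 0, -190, -7, 0, -100, 9, 0]))))) (.node (.node (.node (.node (.node (.leaf [-16, -257, -396, -3, -315, 185, -6, 192, 0, 144, -314, 114, 0, 99, 50, 3, 72, 17, 0]) (.leaf [-194874374, -172691554, -319558937, -8895611, 1510860096, -658614499, -37071196, -295093437, 155885, -316835765, 843718886, 1048245446, -1202, -810822160, -27659334, 8740544, -383201753, -46774797, 384])) (.leaf [])) (.node (.leaf [197, 74, 106, 12, -1227, 481, 37, 357, 0, 108, -699, -889, 0, 744, 35, -12, 375, 51, 0]) (.leaf []))) (.node (.node (.leaf [-941824817,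 -824075562, -1530377037, -42646611, 7260419057, -3163869814, -178636026, -1424332707, 692688, -1511308575, 4055409437, 5040797112, 11323, -3906688890, -131407957, 41939049, -1842432692, -226048383, 3551]) (.leaf [210, -20, -26, 12, -1234, 469, 37, 452, 0, 21, -720, -872, 0, 824, 32, -12, 389, 56, 0])) (.node (.leaf [-33202090, -29308550, -54291949, -1506949, 256898278, -111972998, -6311769, -50235174, 24738, -53749487, 143473782, 178289382, 366, -137984010, -4685419, 1481725, -65165146, -7974915, 121]) (.leaf [60181, 45794, 88586, 2665, -438209, 190386, 11019, 90276, -45, 83976, -245407, -306117, -1, 242293, 7012, -2619, 111941, 14260, 0])))) (.node (.node (.node (.leaf [-1040849458, -1447209836, -2402922496, -55693756, 10004142346, -4410376238, -226722408, -1626448164, 1761672, -2651742039, 5544000397, 6796781763, -163280, -4866969798, -255716440, 54117603, -2485299417, -260655153, -22239]) (.leaf [-6140, -4739, -9196, -281, 45676, -19846, -1140, -9403, 5, -8877, 25555, 31791, 2, -25188, -726, 273, -11613, -1472, 1])) (.node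 (.leaf [0, 0, 0, 2, 0, -1, 0, 0, -2, 0, 2, 0, 0, 0, 0, 0, 0, 0, 0]) (.leaf [935537274, 737207777, 1412240548, 41080121, -6911589423, 3004132719, 172981058, 1406904050, -544324, 1352298894, -3867176952, -4821204939, -36240, 3797282688, 113769657, -40492813, 1762038745, 222854056, -6744]))) (.node (.node (.leaf [3395, 2549, 4822, 144, -24085, 10479, 624, 4989, -3, 4566, -13571, -16896, 0, 13311, 412, -141, 6208, 810, 0]) (.leaf [1054, 875, 1691, 45, -8043, 3498, 191, 1587, 0, 1656, -4489, -5574, 0, 4365, 143, -45, 2022, 256, 0])) (.node (.leaf [0, 0, -1, 0, 0, 0, 0, 0, 0, 0, 0, 1, 0, 0, 0, 0, 0, 0, 0]) (.leaf [4381969563, 3207969902, 6289668889, 188462716, -31470564177, 13654715325, 796980524, 6566180325, -2055618, 5886843272, -17629918066, -22022866900, -256577, 17535631905, 482541145, -186100345, 8048310228, 1039147629, -50176])))))) (.node (.node (.node (.node (.node (.node (.leaf []) (.leaf [2706050, 2630128, 4749163, 126290, -21843353, 9540567, 527696, 4121007, -2355, 4824048, -12176447, -15093195, 14, 11503935, 431422,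 -123927, 5515381, 655673, -21])) (.leaf [-55, -245, -543, -9, 2108, -968, -30, -162, 0, -921, 1168, 1152, 0, -818, -59, 9, -369, -77, 0])) (.node (.leaf [-968330, -1089218, -1893870, -47151, 8351124, -3662179, -197175, -1485825, 1018, -1995380, 4645692, 5732124, -30, -4260984, -184717, 46158, -2094745, -238117, 5]) (.leaf [914534387, 720793417, 1380716812, 40158839, -6756976641, 2936950360, 169107843, 1375338292, -531117, 1322219146, -3780668551, -4713299175, -35718, 3712187082, 111246551, -39585380, 1722600849, 217859321, -6624]))) (.node (.node (.leaf [-9, 43, 90, 0, -240, 113, 0, 3, 0, 129, -123, -128, 0, 76, 9, 0, 35, 0, 0]) (.leaf [433, 435, 757, 20, -3687, 1567, 78, 707, -2, 804, -2020, -2530, 0, 1917, 100, -18, 966, 92, 0])) (.node (.leaf []) (.leaf [191186360, 169195813, 313202493, 8721632, -1481391170, 645749594, 36358320, 289476738, -151994, 310417385, -827286809, -1027866411, 942, 795222934, 27088402, -8570180, 375750623, 45887297, -400])))) (.node (.node (.node (.leaf []) (.leaf [-1, 3, -2, 0, 7, 0, 0, 4, 0, -3,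 0, 0, 0, -3, 0, 0, -1, -1, 0])) (.node (.leaf []) (.leaf [-423511, -541257, -913575, -20768, 3880059, -1707419, -90291, -652293, 293, -989643, 2155445, 2649075, 46, -1923789, -93784, 20413, -966675, -106848, 17]))) (.node (.node (.leaf [-1, -1, 0, 0, 0, 0, 1, 0, 0, 0, 0, 0, 0, 0, 0, 0, 0, 0, 0]) (.leaf [35533511, 26636508, 51822292, 1527783, -257381760, 111738479, 6503198, 53268072, -14552, 48859852, -144150081, -179952189, -2767, 142777221, 4038030, -1509815, 65747180, 8456727, -649])) (.node (.leaf [-1287447, -1221754, -2221329, -60739, 10290604, -4492505, -248889, -1960284, 1356, -2242374, 5737638, 7116558, -90, -5446482, -199343, 59484, -2601678, -309788, -10]) (.leaf [109378500, 82179573, 159778868, 4729872, -793252167, 344399666, 20013090, 164081730, -52794, 150794272, -444214798, -554492184, -6397, 439826839, 12479079, -4669421, 202636581, 25993396, -1260]))))) (.node (.node (.node (.node (.node (.leaf [1, 68, 128, 0, -226, 104, -3, -27, 0, 147, -118, -134, 0, 48, 21, 0, 31, 3, 0]) (.leaf [-1546937, -1536691, -2754900,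 -70857, 12558131, -5486931, -303822, -2346423, 1014, -2802637, 6998805, 8678865, 119, -6586482, -251989, 69719, -3169098, -376889, 6])) (.leaf [71795784, 55515474, 106979157, 3142203, -526526988, 228750548, 13211523, 107879289, -42115, 101832775, -294677256, -367582344, -2570, 290345954, 8511963, -3097214, 134350277, 17066994, -304])) (.node (.leaf [1, 0, 0, 1, 0, 1, 0, 0, -1, 0, 0, 0, 0, 0, 0, 0, 0, 0, 0]) (.leaf [1053173248, 848662682, 1614717940, 46597011, -7849954722, 3413859222, 195705213, 1585710123, -667179, 1556559868, -4390481273, -5470292328, -30101, 4294022337, 131932198, -45895814, 1999396501, 251128507, -3917]))) (.node (.node (.leaf [5116244, 4762055, 8707823, 249012, -40682198, 17760141, 981324, 7818405, -7374, 8780154, -22688753, -28126704, 1008, 21604179, 778138, -242730, 10297109, 1218989, 84]) (.leaf [7615919, 5266935, 10513199, 316699, -53442818, 23157725, 1369377, 11348961, -1666, 9639815, -29972406, -37510041, -976, 30102687, 772018, -314019, 13701005, 1804436, -38])) (.node (.leaf [203, 299, 552, 9,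 -2214, 967, 37, 328, 0, 630, -1199, -1457, 0, 1060, 61, -9, 524, 50, 0]) (.leaf [-26624698, -22710645, -42484519, -1199588, 203143947, -88466599, -5017353, -40228068, 19349, -41663084, 113513854, 141193053, 200, -109868176, -3597079, 1179918, -51612941, -6374992, 121])))) (.node (.node (.node (.leaf [329524471, 290777688, 538683374, 14944487, -2549141808, 1111066423, 62641317, 498526515, -242925, 533225630, -1423675008, -1769183208, -4396, 1369291161, 46477438, -14695885, 646629229, 79159536, -1281]) (.leaf [1620199, 534110, 1463605, 63958, -9311672, 3977490, 257586, 2387331, -635, 1007258, -5271739, -6691170, 36, 5852212, 47226, -63367, 2452170, 365569, 8])) (.node (.leaf [4071463110, 2547251554, 5269788590, 168839513, -27640694257, 11948390017, 716129925, 6059490414, -1366547, 4674520004, -15520236906, -19472171853, -320946, 15850242384, 358868936, -167116988, 7116180865, 955118997, -35032]) (.leaf [17718724, 13029454, 25513765, 768877, -127563680, 55352902, 3222696, 26587761, -9906, 23927164, -71446439, -89233140, -612,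 71014748, 1966854, -758363, 32622172, 4193573, 4]))) (.node (.node (.leaf [598, 1206, 2016, 36, -7726, 3460, 157, 1031, 0, 2475, -4261, -5041, 0, 3456, 222, -36, 1795, 183, 0]) (.leaf [])) (.node (.leaf [-15677, -15069, -27341, -723, 125549, -54894, -3048, -23735, 9, -27552, 70003, 86838, 0, -66312, -2409, 714, -31685, -3775, 0]) (.leaf [-32716943, -27426842, -51590086, -1476578, 248006268, -107959915, -6133997, -49427688, 25282, -50353066, 138606413, 172479552, -282, -134594422, -4324009, 1451607, -63058563, -7810157, -29]))))))) (.node (.node (.node (.node (.node (.node (.node (.leaf []) (.leaf [-17672569, -15626314, -28936710, -807905, 136904240, -59677427, -3359190, -26762205, 14502, -28673885, 76453347, 94990556, -229, -73503546, -2501276, 793621, -34726668, -4238864, 11])) (.leaf [-968301, -1089215, -1893850, -47152, 8351146, -3662174, -197175, -1485828, 1017, -1995405, 4645692, 5732112, -30, -4260975, -184717, 46161, -2094750, -238120, 4])) (.node (.leaf []) (.leaf [-10797760, -2816957, -8751345, -389979, 58839291,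 -25013544, -1681863, -15708695, -2247, -5209044, 33399609, 42674325, 1718, -38033503, -143720, 390339, -15598058, -2445945, 169]))) (.node (.node (.leaf [3, -5, -4, 0, 1, 1, 0, 3, 0, -6, 0, 1, 1, 3, 0, 0, 2, -2, -1]) (.leaf [-92496005, -64351032, -128304353, -3925874, 651921101, -282516846, -16638624, -138286299, 37463, -118118304, 365501769, 457204020, 6439, -366725635, -9495168, 3880779, -167082647, -21865292, 1193])) (.node (.leaf []) (.leaf [5633686, 6101574, 10708207, 272288, -47746436, 20917035, 1133439, 8630331, -5853, 11184027, -26575630, -32826519, 180, 24563883, 1027443, -266622, 11998399, 1378391, 7])))) (.node (.node (.node (.leaf []) (.leaf [332184879, 261935532, 501682155, 14593464, -2454828131, 1067013467, 61428138, 499590798, -194719, 480497427, -1373506523, -1712309103, -12520, 1348523561, 40434392, -14383982, 625817733, 79126353, -2243])) (.node (.leaf [233269, 216078, 395518, 11451, -1853082, 809052, 44688, 356961, -354, 399127, -1033691, -1280898, 53, 984720, 35359, -11153, 469197, 55479, 3]) (.leaf [22315,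 22907, 41505, 1077, -181551, 79641, 4379, 33095, -25, 41238, -101002, -125742, 0, 94998, 3459, -1052, 45315, 5419, 0]))) (.node (.node (.leaf []) (.leaf [6766294191, 5836477663, 10883540060, 305318263, -51853472496, 22588270310, 1278634719, 10225441500, -4898340, 10704504427, -28969976497, -36023836316, -86676, 27981962348, 926848262, -300309029, 13167087723, 1621864489, -24218])) (.node (.leaf [942063507, 824298288, 1530783527, 42658165, -7262319993, 3164699819, 178681959, 1424697744, -693003, 1511719792, -4056469999, -5042110911, -11281, 3907697447, 131444498, -41950328, 1842913828, 226105487, -3553]) (.leaf [-4292139719, -3245133610, -6297680396, -186678737, 31207189127, -13550758820, -785882010, -6442588689, 2361065, -5953871557, 17472120910, 21807603162, 179476, -17282962029, -493804989, 184111252, -7970502137, -1018982522, 26945]))))) (.node (.node (.node (.node (.node (.leaf []) (.leaf [0, 0, 0, 1, 0, 0, 0, 0, 0, 0, 0, 0, 0, 0, 0, 0, 0, 0, 0])) (.leaf [23100903, 21589560, 39359445, 1058710, -183063787, 79895929, 4460252,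 35039666, -16877, 39561037, -102144981, -126742860, -665, 97189710, 3504004, -1041080, 46313571, 5584507, -88])) (.node (.leaf [-12069, -9218, -17983, -550, 88593, -38502, -2207, -18225, 12, -17049, 49538, 61803, 1, -49003, -1376, 537, -22542, -2854, 0]) (.leaf [-1267830, -1201740, -2185268, -59818, 10130852, -4422744, -245061, -1930884, 1341, -2206587, 5649021, 7005849, -90, -5362698, -196260, 58575, -2561499, -305086, -8]))) (.node (.node (.leaf [2406051949, 1845178407, 3564834612, 105068883, -17588514732, 7639813762, 441885120, 3613765977, -1391235, 3384548669, -9844860480, -12283507446, -89825, 9714428577, 282105167, -103578913, 4489606279, 571584451, -8910]) (.leaf [])) (.node (.leaf [0, 0, 0, 0, 0, 1, 0, 0, 0, 0, 0, 0, 0, 0, 0, 0, 0, 0, 0]) (.leaf [4, -37, -42, 0, 129, -60, -2, 5, 0, -75, 68, 70, 0, -22, -8, 0, -32, -1, 0])))) (.node (.node (.node (.leaf []) (.leaf [11147316, 3082511, 9266179, 405398, -61387420, 26120299, 1745817, 16234008, 2013, 5696808, -34825962, -44454027, -1719, 39443176, 184242, -405525, 16248749,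 2528677, -167])) (.node (.leaf []) (.leaf [96680, 92724, 168389, 4508, -774101, 337975, 18730, 146583, -84, 169441, -431349, -535605, -1, 409164, 14988, -4421, 195499, 23311, -2]))) (.node (.node (.leaf [857469, 1090640, 1842586, 41988, -7837426, 3448436, 182532, 1320402, -574, 1994479, -4354308, -5351913, -91, 3889908, 188924, -41288, 1953135, 216234, -35]) (.leaf [98457105, 86841568, 160898994, 4465509, -761518185, 331912402, 18714024, 148952805, -72720, 159254502, -425305716, -528523726, -1252, 409089786, 13879601, -4391160, 193175109, 23649970, -377])) (.node (.leaf []) (.leaf [92645946, 82283062, 152179219, 4232749, -718953132, 313418270, 17632276, 140304762, -74751, 150955446, -401463678, -498770258, 690, 385669338, 13184892, -4158535, 182328041, 22239345, -153])))))) (.node (.node (.node (.node (.node (.node (.leaf [0, -1, 0, 0, 0, -1, 0, 0, 0, 0, 0, 0, 0, 0, 1, 0, 0, 0, 0]) (.leaf [230655147, 198586315, 370494090, 10372635, -1765837846, 769191453, 43580244, 348407043, -158186, 364139195, -986623443, -1226955708, -5511,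 953289897, 31504763, -10207594, 448413772, 55321649, -1344])) (.leaf [-60182, -45795, -88587, -2665, 438209, -190387, -11018, -90276, 45, -83976, 245407, 306117, 1, -242293, -7012, 2619, -111941, -14259, 0])) (.node (.leaf []) (.leaf [-17, 611, 965, -8, -811, 309, -4, -315, 0, 549, -214, -769, -1, 137, 26, 9, 126, -14, 0]))) (.node (.node (.leaf []) (.leaf [112575, 105822, 192273, 5213, -895680, 391334, 21813, 171086, -87, 194787, -500174, -619298, 4, 474332, 17327, -5130, 226558, 27240, 0])) (.node (.leaf []) (.leaf [-22886, -20931, -37902, -1011, 178076, -77985, -4455, -34259, 0, -38238, 99838, 123404, 1, -94651, -3368, 1011, -45188, -5581, 0])))) (.node (.node (.node (.leaf [-1, -1, 0, 0, 0, 0, 1, 0, 0, 0, 0, 0, 0, 0, 0, 0, 0, 0, 0]) (.leaf [759557271, 6737981, 361145183, 23549816, -3431542733, 1433568878, 108725933, 1084932804, 849180, 18621931, -1972687119, -2563876864, -260615, 2477817130, -29143565, -24073400, 935342396, 170287904, -64981])) (.node (.leaf []) (.leaf [-1321473169, -1256860442, -2280438737, -61153300,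 10562819866, -4612987814, -256697961, -2008817499, 987108, -2307601794, 5893603315, 7304647071, 14088, -5585696147, -205406609, 60122046, -2669561375, -320385519, 30058]))) (.node (.node (.leaf [-1191953, -1513079, -2555964, -58055, 10884865, -4790019, -253893, -1834980, 692, -2769424, 6049558, 7432209, 142, -5402931, -262447, 57168, -2712658, -301144, 53]) (.leaf [238696, 222723, 406480, 11555, -1900929, 830002, 45933, 365043, -315, 411205, -1060562, -1313799, 41, 1008561, 36541, -11279, 481138, 57106, -2])) (.node (.leaf [-3146120591, -2517387959, -4799501141, -138419283, 23389304267, -10170626634, -584423040, -4735595118, 1709469, -4621238664, 13085667944, 16302828717, 145887, -12810296591, -390867014, 136512308, -5957917889, -751519197, 51619]) (.leaf [1250727853, 948735694, 1839201979, 54380146, -9104757916, 3953766087, 229222526, 1877492426, -671959, 1740617269, -5097388115, -6361599373, -57063, 5039167182, 144531034, -53641536, 2325021095, 297117901, -9588]))))) (.node (.node (.node (.node (.node (.leaf []) (.leaf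 [47487580, 42375446, 78254878, 2167126, -369202476, 160967061, 9051277, 71921587, -37289, 77732763, -206155918, -256085357, -29, 197858546, 6800117, -2129728, 93611267, 11410261, -80])) (.leaf [-29, -21, -30, 0, 73, -17, 0, -22, 0, 27, 24, 86, 0, -63, -2, 0, -37, 3, 0])) (.node (.leaf [78, -33, -47, 3, -265, 83, 8, 139, 0, -63, -162, -212, 0, 228, 10, -3, 100, 20, 0]) (.leaf [-30, -34, -42, 0, 71, -10, 0, -24, 0, 36, 18, 104, 1, -70, -1, 0, -38, 0, 0]))) (.node (.node (.leaf [3, 0, -6, 0, 3, 10, 3, 7, 0, -6, -7, -1, 0, 3, -5, 0, 0, -1, 0]) (.leaf [-25120282, 286649810, 368839711, 4020155, -943298071, 439993751, 11730452, -8015841, -672372, 522450400, -500372357, -569867141, 124948, 211505304, 59856628, -3506081, 209225718, -586517, 33350])) (.node (.leaf [-7, 80, 118, -2, -102, 35, 0, -39, 1, 63, -18, -96, 2, 12, 2, 0, 25, -8, 0]) (.leaf [-34, -36, -53, 0, 92, -24, 1, -21, 0, 24, 30, 112, 0, -75, -2, 0, -41, 3, 0])))) (.node (.node (.node (.leaf []) (.leaf [2049922100, 1576237440, 3042658927, 89471572, -14999803930, 6515755174,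 376787577, 3078994812, -1155790, 2891164421, -8395713120, -10474576560, -84966, 8280440020, 241196489, -88219783, 3828267166, 487279579, -11033])) (.node (.leaf [0, 0, 0, 0, 0, 1, 0, 0, 0, 0, 0, 0, 0, 0, 0, 0, 0, 0, 0]) (.leaf [-3001512, -2161009, -4258314, -129436, 21456495, -9307462, -543915, -4503585, 1543, -3977144, 12024613, 15017466, 126, -11987561, -325106, 127762, -5491879, -710145, 5]))) (.node (.node (.leaf [0, 0, 0, 1, 0, 0, 0, 0, 0, 0, 0, 0, 0, 0, 0, 0, 0, 0, 0]) (.leaf [2776501, 2062210, 4020669, 116941, -20004230, 8681837, 507390, 4150152, -668, 3773038, -11206413, -13998648, -369, 11118753, 310664, -115883, 5112706, 661874, -21])) (.node (.leaf []) (.leaf [167909, 159102, 289355, 7816, -1330684, 580790, 32480, 253019, -145, 288409, -741672, -922570, 9, 705684, 25295, -7679, 336585, 40463, 0])))))))) (.node (.node (.node (.node (.node (.node (.node (.node (.leaf []) (.leaf [-46635, -116968, -176155, -492, 597324, -264092, -13689, -65870, -470, -200168, 326832, 404894, 190, -254005, -20422, 758, -143291, -15773,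 14])) (.leaf [959674, 1173361, 2000739, 47526, -8604882, 3781260, 200787, 1476817, -1080, 2144046, -4780244, -5886583, 35, 4310913, 201487, -46461, 2149920, 238639, -20])) (.node (.leaf []) (.leaf [10, -48, -98, 0, 252, -113, 1, -3, 0, -132, 124, 139, 0, -84, -8, 0, -36, -2, 0]))) (.node (.node (.leaf [1052, 1418, 2843, 54, -11770, 5217, 216, 1698, 0, 3498, -6464, -7537, 0, 5634, 269, -54, 2638, 340, 0]) (.leaf [-1549273307, -1219436221, -2336855036, -68010789, 11440721052, -4972601521, -286385052, -2329755030, 898566, -2236934680, 6401449503, 7980887301, 60565, -6287003683, -188122910, 67040573, -2916834152, -369021972, 11086])) (.node (.leaf [11, -48, -72, 0, 62, -35, 0, 31, 0, -60, 18, 42, 0, 6, 0, 0, -8, 7, 0]) (.leaf [1017923169, 724610785, 1433943177, 43705373, -7238028914, 3138557938, 183918400, 1524339174, -502703, 1330711990, -4056390030, -5070448347, -46329, 4054005740, 107959751, -43146685, 1853351726, 240654822, -9656])))) (.node (.node (.node (.node (.leaf []) (.leaf [0, 0, 0, 0, 0, 0, 0, 1, 0, 0, 0, 0, 0, 0,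 0, 0, 0, 0, 0])) (.leaf [95304554, 83099334, 154473677, 4312336, -733683299, 319682313, 18061206, 144123507, -69871, 152409039, -409828435, -509460030, -1063, 395059707, 13240846, -4241025, 186215639, 22867830, -377])) (.node (.leaf [-217408198, -189581507, -352406283, -9830666, 1673622933, -729256758, -41202160, -328725166, 157711, -347711675, 934889488, 1162134879, 3154, -901148706, -30205659, 9668992, -424765464, -52172905, 809]) (.leaf [1278476, 1300875, 2318546, 60944, -10527229, 4604836, 252429, 1951317, -1312, 2384416, -5865326, -7258383, 51, 5489053, 215975, -59684, 2653725, 310336, 1]))) (.node (.node (.leaf [59012, 58335, 105718, 2771, -477127, 208541, 11484, 89019, -44, 106083, -265554, -330114, 0, 251046, 9249, -2727, 119998, 14278, 0]) (.leaf [83257746, 73386401, 135996449, 3789063, -643944235, 280672070, 15818364, 126008577, -64680, 134620634, -359640641, -446898394, -14, 345960450, 11733194, -3724159, 163363370, 19981369, -210])) (.node (.leaf [-1601286971, -1339882799, -2520615293, -71397844, 12117954656,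 -5274893864, -300495732, -2415440205, 1015400, -2457853784, 6774061292, 8430306711, 51109, -6579134652, -210844637, 70316910, -3081014719, -383388160, 14426]) (.leaf [-38753, 125779, 147694, -2607, -241076, 116961, 2382, -57300, 529, 215207, -122065, -135420, -201, -18075, 25535, 2297, 44096, -2161, -18]))))) (.node (.node (.node (.node (.node (.leaf []) (.leaf [19639935, 17500617, 32338993, 899756, -152646549, 66549798, 3740394, 29755680, -16335, 32111643, -85231317, -105877611, 288, 81828750, 2807562, -883695, 38705978, 4713857, -14])) (.leaf [])) (.node (.leaf []) (.leaf [-184301326, -162524873, -301146568, -8389485, 1425735593, -621432848, -35019586, -278945749, 143502, -298136967, 796260125, 989441802, -52, -765908955, -25988336, 8245581, -361690090, -44231780, 454]))) (.node (.node (.leaf [-3828803, -3540286, -6486474, -188272, 30391586, -13267626, -732435, -5858136, 6018, -6537753, 16951109, 21010146, -918, -16157712, -578795, 183246, -7695436, -909201, -73]) (.leaf [-3, 2, 4, 0, -2, 2, 1, -3, 0, 6, -1, 0, 0, -3, 0,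 0, -1, 0, 0])) (.node (.leaf [-3, -7, 0, -1, -3, 1, 0, 0, 0, 3, 0, 4, 1, 2, 0, 0, -2, -2, 0]) (.leaf [-663764, -630890, -1146633, -31260, 5293744, -2310652, -128192, -1007139, 705, -1152045, 2950435, 3664124, -43, -2802885, -102114, 30597, -1338786, -159432, 1])))) (.node (.node (.node (.leaf []) (.leaf [148010511, 128855949, 239636620, 6690799, -1138632930, 496121129, 28038192, 223781487, -107367, 236334622, -636057445, -790704731, -2110, 613291516, 20521184, -6580787, 289008734, 35512613, -535])) (.node (.leaf []) (.leaf [-68995909, -57748387, -108636793, -3090697, 522343632, -227375458, -12939873, -104130759, 48076, -105951512, 291969977, 363353736, 1035, -283573947, -9092564, 3041376, -132819073, -16495196, 210]))) (.node (.node (.leaf []) (.leaf [])) (.node (.leaf [-22886, -20935, -37910, -1011, 178077, -77987, -4455, -34253, 0, -38244, 99838, 123404, 0, -94647, -3367, 1011, -45186, -5581, 0]) (.leaf [27504315, 37586517, 62622401, 1452721, -261859308, 115388343, 5959758, 42887339, -42900, 68858927, -145167439, -178069398,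 3382, 127899182, 6620559, -1413583, 65098565, 6888090, 380])))))) (.node (.node (.node (.node (.node (.node (.leaf []) (.leaf [1057163708, 921052990, 1712550579, 47775355, -8134586923, 3544395698, 200307156, 1598257140, -763074, 1689047551, -4544012481, -5648923228, -16486, 4380906512, 146673057, -46991183, 2064648461, 253689179, -4611])) (.leaf [73250, 69440, 126356, 3490, -582700, 254269, 14088, 111014, -88, 126435, -324699, -403604, 6, 308832, 11238, -3408, 147429, 17517, 0])) (.node (.leaf [232832080, 176173922, 341778414, 10099974, -1693089087, 735179282, 42655095, 349404165, -120090, 323178655, -947949905, -1183152699, -11918, 937526390, 26809210, -9965924, 432394030, 55323649, -2042]) (.leaf [-95326626, -77091561, -146514366, -4211624, 711425122, -309421853, -17736312, -143513275, 57438, -141380528, 397899303, 495705537, 3537, -388887078, -11994123, 4149964, -181160559, -22755197, 685]))) (.node (.node (.leaf [0, 0, 0, 2, 0, -1, 0, 0, -2, 0, 2, 0, 0, 0, 0, 0, 0, 0, 0]) (.leaf [2110509245, 1620537362, 3129566243, 92094132,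 -15434875917, 6704521410, 387792474, 3169830800, -1189688, 2972468487, -8639411318, -10779024217, -87039, 8522922642, 247858778, -90806128, 3939554091, 501615053, -11277])) (.node (.leaf [-17919343, -15879080, -29384655, -817629, 138919448, -60557041, -3408726, -27132474, 14277, -29130700, 77576966, 96385410, -87, -74554626, -2542891, 803405, -35234098, -4301346, 34]) (.leaf [1509529, 1575872, 2789355, 67436, -12491952, 5461510, 301326, 2284506, -471, 2860356, -6955246, -8624268, -306, 6487666, 259710, -66639, 3144154, 372450, -20])))) (.node (.node (.node (.leaf []) (.leaf [5020529, 5436239, 9541422, 242657, -42543583, 18637743, 1009977, 7690409, -5208, 9963969, -23679676, -29250093, 162, 21888546, 915169, -237615, 10690956, 1228262, 4])) (.node (.leaf [-1052, -758, -1439, -45, 7562, -3269, -199, -1614, 0, -1377, 4241, 5292, 0, -4218, -117, 45, -1967, -250, 0]) (.leaf [-1110299102, -712507223, -1460746682, -46294643, 7603129947, -3288562222, -196282254, -1654038837, 396969, -1307316724, 4267539948, 5350694214, 84317, -4340463145,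 -101525909, 45804061, -1955415585, -260869753, 9296]))) (.node (.node (.leaf [9, -23, -43, 0, 123, -59, 0, -3, 0, -69, 63, 63, 0, -36, -4, 0, -18, 1, 0]) (.leaf [181, -76, -132, 2, -678, 316, 36, 291, 1, 10, -519, -447, -3, 462, 28, 0, 208, 68, 0])) (.node (.leaf [-888407565, -703296649, -1345405485, -39122383, 6575415101, -2858339836, -164385999, -1336432653, 545145, -1289977515, 3678658587, 4585724622, 28118, -3609373837, -108696255, 38545818, -1676085796, -211551173, 3302]) (.leaf [-804632, -845815, -1495822, -38738, 6726547, -2944436, -160339, -1230770, 851, -1550457, 3745347, 4630919, -29, -3483265, -141472, 37920, -1692801, -195999, -4]))))) (.node (.node (.node (.node (.node (.leaf []) (.leaf [0, 0, 0, 1, 0, 0, 0, 0, 0, 0, 0, 0, 0, 0, 0, 0, 0, 0, 0])) (.leaf [471897, 367861, 707055, 20395, -3469565, 1507518, 87136, 708681, -208, 674252, -1941758, -2422003, -47, 1910601, 56452, -20139, 884744, 112617, -1])) (.node (.leaf [427065, 544042, 918874, 20915, -3906633, 1718962, 90954, 657711, -283, 994906, -2170353, -2667513,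 -46, 1938306, 94257, -20569, 973469, 107710, -17]) (.leaf [-6732958143, -5807040818, -10829015615, -303805182, 51595501212, -22475828911, -1272296901, -10175002848, 4873512, -10650520035, 28825904415, 35844804688, 86305, -27843411336, -922141938, 298821270, -13101651473, -1613857055, 24095]))) (.node (.node (.leaf []) (.leaf [-3363697569, -1917012666, -4104964382, -136373326, 22144754723, -9552575270, -581579988, -4987854066, 721361, -3519821648, 12452231910, 15659266455, 338895, -12903046083, -257966613, 135266027, -5722159965, -785694073, 47043])) (.node (.leaf [0, 1, -1, 2, 0, -1, 0, 0, -2, 0, 2, 0, 0, 0, -1, 0, 0, 1, 0]) (.leaf [15948186, 17406572, 30490044, 772198, -135637098, 59432371, 3216218, 24438744, -16674, 31899738, -75486212, -93222933, 518, 69664455, 2935171, -756045, 34072556, 3905561, 3])))) (.node (.node (.node (.leaf [-612239274, -533193264, -991528333, -27699132, 4710611533, -2052508198, -115979727, -925707741, 449814, -977887729, 2631364657, 3271167582, 6896, -2537090703, -84910784, 27240164, -1195639956,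 -146871807, 2258]) (.leaf [8374, 8737, 15623, 393, -71106, 31262, 1671, 12968, -10, 16645, -39648, -48572, 0, 36684, 1480, -383, 17777, 2030, 0])) (.node (.leaf [1239441848, 1622444033, 2727559457, 64707243, -11540480513, 5080007133, 264471546, 1926920358, -1909755, 2973106879, -6402030876, -7863029973, 161182, 5692224530, 283728682, -62980196, 2875020124, 308353048, 21526]) (.leaf [30, -73, -148, 4, 373, -154, 4, 4, 1, -203, 164, 198, -1, -111, -17, -3, -57, 5, -1]))) (.node (.node (.leaf [8, -36, -49, 0, 34, -21, 0, 25, 0, -42, 9, 24, 0, 12, 0, 0, -4, 4, 0]) (.leaf [-2438540, -1708955, -3396570, -103803, 17229093, -7470430, -439258, -3645385, 1029, -3138763, 9660917, 12076821, 153, -9675524, -253236, 102616, -4414913, -576150, 5])) (.node (.leaf []) (.leaf [-489079349, -370510211, -718496565, -21188595, 3558426006, -1545243672, -89677443, -734007648, 235317, -679949471, 1992478594, 2486456997, 28628, -1969864614, -56433357, 20917556, -908638102, -116339757, 7095]))))))) (.node (.node (.node (.node (.node (.node (.node (.leaf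 []) (.leaf [-193, -136, -225, -8, 1510, -654, -39, -342, 0, -294, 868, 1024, -1, -803, -45, 9, -412, -41, 0])) (.leaf [566896, 622495, 1088780, 27478, -4834804, 2118840, 114549, 868902, -595, 1140743, -2690495, -3322050, 18, 2479914, 105074, -26901, 1214135, 138951, 0])) (.node (.leaf [-54030020, -46520004, -86789052, -2427990, 413626380, -180173407, -10209777, -81606339, 36480, -85297387, 231107043, 287404575, 1446, -223296888, -7379352, 2389685, -105033448, -12962162, 379]) (.leaf [144, 171, 264, 3, -1265, 540, 35, 241, 0, 276, -696, -886, 0, 647, 33, -3, 342, 31, 0]))) (.node (.node (.leaf [5, 58, 85, 0, 229, -115, 3, -60, 0, -114, 166, 30, 0, -66, -25, 0, -49, -7, 0]) (.leaf [-3629470, -2211870, -4619974, -151039, 24442049, -10564463, -634416, -5400183, 1440, -4069442, 13732071, 17228889, 234, -14074124, -308713, 149370, -6298634, -847996, -5])) (.node (.leaf []) (.leaf [-5633686, -6101577, -10708210, -272289, 47746434, -20917035, -1133439, -8630328, 5853, -11184030, 26575630, 32826519, -180, -24563880, -1027443, 266622,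 -11998398, -1378392, -6])))) (.node (.node (.node (.leaf [-938444, -1151957, -1961423, -45570, 8426161, -3704157, -197340, -1441908, 626, -2106980, 4684046, 5763264, 90, -4215729, -198328, 44819, -2103547, -235425, 35]) (.leaf [-22315, -22906, -41505, -1077, 181551, -79641, -4379, -33095, 25, -41238, 101002, 125742, 0, -94998, -3459, 1052, -45315, -5419, 0])) (.node (.leaf [11523, 9408, 17856, 686, -88642, 38727, 2109, 18015, -45, 17985, -49587, -61131, 11, 48042, 1561, -651, 22609, 2599, -1]) (.leaf [-268584556, -231866205, -432262985, -12112870, 2058861459, -896881148, -50767680, -405874065, 192811, -425213370, 1150246860, 1430322735, 4092, -1110867426, -36825516, 11914929, -522784429, -64393625, 1038]))) (.node (.node (.leaf []) (.leaf [])) (.node (.leaf [1038869077, 806918404, 1552907071, 45663681, -7631045645, 3315508419, 191160555, 1561320555, -683811, 1479155346, -4269821722, -5326666665, -22259, 4204792659, 123817306, -44963790, 1947106300, 246576344, 6179]) (.leaf [-476884917, -388429287, -736663460, -21151033, 3569669678,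 -1552797966, -88848264, -718377408, 306150, -712359288, 1996163727, 2486407335, 13469, -1948556500, -60586752, 20829654, -908764631, -113815402, 1761]))))) (.node (.node (.node (.node (.node (.leaf [2126410, 1959925, 3594436, 105091, -16864308, 7362189, 406239, 3255336, -3480, 3622000, -9406505, -11658075, 555, 8970882, 320474, -102212, 4271010, 504092, 46]) (.leaf [-259180819, -229161146, -424317322, -11817255, 2007402883, -875020797, -49277534, -392385660, 205084, -420416037, 1121054967, 1392911809, -993, -1077796139, -36675996, 11612610, -509190599, -62204994, 554])) (.leaf [-36826717, -25508739, -50936547, -1563734, 259087316, -112261856, -6613584, -55038720, 16272, -46788681, 145251430, 181750551, 2282, -145877253, -3753257, 1544949, -66423134, -8692571, 231])) (.node (.leaf []) (.leaf [-1139456840, -947654152, -1786121416, -50911528, 8602269517, -3743920431, -213341229, -1718632029, 782673, -1738078914, 4808726339, 5986017249, 20883, -4676222736, -148820015, 50105133, -2187984628, -272270566, 2839]))) (.node (.node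 (.leaf [-100578402, -88812594, -164501401, -4568866, 778358523, -339263268, -19120761, -152193954, 75825, -162880551, 434697843, 540172020, 816, -418038362, -14201119, 4491891, -197440488, -24154481, 334]) (.leaf [32, 5, 25, -1, -51, 10, 1, 12, 0, -30, -15, -62, 1, 56, 0, 0, 24, 0, 0])) (.node (.leaf [19779461, 15915326, 30294816, 872870, -147330332, 64072298, 3676452, 29772447, -11652, 29193907, -82410615, -102676890, -753, 80613660, 2472205, -860261, 37523471, 4720933, -204]) (.leaf [-2388770, -2514479, -4444766, -114844, 19985461, -8748819, -476348, -3654855, 2469, -4610952, 11128456, 13757311, -79, -10345355, -421049, 112467, -5029089, -582286, -13])))) (.node (.node (.node (.leaf [-10558, 931, -4403, -1447, 59384, -25946, -1092, -19362, 255, -2922, 33679, 40218, -82, -40067, 93, 1281, -16334, -1036, -7]) (.leaf [-27105235, -32807485, -56092725, -1354147, 242342195, -106460791, -5648781, -41821122, 31185, -60101507, 134645460, 165770718, -1077, -121663212, -5650163, 1323892, -60576905, -6720931, 147])) (.node (.leaf [-2030964428,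 -1675804438, -3165940972, -90502449, 15282978747, -6650212018, -379529616, -3061809036, 1365891, -3073434709, 8544371898, 10638787083, 43678, -8321003800, -262492907, 89087642, -3888574595, -485040250, 5238]) (.leaf [7342, 5768, 11074, 315, -54835, 23807, 1362, 11169, 0, 10800, -30673, -38118, 0, 30071, 917, -315, 13964, 1772, 0]))) (.node (.node (.leaf []) (.leaf [-10549, 924, -4415, -1448, 59391, -25948, -1092, -19356, 255, -2937, 33679, 40220, -82, -40060, 90, 1281, -16333, -1033, -6])) (.node (.leaf [0, -2, 0, 0, -2, 0, 0, 0, 0, 0, 0, 0, 0, 2, 0, 0, 0, 0, 0]) (.leaf [1599375, 1574536, 2832508, 74607, -12985680, 5673529, 313278, 2437828, -1316, 2888990, -7238155, -8967037, -12, 6819823, 259412, -73256, 3276898, 388633, -23])))))) (.node (.node (.node (.node (.node (.node (.leaf []) (.leaf [45075, 43069, 78153, 2119, -360387, 157287, 8720, 68441, -48, 78669, -200858, -249399, 2, 190600, 7008, -2073, 91115, 10857, 1])) (.leaf [])) (.node (.leaf []) (.leaf [1267830, 1201734, 2185259, 59819, -10130853, 4422742, 245061, 1930890,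 -1341, 2206581, -5649021, -7005849, 90, 5362704, 196260, -58575, 2561501, 305087, 7]))) (.node (.node (.leaf [-3, 2, 0, 0, -1, 0, 0, 0, 0, 3, 0, 0, 0, -2, 0, 0, 0, 0, 0]) (.leaf [0, 0, 0, 1, 0, 0, 0, 0, 0, 0, 0, 0, 0, 0, 0, 0, 0, 0, 0])) (.node (.leaf [-361886228, -319281665, -591515811, -16412462, 2799309582, -1220101029, -68790054, -547485591, 266940, -585501922, 1563396855, 1942817236, 4753, -1503718353, -51031917, 16139369, -710093876, -86931309, 1400]) (.leaf [-2983356, -2542714, -4771611, -146131, 22919768, -9984924, -557415, -4555092, 5076, -4704850, 12795637, 15896706, -863, -12388198, -407516, 141992, -5826070, -700120, -74])))) (.node (.node (.node (.leaf [-3212, -2424, -4653, -141, 23098, -10038, -588, -4773, 3, -4395, 12965, 16170, 0, -12780, -378, 138, -5923, -763, 0]) (.leaf [-3985270, -3108429, -5973822, -175125, 29338471, -12749901, -735069, -5993952, 2326, -5706820, 16418785, 20471016, 138, -16148991, -478665, 172640, -7482773, -948086, 21])) (.node (.leaf [0, 3, 5, 0, -2, 0, 0, 0, 0, 0, 0, -5, 0, 2, 0, 0,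 0, 0, 0]) (.leaf [-3822765284, -2861308426, -5570691689, -165898722, 27684698775, -12018049813, -698109318, -5734758672, 2120054, -5248125205, 15501638425, 19355304834, 157405, -15362382294, -433662201, 163609386, -7074308091, -906452662, 11878]))) (.node (.node (.leaf [-17, 56, 84, -6, 130, -12, -1, -108, 0, 69, 57, 85, 0, -138, -2, 6, -61, -6, 0]) (.leaf [13331, 12039, 21585, 629, -98535, 42882, 2540, 19499, -14, 19554, -54911, -69782, -1, 53532, 1672, -614, 25450, 3016, 0])) (.node (.leaf []) (.leaf [1638433, 910909, 1965730, 65445, -10687403, 4610973, 282297, 2422263, -141, 1673093, -6015945, -7564053, -213, 6250059, 121001, -65083, 2764401, 382643, -8]))))) (.node (.node (.node (.node (.node (.leaf [0, -1, 0, 0, -1, 0, 0, 0, 0, 0, 0, 0, 0, 1, 0, 0, 0, 0, 0]) (.leaf [234839, 665497, 982552, -276, -3224986, 1431783, 74820, 320226, 3236, 1133654, -1766775, -2180235, -1188, 1324040, 117066, -1666, 768190, 85993, -106])) (.leaf [])) (.node (.leaf []) (.leaf [-687783764, -528022725, -1019787180, -30056799, 5030017260, -2184920612,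 -126342774, -1033117953, 401661, -968565463, 2815408293, 3512677368, 24523, -2777572545, -80763847, 29628116, -1283898100, -163387993, 2499]))) (.node (.node (.leaf [-3236, -2488, -4785, -141, 23328, -10142, -588, -4767, 3, -4485, 13073, 16338, 0, -12879, -383, 138, -5964, -764, 0]) (.leaf [2, 0, 0, 2, 0, 1, 0, 0, -2, 0, 0, 0, 0, 0, 0, 0, 0, 0, 0])) (.node (.leaf [-4282266993, -3542226291, -6687327177, -191210102, 32254631600, -14035765950, -800356497, -6456618951, 3014794, -6494666658, 18030894305, 22451147640, 65001, -17553535037, -555094816, 188137553, -8206465993, -1022087573, -7246]) (.leaf [1694858, 1092541, 2235955, 70842, -11624253, 5030245, 299808, 2524686, -627, 2006901, -6525626, -8177163, -131, 6628817, 156128, -70086, 2988621, 398051, 2])))) (.node (.node (.node (.leaf [-10, 63, 91, 0, -80, 33, 0, -32, 0, 57, -15, -69, 0, 6, 0, 0, 17, -7, 0]) (.leaf [])) (.node (.leaf []) (.leaf [-113906, -86567, -167560, -5032, 829630, -360410, -20859, -171024, 84, -158871, 464576, 579504, 1, -458830, -13249, 4947, -211930,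 -26984, 0]))) (.node (.node (.leaf [0, 0, -1, 0, 1, 0, 0, 0, 0, 0, 0, 1, 0, -1, 0, 0, 0, 0, 0]) (.leaf [-525465812, -185401123, -490219857, -19790221, 3033555951, -1295383513, -84025455, -767477643, 84005, -337917984, 1714802889, 2183354208, 57212, -1897507416, -16477426, 19668373, -798149325, -119167271, -19368])) (.node (.leaf [-2887983, -1887682, -3846508, -122549, 19937809, -8628092, -512031, -4315302, 1420, -3472775, 11186671, 14013084, 102, -11340990, -272483, 121033, -5124106, -677524, -6]) (.leaf [84766973, 55010000, 112316990, 3529077, -582728965, 252124761, 15034222, 126317632, -25431, 100982752, -327076148, -409894337, -7642, 331974553, 7883205, -3494681, 149778078, 19964910, -1323])))))))))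

def threeL14 : Janko.Tree (List ℤ) :=
  (.node (.node (.node (.node (.node (.node (.node (.node (.node (.leaf []) (.leaf [-501200725, -397984440, -760577483, -22009007, 3713475509, -1614359350, -92861553, -753854826, 283239, -729939431, 2077573296, 2589575809, 22473, -2037188385, -61563904, 21699170, -946366800, -119522019, 4125])) (.leaf [])) (.node (.leaf [-28749, -26876, -48881, -1359, 228649, -99774, -5550, -43863, 42, -49482, 127603, 158121, 0, -121260, -4435, 1317, -57907, -6937, 0]) (.leaf [3576260571, 2339840965, 4764555851, 149815279, -24657650371, 10670053253, 634792705, 5332478289, -1334187, 4294110341, -13836307719, -17338180053, -259963, 14027414442, 336391904, -148186711, 6336333315, 841401741, -34418]))) (.node (.node (.leaf []) (.leaf [-570268496, -362990353, -746311694, -23722080, 3894787888, -1684342229, -100691899, -849367750, 188254, -666374880, 2186514772, 2741715497, 45718, -2226503361, -51575602, 23481059, -1001947175, -134005971, 7049])) (.node (.leaf [-4, 33, 49, 0, -49, 11, 0, -11, 0, 21, -6, -48,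 0, 15, 0, 0, 13, -2, 0]) (.leaf [4, 49, 74, 9, -110, 65, 2, -24, -4, 90, -68, -64, 1, -1, 12, -6, 21, -1, 0])))) (.node (.node (.node (.node (.leaf []) (.leaf [0, 0, 0, 0, 1, 0, 0, 0, 0, 0, 0, 0, 0, 0, 0, 0, 0, 0, 0])) (.leaf [916495978, 696457772, 1349325979, 39818491, -6675597005, 2899003287, 168052227, 1375680786, -482730, 1277583948, -3737330209, -4664099374, -45165, 3693492126, 106142414, -39283354, 1704558283, 217800271, -7242])) (.node (.leaf []) (.leaf [-2071066481, -1688611751, -3201532387, -91966597, 15509969066, -6747038175, -385920776, -3120302375, 1354202, -3097078758, 8673014188, 10802527618, 51224, -8464538417, -263507898, 90554694, -3948392517, -494214774, 6477]))) (.node (.node (.leaf [0, 0, -1, 0, -1, 0, 0, 0, 0, 0, 0, 0, 0, 0, 0, 0, 1, 0, 0]) (.leaf [-1792071422, -843389557, -1950993802, -69811568, 11141208621, -4786192521, -300129861, -2640007299, 52802, -1549686016, 6281841796, 7936173480, 239153, -6692107228, -100785987, 69485632, -2899608793, -415005931, 33981])) (.node (.leaf []) (.leaf [3934216810,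 3006693495, 5815075876, 171533745, -28722216079, 12474963823, 722136221, 5908068414, -2202723, 5515950659, -16078169381, -20061880878, -160715, 15873992946, 459218931, -169146563, 7332403363, 934767715, -23745]))))) (.node (.node (.node (.node (.node (.leaf [0, -12, -13, 0, 32, -5, 0, -12, 0, 3, 9, 36, 0, -24, 0, 0, -11, 0, 0]) (.leaf [0, 0, 3, 1, 1, 0, 0, 0, 0, 0, 0, 0, 0, 0, 0, -1, -1, 0, 0])) (.leaf [-368, -384, -657, -18, 3380, -1472, -79, -622, 0, -821, 1891, 2247, 0, -1695, -89, 18, -864, -96, 0])) (.node (.leaf [205, -39, -64, 12, -1079, 430, 38, 408, 0, 21, -672, -747, 0, 717, 31, -12, 341, 62, 0]) (.leaf [0, 0, 0, 0, 1, 0, 0, 0, 0, 0, 0, 0, 0, 0, 0, 0, 0, 0, 0]))) (.node (.node (.leaf [7604196, 7844931, 13921184, 354041, -62889794, 27514713, 1510419, 11580486, -5725, 14349689, -35039065, -43357710, -402, 32698875, 1303887, -347924, 15841488, 1859003, 10]) (.leaf [476884943, 388429216, 736663347, 21151036, -3569669608, 1552797915, 88848265, 718377474, -306150, 712359174, -1996163706, -2486407300, -13469, 1948556538,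 60586750, -20829657, 908764637, 113815411, -1761])) (.node (.leaf []) (.leaf [3, 0, 0, 0, 1, 1, 0, 0, 0, -1, -1, 0, 0, 0, 0, 0, 0, 0, 0])))) (.node (.node (.node (.leaf [0, 0, -1, -1, 0, 0, 0, 0, 0, 0, 0, 0, 0, 0, 0, 1, 0, 0, 0]) (.leaf [3395, 2547, 4822, 143, -24085, 10479, 624, 4989, -3, 4566, -13571, -16895, 1, 13311, 412, -141, 6208, 809, 0])) (.node (.leaf []) (.leaf [893848033, 777292055, 1446211831, 40578993, -6873720847, 2994856241, 169123972, 1351721961, -712784, 1425371346, -3839352528, -4773490731, 3705, 3703353548, 123717451, -39872744, 1744990653, 214064373, 2830]))) (.node (.node (.leaf [24, 0, -4, 0, 44, -24, 0, 0, 0, -48, 24, 0, 0, 0, 0, 0, 4, 0, 0]) (.leaf [1398035, 898027, 1838092, 57839, -9571532, 4142257, 247483, 2080363, -365, 1649827, -5375343, -6734066, -132, 5460330, 128358, -57339, 2461466, 328990, -3])) (.node (.leaf [-408, -339, -598, -18, 2948, -1308, -76, -588, 0, -639, 1711, 2050, 0, -1557, -78, 18, -752, -104, 0]) (.leaf [-13880099, -15104757, -26477118, -671617, 117891770, -51652944, -2796639,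 -21267562, 14484, -27683796, 65613612, 81036303, -450, -60588618, -2545839, 657591, -29619047, -3397954, -8])))))) (.node (.node (.node (.node (.node (.node (.leaf []) (.leaf [75365951, 66981560, 123858364, 3443067, -585004609, 255026698, 14345859, 114134481, -60744, 122874521, -326660068, -405838217, 512, 313776536, 10733750, -3382708, 148353338, 18092789, -127])) (.leaf [-914, -1142, -2109, -45, 9435, -4123, -185, -1531, 0, -2577, 5207, 6177, 0, -4602, -248, 45, -2256, -264, 0])) (.node (.leaf [-75782, -71210, -129934, -3630, 602298, -262842, -14571, -115143, 94, -130298, 335700, 416910, -6, -319602, -11521, 3543, -152393, -18126, -1]) (.leaf [-2238048424, -1531209348, -3069990712, -94388591, 15678198834, -6791827246, -401396195, -3343087570, 780492, -2811326295, 8793077992, 11003216755, 181170, -8846335386, -224456996, 93386087, -4020698775, -529027053, 40842]))) (.node (.node (.leaf [376, 387, 727, 18, -3465, 1517, 75, 612, 0, 870, -1933, -2295, 0, 1749, 84, -18, 846, 103, 0]) (.leaf [44850, 42348, 77007, 2096, -358325,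 156446, 8676, 68397, -46, 78045, -199922, -247674, 2, 189678, 6970, -2052, 90601, 10829, 0])) (.node (.leaf [-118485446, -101178409, -189222541, -5348036, 904458652, -393915174, -22329624, -179033875, 88180, -185632489, 505393254, 628580817, 408, -489045084, -16028108, 5259097, -229781702, -28358588, 351]) (.leaf [-33185324, -29276559, -54240211, -1504900, 256692040, -111880967, -6308024, -50204190, 24460, -53687935, 143361014, 178153506, 445, -137890062, -4679306, 1479867, -65114468, -7971829, 128])))) (.node (.node (.node (.leaf [0, 0, 0, 0, 1, 0, 0, 0, 0, 0, 0, 0, 0, 0, 0, 0, 0, 0, 0]) (.leaf [-5, -3, -11, 0, 22, -1, 0, -4, 0, 8, 2, 24, 0, -21, 0, 0, -9, 0, 0])) (.node (.leaf [0, 0, 0, -1, 0, 0, 0, 0, 0, 0, 0, 0, 0, 0, 0, 1, 0, 0, 0]) (.leaf [-58946159, -47728747, -90681031, -2623813, 440432214, -191565609, -10963213, -88843943, 40655, -87596533, 246309193, 306806534, 638, -240673842, -7441370, 2582403, -112162381, -14047178, 117]))) (.node (.node (.leaf [-5, 18, 40, -1, -118, 50, -1, 8, 1, 54, -56, -66, 0, 45, 4, 0, 19,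 -1, 0]) (.leaf [-74, -55, -56, -3, -53, 15, -2, 3, 1, 87, -15, 72, 0, -21, 6, 2, -13, -7, 0])) (.node (.leaf [0, 0, 0, 0, 1, 0, 0, 0, 0, 0, 0, 0, 0, 0, 0, 0, 0, 0, 0]) (.leaf [468, 198, 424, 16, -3401, 1424, 78, 849, 2, 552, -1948, -2310, 0, 1944, 90, -18, 905, 124, 0]))))) (.node (.node (.node (.node (.node (.leaf []) (.leaf [-19611660, -17363597, -32143825, -895400, 151990168, -66250951, -3729039, -29695603, 15842, -31852504, 84872965, 105459366, -168, -81586905, -2779657, 879715, -38550658, -4705982, 11])) (.leaf [0, 0, 0, 0, 1, 0, 0, 0, 0, 0, 0, 0, 0, 0, 0, 0, 0, 0, 0])) (.node (.leaf [3203891933, 3370259894, 5958260322, 154407577, -26788035041, 11726834932, 638187596, 4900347481, -3558611, 6176046128, -14914914527, -18441841783, 176471, 13869671673, 563546149, -151065302, 6742159728, 779410355, 39865]) (.leaf [-1695912, -1618641, -2938301, -79097, 13576220, -5926914, -328683, -2579127, 1560, -2966691, 7568853, 9389725, -33, -7178592, -263776, 77570, -3430915, -409391, 0]))) (.node (.node (.leaf [-1722040, -1600021, -2927589,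 -84105, 13686585, -5975046, -330024, -2632365, 2553, -2951285, 7633161, 9462354, -363, -7270542, -261404, 81943, -3464487, -409848, -28]) (.leaf [-1880221264, -1830554881, -3300952610, -87995755, 15181205307, -6633352677, -366977104, -2861926808, 1660975, -3357836245, 8465300446, 10487979452, -26497, -7989726961, -300694009, 86351538, -3833634175, -455491696, 9739])) (.node (.leaf [-85, 139, 247, 0, -727, 339, -6, -39, 0, 510, -380, -306, 0, 123, 50, 0, 94, 6, 0]) (.leaf [0, -3, -4, 0, 0, -1, 0, 3, 0, -3, 0, 0, 0, 3, 0, 0, 1, 0, 0])))) (.node (.node (.node (.leaf [1, 0, 0, 2, 0, 0, 0, 0, -2, 0, 1, 0, 0, 0, 0, 0, 0, 0, 0]) (.leaf [7649356, 8352398, 14628785, 370401, -65069106, 28511685, 1542814, 11721946, -7991, 15306538, -36212663, -44721048, 243, 33417039, 1408554, -362656, 16345364, 1873338, 3])) (.node (.leaf [2156575393, 1046319032, 2389566218, 84642312, -13523309184, 5813166109, 362760252, 3180242325, -171824, 1921975216, -7621381362, -9622187565, -265839, 8085654621, 127719499, -84171384, 3515889838, 499740484, -33265])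 (.leaf [-2414696, -1500896, -3112905, -102564, 16422341, -7101652, -423724, -3610080, 1366, -2776233, 9223368, 11555657, 12, -9417150, -213899, 101198, -4228954, -563675, -12]))) (.node (.node (.leaf [-449, -234, -480, -18, 3427, -1447, -78, -817, 0, -615, 1959, 2322, 0, -1920, -90, 18, -892, -124, 0]) (.leaf [3276, 2318, 4494, 144, -23155, 9998, 589, 4935, -2, 4203, -13001, -16253, -1, 12967, 381, -141, 5986, 782, 0])) (.node (.leaf [-11, -3, -7, 0, -7, 0, 0, 2, 0, 10, 0, 6, 0, -3, 0, 0, 0, -1, 0]) (.leaf [-1237819868, -1084558464, -2013362768, -56133039, 9548592011, -4161153933, -234840236, -1872382020, 927196, -1989223126, 5333338055, 6628847487, 9835, -5136415374, -173043248, 55191944, -2422964132, -297050432, 4064]))))))) (.node (.node (.node (.node (.node (.node (.node (.leaf []) (.leaf [0, 0, 2, 1, 0, 0, 0, 0, 0, 0, 0, 0, 0, 0, 0, -1, 0, 0, 0])) (.leaf [-406923, -181326, -435093, -20637, 2560629, -1101414, -65733, -618099, 1180, -350563, 1440139, 1811727, -309, -1541571, -22788, 19800, -668255, -88169, -34])) (.node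 (.leaf [-51936, -50863, -92199, -2457, 418493, -182723, -10080, -78508, 55, -92451, 232920, 289668, 0, -220602, -8123, 2402, -105440, -12563, 0]) (.leaf [0, 0, 0, 0, 1, 0, 0, 0, 0, 0, 0, 0, 0, 0, 0, 0, 0, 0, 0]))) (.node (.node (.leaf [-15642, -15453, -27960, -725, 126303, -55213, -3048, -23582, 8, -28014, 70278, 87411, 0, -66480, -2430, 717, -31809, -3761, 0]) (.leaf [-11243194, -11717168, -20770208, -543043, 93665870, -40988244, -2232408, -17205570, 13032, -21482710, 52150850, 64504452, -783, -48597174, -1956919, 530929, -23585329, -2730138, -135])) (.node (.leaf [-4, -6, -10, 1, 15, 6, 0, -5, 0, 12, -3, 24, 0, -18, 0, 0, -8, -1, -1]) (.leaf [-3604448, -5216721, -8588960, -189582, 35324997, -15588835, -800310, -5627222, 4492, -9545535, 19573024, 23968815, -90, -17026299, -925395, 185086, -8753197, -917752, 94])))) (.node (.node (.node (.leaf [3032, 2300, 4485, 134, -22109, 9602, 552, 4557, -3, 4221, -12359, -15445, 0, 12249, 344, -131, 5639, 711, 0]) (.leaf [0, -3, -4, 0, 0, -1, 0, 3, 0, -3, 0, 0, 0, 3, 0, 0, 1, 0, 0]))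 (.node (.leaf [-2, 0, 0, -1, 0, -1, 0, 0, 1, 0, 1, 0, 0, 0, 0, 0, 0, 0, 0]) (.leaf [250362, 196684, 378093, 11155, -1845989, 802608, 46141, 375995, -189, 360278, -1032587, -1288184, 0, 1015374, 29985, -10966, 470337, 59345, 0]))) (.node (.node (.leaf [0, 0, 0, 0, 1, 0, 0, 0, 0, 0, 0, 0, 0, 0, 0, 0, 0, 0, 0]) (.leaf [3096345, 2465466, 4708280, 137706, -23002083, 10001474, 573706, 4667542, -2172, 4532231, -12867652, -16030176, 11, 12607806, 383187, -135545, 5862039, 736625, 0])) (.node (.leaf [1484083458, 1248493255, 2345168802, 66499654, -11256294449, 4900417405, 278669526, 2239709127, -1033434, 2289820230, -6291248907, -7828849237, -25617, 6104953140, 196758933, -65436601, 2861542159, 354975908, -4002]) (.leaf [-4336651011, -3273332591, -6355758869, -188515246, 31510411506, -13681844591, -793732431, -6508801632, 2373627, -6005521744, 17642333191, 22021180980, 183899, -17456511262, -497788595, 185930364, -8048528455, -1029444911, 27356]))))) (.node (.node (.node (.node (.node (.leaf []) (.leaf [328498, 362560, 631755, 15260,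 -2815203, 1233692, 67111, 504990, -132, 667825, -1568291, -1932542, -43, 1440964, 61950, -15065, 706463, 82028, -20])) (.leaf [-67387, -62023, -113039, -3076, 532164, -232541, -13046, -102499, 48, -114654, 297538, 367966, -3, -282729, -10165, 3031, -134779, -16331, 0])) (.node (.leaf [-520160, -614761, -1055968, -25050, 4584419, -2013429, -107987, -797388, 351, -1124690, 2549874, 3141000, 45, -2313249, -105048, 24637, -1146527, -129758, 17]) (.leaf [-152099223, -133843441, -248164631, -6926651, 1175677627, -512415108, -28882006, -230208271, 119812, -245548416, 656618104, 815963777, -572, -631846897, -21390862, 6807088, -298282255, -36488372, 323]))) (.node (.node (.leaf [-40, -218, -359, -7, -399, 222, -6, 177, 0, 198, -329, 75, 0, 99, 50, 7, 102, 0, 0]) (.leaf [3273, 2325, 4511, 148, -23188, 10014, 589, 4936, -3, 4215, -13010, -16271, -1, 12979, 380, -144, 5995, 776, 0])) (.node (.leaf [4055842, 2747007, 5527488, 172902, -28328361, 12274816, 724429, 6060325, -1973, 5052868, -15891491, -19880654, -198, 16007661, 401755, -170728,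 7267967, 954126, -3]) (.leaf [3460038763, 2763558113, 5272424067, 152763757, -25699757239, 11174070540, 641571382, 5207462403, -2167182, 5068861881, -14375767247, -17916039100, -101384, 14082633513, 428377476, -150482346, 6548342281, 824435568, -12846])))) (.node (.node (.node (.leaf []) (.leaf [42012460, 38922152, 71133476, 1934570, -331831839, 144807521, 8088036, 63739213, -34195, 71370825, -185176339, -229788795, 3, 176471952, 6306652, -1900264, 83989174, 10131184, -114])) (.node (.leaf [0, -1, 1, -1, 0, 2, 1, 0, 2, 0, -3, 0, 0, 0, 0, -1, 0, 0, 0]) (.leaf []))) (.node (.node (.leaf [-2, 0, 0, 0, -2, 0, 0, 0, 0, 2, 0, 0, 0, 0, 0, 0, 0, 0, 0]) (.leaf [32679793, 28793781, 53364142, 1481501, -252650525, 110116676, 6210023, 49437213, -24031, 52804944, -141107943, -175357180, -439, 135752934, 4600881, -1456903, 64093068, 7849653, -128])) (.node (.leaf [425021, 402939, 732449, 19973, -3387984, 1478970, 82098, 645279, -436, 736926, -1888888, -2344611, 26, 1794146, 65402, -19563, 856895, 102185, 0]) (.leaf [7632401128, 5723530577,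 11135661115, 330558171, -55317353037, 24015358255, 1395486707, 11450434613, -3876676, 10502235146, -30976680917, -38670025900, -390879, 30682920060, 868479435, -326214386, 14132534647, 1812447675, -76230])))))) (.node (.node (.node (.node (.node (.node (.leaf [-3154, -2504, -4816, -135, 23652, -10272, -582, -4791, 0, -4695, 13222, 16434, 0, -12948, -400, 135, -6009, -759, 0]) (.leaf [1, 0, 0, 0, 0, 0, 0, 0, 0, 0, 0, 0, 0, 0, 0, 0, 0, 0, 0])) (.leaf [-3259, -2561, -4914, -162, 23554, -10276, -590, -4743, 19, -4647, 13220, 16470, -1, -12915, -403, 144, -5991, -769, 0])) (.node (.leaf [3, 0, 0, 0, 5, -2, 0, 0, 0, -5, 2, 0, 0, 0, 0, 0, 0, 0, 0]) (.leaf [3, 1, 0, -1, 2, 0, 0, 0, 0, -3, 0, -1, 0, 0, 0, 1, 1, 0, 0]))) (.node (.node (.leaf []) (.leaf [-4294, -2249, -4416, -177, 24695, -10754, -816, -5883, 0, -3110, 14103, 18080, 0, -14892, -123, 177, -6693, -993, 0])) (.node (.leaf [12, -63, -90, -3, 64, -39, 0, 44, 1, -75, 18, 45, 0, 18, 0, 2, -7, 6, 0]) (.leaf [16136, 15306, 27814, 746, -128983, 56336, 3126, 24558, -10, 28149,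 -71959, -89172, -1, 68242, 2499, -735, 32593, 3900, 0])))) (.node (.node (.node (.leaf []) (.leaf [15, 9, 14, -1, -16, 4, 0, 6, 0, -15, -6, -30, 0, 21, 0, 1, 10, 0, 0])) (.node (.leaf [-13747, -1492, -9065, -1585, 82517, -35983, -1677, -24132, 255, -7341, 46642, 56393, -82, -52855, -287, 1419, -22259, -1797, -7]) (.leaf [1, 0, 0, 0, 0, 0, 0, 0, 0, 0, 0, 0, 0, 0, 0, 0, 0, 0, 0]))) (.node (.node (.leaf [-3, -12, -19, 0, 66, -14, 1, -12, -1, -3, 18, 52, 0, -39, -2, 1, -24, 2, 0]) (.leaf [3084463630, 2524722326, 4781152263, 137115226, -23135342186, 10065118228, 575294055, 4648011585, -2033667, 4630462143, -12936197746, -16110759249, -73688, 12616352772, 394463784, -134998734, 5888585535, 736243915, -9138])) (.node (.leaf [-4036049602, -3121466658, -6014542452, -176465530, 29601617124, -12860615112, -742929252, -6064392336, 2293250, -5726396226, 16567474166, 20665407777, 161318, -16322458298, -478714887, 173984481, -7552896626, -959917760, 26481]) (.leaf [37914, 38722, 69982, 1782, -308865, 135162, 7419, 56621, -23, 69687, -171618,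 -213876, 0, 161793, 5942, -1759, 77385, 9175, 0]))))) (.node (.node (.node (.node (.node (.leaf []) (.leaf [-13981043, -15288757, -26767552, -677210, 119012024, -52150326, -2821234, -21426387, 14634, -28018071, 66232101, 81789614, -455, -61100086, -2579083, 663029, -29893565, -3424727, 2])) (.leaf [575927165, 508392702, 941839139, 26226946, -4456388652, 1942337333, 109404726, 871544198, -461713, 932153418, -2488567793, -3092757527, 1603, 2393699493, 81259003, -25768210, 1130533298, 138140860, 1374])) (.node (.leaf [-17, 81, 109, -3, 37, 7, -1, -87, 0, 69, 36, 8, 0, -84, -4, 3, -22, -10, 0]) (.leaf [2643440, 1870852, 3708008, 112090, -18735793, 8125072, 477297, 3950148, -999, 3433766, -10503652, -13129871, -207, 10504481, 277448, -110872, 4797696, 625792, -12]))) (.node (.node (.leaf []) (.leaf [53943, 50241, 91136, 2501, -427705, 186789, 10433, 82176, -48, 92550, -239054, -295786, 3, 226746, 8363, -2456, 108407, 13046, 0])) (.node (.leaf [-300621150, -234559251, -450711840, -13166543, 2212372153, -961383495, -55455864, -451872006,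 171373, -430287248, 1238064895, 1543912278, 12206, -1217829864, -36079505, 12980794, -564265348, -71558590, 2170]) (.leaf [-3886839601, -3382046791, -6290616593, -175617117, 29898337965, -13027439458, -736540976, -5877123266, 2732949, -6205152307, 16702923202, 20762076267, 65058, -16104850966, -538702592, 172783523, -7588413651, -933192622, 35587])))) (.node (.node (.node (.leaf [454, 231, 455, 18, -3452, 1440, 78, 834, 0, 585, -1951, -2340, 0, 1941, 90, -18, 926, 117, 0]) (.leaf [-36809, -34731, -63197, -1738, 292940, -127880, -7116, -55958, 40, -63561, 163404, 202783, -1, -155288, -5647, 1699, -74090, -8865, 0])) (.node (.leaf [3, -54, -111, 0, 269, -108, 1, -9, 0, -108, 114, 169, 0, -114, -2, 0, -47, -2, 0]) (.leaf [538689876, 446386466, 842207650, 23974880, -4060091213, 1766860838, 100804027, 812110542, -348370, 818567990, -2269824065, -2825904197, -15729, 2208729825, 69999608, -23608129, 1032806536, 128786256, -2652]))) (.node (.node (.leaf []) (.leaf [101289691, 82648046, 156659190, 4500002, -758861958, 330125485, 18878714,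 152629821, -66229, 151617802, -424349799, -528499982, -2449, 414070005, 12905666, -4430998, 193176110, 24172954, -326])) (.node (.leaf [-98549970, -86908370, -161031045, -4469558, 762183054, -332200822, -18730808, -149092218, 72781, -159377993, 425678209, 528988758, 1252, -409461165, -13889667, 4395148, -193345108, -23671932, 377]) (.leaf [428403, 387386, 711948, 17355, -3297918, 1435162, 82347, 635918, 155, 692932, -1839755, -2298938, -160, 1769266, 60099, -17342, 835835, 105130, -8])))))))) (.node (.node (.node (.node (.node (.node (.node (.node (.leaf [-1, 0, 0, 0, -1, 0, 0, 0, 0, 1, 0, 0, 0, 0, 0, 0, 0, 0, 0]) (.leaf [0, 0, 0, 0, 1, 0, 0, 0, 0, 0, 0, 0, 0, 0, 0, 0, 0, 0, 0])) (.leaf [1144528600, 1229105588, 2161486366, 55254597, -9666181443, 4234168205, 229873549, 1753384438, -1153301, 2255117469, -5381750755, -6647145681, 39480, 4981328508, 206798556, -54129685, 2429720237, 280059809, -11091])) (.node (.leaf []) (.leaf [2, 0, 0, 0, 1, 0, 0, 0, 0, -1, 0, 0, 0, 0, 0, 0, 0, 0, 0]))) (.node (.node (.leaf [18, 6, 9, 0, -3,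 -2, 0, 3, 0, -24, 3, -21, 0, 15, 0, 0, 12, -2, 0]) (.leaf [-1549220722, -1219396286, -2336777534, -68008455, 11440338150, -4972435181, -286375441, -2329676124, 898527, -2236861402, 6401235162, 7980619806, 60566, -6286791810, -188116835, 67038275, -2916736403, -369009540, 11088])) (.node (.leaf [-122341477, -110216430, -202997570, -5592985, 954899681, -416416535, -23376729, -185350474, 96616, -202139672, 533111736, 662074803, 237, -510754257, -17727624, 5495904, -242006138, -29424282, 228]) (.leaf [10108428148, 7585312696, 14755277436, 438293473, -73281750256, 31814577316, 1848041222, 15166253556, -5308376, 13917117417, -41034531967, -51226832873, -477921, 40642828431, 1151128445, -432425915, 18722204283, 2399509773, -81261])))) (.node (.node (.node (.node (.leaf []) (.leaf [0, 0, 0, 0, 0, 0, 0, 0, 1, 0, 0, 0, 0, 0, 0, 0, 0, 0, 0])) (.leaf [])) (.node (.leaf [-249402, -239330, -434574, -11807, 1996127, -870912, -48194, -378465, 271, -435855, 1111645, 1381980, -6, -1055784, -38666, 11542, -504484, -59934, 0]) (.leaf [54576,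 123923, 188729, 837, -657124, 290299, 15210, 77559, 467, 212678, -360490, -446517, -190, 286015, 21559, -1099, 158573, 17685, -15]))) (.node (.node (.leaf [1641677, 1740903, 3072468, 80649, -13807459, 6048455, 327948, 2519100, -2027, 3202312, -7689009, -9494112, 189, 7132209, 292863, -78810, 3472813, 399225, -1]) (.leaf [0, 0, 0, -1, 0, 0, 0, 0, 0, 0, 0, 0, 0, 0, 0, 1, 0, 0, 0])) (.node (.leaf [-781609121, -666399043, -1246600351, -34868899, 5960736767, -2595989260, -147544293, -1179994755, 446788, -1222986275, 3331687656, 4143234144, 37263, -3223801554, -105526517, 34369402, -1513989226, -187837783, 15446]) (.leaf [-1434238, -1576150, -2756088, -61936, 12098545, -5292576, -291177, -2160778, -180, -2842137, 6728511, 8347432, 511, -6220569, -260047, 61570, -3036215, -358862, 35]))))) (.node (.node (.node (.node (.node (.leaf [0, 0, 1, 1, 0, 0, 0, 0, 0, 0, 0, 0, 0, 0, 0, -1, 0, 0, 0]) (.leaf [-1134783275, -984108612, -1832406897, -51431195, 8714175061, -3796360796, -214491181, -1715277397, 907037, -1803669642, 4867314458, 6052869938,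 -1757, -4697867877, -156400512, 50534488, -2212627797, -271595274, -8573])) (.leaf [537556268, 445103820, 839979755, 23922120, -4050334596, 1762586166, 100572474, 810383037, -347755, 816235717, -2264399741, -2819196150, -15565, 2203751412, 69784009, -23556172, 1030360472, 128504900, -2628])) (.node (.leaf [77, -248, -524, 6, 233, -294, 5, 422, 0, -681, 177, -37, 0, 288, -8, -6, 160, -17, 0]) (.leaf [-2423315604, -2110406755, -3924559969, -109664940, 18645408933, -8124190223, -459049593, -3664175697, 1787337, -3870621760, 10415375317, 12947772122, 25044, -10042249062, -336091756, 107843862, -4732563504, -581300282, 8697]))) (.node (.node (.leaf []) (.leaf [-223311, -212122, -385542, -10482, 1786179, -779859, -43214, -340026, 224, -389692, 996020, 1235005, -12, -945009, -34648, 10270, -451470, -53833, 0])) (.node (.leaf [0, 0, 3, 5, -2, 0, 0, 0, 0, 0, 0, 0, 0, 0, 0, -5, 2, 0, 0]) (.leaf [1562196, 1550838, 2780548, 71529, -12677762, 5539322, 306790, 2369271, -1014, 2828554, -7065797, -8761684, -119, 6649911, 254264, -70391,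 3199383, 380610, -6])))) (.node (.node (.node (.leaf [3, -1, 1, 0, 0, 3, 1, -1, 0, 0, -3, 0, 0, 0, 0, 0, 0, 0, 0]) (.leaf [773013278, 644365013, 1213629730, 34502143, -5840717145, 2542158958, 144847761, 1165876917, -515496, 1181751267, -3264973727, -4064046150, -18750, 3173600985, 101251141, -33964603, 1485380687, 184840832, -3294])) (.node (.leaf []) (.leaf [1, 0, 0, 0, 0, 0, 0, 0, 0, 0, 0, 0, 0, 0, 0, 0, 0, 0, 0]))) (.node (.node (.leaf [3212, 2424, 4653, 139, -23098, 10040, 588, 4773, -3, 4395, -12965, -16170, 0, 12780, 378, -136, 5923, 761, 0]) (.leaf [7778004245, 6671894645, 12461470936, 350422098, -59469084034, 25902179178, 1467726198, 11750776671, -5582412, 12236709932, -33227634634, -41324999647, -107446, 32127742814, 1057743436, -344705470, 15104729689, 1863485755, -26770])) (.node (.leaf [12, -45, -100, 0, 252, -101, 4, 1, 0, -131, 115, 138, 0, -84, -13, 0, -37, -3, 0]) (.leaf [-2133491, -2667574, -4522193, -103765, 19333501, -8503801, -451786, -3281433, 1322, -4880596, 10745984, 13211393, 232, -9631141, -461125,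 102118, -4822011, -537278, 93])))))) (.node (.node (.node (.node (.node (.node (.leaf []) (.leaf [8548364301, 6858070687, 13066389992, 377888925, -63606030695, 27658444566, 1586736410, 12868480827, -5406561, 12578807426, -35576982404, -44332829440, -241693, 34823647242, 1064616794, -372210076, 16203767749, 2037488812, -30594])) (.leaf [-52, -61, -84, 0, 137, -78, 0, 2, 0, -38, 89, 127, 0, -54, -12, 0, -45, 0, 0])) (.node (.leaf [95982461, 90866466, 165088162, 4445297, -765220129, 334108994, 18586620, 145789767, -80238, 166596108, -426874718, -529393104, 168, 405132603, 14807247, -4364981, 193491552, 23193064, -246]) (.leaf [0, 0, 0, 0, 1, 0, 0, 0, 0, 0, 0, 0, 0, 0, 0, 0, 0, 0, 0]))) (.node (.node (.leaf []) (.leaf [3181, 2395, 4633, 133, -23149, 10009, 577, 4793, 0, 4392, -12943, -16179, 0, 12825, 382, -133, 5932, 762, 0])) (.node (.leaf [0, -3, -4, 0, -1, -1, 0, 3, 0, -3, 0, 0, 0, 3, 0, 0, 1, 0, 0]) (.leaf [-52760, -50468, -91597, -2455, 422676, -184570, -10237, -80151, 43, -92571, 235677, 292275, 0, -223353, -8217, 2412,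 -106752, -12775, 0])))) (.node (.node (.node (.leaf [-9, -9, -3, 0, -19, -10, -5, 5, 0, 3, 6, -3, 0, 15, 2, 0, 1, 2, 0]) (.leaf [])) (.node (.leaf [-326362, -309008, -562468, -15404, 2591015, -1130475, -62891, -493760, 343, -561268, 1443938, 1795894, -12, -1374348, -49635, 15073, -655391, -78384, 0]) (.leaf [-784232414, -506712749, -1036368714, -32796429, 5383658349, -2328980964, -138813965, -1168802925, 296919, -929888497, 3021440882, 3787507104, 55154, -3069590925, -72444619, 32438331, -1384221721, -184280753, 6025]))) (.node (.node (.leaf [-27, -128, -246, 0, 449, -220, 0, 18, 0, -225, 234, 300, 0, -156, -16, 0, -68, -4, 0]) (.leaf [69769894, 61338455, 113750171, 3149765, -538665718, 234749021, 13252020, 105470688, -48629, 112411053, -300855026, -373966611, -1783, 289593555, 9784364, -3099069, 136662583, 16764898, -284])) (.node (.leaf [415075799, 378547636, 694828814, 19037094, -3256650594, 1420607638, 79572861, 629259741, -332115, 694237057, -1817813343, -2256741798, -369, 1737529431, 61092239, -18703611, 824885351,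 99947216, -999]) (.leaf [0, 0, 0, 0, 1, 0, 0, 0, 0, 0, 0, 0, 0, 0, 0, 0, 0, 0, 0]))))) (.node (.node (.node (.node (.node (.leaf [0, 0, 0, 0, 0, -1, 0, 0, 0, 0, 1, 0, 0, 0, 0, 0, 0, 0, 0]) (.leaf [-2654692, -2853799, -5018112, -128202, 22420388, -9820122, -532783, -4064862, 2774, -5230608, 12480171, 15419897, -89, -11553601, -479626, 125523, -5636113, -648738, -6])) (.leaf [-6425, -4847, -9306, -279, 46196, -20081, -1177, -9546, 5, -8790, 25933, 32340, 0, -25560, -756, 274, -11846, -1523, 0])) (.node (.leaf [-30, -6, -19, 0, 41, -6, 0, -18, 0, 36, 12, 60, 0, -54, 0, 0, -23, 0, 0]) (.leaf [292138920, 110898150, 282813345, 11015799, -1718733688, 735257799, 47446246, 427986082, 24558, 204124995, -971720801, -1233287939, -42997, 1064010192, 10976348, -10991531, 450632995, 67031633, -5829]))) (.node (.node (.leaf [0, -1, 0, 0, 0, -1, 1, 0, 0, 0, 0, 0, 0, 0, 0, 0, 0, 0, 0]) (.leaf [6251287019, 4903112338, 9406614643, 274625712, -46100168535, 20035138457, 1154146152, 9399636147, -3776850, 8993316332, -25794608800, -32163680115,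 -206855, 25351201020, 755427460, -270618626, 11755812469, 1487520098, -23382])) (.node (.leaf []) (.leaf [18866270, 10043192, 22085689, 765250, -121760097, 52451786, 3219010, 27961122, -5690, 18486465, -68527177, -86290944, -1209, 71722214, 1307737, -758232, 31552343, 4377019, -119])))) (.node (.node (.node (.leaf [0, 0, 0, 0, 1, 0, 0, 0, 0, 0, 0, 0, 0, 0, 0, 0, 0, 0, 0]) (.leaf [379254820, 359005317, 652270059, 17584284, -3023711603, 1320212526, 73429928, 576134942, -322695, 658247683, -1686744677, -2091817704, 2410, 1600873539, 58506510, -17263438, 764589335, 91610163, -561])) (.node (.leaf [98436578, 86822298, 160864153, 4464563, -761356755, 331841930, 18710064, 148921812, -72705, 159219918, -425215667, -528411612, -1251, 409003959, 13876542, -4390229, 193134090, 23645098, -378]) (.leaf [0, 0, 0, 0, 1, 0, 0, 0, 0, 0, 0, 0, 0, 0, 0, 0, 0, 0, 0]))) (.node (.node (.leaf [-11648, -11661, -21164, -563, 93608, -40975, -2271, -17332, 14, -20853, 52091, 64989, 0, -49284, -1773, 549, -23471, -2814, 0]) (.leaf [-87205501, -56719019,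 -115713651, -3632883, 599958122, -259595230, -15473480, -129962973, 26461, -104121590, 336737083, 421971204, 7795, -341650059, -8136441, 3597299, -154192998, -20541054, 1328])) (.node (.leaf []) (.leaf [-703, -540, -890, -27, 4778, -2018, -120, -1056, 0, -781, 2660, 3433, 0, -2658, -115, 27, -1339, -135, 0]))))))) (.node (.node (.node (.node (.node (.node (.node (.leaf [0, 0, -1, -1, 0, 0, 0, 0, 0, 0, 0, 0, 0, 0, 0, 1, 0, 0, 0]) (.leaf [-11155, -8556, -16269, -470, 80162, -35083, -2105, -16406, 0, -15538, 45204, 56070, -2, -44169, -1238, 471, -20453, -2711, 0])) (.leaf [0, -6, -8, 0, -2, -2, 0, 6, 0, -6, 0, 0, 0, 6, 0, 0, 2, 0, 0])) (.node (.leaf [-129780688, -122093976, -222181864, -5987484, 1031669160, -450380140, -25094748, -197001384, 104120, -223821185, 575593885, 713960124, 888, -546913755, -19858533, 5881980, -260935308, -31358632, 496]) (.leaf [2, 21, 29, 0, -24, 7, 0, -8, 0, 9, -3, -27, 0, 6, 0, 0, 9, -2, 0]))) (.node (.node (.leaf [-33202122, -29308905, -54292506, -1506955, 256898338, -111972973, -6311772, -50234961,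 24738, -53749535, 143473652, 178289718, 366, -137984013, -4685394, 1481731, -65165154, -7974904, 120]) (.leaf [18475, 14020, 27233, 824, -134722, 58515, 3378, 27780, -10, 25782, -75405, -94086, -1, 74563, 2126, -813, 34378, 4382, 0])) (.node (.leaf [0, 0, 2, 1, 0, 0, 0, 0, 0, 0, 0, 0, 0, 0, 0, -1, 0, 0, 0]) (.leaf [-6160266, -6685765, -11727367, -297883, 52258530, -22894917, -1240173, -9437833, 6411, -12254247, 29086108, 35925528, -198, -26873133, -1126259, 291675, -13131012, -1507600, -5])))) (.node (.node (.node (.leaf [1, 0, 0, 2, 0, 0, 0, 0, -2, 0, 1, 0, 0, 0, 0, 0, 0, 0, 0]) (.leaf [-95082674, -82932199, -154148747, -4302571, 732072245, -318982747, -18020692, -143790404, 69719, -152102532, 408926583, 508334071, 1063, -394166751, -13215492, 4231412, -185804048, -22815386, 377])) (.node (.leaf [0, 0, 0, 0, 1, 0, 0, 0, 0, 0, 0, 0, 0, 0, 0, 0, 0, 0, 0]) (.leaf [-12226952864, -9246539636, -17942496421, -531265980, 88902599072, -38603385011, -2239202800, -18351397891, 6559475, -16964156677, 49775150758, 62125573178, 556602,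 -49233328776, -1407058568, 524059057, -22705575533, -2903761457, 90846]))) (.node (.node (.leaf [-33, 79, 137, 0, -397, 165, -5, 2, 0, 225, -189, -204, 0, 108, 22, 0, 64, 3, 0]) (.leaf [219461, 210217, 381270, 10149, -1759980, 768442, 42630, 333726, -177, 385633, -981273, -1216937, -2, 929801, 34291, -9968, 444550, 53149, -2])) (.node (.leaf []) (.leaf [-476884654, -388429155, -736662962, -21151018, 3569666831, -1552796966, -88848263, -718376760, 306150, -712358874, 1996162401, 2486405431, 13469, -1948554822, -60586660, 20829639, -908763876, -113815384, 1761]))))) (.node (.node (.node (.node (.node (.leaf [3, -3, -4, 0, 2, -1, 0, 3, 0, -6, 0, 0, 0, 3, 0, 0, 1, 0, 0]) (.leaf [450393, 430923, 781529, 20977, -3608307, 1575227, 87367, 684843, -404, 789392, -2011590, -2495605, 4, 1907016, 70295, -20579, 911894, 108796, 2])) (.leaf [132846, 126351, 229834, 6237, -1063371, 464373, 25704, 202221, -128, 232229, -592872, -735135, 6, 562509, 20565, -6115, 268629, 31998, 0])) (.node (.leaf [55431059, 26025411, 60263451, 2169579, -344549014,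 148022635, 9274396, 81700935, -4857, 47868973, -194270506, -245402785, -6437, 206997519, 3111896, -2157586, 89687512, 12817008, -699]) (.leaf [0, -6, -8, 0, -2, -2, 0, 6, 0, -6, 0, 0, 0, 6, 0, 0, 2, 0, 0]))) (.node (.node (.leaf [-358347522, -325293924, -597820283, -16361399, 2805122631, -1223498108, -68634207, -542857836, 270776, -596382405, 1565951194, 1944428373, 4815, -1498107984, -52397073, 16084205, -710637055, -86319335, 1603]) (.leaf [631908, 396770, 820701, 29411, -4340326, 1880299, 110371, 953226, -930, 742659, -2437234, -3044734, 192, 2479580, 57821, -28687, 1117945, 144759, 14])) (.node (.leaf [10552, -919, 4411, 1448, -59389, 25947, 1092, 19359, -255, 2931, -33679, -40224, 81, 40062, -92, -1281, 16336, 1035, 7]) (.leaf [-1162021, -1411853, -2409097, -45456, 10184902, -4460577, -244911, -1731937, -1474, -2513457, 5653801, 7019503, 867, -5129717, -233889, 46013, -2542356, -300489, 50])))) (.node (.node (.node (.leaf [-515161, -486147, -884923, -24495, 4113158, -1795775, -99465, -785631, 582, -894232, 2293907, 2843780,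 -51, -2178627, -79490, 23964, -1040265, -123770, 0]) (.leaf [-41148531, -43559918, -76879373, -1976664, 345052314, -151076037, -8221017, -62948440, 42272, -79848112, 192123828, 237477777, -1368, -178397700, -7297774, 1935866, -86805483, -10040008, -106])) (.node (.leaf [-158228304, 166168441, 146790127, -2426403, 94353475, -12070627, -13198263, -209531367, -391933, 304289434, 77060433, 150373683, 89814, -344192106, 40758431, 2721405, -54517796, -31436631, 7117]) (.leaf [-1281268209, -1116939157, -2076494646, -57990416, 9862305731, -4297306510, -242774819, -1937414733, 944664, -2048505810, 5509018908, 6848314467, 13654, -5310689169, -177924976, 57027456, -2503124495, -307383109, 4641]))) (.node (.node (.leaf []) (.leaf [3910616429, 3102745282, 5931496943, 172240848, -28970022944, 12593966004, 724077781, 5883444817, -2377068, 5691339192, -16207101151, -20201791272, -129218, 15895175466, 479921961, -169714751, 7383614244, 931590759, -19812])) (.node (.leaf [-12, -6, -14, 0, -20, -2, 0, 6, 0, 6, 0, 0, 0, 6, 0, 0, 8, 0, 0]) (.leaf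 [122408, 116451, 211514, 5734, -978018, 426781, 23664, 186102, -121, 213050, -545103, -676704, 5, 517618, 18966, -5618, 247347, 29471, 0])))))) (.node (.node (.node (.node (.node (.node (.leaf []) (.leaf [81276, 77386, 140650, 3842, -649085, 283304, 15690, 123444, -90, 141405, -361725, -449195, 5, 343558, 12556, -3759, 164117, 19513, 2])) (.leaf [3196, 2430, 4732, 132, -23358, 10120, 580, 4800, 0, 4482, -13058, -16311, 1, 12917, 383, -133, 5958, 761, 0])) (.node (.leaf [-1316, -1553, -2597, -69, 12276, -5332, -274, -2240, 11, -2992, 6811, 8312, -1, -6162, -322, 59, -3121, -322, 0]) (.leaf [-8, 39, 52, 1, -33, 21, 0, -28, -1, 45, -8, -24, 0, -15, 0, 0, 3, -3, 0]))) (.node (.node (.leaf [0, 4, -7, -10, -1, 0, 0, 0, 0, 0, 0, -4, 0, 0, 0, 10, 1, 0, 0]) (.leaf [-561218057, -456992418, -866763746, -24901061, 4200637175, -1827271696, -104550792, -845451987, 362658, -838160591, 2349018769, 2925886185, 14978, -2293074747, -71283206, 24521434, -1069413813, -133927809, 1991])) (.node (.leaf [3204, 2411, 4645, 140, -23123, 10037, 586,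 4780, 1, 4397, -12968, -16172, 0, 12798, 377, -141, 5928, 765, 0]) (.leaf [14261997, 16261535, 28174036, 688694, -123685978, 54252010, 2919393, 21870669, -12945, 29757431, -68796545, -84868824, -306, 62925207, 2762995, -675365, 31003622, 3522731, -78])))) (.node (.node (.node (.leaf [0, -3, -4, 0, -1, -1, 0, 3, 0, -3, 0, 0, 0, 3, 0, 0, 1, 0, 0]) (.leaf [9028, 7936, 14489, 414, -70796, 30739, 1722, 14042, -6, 14778, -39563, -48972, 0, 37920, 1394, -408, 18098, 2177, 0])) (.node (.leaf [0, 0, -2, 0, 4, 0, 0, 0, 0, 0, 0, 3, 0, -3, 0, 0, -1, 0, 0]) (.leaf [220519842, 290817516, 488240253, 11640208, -2061074565, 907357869, 47066136, 343146495, -382627, 532522070, -1142871916, -1403876526, 38164, 1015071171, 50883539, -11304660, 513446967, 54658759, 8915]))) (.node (.node (.leaf [-1080, -745, -1404, -52, 7411, -3217, -203, -1604, 4, -1302, 4185, 5226, 0, -4164, -114, 48, -1945, -253, 0]) (.leaf [-296450804, -261586625, -484609320, -13444519, 2293271578, -999542679, -56353761, -448490727, 218541, -479697303, 1280774054, 1591602000,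 3951, -1231854156, -41811409, 13220875, -581723905, -71214335, 1152])) (.node (.leaf []) (.leaf [-88899458, -74544321, -140167019, -3978485, 673389727, -293135204, -16681314, -134137588, 60686, -136729444, 376387118, 468417822, 1761, -365457804, -11736144, 3915628, -171204063, -21264342, 410]))))) (.node (.node (.node (.node (.node (.leaf [30, 12, 26, 0, -40, 8, 0, 12, 0, -30, -12, -60, 0, 48, 0, 0, 22, 0, 0]) (.leaf [3084463967, 2524722757, 4781153033, 137115244, -23135345802, 10065119804, 575294130, 4648012217, -2033667, 4630463105, -12936199751, -16110761630, -73688, 12616354554, 394463877, -134998752, 5888586407, 736244015, -9138])) (.leaf [-537587603, -445134759, -840035911, -23923618, 4050587292, -1762696741, -100578582, -810430158, 347789, -816291958, 2264540512, 2819371056, 15563, -2203884400, -69788878, 23557638, -1030423937, -128512494, 2628])) (.node (.leaf [53, 67, 92, 0, -133, 78, 0, -8, 0, 42, -87, -127, 0, 48, 12, 0, 43, 0, 0]) (.leaf [-12, 135, 216, 1, -140, 47, 0, -75, 0, 108, -21, -153, 0, 18, 0, -1, 14,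 -1, 0]))) (.node (.node (.leaf [12, 3, 8, 0, 17, 1, 0, -3, 0, -9, 0, 0, 0, -3, 0, 0, -5, 0, 0]) (.leaf [-524214, -496279, -902217, -24633, 4177007, -1823203, -101217, -796358, 539, -907751, 2329001, 2890865, -21, -2212635, -80713, 24115, -1056607, -126059, 0])) (.node (.leaf [-599341370, -487045555, -924408349, -26653613, 4482197029, -1949592015, -111510092, -902866044, 417739, -892962129, 2506261896, 3122345106, 9133, -2447909460, -75889132, 26228803, -1141329467, -142800018, -2062]) (.leaf [0, 0, -4, 0, -3, 5, 0, 3, 0, 3, -6, 0, 0, 0, 0, 0, 1, 0, 0])))) (.node (.node (.node (.leaf [25187, 23562, 42865, 1178, -199827, 87081, 4854, 38420, -20, 42990, -111431, -138465, 0, 106185, 3864, -1158, 50652, 6068, 0]) (.leaf [33581305, 34223481, 60983402, 1595275, -276706608, 121034591, 6634684, 51248874, -33343, 62730230, -154161750, -190779336, 1074, 144238227, 5681870, -1563048, 69737393, 8161154, 42])) (.node (.leaf [3234, 2445, 4683, 143, -23193, 10072, 588, 4797, -4, 4389, -13004, -16257, -1, 12846, 379, -138, 5959, 760, 0])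 (.leaf [-31084, -28708, -51782, -1374, 243868, -106832, -6107, -46794, 0, -52744, 136730, 168720, 0, -129240, -4665, 1374, -61884, -7599, 0]))) (.node (.node (.leaf [-15, -9, -14, 0, 16, -4, 0, -6, 0, 15, 6, 30, 0, -21, 0, 0, -10, 0, 0]) (.leaf [3472288237, 3081162798, 5699244960, 158038569, -26932833862, 11741013463, 661167957, 5256896211, -2605973, 5653312324, -15041058756, -18685634463, -22642, 14449690356, 493635994, -155383102, 6829873129, 834613946, -26852])) (.node (.leaf [233170, 177108, 343318, 10284, -1699314, 738096, 42660, 350334, -156, 325264, -951272, -1186896, 0, 940092, 27036, -10128, 433958, 55194, 0]) (.leaf [410099333, 334600165, 634212381, 18161699, -3071724651, 1336260211, 76468813, 617754603, -251274, 613691603, -1717763078, -2139426538, -14491, 1676148171, 52223880, -17893043, 781897429, 97965564, -2891])))))))))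

def threeL15 : Janko.Tree (List ℤ) :=
  (.node (.node (.node (.node (.node (.node (.node (.node (.node (.leaf []) (.leaf [119634706, 101947099, 190725132, 5336971, -911609583, 396972249, 22553087, 180505409, -74521, 186820711, -509439392, -633794455, -5054, 493185887, 16113437, -5256749, 231607001, 28695966, -647])) (.leaf [401434, 466723, 805089, 19673, -3516320, 1543339, 82626, 616923, -423, 854637, -1955197, -2410074, 12, 1781070, 79643, -19257, 880610, 99167, -5])) (.node (.leaf []) (.leaf [2990302463, 1872554387, 3872627618, 123966656, -20308286007, 8779068162, 526181291, 4450723959, -970304, 3437100979, -11403338388, -14305846274, -241867, 11643345937, 264006526, -122722291, 5228032530, 701790694, -32194]))) (.node (.node (.leaf [-10, 24, 32, 0, -15, 24, 0, -26, 0, 48, -12, 3, 0, -27, 0, 0, -6, -3, 0]) (.leaf [-6918872397, -5145864713, -10038369006, -299240109, 49990651828, -21698485784, -1262523678, -10376612307, 3520211, -9442478140, 27996966311, 34958608308, 345129, -27772041538, -778523508, 295310574, -12776426431,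 -1641669912, 64195])) (.node (.leaf []) (.leaf [-279824, -352895, -597589, -13904, 2549426, -1121485, -59220, -431599, 279, -645630, 1415994, 1741110, -6, -1267977, -61012, 13623, -635823, -69982, 8])))) (.node (.node (.node (.node (.leaf [-2, -1, -1, 0, 0, -3, -1, 0, 0, 0, 3, 2, 0, 0, 0, 0, 0, 0, 0]) (.leaf [-46, 55, 69, 0, -225, 110, -3, -14, 0, 186, -123, -82, 0, 12, 18, 0, 27, 1, 0])) (.leaf [])) (.node (.leaf []) (.leaf [35213055, 31170848, 57702944, 1601464, -272794810, 118908314, 6697461, 53290920, -26916, 57163711, -152338231, -189297243, -220, 146442870, 4986284, -1574234, 69188470, 8456656, -94]))) (.node (.node (.leaf []) (.leaf [-299481, -244683, -462965, -12946, 2238814, -973877, -56022, -449799, 110, -447227, 1252419, 1560459, 38, -1221738, -38054, 12797, -569875, -71943, 1])) (.node (.leaf [-873480, -733437, -1384599, -45064, 6691474, -2916609, -161628, -1338906, 2067, -1363411, 3735358, 4638048, -431, -3625131, -117420, 43472, -1702601, -201538, -44]) (.leaf [-107721725, -94011764, -174713603, -4871826, 829525522,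 -361462788, -20419224, -162880774, 78189, -172426545, 463370079, 575986739, 1553, -446575402, -14981902, 4791681, -210525013, -25852622, 403]))))) (.node (.node (.node (.node (.node (.leaf []) (.leaf [-1720592, -1621531, -2954331, -82127, 13727102, -5992756, -331668, -2623212, 2058, -2980937, 7654351, 9492201, -201, -7274130, -264671, 80290, -3471882, -412510, -19])) (.leaf [369, 402, 722, 18, -3463, 1525, 78, 627, 0, 879, -1953, -2307, 0, 1735, 92, -18, 849, 101, 0])) (.node (.leaf [215, -104, -155, 11, -1000, 405, 37, 444, 0, -30, -666, -676, 1, 710, 32, -12, 319, 68, 0]) (.leaf [87604285, 77469083, 143443325, 3997918, -678589304, 295796921, 16654875, 132639129, -70230, 142130977, -378959036, -470854524, 609, 364330638, 12399319, -3928157, 172127423, 21021179, -140]))) (.node (.node (.leaf [1023424979, 845478612, 1596723351, 45626330, -7705141339, 3352898714, 191303169, 1543007289, -691272, 1550632048, -4307676213, -5363396643, -21304, 4194150070, 132486096, -44911154, 1960376024, 244433410, -2600]) (.leaf [541481864, 438547244,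 833143619, 23987819, -4044127920, 1758941504, 100742229, 815489124, -346147, 804308881, -2261675951, -2817572265, -15110, 2210014454, 68283448, -23624557, 1029816664, 129166672, -2005])) (.node (.leaf [-33212674, -29307995, -54296930, -1508402, 256957726, -111998924, -6312864, -50254311, 24993, -53752475, 143507331, 178329942, 285, -138024066, -4685302, 1483012, -65181487, -7975938, 112]) (.leaf [-3458928414, -2762520122, -5270532874, -152714208, 25690991201, -11170247243, -641356911, -5205786282, 2166618, -5066972678, 14370877667, 17909961315, 101254, -14077975171, -428210365, 150433492, -6546123697, -824166317, 12843])))) (.node (.node (.node (.leaf []) (.leaf [-181378701, -158175227, -294019191, -8201874, 1396304166, -608421071, -34374606, -274248298, 131640, -290108177, 779978142, 969566487, 2610, -751817152, -25202112, 8066953, -354381248, -43526501, 671])) (.node (.leaf []) (.leaf [1035502634, 886963048, 1657465910, 46779820, -7913069919, 3446415450, 195198587, 1564581225, -795904, 1626538657, -4421025199, -5499050383,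 -1385, 4276350242, 140539891, -45984747, 2010179726, 247742073, 2217]))) (.node (.node (.leaf [-17, -21, -32, 0, 95, -29, 0, -22, 0, 3, 36, 86, 0, -63, -2, 0, -35, 3, 0]) (.leaf [-12381027807, -9522697723, -18380356168, -540484486, 90611238875, -39361260978, -2276129748, -18598046250, 6938739, -17469547858, 50717812924, 63272884478, 511440, -50016962216, -1457606230, 532950407, -23125153661, -2943568890, 83900])) (.node (.leaf [44847, 42379, 77057, 2107, -358438, 156527, 8683, 68394, -46, 78126, -200004, -247727, 3, 189693, 6969, -2064, 90617, 10829, 0]) (.leaf [109203457, 92193955, 172986916, 4883091, -829293644, 361064769, 20532362, 164775918, -71920, 169060082, -463499899, -576725521, -3086, 449462708, 14539581, -4807405, 210773592, 26152380, -680])))))) (.node (.node (.node (.node (.node (.node (.leaf []) (.leaf [1301706, 1290332, 2316472, 60635, -10602957, 4633475, 255665, 1985166, -1021, 2368625, -5910142, -7318863, -24, 5559744, 213146, -59566, 2674628, 316942, -24])) (.leaf [361886215, 319281729, 591515946, 16412462,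 -2799309945, 1220101192, 68790053, 547485602, -266940, 585502105, -1563397034, -1942817437, -4753, 1503718479, 51031929, -16139369, 710093930, 86931310, -1400])) (.node (.leaf [1, 0, 0, -1, 2, 0, 0, 0, 1, -2, 0, 0, 0, 0, 0, 0, 0, 0, 0]) (.leaf [181029123, 157909538, 293504171, 8186453, -1393756079, 607314330, 34310653, 273723100, -131407, 289620377, -778551846, -967786725, -2611, 750407556, 25161589, -8051764, 353730558, 43443776, -671]))) (.node (.node (.leaf [-37, -401, -625, -7, -167, 144, -6, 261, 0, 78, -296, 306, 0, 51, 50, 6, 37, 17, 1]) (.leaf [44845, 42370, 77057, 2107, -358451, 156526, 8682, 68399, -46, 78123, -200003, -247732, 3, 189708, 6969, -2064, 90618, 10828, 0])) (.node (.leaf []) (.leaf [-33185324, -29276559, -54240212, -1504900, 256692041, -111880967, -6308024, -50204190, 24460, -53687935, 143361014, 178153506, 445, -137890062, -4679306, 1479868, -65114469, -7971829, 128])))) (.node (.node (.node (.leaf []) (.leaf [7, 7, 1, 0, 17, 1, 1, -4, 0, -3, -1, 4, 0, -13, 1, 0, -1, 0, 0])) (.node (.leaf []) (.leaf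 [6492028986, 4969650291, 9606682381, 283198398, -47422945432, 20597794773, 1191914052, 9749392836, -3685496, 9115470776, -26545121154, -33122386866, -258495, 26201811615, 759269403, -279224197, 12105865581, 1542365581, -30210]))) (.node (.node (.leaf []) (.leaf [33, 33, 48, 0, -93, 22, -1, 24, 1, -27, -30, -112, 0, 78, 2, 0, 42, -2, 0])) (.node (.leaf [-1276901, -1222673, -2216911, -59293, 10231206, -4466547, -247797, -1940931, 1101, -2239425, 5703953, 7076340, -9, -5406426, -199435, 58203, -2585347, -308755, -2]) (.leaf [6768149116, 5038338666, 9825679525, 292719472, -48918458591, 21233596792, 1235334791, 10150898113, -3423450, 9245353341, -27396311911, -34207447048, -343779, 27171582279, 762535091, -288887170, 12501817230, 1606161087, -65073]))))) (.node (.node (.node (.node (.node (.leaf []) (.leaf [-179417, -318047, -501646, -4521, 1882316, -830116, -44665, -260061, -1030, -554681, 1039854, 1284914, 398, -867809, -54791, 5116, -460128, -53306, 37])) (.leaf [])) (.node (.leaf []) (.leaf [-496183, -473650, -859697, -23098,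 3973053, -1734550, -96207, -754716, 444, -868468, 2215130, 2747675, -7, -2100578, -77233, 22661, -1004004, -119850, 1]))) (.node (.node (.leaf [433148, 399777, 733003, 21387, -3436493, 1500249, 82779, 662928, -702, 738557, -1916710, -2375643, 111, 1827648, 65328, -20806, 870204, 102721, 10]) (.leaf [-2996182076, -2419470530, -4600625726, -132690648, 22350683877, -9720422117, -556961581, -4511665791, 1932285, -4437086322, 12499963485, 15573991362, 79387, -12221315824, -376322814, 130671609, -5692342022, -714375572, 7367])) (.node (.leaf [-37, -401, -626, -7, -167, 143, -6, 261, 0, 78, -296, 306, 0, 51, 50, 6, 37, 18, 1]) (.leaf [489079367, 370510373, 718496889, 21188595, -3558426698, 1545244000, 89677443, 734007645, -235317, 679949810, -1992478948, -2486457429, -28628, 1969864860, 56433381, -20917556, 908638209, 116339761, -7095])))) (.node (.node (.node (.leaf [422596, 400698, 728592, 19942, -3377108, 1474303, 81687, 643572, -447, 735623, -1883031, -2335425, 28, 1787592, 65420, -19525, 853872, 101685, 2]) (.leaf [3344399,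 2404103, 4742780, 144817, -23883230, 10358514, 605121, 5015568, -1898, 4418330, -13381520, -16720734, -92, 13351347, 360255, -142822, 6113618, 789883, -4])) (.node (.leaf [-2677852463, -2940977478, -5144606772, -131083379, 22847317025, -10012532901, -540112038, -4107852363, 3228025, -5388659797, 12711248636, 15697250379, -192888, -11719431921, -496536054, 128091187, -5739053770, -653791315, -42945]) (.leaf [458231, 519374, 900897, 22327, -3965261, 1739265, 93570, 703356, -468, 951207, -2205896, -2720862, 10, 2019622, 88287, -21864, 994430, 112853, -5]))) (.node (.node (.leaf []) (.leaf [-1, -1, 0, -1, 0, -1, 0, 0, 1, 0, 0, 0, 0, 0, 1, 0, 0, 0, 0])) (.node (.leaf [-12, -3, -49, 0, 104, -49, 2, -12, 0, -30, 52, 68, 0, -68, 1, 0, -6, -1, 0]) (.leaf [30457213, 29084484, 52730088, 1425546, -243867692, 106503476, 5907418, 46324815, -28748, 53349000, -136009697, -168620781, 1055, 128874903, 4752921, -1397822, 61643115, 7351445, -30]))))))) (.node (.node (.node (.node (.node (.node (.node (.leaf []) (.leaf [0, 0, 0, 1, 0, 0, 0, 0,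 0, 0, 0, 0, 0, 0, 0, 0, 0, 0, 0])) (.leaf [1148041, 1350461, 2323062, 56382, -10103088, 4435564, 237173, 1763028, -1272, 2469285, -5616255, -6922920, 46, 5104886, 230354, -55137, 2528906, 284003, -19])) (.node (.leaf [-59012, -58335, -105719, -2770, 477127, -208542, -11484, -89019, 44, -106083, 265554, 330114, 0, -251046, -9249, 2727, -119998, -14277, 0]) (.leaf [17, 18, 28, 0, -96, 29, 0, 25, 0, -6, -36, -86, 0, 66, 2, 0, 36, -3, 0]))) (.node (.node (.leaf []) (.leaf [5390764, -2910028, -1356216, 130706, -13463245, 5149036, 600075, 7430463, 7407, -5295392, -8133317, -11446203, -1797, 14575086, -817133, -136229, 4184835, 1123325, -86])) (.node (.leaf [2, -24, -40, 0, 47, -12, 0, 4, 0, -12, 6, 45, 0, -21, 0, 0, -14, 5, 0]) (.leaf [0, 69, 112, 3, -224, 114, 1, -17, -4, 144, -124, -131, 1, 44, 16, 0, 36, 0, 0])))) (.node (.node (.node (.leaf []) (.leaf [1549220723, 1219396278, 2336777526, 68008455, -11440338142, 4972435168, 286375440, 2329676130, -898527, 2236861384, -6401235150, -7980619806, -60566, 6286791819, 188116835, -67038275,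 2916736405, 369009540, -11088])) (.node (.leaf [2472816053, 1904140284, 3674042042, 108099044, -18105193732, 7865017925, 454578810, 3714783069, -1440909, 3492678973, -10133415996, -12642080160, -90581, 9991919154, 291532494, -106558397, 4620665149, 587622027, -9157]) (.leaf [1412702, 845866, 1779548, 60272, -9489345, 4103154, 245865, 2108016, -900, 1568248, -5333931, -6684678, 36, 5474796, 118115, -59417, 2446268, 328308, 9]))) (.node (.node (.leaf []) (.leaf [-18162302, -14386874, -27511031, -795881, 134416139, -58434099, -3364431, -27308520, 9798, -26384790, 75210245, 93747193, 904, -73773758, -2223033, 784971, -34258402, -4332734, 208])) (.node (.leaf [1007202366, 881668365, 1637122783, 45611704, -7765814415, 3384143015, 191057925, 1523233914, -741141, 1616922388, -4337675452, -5391582126, -12092, 4178258811, 140609117, -44854685, 1970645062, 241749077, -3785]) (.leaf [-3746670396, -2791702683, -5442977965, -162364342, 27090469851, -11759096283, -683734068, -5620046928, 2002399, -5122302285, 15170751278, 18942758901, 165126,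 -15044867856, -422619420, 160172439, -6923434172, -888560919, 24378]))))) (.node (.node (.node (.node (.node (.leaf []) (.leaf [56, -96, -174, 0, 484, -223, 4, 15, 0, -318, 244, 221, 0, -105, -24, 0, -61, -3, 0])) (.leaf [])) (.node (.leaf [-15401, -11694, -22711, -687, 112139, -48726, -2813, -23109, 15, -21459, 62767, 78339, 0, -62061, -1771, 672, -28619, -3634, 0]) (.leaf [-70773950, -62620261, -115931626, -3231703, 548360373, -239033496, -13456576, -107165196, 57120, -114889658, 306228259, 380480642, -605, -294378625, -10024575, 3175090, -139091784, -16981600, 98]))) (.node (.node (.leaf [-18, 180, 260, 0, -227, 78, 0, -87, 0, 138, -33, -213, 0, 33, 0, 0, 56, -16, 0]) (.leaf [-109203480, -92193867, -172986782, -4883081, 829293508, -361064696, -20532362, -164775969, 71919, -169059971, 463499863, 576725437, 3086, -449462711, -14539582, 4807396, -210773564, -26152398, 680])) (.node (.leaf [1785478469, 1354252293, 2625508770, 77740517, -12996898600, 5643852162, 327093813, 2680316523, -1005873, 2484167353, -7276050285, -9081187768,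 -70978, 7193655813, 206256827, -76655813, 3319130606, 423856411, -7853]) (.leaf [-39074, -134791, -195376, 1930, 587270, -259033, -14088, -45387, -967, -219055, 318571, 401715, 358, -230428, -22766, -1341, -138045, -16870, 20])))) (.node (.node (.node (.leaf []) (.leaf [1990200715, 1564041153, 2998703975, 87378556, -14687664992, 6383589018, 367697499, 2992626473, -1171470, 2868898812, -8218252029, -10246631970, -73777, 8073824359, 241142736, -86122152, 3745002163, 473855678, -11157])) (.node (.leaf [-2, 0, 0, -1, 0, -1, 0, 0, 2, 0, 0, 0, 0, 0, 0, 0, 0, 0, 0]) (.leaf [267, 86, 109, 9, -1108, 448, 43, 369, 0, -36, -642, -907, 0, 762, 16, -9, 382, 41, 0]))) (.node (.node (.leaf [0, -2, 0, 0, -2, 0, 0, 0, 0, 0, 0, 0, 0, 2, 0, 0, 0, 0, 0]) (.leaf [-4441333018, -3570925547, -6799026961, -196473028, 33075673393, -14383403708, -824813802, -6686678655, 2827542, -6549665022, 18499662955, 23051157384, 121811, -18100803551, -554736295, 193508406, -8425301296, -1058720944, 15269])) (.node (.leaf [922769, 858760, 1568538, 40758, -7256869,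 3162988, 177777, 1388826, -408, 1556799, -4045763, -5036892, -128, 3863460, 137023, -40212, 1836705, 223776, -10]) (.leaf [2936117580, 2316515980, 4435692638, 128736003, -21704700129, 9434665044, 543429495, 4415952660, -1588567, 4251411197, -12145322365, -15138605247, -137382, 11920929788, 357867366, -126970443, 5532490343, 700296884, -39611])))))) (.node (.node (.node (.node (.node (.node (.leaf [8431, 6667, 12748, 333, -62941, 27291, 1557, 12798, 3, 12357, -35146, -43803, 0, 34533, 1046, -336, 16051, 2023, 0]) (.leaf [64130176, 54658504, 102279792, 2896640, -489267755, 213076967, 12078586, 96923534, -48704, 100313268, -273396860, -340037712, 39, 264640963, 8659621, -2847878, 124313595, 15342473, -97])) (.leaf [-35, -82, -142, 0, 207, -123, -5, 18, 3, -99, 118, 162, 0, -72, -3, -3, -36, 3, 0])) (.node (.leaf [1, 10, 8, 0, -11, 19, -1, -6, 0, 24, -18, 0, 0, -11, 2, 0, -2, 0, 0]) (.leaf [48978167, 41709295, 78085117, 2218374, -373617629, 162707243, 9219962, 74042397, -38404, 76561685, -208763808, -259660339, 458, 202124409,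 6606215, -2180438, 94931220, 11708723, 10]))) (.node (.node (.leaf [-1572313438, -615250254, -1546374028, -59319288, 9315048939, -3987009313, -256471218, -2304264300, -166518, -1131484302, 5264699776, 6678196494, 245803, -5743975587, -62745238, 59205819, -2439787103, -361486476, 34184]) (.leaf [22886, 20937, 37910, 1011, -178075, 77986, 4455, 34253, 0, 38244, -99838, -123404, 0, 94645, 3368, -1011, 45186, 5581, 0])) (.node (.leaf [4, -24, -37, 0, 31, -19, 0, 16, 1, -30, 9, 21, 0, 3, 0, 0, -4, 4, 0]) (.leaf [-719853, -682108, -1240033, -33859, 5732188, -2501978, -138936, -1091994, 753, -1245387, 3195417, 3968202, -42, -3036646, -110470, 33147, -1450128, -172882, 1])))) (.node (.node (.node (.leaf []) (.leaf [])) (.node (.leaf [66002601, 58253170, 107911964, 2993229, -510622864, 222560228, 12547509, 99853116, -48612, 106822873, -285177487, -354386014, -901, 274274865, 9311371, -2943458, 129525985, 15855904, -258]) (.leaf [-6510040077, -4976759296, -9624493685, -283911102, 47530425076, -20643836461, -1194846012, -9775951603,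 3690944, -9128700911, 26605847659, 33199280666, 259005, -26267912687, -760021676, 279930977, -12134014324, -1546470027, 30176]))) (.node (.node (.leaf []) (.leaf [0, 0, 0, 0, 0, 1, 0, 0, 0, 0, 0, 0, 0, 0, 0, 0, 0, 0, 0])) (.node (.leaf [-1054328124, -849764812, -1616718729, -46650895, 7859199230, -3417895032, -195929007, -1587466443, 668247, -1558579764, 4395635091, 5476686189, 30077, -4298910669, -132111778, 45948654, -2001732765, -251407237, 3917]) (.leaf [0, 0, 0, 1, 0, 0, 0, 0, 0, 0, 0, 0, 0, 0, 0, 0, 0, 0, 0]))))) (.node (.node (.node (.node (.node (.leaf []) (.leaf [-8257552, -9014581, -15789502, -399845, 70236112, -30775705, -1665387, -12653817, 8637, -16520337, 39088456, 48272592, -270, -36072225, -1520129, 391479, -17643370, -2022253, 0])) (.leaf [])) (.node (.leaf []) (.leaf [-187765, -178771, -324504, -8778, 1502138, -655730, -36363, -285801, 180, -327808, 837557, 1038889, -6, -794536, -29213, 8606, -379788, -45281, -2]))) (.node (.node (.leaf []) (.leaf [-1923333652, -1516589365, -2905382599, -85193180, 14212386369,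 -6177075851, -354881690, -2893348935, 1414963, -2779363558, 7949512872, 9913929855, 7887, -7808618047, -233848640, 83794767, -3624385585, -456313606, -24437])) (.node (.leaf [1248599585, 984837039, 1886065695, 54841914, -9227965973, 4011051675, 230919576, 1877804115, -727154, 1806574133, -5163170255, -6436707528, -48360, 5068961943, 152037330, -54057481, 2352471056, 297450951, -8919]) (.leaf [18944120, 17599167, 32134431, 871888, -149766217, 65361559, 3650309, 28736076, -15404, 32260161, -83575262, -103704987, 11, 79603005, 2852496, -856371, 37903167, 4570914, -124])))) (.node (.node (.node (.leaf [-4511, -3968, -7241, -206, 35398, -15371, -861, -7025, 2, -7389, 19784, 24486, 0, -18960, -697, 204, -9049, -1088, 0]) (.leaf [1328562, 606686, 1422705, 52767, -8203691, 3523365, 220596, 1959231, -405, 1117944, -4625928, -5846142, -80, 4947684, 71256, -52302, 2138096, 304880, 20])) (.node (.leaf [1, -1, 4, 0, 0, -1, 1, -4, 0, 0, 2, 0, 0, 0, 0, 0, 0, 0, 0]) (.leaf [461476, 455520, 820391, 24397, -3778214, 1653654, 89507, 711603,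 -1050, 843501, -2105037, -2601308, 214, 1980249, 75818, -23568, 954313, 108733, 8]))) (.node (.node (.leaf [-4, 24, 36, 1, -31, 18, 0, -16, -1, 30, -9, -21, 0, -3, 0, 0, 4, -3, 0]) (.leaf [46850, 47893, 84985, 1870, -383509, 167473, 9414, 70581, 39, 86972, -213856, -265191, -24, 200021, 7888, -1882, 96535, 11834, -3])) (.node (.leaf []) (.leaf [227371, 214573, 390222, 10563, -1800689, 786186, 43974, 342983, -190, 390115, -1004253, -1247870, 12, 954993, 34318, -10385, 455573, 54819, 0])))))))) (.node (.node (.node (.node (.node (.node (.node (.node (.leaf [0, -1, 0, 0, -1, 0, 0, 0, 0, 0, 0, 0, 0, 1, 0, 0, 0, 0, 0]) (.leaf [54, 64, 88, 0, -134, 78, 0, -5, 0, 39, -88, -127, 0, 51, 12, 0, 44, 0, 0])) (.leaf [8240583, 6624056, 12612080, 365668, -61388686, 26696821, 1530306, 12414030, -5463, 12157255, -34336711, -42777825, -139, 33593317, 1030285, -360038, 15638235, 1963416, -28])) (.node (.leaf [-427071, -544068, -918919, -20923, 3906689, -1718980, -90954, -657708, 285, -994919, 2170367, 2667564, 46, -1938333, -94255, 20575, -973485,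 -107709, 17]) (.leaf [0, 1, 0, 0, 1, 0, 0, 0, 0, 0, 0, 0, 0, -1, 0, 0, 0, 0, 0]))) (.node (.node (.leaf [23, 250, 356, 3, -4, -49, 3, -141, 0, -24, 139, -225, 0, -3, -25, -3, 31, -19, 0]) (.leaf [-1549220735, -1219396284, -2336777532, -68008455, 11440338118, -4972435157, -286375440, -2329676124, 898527, -2236861366, 6401235138, 7980619806, 60566, -6286791813, -188116835, 67038275, -2916736405, -369009540, 11088])) (.node (.leaf []) (.leaf [-54670359, -57792908, -102023413, -2608797, 457792885, -200409863, -10920986, -83536730, 53193, -105821734, 254896616, 315173719, -895, -236793933, -9664997, 2556440, -115176682, -13353005, 60])))) (.node (.node (.node (.node (.leaf []) (.leaf [0, 0, 0, 0, 0, 0, 0, 0, 0, 1, 0, 0, 0, 0, 0, 0, 0, 0, 0])) (.leaf [427071, 544068, 918919, 20923, -3906689, 1718979, 90954, 657708, -285, 994919, -2170367, -2667564, -46, 1938333, 94256, -20575, 973485, 107709, -17])) (.node (.leaf []) (.leaf [3, -1, 0, 5, 0, -1, 0, 0, -5, 0, 2, 0, 0, 0, 1, 0, 0, 0, 0]))) (.node (.node (.leaf [-12, -1, -6, -3, -4,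 -6, 0, 0, 0, 0, 12, 3, 0, -2, 0, 3, 6, -6, 0]) (.leaf [])) (.node (.leaf [1368277131, 1076411710, 2063539911, 60513730, -10101768685, 4390293622, 252398595, 2058077391, -977933, 1972953319, -5650728503, -7047212757, -11607, 5552540403, 165873656, -59537990, 2576268901, 324731679, 13800]) (.leaf [-522055, -580140, -1011710, -25393, 4476245, -1962288, -105875, -800469, 556, -1062618, 2490461, 3074251, -17, -2290111, -98107, 24852, -1123507, -128126, 2]))))) (.node (.node (.node (.node (.node (.leaf [0, 0, 0, 1, 0, 0, 0, 0, 0, 0, 0, 0, 0, 0, 0, 0, 0, 0, 0]) (.leaf [17676886, 15629934, 28943374, 808069, -136937501, 59691896, 3360026, 26768904, -14499, 28680646, -76471964, -95013580, 229, 73521506, 2501885, -793795, 34735201, 4239888, -4])) (.leaf [-44841, -42373, -77060, -2106, 358454, -156526, -8682, -68396, 45, -78129, 200003, 247732, -3, -189705, -6969, 2064, -90618, -10828, 0])) (.node (.leaf [47, -36, -55, 6, -154, 14, 1, 120, 0, -105, -63, -146, 0, 180, 2, -6, 79, 7, 0]) (.leaf [-138085498, -122100891, -226078940, -6286913,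 1069401565, -466141332, -26256516, -209014206, 107223, -223968593, 597217590, 742072746, 167, -574178630, -19536876, 6179164, -271254812, -33151780, 359]))) (.node (.node (.leaf [-5096633, -4742023, -8671730, -248092, 40522439, -17690367, -977496, -7789026, 7359, -8744334, 22600130, 28015995, -1008, -21520413, -775055, 241821, -10256940, -1214288, -80]) (.leaf [0, -68, -112, -3, 224, -114, -1, 17, 4, -144, 124, 131, -1, -44, -16, 0, -36, 0, 0])) (.node (.leaf []) (.leaf [-83, -181, -222, -6, 1447, -634, -44, -261, 0, -414, 802, 908, 0, -645, -38, 6, -388, -28, 0])))) (.node (.node (.node (.leaf [0, -2, -2, 0, 0, 0, 0, 0, 0, 0, 0, 2, 0, 0, 0, 0, 0, 0, 0]) (.leaf [697198426, 580797162, 1094113278, 31119945, -5266593667, 2292231848, 130615263, 1051525974, -466995, 1065174902, -2944047570, -3664654140, -16338, 2862011112, 91246941, -30633922, 1339421234, 166689155, -2689])) (.node (.leaf [817775, 763295, 1390610, 35086, -6442786, 2809079, 158565, 1231095, -60, 1387694, -3595069, -4469790, -200, 3425556, 122574, -34810, 1629685,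 200355, -16]) (.leaf [-1122354745, -1213106429, -2129966967, -54297363, 9507690986, -4165420667, -225856395, -1720147420, 1141532, -2225731819, 5292948847, 6536189315, -40312, -4892785212, -204400967, 53185165, -2389158058, -274816570, 10978]))) (.node (.node (.leaf [0, 0, 0, 1, 0, 0, 0, 0, 0, 0, 0, 0, 0, 0, 0, 0, 0, 0, 0]) (.leaf [1016228381, 838423113, 1584012312, 45292286, -7646924599, 3327470312, 189896964, 1532067186, -685404, 1537725079, -4275232206, -5323163886, -21188, 4163534787, 131330210, -44583119, 1945681433, 242687086, -2575])) (.node (.leaf [8, -50, -94, 0, 240, -104, 3, 0, 0, -129, 118, 133, 0, -74, -12, 0, -37, -3, 0]) (.leaf [27268440, 28455104, 50402175, 1305050, -227160499, 99423033, 5424378, 41680925, -27789, 52164229, -126510183, -156441453, 918, 117809118, 4751935, -1278278, 57186440, 6642065, 100])))))) (.node (.node (.node (.node (.node (.node (.leaf []) (.leaf [983619601, 809673327, 1530739868, 43813948, -7394762155, 3217565107, 183699378, 1482737163, -661449, 1485003916, -4134398609, -5148148545,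 -20735, 4028060774, 126735801, -43129319, 1881713732, 234853975, -2444])) (.leaf [4, -36, -42, 0, 130, -60, -2, 5, 0, -75, 68, 70, 0, -23, -8, 0, -32, -1, 0])) (.node (.leaf [33925081, 30149878, 55742981, 1541009, -263202717, 114738256, 6460911, 51338133, -25140, 55279882, -146978867, -182618061, -483, 141179955, 4827800, -1515245, 66743343, 8155212, -141]) (.leaf [-4, -3, -7, 0, 15, 6, 0, -8, 0, 15, -3, 24, 0, -21, 0, 0, -9, 0, 0]))) (.node (.node (.leaf []) (.leaf [0, 0, 0, 1, 0, 0, 0, 0, 0, 0, 0, 0, 0, 0, 0, 0, 0, 0, 0])) (.node (.leaf []) (.leaf [0, 0, 0, 0, -1, 0, 0, 0, 0, 0, 0, 0, 0, 1, 0, 0, 0, 0, 0])))) (.node (.node (.node (.leaf []) (.leaf [-430, -225, -450, -18, 3454, -1441, -78, -833, 0, -615, 1956, 2322, 0, -1929, -90, 18, -910, -121, 0])) (.node (.leaf [-33215869, -29310395, -54301567, -1508540, 256980856, -112008958, -6313449, -50259096, 24993, -53756873, 143520294, 178346111, 284, -138036872, -4685678, 1483150, -65187414, -7976701, 113]) (.leaf [2359196204, 1787388914, 3466264900, 102530721, -17166695647,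 7454594211, 432306060, 3541344168, -1251902, 3279779542, -9611374072, -11994942729, -109672, 9503126718, 272230709, -101148235, 4383883414, 560496462, -20912]))) (.node (.node (.leaf [-3, 18, 41, 0, -118, 51, -1, 6, 0, 54, -56, -66, 0, 45, 4, 0, 19, 0, 0]) (.leaf [65973871, 58188379, 107811781, 2990708, -510230658, 222384173, 12539793, 99800628, -48420, 106694738, -284960610, -354130881, -946, 274105444, 9298212, -2941090, 129431359, 15848272, -252])) (.node (.leaf [-443691, -398858, -737422, -22834, 3495896, -1526211, -83871, -682281, 957, -741512, 1950398, 2415861, -192, -1867704, -65236, 22087, -886535, -103753, -17]) (.leaf [2, -3, -4, 0, -1, -2, 0, 1, 0, -3, 0, 0, 0, 3, 0, 0, 1, 2, 0]))))) (.node (.node (.node (.node (.node (.leaf [0, -1, 0, 0, 0, -1, 0, 0, 0, 0, 0, 0, 0, 0, 1, 0, 0, 0, 0]) (.leaf [1324436, 1424136, 2503847, 63911, -11188235, 4900496, 265869, 2028330, -1365, 2610786, -6228056, -7694466, 42, 5764926, 239493, -62589, 2812494, 323761, 1])) (.leaf [-192, -122, -162, -3, 966, -424, -36, -219, 0, -144, 591,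 726, 0, -534, -34, 3, -288, -48, 0])) (.node (.leaf []) (.leaf [687783957, 528022860, 1019787405, 30056807, -5030018770, 2184921266, 126342813, 1033118295, -401661, 968565757, -2815409161, -3512678392, -24522, 2777573348, 80763893, -29628125, 1283898512, 163388034, -2499]))) (.node (.node (.leaf []) (.leaf [0, 0, 0, 0, 0, 1, 0, 0, 0, 0, 0, 0, 0, 0, 0, 0, 0, 0, 0])) (.node (.leaf [0, 1, 0, 0, 0, 0, 0, 0, 0, 0, 0, 0, 0, 0, 0, 0, 0, 0, 0]) (.leaf [0, 0, 0, 1, 0, 0, 0, 0, 0, 0, 0, 0, 0, 0, 0, 0, 0, 0, 0])))) (.node (.node (.node (.leaf []) (.leaf [-427388, -544512, -919655, -20944, 3910165, -1720499, -91032, -658323, 289, -995863, 2172317, 2669871, 45, -1940021, -94351, 20593, -974328, -107814, 17])) (.node (.leaf [1184874513, 1045414404, 1936763031, 53737124, -9165511563, 3994862906, 225231981, 1792557378, -873990, 1917088755, -5118878637, -6361172940, -15589, 4923448296, 167093848, -52842963, 2324989487, 284628680, -4582]) (.leaf [9, 0, -4, 0, 11, 10, 3, 7, 0, -12, -7, -1, 0, 3, -5, 0, -2, -1, 0]))) (.node (.node (.leaf [])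 (.leaf [-2438348, -1709095, -3396789, -103801, 17228361, -7470121, -439221, -3645015, 1030, -3138808, 9660362, 12076347, 151, -9674976, -253206, 102616, -4414683, -576069, 5])) (.node (.leaf [6155753, 6681791, 11720121, 297676, -52223139, 22879547, 1239312, 9430811, -6408, 12246858, -29066326, -35901042, 198, 26854179, 1125562, -291471, 13121965, 1506512, 5]) (.leaf [-7, -7, -1, 0, -18, -1, -1, 4, 0, 3, 1, -4, 0, 14, -1, 0, 1, 0, 0]))))))) (.node (.node (.node (.node (.node (.node (.node (.leaf []) (.leaf [0, 0, -1, 0, 1, -1, 0, 0, 0, 0, 0, 1, 0, -1, 1, 0, 0, 0, 0])) (.leaf [0, 0, 0, 0, 0, 1, 0, 0, 0, 0, 0, 0, 0, 0, 0, 0, 0, 0, 0])) (.node (.leaf [-726815279, -585330686, -1113909186, -32151293, 5416137010, -2355364232, -135040809, -1094301594, 459798, -1073555870, 3029253754, 3774391092, 20936, -2963067857, -90972676, 31667662, -1379530137, -173304234, 2897]) (.leaf [-13883371, -15107051, -26481579, -671759, 117914883, -51662948, -2797228, -21272495, 14486, -27688011, 65626619, 81052502, -449, -60601555, -2546220, 657729,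 -29625010, -3398737, -7]))) (.node (.node (.leaf []) (.leaf [643944, 405984, 838659, 29960, -4428867, 1918790, 112578, 971439, -942, 759738, -2486757, -3106476, 191, 2528526, 59197, -29223, 1140462, 147613, 14])) (.node (.leaf [0, 0, 0, 1, 0, 0, 0, 0, 0, 0, 0, 0, 0, 0, 0, 0, 0, 0, 0]) (.leaf [-5107105, -5517392, -9689056, -246694, 43234339, -18939153, -1026705, -7822821, 5295, -10113816, 24065152, 29727510, -162, -22254624, -928627, 241569, -10865783, -1249184, -8])))) (.node (.node (.node (.leaf [-235153608, -241996026, -430146302, -11192317, 1946249808, -851549591, -46601583, -359056851, 230100, -443611004, 1084192946, 1341251595, -6236, -1012379040, -40268710, 10968574, -490255486, -57227669, -121]) (.leaf [-36354197, -29065089, -55434334, -1612107, 270272032, -117519430, -6741590, -54758959, 24159, -53350901, 151181488, 188375629, 576, -148055949, -4513577, 1587282, -68865656, -8656765, 90])) (.node (.leaf []) (.leaf [-10040863612, -7557207128, -14686527874, -435625433, 72874878269, -31640219516, -1836993267, -15066868923,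 5281523, -13865509244, 40804953523, 50935827345, 476565, -40393999354, -1148104161, 429785021, -18615769705, -2384114775, 82324]))) (.node (.node (.leaf []) (.leaf [-223320, -212554, -386244, -10482, 1786328, -779846, -43215, -339753, 222, -389821, 995887, 1235430, -9, -945006, -34646, 10271, -451493, -53806, -2])) (.node (.leaf [0, 1, 0, 0, 0, 0, 0, 0, 0, 0, 0, 0, 0, 0, 0, 0, 0, 0, 0]) (.leaf [138637889, 107027693, 206354308, 6074523, -1016222952, 441483671, 25498620, 208340355, -83448, 196352645, -568746061, -709475256, -4229, 560547599, 16405573, -5986312, 259326060, 32941305, -533]))))) (.node (.node (.node (.node (.node (.leaf []) (.leaf [274375, 262220, 475954, 12852, -2196854, 959012, 53146, 417144, -266, 480120, -1224518, -1519573, 7, 1161507, 42693, -12594, 555220, 66133, 2])) (.leaf [-1096267450, -880373850, -1676821096, -48453078, 8159966168, -3548347410, -203543706, -1650291606, 689373, -1614665523, 4564078912, 5687242116, 32479, -4466657073, -136699965, 47727096, -2078669355, -261339253, 4130])) (.node (.leaf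 []) (.leaf [0, 0, 0, 0, 0, 1, 0, 0, 0, 0, 0, 0, 0, 0, 0, 0, 0, 0, 0]))) (.node (.node (.leaf []) (.leaf [])) (.node (.leaf [33212674, 29307989, 54296921, 1508403, -256957727, 111998922, 6312864, 50254317, -24993, 53752469, -143507331, -178329942, -285, 138024072, 4685302, -1483012, 65181489, 7975939, -113]) (.leaf [3272757760, 2518746654, 4860707929, 142908769, -23956213975, 10406521138, 601656955, 4916035107, -1858602, 4619948115, -13408539335, -16728269345, -132585, 13222454089, 385544233, -140900349, 6113917394, 777956945, -17233])))) (.node (.node (.node (.leaf []) (.leaf [34788932, 32261442, 58942943, 1599238, -274856858, 119947669, 6701331, 52770729, -27309, 59151964, -153385647, -190333539, -267, 146143521, 5227512, -1571459, 69561754, 8395795, -203])) (.node (.leaf [-947610784, -835681726, -1548394865, -42958918, 7328543275, -3194166313, -180113646, -1433522661, 695457, -1532438607, 4092990241, 5086397859, 13457, -3937067378, -133548566, 42246228, -1859050037, -227638642, 3776]) (.leaf [140897148, 124664408, 230792370,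 6428723, -1091621567, 475840955, 26791204, 213327738, -112533, 228709114, -609612670, -757435727, 827, 586023464, 19955824, -6316763, 276888692, 33813288, -254]))) (.node (.node (.leaf [32, 9, 22, 0, 19, 2, 0, -11, 0, -21, 0, -12, 0, 3, 0, 0, -1, 2, 0]) (.leaf [-15, -7, -10, 0, -2, 0, 0, 6, 0, 9, 0, 10, 0, -1, -2, 0, -6, 0, 0])) (.node (.leaf [35, 8, 22, -4, 24, -6, 3, 3, 0, -60, 19, -33, -1, 36, -13, 6, 2, -1, -1]) (.leaf [-11602, -11466, -20845, -559, 94038, -41213, -2264, -17495, 14, -21081, 52429, 64935, 0, -49380, -1825, 545, -23577, -2809, 0])))))) (.node (.node (.node (.node (.node (.node (.leaf []) (.leaf [-2625041, -2552828, -4608623, -122455, 21195376, -9257711, -512049, -3997932, 2265, -4682607, 11815364, 14644907, -9, -11161139, -418882, 120177, -5351646, -636200, 22])) (.leaf [0, 0, 0, 1, 0, 0, 0, 0, 0, 0, 0, 0, 0, 0, 0, 0, 0, 0, 0])) (.node (.leaf [-2, 0, 0, -4, 0, 1, 0, 0, 4, 0, -2, 0, 0, 0, 0, 0, 0, 0, 0]) (.leaf [292268339, 256942658, 476551353, 13311174, -2258377408, 984276579, 55483325, 442376358, -230716,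 471418412, -1261315719, -1567444504, 1281, 1213959609, 41057631, -13081214, 572999058, 70104508, -525]))) (.node (.node (.leaf []) (.leaf [])) (.node (.leaf [6, 5, 0, 0, 5, 0, 0, 0, 0, -6, 0, -3, 0, -2, 0, 0, 3, 0, 0]) (.leaf [-2906122, -2471068, -4640987, -142486, 22308343, -9718216, -542580, -4437411, 4995, -4573267, 12454385, 15473493, -864, -12063276, -395705, 138437, -5671143, -681529, -81])))) (.node (.node (.node (.leaf []) (.leaf [404551155, 212245863, 469400184, 16084223, -2595748668, 1117689087, 68966371, 598069703, -43500, 389886435, -1461430164, -1841493188, -49614, 1533065967, 27264601, -15983573, 672836878, 94181206, -7536])) (.node (.leaf [33006096, 29130213, 53962961, 1496820, -255346121, 111295166, 6274632, 49933719, -24306, 53418047, -142608188, -177217267, -451, 137156622, 4656251, -1471936, 64771880, 7929099, -127]) (.leaf [-824181421, -619213685, -1204196933, -35895378, 5976766900, -2594681209, -150508899, -1236634296, 504658, -1135167990, 3345987948, 4178024139, 24291, -3314406846, -93919000, 35370560,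 -1527204127, -195189710, -4131]))) (.node (.node (.leaf [175794, 125647, 248787, 7592, -1254533, 544016, 31738, 263832, -100, 231535, -702799, -878197, -9, 702015, 18806, -7483, 320989, 41493, 0]) (.leaf [-52925041, -46884641, -86769129, -2410657, 410197050, -178807441, -10068046, -80117049, 41175, -86000498, 229069458, 284618205, 65, -220160199, -7505384, 2369276, -104036537, -12708750, 141])) (.node (.leaf [-155, -284, -463, -9, 2074, -894, -35, -333, 0, -606, 1130, 1349, 0, -966, -64, 9, -502, -49, 0]) (.leaf [-678002111, -560039294, -1057669735, -30193921, 5103980599, -2221001487, -126753391, -1022111223, 447526, -1027115914, 2853535113, 3552849806, 16856, -2778323360, -87750617, 29726906, -1298555195, -161989428, 2633]))))) (.node (.node (.node (.node (.node (.leaf []) (.leaf [687, 843, 1479, 36, -7093, 3097, 154, 1263, 0, 1854, -3958, -4691, 0, 3506, 189, -36, 1733, 200, 0])) (.leaf [-537556265, -445103851, -839979804, -23922118, 4050334717, -1762586246, -100572480, -810383036, 347754, -816235795, 2264399822, 2819196214,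 15564, -2203751439, -69784008, 23556172, -1030360487, -128504899, 2628])) (.node (.leaf [5, 13, 21, 0, -19, 6, -1, -1, 0, 3, -6, -24, 0, 12, 1, 0, 4, 0, 0]) (.leaf [11, 199, 310, 4, 86, -71, 3, -132, 0, -30, 148, -144, 0, -33, -25, -3, -23, -9, 0]))) (.node (.node (.leaf [1, 1, 0, 0, 0, 1, -1, 0, 0, 0, 0, 0, 0, 0, 0, 0, 0, 0, 0]) (.leaf [-46541857, -44703319, -80906975, -2167367, 373460636, -163116505, -9047326, -70766355, 40476, -81963675, 208278737, 258190335, -415, -197126322, -7312952, 2127204, -94370465, -11257969, 102])) (.node (.leaf [-427065, -544042, -918874, -20914, 3906633, -1718962, -90954, -657711, 283, -994906, 2170353, 2667513, 46, -1938306, -94257, 20569, -973469, -107710, 17]) (.leaf [-138773725, -107653355, -207243910, -6083108, 1019065920, -442767595, -25554354, -208572738, 83028, -197479083, 570296872, 711325596, 4510, -561596118, -16526279, 5994987, -259994307, -32991510, 582])))) (.node (.node (.node (.leaf []) (.leaf [47415429, 44356274, 80850456, 2196692, -376183897, 164198683, 9148341, 72011412, -41389,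 81348268, -209882061, -260369571, 712, 199653744, 7210500, -2156052, 95181372, 11432936, 38])) (.node (.leaf [3232, 2445, 4686, 141, -23193, 10072, 588, 4795, -3, 4392, -13004, -16256, 0, 12843, 380, -138, 5958, 759, 0]) (.leaf [-31773, -30128, -54343, -1416, 253740, -111151, -6261, -48164, 0, -55845, 142043, 175106, 0, -133780, -4937, 1416, -64115, -7813, 0]))) (.node (.node (.leaf []) (.leaf [2518539432, 2286651570, 4202362362, 115279555, -19726977440, 8604746909, 482620733, 3817927044, -1905835, 4196159051, -11013340425, -13671840461, -16497, 10533781425, 368803230, -113328894, 4997076291, 606930080, -28329])) (.node (.leaf [12, 2, 6, 3, 5, 6, 0, 0, 0, 0, -12, -3, 0, 1, 0, -3, -6, 6, 0]) (.leaf [0, 0, 0, 1, 0, 0, 0, 0, 0, 0, 0, 0, 0, 0, 0, 0, 0, 0, 0])))))))))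

/-- a table -/
def threeL : Janko.Tree (List ℤ) := (.node (.node (.node (.node threeL0 threeL8) (.node threeL4 threeL12)) (.node (.node threeL2 threeL10) (.node threeL6 threeL14))) (.node (.node (.node threeL1 threeL9) (.node threeL5 threeL13)) (.node (.node threeL3 threeL11) (.node threeL7 threeL15))))

def threeKind0 : Janko.Tree (ℕ) :=
  (.node (.node (.node (.node (.node (.node (.node (.node (.node (.leaf 0) (.leaf 1)) (.leaf 1)) (.node (.leaf 1) (.leaf 1))) (.node (.node (.leaf 1) (.leaf 1)) (.node (.leaf 1) (.leaf 1)))) (.node (.node (.node (.node (.leaf 0) (.leaf 1)) (.leaf 0)) (.node (.leaf 1) (.leaf 1))) (.node (.node (.leaf 1) (.leaf 1)) (.node (.leaf 1) (.leaf 1))))) (.node (.node (.node (.node (.node (.leaf 1) (.leaf 1)) (.leaf 1)) (.node (.leaf 1) (.leaf 1))) (.node (.node (.leaf 1) (.leaf 1)) (.node (.leaf 1) (.leaf 1)))) (.node (.node (.node (.leaf 0) (.leaf 1)) (.node (.leaf 1) (.leaf 1))) (.node (.node (.leaf 1) (.leaf 1)) (.node (.leaf 1) (.leaf 1)))))) (.node (.node (.node (.node (.node (.node (.leaf 0)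 (.leaf 1)) (.leaf 1)) (.node (.leaf 1) (.leaf 1))) (.node (.node (.leaf 1) (.leaf 1)) (.node (.leaf 0) (.leaf 1)))) (.node (.node (.node (.leaf 1) (.leaf 1)) (.node (.leaf 1) (.leaf 1))) (.node (.node (.leaf 0) (.leaf 1)) (.node (.leaf 1) (.leaf 1))))) (.node (.node (.node (.node (.node (.leaf 1) (.leaf 1)) (.leaf 1)) (.node (.leaf 1) (.leaf 1))) (.node (.node (.leaf 1) (.leaf 1)) (.node (.leaf 1) (.leaf 1)))) (.node (.node (.node (.leaf 0) (.leaf 1)) (.node (.leaf 1) (.leaf 1))) (.node (.node (.leaf 1) (.leaf 1)) (.node (.leaf 1) (.leaf 1))))))) (.node (.node (.node (.node (.node (.node (.node (.leaf 1) (.leaf 1)) (.leaf 1)) (.node (.leaf 0) (.leaf 1))) (.node (.node (.leaf 1) (.leaf 1)) (.node (.leaf 1) (.leaf 1)))) (.node (.node (.node (.node (.leaf 1) (.leaf 2)) (.leaf 1)) (.node (.leaf 1) (.leaf 1))) (.node (.node (.leaf 1) (.leaf 1)) (.node (.leaf 1) (.leaf 1))))) (.node (.node (.node (.node (.node (.leaf 0) (.leaf 1)) (.leaf 1)) (.node (.leaf 1) (.leaf 1))) (.node (.node (.leaf 1) (.leaf 1)) (.node (.leaf 1) (.leaf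 1)))) (.node (.node (.node (.leaf 1) (.leaf 0)) (.node (.leaf 0) (.leaf 1))) (.node (.node (.leaf 1) (.leaf 1)) (.node (.leaf 1) (.leaf 1)))))) (.node (.node (.node (.node (.node (.node (.leaf 0) (.leaf 1)) (.leaf 1)) (.node (.leaf 1) (.leaf 1))) (.node (.node (.leaf 1) (.leaf 1)) (.node (.leaf 1) (.leaf 1)))) (.node (.node (.node (.leaf 0) (.leaf 1)) (.node (.leaf 1) (.leaf 1))) (.node (.node (.leaf 0) (.leaf 1)) (.node (.leaf 1) (.leaf 1))))) (.node (.node (.node (.node (.node (.leaf 1) (.leaf 1)) (.leaf 1)) (.node (.leaf 1) (.leaf 1))) (.node (.node (.leaf 0) (.leaf 1)) (.node (.leaf 1) (.leaf 1)))) (.node (.node (.node (.leaf 1) (.leaf 1)) (.node (.leaf 1) (.leaf 1))) (.node (.node (.leaf 1) (.leaf 1)) (.node (.leaf 1) (.leaf 1)))))))) (.node (.node (.node (.node (.node (.node (.node (.node (.leaf 0) (.leaf 1)) (.leaf 1)) (.node (.leaf 1) (.leaf 1))) (.node (.node (.leaf 1) (.leaf 1)) (.node (.leaf 0) (.leaf 1)))) (.node (.node (.node (.node (.leaf 1) (.leaf 1)) (.leaf 1)) (.node (.leaf 1) (.leaf 1))) (.node (.node (.leaf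 0) (.leaf 1)) (.node (.leaf 1) (.leaf 1))))) (.node (.node (.node (.node (.node (.leaf 0) (.leaf 1)) (.leaf 1)) (.node (.leaf 0) (.leaf 1))) (.node (.node (.leaf 1) (.leaf 1)) (.node (.leaf 1) (.leaf 1)))) (.node (.node (.node (.leaf 0) (.leaf 1)) (.node (.leaf 1) (.leaf 1))) (.node (.node (.leaf 1) (.leaf 1)) (.node (.leaf 0) (.leaf 1)))))) (.node (.node (.node (.node (.node (.node (.leaf 0) (.leaf 1)) (.leaf 1)) (.node (.leaf 0) (.leaf 1))) (.node (.node (.leaf 1) (.leaf 1)) (.node (.leaf 1) (.leaf 1)))) (.node (.node (.node (.leaf 1) (.leaf 1)) (.node (.leaf 0) (.leaf 1))) (.node (.node (.leaf 1) (.leaf 1)) (.node (.leaf 1) (.leaf 1))))) (.node (.node (.node (.node (.node (.leaf 0) (.leaf 1)) (.leaf 1)) (.node (.leaf 1) (.leaf 1))) (.node (.node (.leaf 1) (.leaf 1)) (.node (.leaf 1) (.leaf 1)))) (.node (.node (.node (.leaf 1) (.leaf 1)) (.node (.leaf 0) (.leaf 1))) (.node (.node (.leaf 0) (.leaf 1)) (.node (.leaf 1) (.leaf 1))))))) (.node (.node (.node (.node (.node (.node (.node (.leaf 0) (.leaf 1)) (.leaf 1)) (.node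 (.leaf 1) (.leaf 1))) (.node (.node (.leaf 1) (.leaf 1)) (.node (.leaf 1) (.leaf 1)))) (.node (.node (.node (.leaf 0) (.leaf 1)) (.node (.leaf 1) (.leaf 1))) (.node (.node (.leaf 1) (.leaf 1)) (.node (.leaf 1) (.leaf 1))))) (.node (.node (.node (.node (.node (.leaf 1) (.leaf 1)) (.leaf 1)) (.node (.leaf 1) (.leaf 1))) (.node (.node (.leaf 1) (.leaf 1)) (.node (.leaf 1) (.leaf 1)))) (.node (.node (.node (.leaf 1) (.leaf 1)) (.node (.leaf 1) (.leaf 1))) (.node (.node (.leaf 1) (.leaf 1)) (.node (.leaf 1) (.leaf 1)))))) (.node (.node (.node (.node (.node (.node (.leaf 1) (.leaf 1)) (.leaf 1)) (.node (.leaf 1) (.leaf 1))) (.node (.node (.leaf 0) (.leaf 1)) (.node (.leaf 1) (.leaf 1)))) (.node (.node (.node (.leaf 1) (.leaf 0)) (.node (.leaf 1) (.leaf 1))) (.node (.node (.leaf 0) (.leaf 1)) (.node (.leaf 1) (.leaf 1))))) (.node (.node (.node (.node (.node (.leaf 1) (.leaf 1)) (.leaf 1)) (.node (.leaf 0) (.leaf 1))) (.node (.node (.leaf 1) (.leaf 1)) (.node (.leaf 1) (.leaf 1)))) (.node (.node (.node (.leaf 0) (.leaf 0)) (.node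 (.leaf 1) (.leaf 1))) (.node (.node (.leaf 1) (.leaf 1)) (.node (.leaf 0) (.leaf 1)))))))))

def threeKind1 : Janko.Tree (ℕ) :=
  (.node (.node (.node (.node (.node (.node (.node (.node (.node (.leaf 0) (.leaf 1)) (.leaf 1)) (.node (.leaf 0) (.leaf 1))) (.node (.node (.leaf 0) (.leaf 1)) (.node (.leaf 1) (.leaf 1)))) (.node (.node (.node (.node (.leaf 0) (.leaf 1)) (.leaf 1)) (.node (.leaf 1) (.leaf 1))) (.node (.node (.leaf 1) (.leaf 1)) (.node (.leaf 1) (.leaf 1))))) (.node (.node (.node (.node (.node (.leaf 0) (.leaf 1)) (.leaf 1)) (.node (.leaf 1) (.leaf 1))) (.node (.node (.leaf 1) (.leaf 1)) (.node (.leaf 0) (.leaf 1)))) (.node (.node (.node (.leaf 1) (.leaf 1)) (.node (.leaf 0) (.leaf 1))) (.node (.node (.leaf 0) (.leaf 1)) (.node (.leaf 0) (.leaf 1)))))) (.node (.node (.node (.node (.node (.node (.leaf 0) (.leaf 1)) (.leaf 1)) (.node (.leaf 1) (.leaf 1))) (.node (.node (.leaf 0) (.leaf 1)) (.node (.leaf 0) (.leaf 1)))) (.node (.node (.node (.leaf 1) (.leaf 1)) (.node (.leaf 1) (.leaf 1))) (.node (.node (.leaf 1) (.leaf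 1)) (.node (.leaf 1) (.leaf 1))))) (.node (.node (.node (.node (.node (.leaf 1) (.leaf 1)) (.leaf 1)) (.node (.leaf 1) (.leaf 1))) (.node (.node (.leaf 1) (.leaf 1)) (.node (.leaf 1) (.leaf 1)))) (.node (.node (.node (.leaf 1) (.leaf 1)) (.node (.leaf 1) (.leaf 1))) (.node (.node (.leaf 0) (.leaf 1)) (.node (.leaf 0) (.leaf 1))))))) (.node (.node (.node (.node (.node (.node (.node (.leaf 0) (.leaf 1)) (.leaf 1)) (.node (.leaf 0) (.leaf 1))) (.node (.node (.leaf 0) (.leaf 1)) (.node (.leaf 1) (.leaf 1)))) (.node (.node (.node (.node (.leaf 1) (.leaf 2)) (.leaf 1)) (.node (.leaf 1) (.leaf 1))) (.node (.node (.leaf 0) (.leaf 1)) (.node (.leaf 1) (.leaf 1))))) (.node (.node (.node (.node (.node (.leaf 0) (.leaf 1)) (.leaf 1)) (.node (.leaf 1) (.leaf 1))) (.node (.node (.leaf 1) (.leaf 1)) (.node (.leaf 1) (.leaf 0)))) (.node (.node (.node (.leaf 0) (.leaf 1)) (.node (.leaf 1) (.leaf 1))) (.node (.node (.leaf 0) (.leaf 1)) (.node (.leaf 1) (.leaf 1)))))) (.node (.node (.node (.node (.node (.node (.leaf 0) (.leaf 1)) (.leaf 0))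 (.node (.leaf 1) (.leaf 1))) (.node (.node (.leaf 0) (.leaf 1)) (.node (.leaf 1) (.leaf 1)))) (.node (.node (.node (.leaf 1) (.leaf 1)) (.node (.leaf 0) (.leaf 1))) (.node (.node (.leaf 1) (.leaf 1)) (.node (.leaf 1) (.leaf 1))))) (.node (.node (.node (.node (.node (.leaf 1) (.leaf 1)) (.leaf 1)) (.node (.leaf 1) (.leaf 1))) (.node (.node (.leaf 1) (.leaf 1)) (.node (.leaf 0) (.leaf 1)))) (.node (.node (.node (.leaf 1) (.leaf 1)) (.node (.leaf 1) (.leaf 1))) (.node (.node (.leaf 0) (.leaf 1)) (.node (.leaf 1) (.leaf 1)))))))) (.node (.node (.node (.node (.node (.node (.node (.node (.leaf 0) (.leaf 1)) (.leaf 1)) (.node (.leaf 1) (.leaf 1))) (.node (.node (.leaf 0) (.leaf 1)) (.node (.leaf 1) (.leaf 1)))) (.node (.node (.node (.node (.leaf 0) (.leaf 1)) (.leaf 1)) (.node (.leaf 1) (.leaf 1))) (.node (.node (.leaf 1) (.leaf 1)) (.node (.leaf 1) (.leaf 1))))) (.node (.node (.node (.node (.node (.leaf 0) (.leaf 1)) (.leaf 1)) (.node (.leaf 1) (.leaf 1))) (.node (.node (.leaf 1) (.leaf 0)) (.node (.leaf 1) (.leaf 1)))) (.node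 (.node (.node (.leaf 0) (.leaf 1)) (.node (.leaf 0) (.leaf 1))) (.node (.node (.leaf 0) (.leaf 1)) (.node (.leaf 1) (.leaf 1)))))) (.node (.node (.node (.node (.node (.node (.leaf 0) (.leaf 1)) (.leaf 1)) (.node (.leaf 1) (.leaf 1))) (.node (.node (.leaf 0) (.leaf 1)) (.node (.leaf 0) (.leaf 1)))) (.node (.node (.node (.leaf 1) (.leaf 1)) (.node (.leaf 1) (.leaf 1))) (.node (.node (.leaf 0) (.leaf 1)) (.node (.leaf 1) (.leaf 1))))) (.node (.node (.node (.node (.node (.leaf 1) (.leaf 1)) (.leaf 1)) (.node (.leaf 1) (.leaf 1))) (.node (.node (.leaf 1) (.leaf 1)) (.node (.leaf 1) (.leaf 1)))) (.node (.node (.node (.leaf 1) (.leaf 1)) (.node (.leaf 1) (.leaf 1))) (.node (.node (.leaf 1) (.leaf 1)) (.node (.leaf 0) (.leaf 1))))))) (.node (.node (.node (.node (.node (.node (.node (.leaf 0) (.leaf 1)) (.leaf 1)) (.node (.leaf 1) (.leaf 1))) (.node (.node (.leaf 1) (.leaf 1)) (.node (.leaf 1) (.leaf 0)))) (.node (.node (.node (.leaf 1) (.leaf 1)) (.node (.leaf 1) (.leaf 1))) (.node (.node (.leaf 1) (.leaf 1)) (.node (.leaf 1) (.leaf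 1))))) (.node (.node (.node (.node (.node (.leaf 0) (.leaf 1)) (.leaf 1)) (.node (.leaf 1) (.leaf 1))) (.node (.node (.leaf 1) (.leaf 1)) (.node (.leaf 1) (.leaf 0)))) (.node (.node (.node (.leaf 1) (.leaf 1)) (.node (.leaf 1) (.leaf 1))) (.node (.node (.leaf 1) (.leaf 1)) (.node (.leaf 0) (.leaf 1)))))) (.node (.node (.node (.node (.node (.node (.leaf 0) (.leaf 1)) (.leaf 1)) (.node (.leaf 1) (.leaf 1))) (.node (.node (.leaf 1) (.leaf 1)) (.node (.leaf 1) (.leaf 1)))) (.node (.node (.node (.leaf 0) (.leaf 1)) (.node (.leaf 1) (.leaf 1))) (.node (.node (.leaf 0) (.leaf 1)) (.node (.leaf 1) (.leaf 1))))) (.node (.node (.node (.node (.node (.leaf 1) (.leaf 1)) (.leaf 0)) (.node (.leaf 1) (.leaf 1))) (.node (.node (.leaf 0) (.leaf 1)) (.node (.leaf 1) (.leaf 1)))) (.node (.node (.node (.leaf 1) (.leaf 1)) (.node (.leaf 1) (.leaf 1))) (.node (.node (.leaf 1) (.leaf 1)) (.node (.leaf 1) (.leaf 1)))))))))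

def threeKind2 : Janko.Tree (ℕ) :=
  (.node (.node (.node (.node (.node (.node (.node (.node (.node (.leaf 0) (.leaf 1)) (.leaf 1)) (.node (.leaf 1) (.leaf 1))) (.node (.node (.leaf 1) (.leaf 1)) (.node (.leaf 1) (.leaf 1)))) (.node (.node (.node (.node (.leaf 1) (.leaf 1)) (.leaf 1)) (.node (.leaf 1) (.leaf 1))) (.node (.node (.leaf 1) (.leaf 1)) (.node (.leaf 1) (.leaf 1))))) (.node (.node (.node (.node (.node (.leaf 0) (.leaf 1)) (.leaf 1)) (.node (.leaf 1) (.leaf 1))) (.node (.node (.leaf 1) (.leaf 1)) (.node (.leaf 1) (.leaf 1)))) (.node (.node (.node (.leaf 0) (.leaf 1)) (.node (.leaf 1) (.leaf 1))) (.node (.node (.leaf 1) (.leaf 1)) (.node (.leaf 1) (.leaf 1)))))) (.node (.node (.node (.node (.node (.node (.leaf 1) (.leaf 1)) (.leaf 1)) (.node (.leaf 0) (.leaf 1))) (.node (.node (.leaf 1) (.leaf 1)) (.node (.leaf 1) (.leaf 1)))) (.node (.node (.node (.leaf 1) (.leaf 1)) (.node (.leaf 1) (.leaf 1))) (.node (.node (.leaf 1) (.leaf 1)) (.node (.leaf 1) (.leaf 1))))) (.node (.node (.node (.node (.node (.leaf 1) (.leaf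 1)) (.leaf 1)) (.node (.leaf 0) (.leaf 1))) (.node (.node (.leaf 1) (.leaf 1)) (.node (.leaf 1) (.leaf 1)))) (.node (.node (.node (.leaf 0) (.leaf 1)) (.node (.leaf 1) (.leaf 1))) (.node (.node (.leaf 1) (.leaf 1)) (.node (.leaf 1) (.leaf 1))))))) (.node (.node (.node (.node (.node (.node (.node (.leaf 0) (.leaf 1)) (.leaf 1)) (.node (.leaf 1) (.leaf 1))) (.node (.node (.leaf 1) (.leaf 1)) (.node (.leaf 1) (.leaf 1)))) (.node (.node (.node (.node (.leaf 1) (.leaf 2)) (.leaf 1)) (.node (.leaf 0) (.leaf 1))) (.node (.node (.leaf 0) (.leaf 1)) (.node (.leaf 1) (.leaf 1))))) (.node (.node (.node (.node (.node (.leaf 1) (.leaf 1)) (.leaf 1)) (.node (.leaf 1) (.leaf 1))) (.node (.node (.leaf 1) (.leaf 1)) (.node (.leaf 1) (.leaf 1)))) (.node (.node (.node (.leaf 0) (.leaf 1)) (.node (.leaf 1) (.leaf 1))) (.node (.node (.leaf 1) (.leaf 1)) (.node (.leaf 0) (.leaf 1)))))) (.node (.node (.node (.node (.node (.node (.leaf 1) (.leaf 1)) (.leaf 0)) (.node (.leaf 1) (.leaf 1))) (.node (.node (.leaf 1) (.leaf 1)) (.node (.leaf 1) (.leaf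 1)))) (.node (.node (.node (.leaf 0) (.leaf 1)) (.node (.leaf 0) (.leaf 1))) (.node (.node (.leaf 1) (.leaf 1)) (.node (.leaf 0) (.leaf 1))))) (.node (.node (.node (.node (.node (.leaf 1) (.leaf 1)) (.leaf 1)) (.node (.leaf 1) (.leaf 1))) (.node (.node (.leaf 1) (.leaf 1)) (.node (.leaf 1) (.leaf 1)))) (.node (.node (.node (.leaf 1) (.leaf 1)) (.node (.leaf 1) (.leaf 1))) (.node (.node (.leaf 1) (.leaf 1)) (.node (.leaf 1) (.leaf 1)))))))) (.node (.node (.node (.node (.node (.node (.node (.node (.leaf 0) (.leaf 1)) (.leaf 1)) (.node (.leaf 1) (.leaf 1))) (.node (.node (.leaf 1) (.leaf 1)) (.node (.leaf 1) (.leaf 1)))) (.node (.node (.node (.node (.leaf 0) (.leaf 1)) (.leaf 1)) (.node (.leaf 1) (.leaf 1))) (.node (.node (.leaf 0) (.leaf 1)) (.node (.leaf 1) (.leaf 1))))) (.node (.node (.node (.node (.node (.leaf 1) (.leaf 1)) (.leaf 1)) (.node (.leaf 1) (.leaf 1))) (.node (.node (.leaf 0) (.leaf 1)) (.node (.leaf 1) (.leaf 1)))) (.node (.node (.node (.leaf 1) (.leaf 1)) (.node (.leaf 1) (.leaf 1))) (.node (.node (.leaf 1)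 (.leaf 1)) (.node (.leaf 1) (.leaf 1)))))) (.node (.node (.node (.node (.node (.node (.leaf 0) (.leaf 1)) (.leaf 1)) (.node (.leaf 1) (.leaf 1))) (.node (.node (.leaf 1) (.leaf 1)) (.node (.leaf 0) (.leaf 1)))) (.node (.node (.node (.leaf 1) (.leaf 1)) (.node (.leaf 1) (.leaf 1))) (.node (.node (.leaf 1) (.leaf 1)) (.node (.leaf 1) (.leaf 1))))) (.node (.node (.node (.node (.node (.leaf 1) (.leaf 1)) (.leaf 1)) (.node (.leaf 1) (.leaf 1))) (.node (.node (.leaf 1) (.leaf 1)) (.node (.leaf 1) (.leaf 1)))) (.node (.node (.node (.leaf 1) (.leaf 0)) (.node (.leaf 1) (.leaf 1))) (.node (.node (.leaf 1) (.leaf 1)) (.node (.leaf 0) (.leaf 1))))))) (.node (.node (.node (.node (.node (.node (.node (.leaf 0) (.leaf 1)) (.leaf 1)) (.node (.leaf 0) (.leaf 1))) (.node (.node (.leaf 0) (.leaf 1)) (.node (.leaf 1) (.leaf 1)))) (.node (.node (.node (.leaf 0) (.leaf 1)) (.node (.leaf 1) (.leaf 1))) (.node (.node (.leaf 1) (.leaf 1)) (.node (.leaf 0) (.leaf 1))))) (.node (.node (.node (.node (.node (.leaf 0) (.leaf 1)) (.leaf 0)) (.node (.leaf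 1) (.leaf 1))) (.node (.node (.leaf 1) (.leaf 1)) (.node (.leaf 1) (.leaf 1)))) (.node (.node (.node (.leaf 1) (.leaf 1)) (.node (.leaf 0) (.leaf 1))) (.node (.node (.leaf 1) (.leaf 1)) (.node (.leaf 1) (.leaf 1)))))) (.node (.node (.node (.node (.node (.node (.leaf 0) (.leaf 1)) (.leaf 1)) (.node (.leaf 1) (.leaf 1))) (.node (.node (.leaf 1) (.leaf 0)) (.node (.leaf 1) (.leaf 1)))) (.node (.node (.node (.leaf 1) (.leaf 1)) (.node (.leaf 1) (.leaf 1))) (.node (.node (.leaf 1) (.leaf 1)) (.node (.leaf 1) (.leaf 1))))) (.node (.node (.node (.node (.node (.leaf 1) (.leaf 1)) (.leaf 1)) (.node (.leaf 0) (.leaf 1))) (.node (.node (.leaf 1) (.leaf 1)) (.node (.leaf 1) (.leaf 1)))) (.node (.node (.node (.leaf 1) (.leaf 1)) (.node (.leaf 0) (.leaf 1))) (.node (.node (.leaf 1) (.leaf 1)) (.node (.leaf 1) (.leaf 1)))))))))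

def threeKind3 : Janko.Tree (ℕ) :=
  (.node (.node (.node (.node (.node (.node (.node (.node (.node (.leaf 0) (.leaf 1)) (.leaf 1)) (.node (.leaf 1) (.leaf 1))) (.node (.node (.leaf 1) (.leaf 1)) (.node (.leaf 1) (.leaf 1)))) (.node (.node (.node (.node (.leaf 1) (.leaf 1)) (.leaf 1)) (.node (.leaf 1) (.leaf 1))) (.node (.node (.leaf 0) (.leaf 1)) (.node (.leaf 1) (.leaf 1))))) (.node (.node (.node (.node (.node (.leaf 0) (.leaf 1)) (.leaf 1)) (.node (.leaf 1) (.leaf 0))) (.node (.node (.leaf 0) (.leaf 1)) (.node (.leaf 1) (.leaf 1)))) (.node (.node (.node (.leaf 0) (.leaf 1)) (.node (.leaf 1) (.leaf 1))) (.node (.node (.leaf 0) (.leaf 1)) (.node (.leaf 0) (.leaf 1)))))) (.node (.node (.node (.node (.node (.node (.leaf 1) (.leaf 1)) (.leaf 1)) (.node (.leaf 1) (.leaf 1))) (.node (.node (.leaf 0) (.leaf 1)) (.node (.leaf 1) (.leaf 1)))) (.node (.node (.node (.leaf 1) (.leaf 0)) (.node (.leaf 1) (.leaf 1))) (.node (.node (.leaf 1) (.leaf 1)) (.node (.leaf 1) (.leaf 1))))) (.node (.node (.node (.node (.node (.leaf 1) (.leaf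 1)) (.leaf 1)) (.node (.leaf 0) (.leaf 1))) (.node (.node (.leaf 1) (.leaf 1)) (.node (.leaf 1) (.leaf 1)))) (.node (.node (.node (.leaf 0) (.leaf 1)) (.node (.leaf 1) (.leaf 1))) (.node (.node (.leaf 0) (.leaf 1)) (.node (.leaf 1) (.leaf 1))))))) (.node (.node (.node (.node (.node (.node (.node (.leaf 0) (.leaf 1)) (.leaf 0)) (.node (.leaf 1) (.leaf 1))) (.node (.node (.leaf 0) (.leaf 1)) (.node (.leaf 1) (.leaf 1)))) (.node (.node (.node (.node (.leaf 1) (.leaf 2)) (.leaf 1)) (.node (.leaf 1) (.leaf 1))) (.node (.node (.leaf 1) (.leaf 1)) (.node (.leaf 1) (.leaf 1))))) (.node (.node (.node (.node (.node (.leaf 1) (.leaf 1)) (.leaf 1)) (.node (.leaf 1) (.leaf 1))) (.node (.node (.leaf 0) (.leaf 1)) (.node (.leaf 1) (.leaf 1)))) (.node (.node (.node (.leaf 0) (.leaf 1)) (.node (.leaf 1) (.leaf 1))) (.node (.node (.leaf 1) (.leaf 1)) (.node (.leaf 1) (.leaf 1)))))) (.node (.node (.node (.node (.node (.node (.leaf 0) (.leaf 1)) (.leaf 0)) (.node (.leaf 1) (.leaf 0))) (.node (.node (.leaf 1) (.leaf 1)) (.node (.leaf 1) (.leaf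 1)))) (.node (.node (.node (.leaf 1) (.leaf 1)) (.node (.leaf 1) (.leaf 1))) (.node (.node (.leaf 0) (.leaf 1)) (.node (.leaf 1) (.leaf 1))))) (.node (.node (.node (.node (.node (.leaf 0) (.leaf 1)) (.leaf 1)) (.node (.leaf 1) (.leaf 1))) (.node (.node (.leaf 1) (.leaf 1)) (.node (.leaf 1) (.leaf 1)))) (.node (.node (.node (.leaf 1) (.leaf 1)) (.node (.leaf 1) (.leaf 0))) (.node (.node (.leaf 1) (.leaf 1)) (.node (.leaf 0) (.leaf 1)))))))) (.node (.node (.node (.node (.node (.node (.node (.node (.leaf 1) (.leaf 1)) (.leaf 1)) (.node (.leaf 1) (.leaf 1))) (.node (.node (.leaf 0) (.leaf 1)) (.node (.leaf 1) (.leaf 0)))) (.node (.node (.node (.node (.leaf 1) (.leaf 1)) (.leaf 1)) (.node (.leaf 0) (.leaf 1))) (.node (.node (.leaf 0) (.leaf 1)) (.node (.leaf 1) (.leaf 1))))) (.node (.node (.node (.node (.node (.leaf 0) (.leaf 1)) (.leaf 1)) (.node (.leaf 1) (.leaf 1))) (.node (.node (.leaf 1) (.leaf 1)) (.node (.leaf 1) (.leaf 1)))) (.node (.node (.node (.leaf 1) (.leaf 1)) (.node (.leaf 1) (.leaf 1))) (.node (.node (.leaf 0)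 (.leaf 1)) (.node (.leaf 1) (.leaf 1)))))) (.node (.node (.node (.node (.node (.node (.leaf 0) (.leaf 1)) (.leaf 1)) (.node (.leaf 1) (.leaf 1))) (.node (.node (.leaf 1) (.leaf 1)) (.node (.leaf 1) (.leaf 1)))) (.node (.node (.node (.leaf 1) (.leaf 1)) (.node (.leaf 1) (.leaf 1))) (.node (.node (.leaf 0) (.leaf 1)) (.node (.leaf 1) (.leaf 1))))) (.node (.node (.node (.node (.node (.leaf 0) (.leaf 1)) (.leaf 1)) (.node (.leaf 1) (.leaf 1))) (.node (.node (.leaf 1) (.leaf 1)) (.node (.leaf 0) (.leaf 1)))) (.node (.node (.node (.leaf 0) (.leaf 0)) (.node (.leaf 1) (.leaf 1))) (.node (.node (.leaf 1) (.leaf 1)) (.node (.leaf 1) (.leaf 1))))))) (.node (.node (.node (.node (.node (.node (.node (.leaf 0) (.leaf 1)) (.leaf 1)) (.node (.leaf 0) (.leaf 1))) (.node (.node (.leaf 0) (.leaf 1)) (.node (.leaf 1) (.leaf 1)))) (.node (.node (.node (.leaf 0) (.leaf 0)) (.node (.leaf 1) (.leaf 1))) (.node (.node (.leaf 1) (.leaf 1)) (.node (.leaf 1) (.leaf 1))))) (.node (.node (.node (.node (.node (.leaf 1) (.leaf 1)) (.leaf 1)) (.node (.leaf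 1) (.leaf 1))) (.node (.node (.leaf 0) (.leaf 1)) (.node (.leaf 1) (.leaf 1)))) (.node (.node (.node (.leaf 1) (.leaf 1)) (.node (.leaf 1) (.leaf 1))) (.node (.node (.leaf 0) (.leaf 0)) (.node (.leaf 1) (.leaf 1)))))) (.node (.node (.node (.node (.node (.node (.leaf 0) (.leaf 1)) (.leaf 1)) (.node (.leaf 1) (.leaf 0))) (.node (.node (.leaf 0) (.leaf 1)) (.node (.leaf 1) (.leaf 1)))) (.node (.node (.node (.leaf 0) (.leaf 1)) (.node (.leaf 1) (.leaf 1))) (.node (.node (.leaf 1) (.leaf 0)) (.node (.leaf 1) (.leaf 1))))) (.node (.node (.node (.node (.node (.leaf 0) (.leaf 1)) (.leaf 1)) (.node (.leaf 1) (.leaf 1))) (.node (.node (.leaf 0) (.leaf 1)) (.node (.leaf 0) (.leaf 1)))) (.node (.node (.node (.leaf 1) (.leaf 1)) (.node (.leaf 1) (.leaf 1))) (.node (.node (.leaf 0) (.leaf 1)) (.node (.leaf 1) (.leaf 1)))))))))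

def threeKind4 : Janko.Tree (ℕ) :=
  (.node (.node (.node (.node (.node (.node (.node (.node (.node (.leaf 0) (.leaf 1)) (.leaf 1)) (.node (.leaf 1) (.leaf 1))) (.node (.node (.leaf 1) (.leaf 1)) (.node (.leaf 0) (.leaf 1)))) (.node (.node (.node (.node (.leaf 1) (.leaf 1)) (.leaf 1)) (.node (.leaf 1) (.leaf 1))) (.node (.node (.leaf 0) (.leaf 1)) (.node (.leaf 1) (.leaf 1))))) (.node (.node (.node (.node (.node (.leaf 1) (.leaf 1)) (.leaf 1)) (.node (.leaf 0) (.leaf 1))) (.node (.node (.leaf 1) (.leaf 1)) (.node (.leaf 1) (.leaf 1)))) (.node (.node (.node (.leaf 0) (.leaf 1)) (.node (.leaf 1) (.leaf 1))) (.node (.node (.leaf 1) (.leaf 1)) (.node (.leaf 1) (.leaf 1)))))) (.node (.node (.node (.node (.node (.node (.leaf 1) (.leaf 1)) (.leaf 0)) (.node (.leaf 1) (.leaf 1))) (.node (.node (.leaf 0) (.leaf 1)) (.node (.leaf 1) (.leaf 1)))) (.node (.node (.node (.leaf 0) (.leaf 1)) (.node (.leaf 1) (.leaf 1))) (.node (.node (.leaf 0) (.leaf 1)) (.node (.leaf 0) (.leaf 1))))) (.node (.node (.node (.node (.node (.leaf 1) (.leaf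 1)) (.leaf 1)) (.node (.leaf 1) (.leaf 1))) (.node (.node (.leaf 1) (.leaf 1)) (.node (.leaf 1) (.leaf 1)))) (.node (.node (.node (.leaf 1) (.leaf 1)) (.node (.leaf 1) (.leaf 1))) (.node (.node (.leaf 1) (.leaf 1)) (.node (.leaf 1) (.leaf 1))))))) (.node (.node (.node (.node (.node (.node (.node (.leaf 1) (.leaf 1)) (.leaf 1)) (.node (.leaf 1) (.leaf 1))) (.node (.node (.leaf 1) (.leaf 1)) (.node (.leaf 1) (.leaf 1)))) (.node (.node (.node (.node (.leaf 1) (.leaf 2)) (.leaf 1)) (.node (.leaf 1) (.leaf 1))) (.node (.node (.leaf 1) (.leaf 1)) (.node (.leaf 1) (.leaf 1))))) (.node (.node (.node (.node (.node (.leaf 1) (.leaf 1)) (.leaf 0)) (.node (.leaf 1) (.leaf 1))) (.node (.node (.leaf 1) (.leaf 1)) (.node (.leaf 1) (.leaf 1)))) (.node (.node (.node (.leaf 1) (.leaf 1)) (.node (.leaf 1) (.leaf 1))) (.node (.node (.leaf 1) (.leaf 1)) (.node (.leaf 1) (.leaf 1)))))) (.node (.node (.node (.node (.node (.node (.leaf 0) (.leaf 1)) (.leaf 1)) (.node (.leaf 1) (.leaf 1))) (.node (.node (.leaf 1) (.leaf 1)) (.node (.leaf 1) (.leaf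 1)))) (.node (.node (.node (.leaf 0) (.leaf 0)) (.node (.leaf 1) (.leaf 1))) (.node (.node (.leaf 0) (.leaf 1)) (.node (.leaf 1) (.leaf 1))))) (.node (.node (.node (.node (.node (.leaf 0) (.leaf 1)) (.leaf 1)) (.node (.leaf 1) (.leaf 1))) (.node (.node (.leaf 0) (.leaf 1)) (.node (.leaf 0) (.leaf 1)))) (.node (.node (.node (.leaf 1) (.leaf 1)) (.node (.leaf 1) (.leaf 1))) (.node (.node (.leaf 1) (.leaf 1)) (.node (.leaf 0) (.leaf 1)))))))) (.node (.node (.node (.node (.node (.node (.node (.node (.leaf 0) (.leaf 1)) (.leaf 0)) (.node (.leaf 1) (.leaf 1))) (.node (.node (.leaf 0) (.leaf 0)) (.node (.leaf 1) (.leaf 0)))) (.node (.node (.node (.node (.leaf 0) (.leaf 1)) (.leaf 1)) (.node (.leaf 0) (.leaf 1))) (.node (.node (.leaf 1) (.leaf 1)) (.node (.leaf 1) (.leaf 1))))) (.node (.node (.node (.node (.node (.leaf 1) (.leaf 1)) (.leaf 1)) (.node (.leaf 1) (.leaf 1))) (.node (.node (.leaf 1) (.leaf 1)) (.node (.leaf 1) (.leaf 1)))) (.node (.node (.node (.leaf 1) (.leaf 1)) (.node (.leaf 1) (.leaf 1))) (.node (.node (.leaf 1)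 (.leaf 1)) (.node (.leaf 1) (.leaf 1)))))) (.node (.node (.node (.node (.node (.node (.leaf 0) (.leaf 1)) (.leaf 1)) (.node (.leaf 1) (.leaf 1))) (.node (.node (.leaf 1) (.leaf 0)) (.node (.leaf 1) (.leaf 1)))) (.node (.node (.node (.leaf 1) (.leaf 1)) (.node (.leaf 1) (.leaf 1))) (.node (.node (.leaf 1) (.leaf 1)) (.node (.leaf 1) (.leaf 1))))) (.node (.node (.node (.node (.node (.leaf 1) (.leaf 1)) (.leaf 1)) (.node (.leaf 1) (.leaf 1))) (.node (.node (.leaf 1) (.leaf 1)) (.node (.leaf 1) (.leaf 1)))) (.node (.node (.node (.leaf 0) (.leaf 1)) (.node (.leaf 1) (.leaf 1))) (.node (.node (.leaf 1) (.leaf 1)) (.node (.leaf 1) (.leaf 1))))))) (.node (.node (.node (.node (.node (.node (.node (.leaf 0) (.leaf 1)) (.leaf 1)) (.node (.leaf 1) (.leaf 1))) (.node (.node (.leaf 1) (.leaf 1)) (.node (.leaf 0) (.leaf 1)))) (.node (.node (.node (.leaf 1) (.leaf 1)) (.node (.leaf 0) (.leaf 1))) (.node (.node (.leaf 1) (.leaf 1)) (.node (.leaf 1) (.leaf 1))))) (.node (.node (.node (.node (.node (.leaf 1) (.leaf 1)) (.leaf 1)) (.node (.leaf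 1) (.leaf 1))) (.node (.node (.leaf 1) (.leaf 1)) (.node (.leaf 1) (.leaf 1)))) (.node (.node (.node (.leaf 1) (.leaf 1)) (.node (.leaf 1) (.leaf 1))) (.node (.node (.leaf 1) (.leaf 1)) (.node (.leaf 1) (.leaf 1)))))) (.node (.node (.node (.node (.node (.node (.leaf 0) (.leaf 1)) (.leaf 1)) (.node (.leaf 1) (.leaf 1))) (.node (.node (.leaf 0) (.leaf 1)) (.node (.leaf 1) (.leaf 1)))) (.node (.node (.node (.leaf 1) (.leaf 1)) (.node (.leaf 1) (.leaf 1))) (.node (.node (.leaf 1) (.leaf 1)) (.node (.leaf 1) (.leaf 1))))) (.node (.node (.node (.node (.node (.leaf 0) (.leaf 1)) (.leaf 1)) (.node (.leaf 1) (.leaf 1))) (.node (.node (.leaf 1) (.leaf 1)) (.node (.leaf 0) (.leaf 1)))) (.node (.node (.node (.leaf 1) (.leaf 1)) (.node (.leaf 1) (.leaf 1))) (.node (.node (.leaf 0) (.leaf 1)) (.node (.leaf 1) (.leaf 1)))))))))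

def threeKind5 : Janko.Tree (ℕ) :=
  (.node (.node (.node (.node (.node (.node (.node (.node (.node (.leaf 0) (.leaf 1)) (.leaf 0)) (.node (.leaf 1) (.leaf 1))) (.node (.node (.leaf 1) (.leaf 1)) (.node (.leaf 1) (.leaf 1)))) (.node (.node (.node (.node (.leaf 1) (.leaf 1)) (.leaf 1)) (.node (.leaf 1) (.leaf 1))) (.node (.node (.leaf 1) (.leaf 1)) (.node (.leaf 0) (.leaf 1))))) (.node (.node (.node (.node (.node (.leaf 1) (.leaf 1)) (.leaf 1)) (.node (.leaf 1) (.leaf 1))) (.node (.node (.leaf 1) (.leaf 1)) (.node (.leaf 0) (.leaf 1)))) (.node (.node (.node (.leaf 0) (.leaf 1)) (.node (.leaf 1) (.leaf 1))) (.node (.node (.leaf 1) (.leaf 1)) (.node (.leaf 1) (.leaf 1)))))) (.node (.node (.node (.node (.node (.node (.leaf 0) (.leaf 1)) (.leaf 1)) (.node (.leaf 1) (.leaf 1))) (.node (.node (.leaf 1) (.leaf 1)) (.node (.leaf 0) (.leaf 1)))) (.node (.node (.node (.leaf 0) (.leaf 1)) (.node (.leaf 0) (.leaf 1))) (.node (.node (.leaf 0) (.leaf 0)) (.node (.leaf 1) (.leaf 1))))) (.node (.node (.node (.node (.node (.leaf 1) (.leaf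 1)) (.leaf 1)) (.node (.leaf 1) (.leaf 1))) (.node (.node (.leaf 1) (.leaf 1)) (.node (.leaf 1) (.leaf 1)))) (.node (.node (.node (.leaf 1) (.leaf 1)) (.node (.leaf 1) (.leaf 1))) (.node (.node (.leaf 1) (.leaf 1)) (.node (.leaf 1) (.leaf 1))))))) (.node (.node (.node (.node (.node (.node (.node (.leaf 1) (.leaf 1)) (.leaf 1)) (.node (.leaf 1) (.leaf 1))) (.node (.node (.leaf 0) (.leaf 1)) (.node (.leaf 1) (.leaf 1)))) (.node (.node (.node (.node (.leaf 1) (.leaf 2)) (.leaf 0)) (.node (.leaf 1) (.leaf 1))) (.node (.node (.leaf 0) (.leaf 1)) (.node (.leaf 1) (.leaf 1))))) (.node (.node (.node (.node (.node (.leaf 0) (.leaf 1)) (.leaf 1)) (.node (.leaf 1) (.leaf 1))) (.node (.node (.leaf 1) (.leaf 1)) (.node (.leaf 1) (.leaf 1)))) (.node (.node (.node (.leaf 0) (.leaf 0)) (.node (.leaf 1) (.leaf 1))) (.node (.node (.leaf 1) (.leaf 1)) (.node (.leaf 0) (.leaf 1)))))) (.node (.node (.node (.node (.node (.node (.leaf 0) (.leaf 1)) (.leaf 1)) (.node (.leaf 1) (.leaf 1))) (.node (.node (.leaf 0) (.leaf 1)) (.node (.leaf 1) (.leaf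 1)))) (.node (.node (.node (.leaf 0) (.leaf 1)) (.node (.leaf 0) (.leaf 1))) (.node (.node (.leaf 1) (.leaf 1)) (.node (.leaf 1) (.leaf 1))))) (.node (.node (.node (.node (.node (.leaf 0) (.leaf 1)) (.leaf 1)) (.node (.leaf 1) (.leaf 1))) (.node (.node (.leaf 0) (.leaf 1)) (.node (.leaf 1) (.leaf 1)))) (.node (.node (.node (.leaf 0) (.leaf 1)) (.node (.leaf 1) (.leaf 1))) (.node (.node (.leaf 1) (.leaf 1)) (.node (.leaf 1) (.leaf 1)))))))) (.node (.node (.node (.node (.node (.node (.node (.node (.leaf 0) (.leaf 1)) (.leaf 1)) (.node (.leaf 0) (.leaf 1))) (.node (.node (.leaf 0) (.leaf 1)) (.node (.leaf 0) (.leaf 1)))) (.node (.node (.node (.node (.leaf 0) (.leaf 1)) (.leaf 1)) (.node (.leaf 0) (.leaf 1))) (.node (.node (.leaf 0) (.leaf 0)) (.node (.leaf 1) (.leaf 0))))) (.node (.node (.node (.node (.node (.leaf 1) (.leaf 1)) (.leaf 1)) (.node (.leaf 0) (.leaf 1))) (.node (.node (.leaf 1) (.leaf 1)) (.node (.leaf 0) (.leaf 1)))) (.node (.node (.node (.leaf 0) (.leaf 1)) (.node (.leaf 0) (.leaf 1))) (.node (.node (.leaf 1)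 (.leaf 1)) (.node (.leaf 0) (.leaf 1)))))) (.node (.node (.node (.node (.node (.node (.leaf 1) (.leaf 1)) (.leaf 1)) (.node (.leaf 1) (.leaf 1))) (.node (.node (.leaf 1) (.leaf 1)) (.node (.leaf 1) (.leaf 1)))) (.node (.node (.node (.leaf 0) (.leaf 1)) (.node (.leaf 1) (.leaf 1))) (.node (.node (.leaf 1) (.leaf 1)) (.node (.leaf 1) (.leaf 1))))) (.node (.node (.node (.node (.node (.leaf 0) (.leaf 1)) (.leaf 1)) (.node (.leaf 1) (.leaf 1))) (.node (.node (.leaf 0) (.leaf 1)) (.node (.leaf 0) (.leaf 1)))) (.node (.node (.node (.leaf 0) (.leaf 1)) (.node (.leaf 1) (.leaf 1))) (.node (.node (.leaf 0) (.leaf 1)) (.node (.leaf 0) (.leaf 1))))))) (.node (.node (.node (.node (.node (.node (.node (.leaf 0) (.leaf 1)) (.leaf 1)) (.node (.leaf 0) (.leaf 1))) (.node (.node (.leaf 1) (.leaf 1)) (.node (.leaf 1) (.leaf 1)))) (.node (.node (.node (.leaf 1) (.leaf 1)) (.node (.leaf 1) (.leaf 1))) (.node (.node (.leaf 0) (.leaf 1)) (.node (.leaf 1) (.leaf 1))))) (.node (.node (.node (.node (.node (.leaf 1) (.leaf 1)) (.leaf 1)) (.node (.leaf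 1) (.leaf 1))) (.node (.node (.leaf 1) (.leaf 1)) (.node (.leaf 0) (.leaf 1)))) (.node (.node (.node (.leaf 1) (.leaf 1)) (.node (.leaf 0) (.leaf 1))) (.node (.node (.leaf 1) (.leaf 1)) (.node (.leaf 0) (.leaf 1)))))) (.node (.node (.node (.node (.node (.node (.leaf 0) (.leaf 1)) (.leaf 1)) (.node (.leaf 1) (.leaf 1))) (.node (.node (.leaf 1) (.leaf 1)) (.node (.leaf 0) (.leaf 1)))) (.node (.node (.node (.leaf 1) (.leaf 1)) (.node (.leaf 1) (.leaf 1))) (.node (.node (.leaf 0) (.leaf 1)) (.node (.leaf 1) (.leaf 1))))) (.node (.node (.node (.node (.node (.leaf 0) (.leaf 1)) (.leaf 0)) (.node (.leaf 0) (.leaf 1))) (.node (.node (.leaf 1) (.leaf 1)) (.node (.leaf 1) (.leaf 1)))) (.node (.node (.node (.leaf 0) (.leaf 1)) (.node (.leaf 1) (.leaf 0))) (.node (.node (.leaf 1) (.leaf 1)) (.node (.leaf 0) (.leaf 1)))))))))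

def threeKind6 : Janko.Tree (ℕ) :=
  (.node (.node (.node (.node (.node (.node (.node (.node (.node (.leaf 0) (.leaf 1)) (.leaf 1)) (.node (.leaf 1) (.leaf 1))) (.node (.node (.leaf 1) (.leaf 1)) (.node (.leaf 1) (.leaf 1)))) (.node (.node (.node (.node (.leaf 1) (.leaf 1)) (.leaf 1)) (.node (.leaf 1) (.leaf 1))) (.node (.node (.leaf 1) (.leaf 1)) (.node (.leaf 1) (.leaf 1))))) (.node (.node (.node (.node (.node (.leaf 1) (.leaf 1)) (.leaf 1)) (.node (.leaf 1) (.leaf 1))) (.node (.node (.leaf 1) (.leaf 1)) (.node (.leaf 1) (.leaf 1)))) (.node (.node (.node (.leaf 1) (.leaf 1)) (.node (.leaf 1) (.leaf 1))) (.node (.node (.leaf 1) (.leaf 1)) (.node (.leaf 1) (.leaf 1)))))) (.node (.node (.node (.node (.node (.node (.leaf 0) (.leaf 1)) (.leaf 1)) (.node (.leaf 1) (.leaf 1))) (.node (.node (.leaf 1) (.leaf 1)) (.node (.leaf 0) (.leaf 1)))) (.node (.node (.node (.leaf 1) (.leaf 1)) (.node (.leaf 1) (.leaf 1))) (.node (.node (.leaf 0) (.leaf 1)) (.node (.leaf 1) (.leaf 1))))) (.node (.node (.node (.node (.node (.leaf 0) (.leaf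 1)) (.leaf 1)) (.node (.leaf 0) (.leaf 1))) (.node (.node (.leaf 1) (.leaf 1)) (.node (.leaf 1) (.leaf 1)))) (.node (.node (.node (.leaf 1) (.leaf 1)) (.node (.leaf 1) (.leaf 0))) (.node (.node (.leaf 1) (.leaf 1)) (.node (.leaf 1) (.leaf 1))))))) (.node (.node (.node (.node (.node (.node (.node (.leaf 1) (.leaf 1)) (.leaf 1)) (.node (.leaf 1) (.leaf 1))) (.node (.node (.leaf 1) (.leaf 1)) (.node (.leaf 1) (.leaf 0)))) (.node (.node (.node (.node (.leaf 1) (.leaf 2)) (.leaf 1)) (.node (.leaf 1) (.leaf 1))) (.node (.node (.leaf 1) (.leaf 0)) (.node (.leaf 1) (.leaf 1))))) (.node (.node (.node (.node (.node (.leaf 0) (.leaf 1)) (.leaf 1)) (.node (.leaf 1) (.leaf 1))) (.node (.node (.leaf 1) (.leaf 1)) (.node (.leaf 1) (.leaf 1)))) (.node (.node (.node (.leaf 1) (.leaf 1)) (.node (.leaf 1) (.leaf 1))) (.node (.node (.leaf 1) (.leaf 1)) (.node (.leaf 1) (.leaf 1)))))) (.node (.node (.node (.node (.node (.node (.leaf 1) (.leaf 1)) (.leaf 1)) (.node (.leaf 1) (.leaf 1))) (.node (.node (.leaf 1) (.leaf 1)) (.node (.leaf 1) (.leaf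 1)))) (.node (.node (.node (.leaf 0) (.leaf 1)) (.node (.leaf 1) (.leaf 1))) (.node (.node (.leaf 1) (.leaf 1)) (.node (.leaf 1) (.leaf 1))))) (.node (.node (.node (.node (.node (.leaf 0) (.leaf 1)) (.leaf 1)) (.node (.leaf 1) (.leaf 1))) (.node (.node (.leaf 0) (.leaf 1)) (.node (.leaf 1) (.leaf 1)))) (.node (.node (.node (.leaf 1) (.leaf 1)) (.node (.leaf 1) (.leaf 1))) (.node (.node (.leaf 1) (.leaf 1)) (.node (.leaf 1) (.leaf 1)))))))) (.node (.node (.node (.node (.node (.node (.node (.node (.leaf 0) (.leaf 1)) (.leaf 1)) (.node (.leaf 1) (.leaf 1))) (.node (.node (.leaf 1) (.leaf 1)) (.node (.leaf 1) (.leaf 1)))) (.node (.node (.node (.node (.leaf 1) (.leaf 2)) (.leaf 1)) (.node (.leaf 1) (.leaf 1))) (.node (.node (.leaf 0) (.leaf 1)) (.node (.leaf 1) (.leaf 1))))) (.node (.node (.node (.node (.node (.leaf 0) (.leaf 1)) (.leaf 1)) (.node (.leaf 1) (.leaf 1))) (.node (.node (.leaf 1) (.leaf 1)) (.node (.leaf 1) (.leaf 1)))) (.node (.node (.node (.leaf 0) (.leaf 1)) (.node (.leaf 1) (.leaf 1))) (.node (.node (.leaf 0)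 (.leaf 1)) (.node (.leaf 1) (.leaf 1)))))) (.node (.node (.node (.node (.node (.node (.leaf 0) (.leaf 1)) (.leaf 0)) (.node (.leaf 1) (.leaf 1))) (.node (.node (.leaf 1) (.leaf 1)) (.node (.leaf 1) (.leaf 1)))) (.node (.node (.node (.leaf 1) (.leaf 1)) (.node (.leaf 0) (.leaf 1))) (.node (.node (.leaf 1) (.leaf 1)) (.node (.leaf 1) (.leaf 1))))) (.node (.node (.node (.node (.node (.leaf 0) (.leaf 1)) (.leaf 1)) (.node (.leaf 1) (.leaf 1))) (.node (.node (.leaf 1) (.leaf 1)) (.node (.leaf 1) (.leaf 1)))) (.node (.node (.node (.leaf 1) (.leaf 1)) (.node (.leaf 1) (.leaf 1))) (.node (.node (.leaf 0) (.leaf 1)) (.node (.leaf 1) (.leaf 1))))))) (.node (.node (.node (.node (.node (.node (.node (.leaf 0) (.leaf 1)) (.leaf 1)) (.node (.leaf 1) (.leaf 1))) (.node (.node (.leaf 1) (.leaf 1)) (.node (.leaf 1) (.leaf 1)))) (.node (.node (.node (.leaf 0) (.leaf 1)) (.node (.leaf 1) (.leaf 1))) (.node (.node (.leaf 1) (.leaf 1)) (.node (.leaf 1) (.leaf 1))))) (.node (.node (.node (.node (.node (.leaf 1) (.leaf 1)) (.leaf 1)) (.node (.leaf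 1) (.leaf 1))) (.node (.node (.leaf 1) (.leaf 1)) (.node (.leaf 1) (.leaf 1)))) (.node (.node (.node (.leaf 0) (.leaf 1)) (.node (.leaf 1) (.leaf 1))) (.node (.node (.leaf 1) (.leaf 1)) (.node (.leaf 1) (.leaf 1)))))) (.node (.node (.node (.node (.node (.node (.leaf 0) (.leaf 1)) (.leaf 1)) (.node (.leaf 1) (.leaf 1))) (.node (.node (.leaf 0) (.leaf 1)) (.node (.leaf 0) (.leaf 1)))) (.node (.node (.node (.leaf 1) (.leaf 1)) (.node (.leaf 1) (.leaf 1))) (.node (.node (.leaf 0) (.leaf 1)) (.node (.leaf 1) (.leaf 1))))) (.node (.node (.node (.node (.node (.leaf 0) (.leaf 1)) (.leaf 1)) (.node (.leaf 1) (.leaf 1))) (.node (.node (.leaf 1) (.leaf 1)) (.node (.leaf 1) (.leaf 1)))) (.node (.node (.node (.leaf 0) (.leaf 1)) (.node (.leaf 1) (.leaf 1))) (.node (.node (.leaf 1) (.leaf 1)) (.node (.leaf 0) (.leaf 1)))))))))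

def threeKind7 : Janko.Tree (ℕ) :=
  (.node (.node (.node (.node (.node (.node (.node (.node (.node (.leaf 0) (.leaf 1)) (.leaf 0)) (.node (.leaf 1) (.leaf 1))) (.node (.node (.leaf 0) (.leaf 1)) (.node (.leaf 1) (.leaf 1)))) (.node (.node (.node (.node (.leaf 1) (.leaf 1)) (.leaf 0)) (.node (.leaf 0) (.leaf 1))) (.node (.node (.leaf 1) (.leaf 1)) (.node (.leaf 1) (.leaf 1))))) (.node (.node (.node (.node (.node (.leaf 0) (.leaf 1)) (.leaf 1)) (.node (.leaf 1) (.leaf 1))) (.node (.node (.leaf 1) (.leaf 1)) (.node (.leaf 0) (.leaf 1)))) (.node (.node (.node (.leaf 1) (.leaf 1)) (.node (.leaf 1) (.leaf 1))) (.node (.node (.leaf 1) (.leaf 0)) (.node (.leaf 1) (.leaf 1)))))) (.node (.node (.node (.node (.node (.node (.leaf 0) (.leaf 1)) (.leaf 1)) (.node (.leaf 0) (.leaf 1))) (.node (.node (.leaf 1) (.leaf 1)) (.node (.leaf 0) (.leaf 1)))) (.node (.node (.node (.leaf 0) (.leaf 1)) (.node (.leaf 1) (.leaf 1))) (.node (.node (.leaf 0) (.leaf 1)) (.node (.leaf 1) (.leaf 1))))) (.node (.node (.node (.node (.node (.leaf 0) (.leaf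 1)) (.leaf 1)) (.node (.leaf 1) (.leaf 1))) (.node (.node (.leaf 1) (.leaf 1)) (.node (.leaf 1) (.leaf 1)))) (.node (.node (.node (.leaf 0) (.leaf 1)) (.node (.leaf 1) (.leaf 1))) (.node (.node (.leaf 1) (.leaf 1)) (.node (.leaf 1) (.leaf 1))))))) (.node (.node (.node (.node (.node (.node (.node (.leaf 1) (.leaf 1)) (.leaf 1)) (.node (.leaf 1) (.leaf 1))) (.node (.node (.leaf 1) (.leaf 1)) (.node (.leaf 1) (.leaf 1)))) (.node (.node (.node (.node (.leaf 0) (.leaf 2)) (.leaf 1)) (.node (.leaf 1) (.leaf 1))) (.node (.node (.leaf 0) (.leaf 1)) (.node (.leaf 1) (.leaf 1))))) (.node (.node (.node (.node (.node (.leaf 0) (.leaf 1)) (.leaf 1)) (.node (.leaf 1) (.leaf 1))) (.node (.node (.leaf 1) (.leaf 1)) (.node (.leaf 1) (.leaf 1)))) (.node (.node (.node (.leaf 0) (.leaf 1)) (.node (.leaf 1) (.leaf 0))) (.node (.node (.leaf 1) (.leaf 1)) (.node (.leaf 0) (.leaf 1)))))) (.node (.node (.node (.node (.node (.node (.leaf 1) (.leaf 1)) (.leaf 1)) (.node (.leaf 1) (.leaf 0))) (.node (.node (.leaf 1) (.leaf 1)) (.node (.leaf 1) (.leaf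 1)))) (.node (.node (.node (.leaf 0) (.leaf 1)) (.node (.leaf 1) (.leaf 1))) (.node (.node (.leaf 1) (.leaf 1)) (.node (.leaf 1) (.leaf 1))))) (.node (.node (.node (.node (.node (.leaf 0) (.leaf 1)) (.leaf 0)) (.node (.leaf 1) (.leaf 1))) (.node (.node (.leaf 1) (.leaf 1)) (.node (.leaf 1) (.leaf 1)))) (.node (.node (.node (.leaf 1) (.leaf 1)) (.node (.leaf 1) (.leaf 0))) (.node (.node (.leaf 0) (.leaf 1)) (.node (.leaf 1) (.leaf 1)))))))) (.node (.node (.node (.node (.node (.node (.node (.node (.leaf 0) (.leaf 1)) (.leaf 1)) (.node (.leaf 0) (.leaf 1))) (.node (.node (.leaf 1) (.leaf 1)) (.node (.leaf 1) (.leaf 1)))) (.node (.node (.node (.node (.leaf 0) (.leaf 2)) (.leaf 1)) (.node (.leaf 1) (.leaf 1))) (.node (.node (.leaf 1) (.leaf 1)) (.node (.leaf 1) (.leaf 1))))) (.node (.node (.node (.node (.node (.leaf 0) (.leaf 1)) (.leaf 0)) (.node (.leaf 0) (.leaf 1))) (.node (.node (.leaf 1) (.leaf 1)) (.node (.leaf 1) (.leaf 1)))) (.node (.node (.node (.leaf 0) (.leaf 1)) (.node (.leaf 1) (.leaf 1))) (.node (.node (.leaf 1)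 (.leaf 0)) (.node (.leaf 1) (.leaf 1)))))) (.node (.node (.node (.node (.node (.node (.leaf 0) (.leaf 1)) (.leaf 1)) (.node (.leaf 0) (.leaf 1))) (.node (.node (.leaf 1) (.leaf 1)) (.node (.leaf 0) (.leaf 1)))) (.node (.node (.node (.leaf 1) (.leaf 0)) (.node (.leaf 0) (.leaf 1))) (.node (.node (.leaf 1) (.leaf 1)) (.node (.leaf 1) (.leaf 1))))) (.node (.node (.node (.node (.node (.leaf 1) (.leaf 1)) (.leaf 0)) (.node (.leaf 0) (.leaf 1))) (.node (.node (.leaf 1) (.leaf 1)) (.node (.leaf 1) (.leaf 1)))) (.node (.node (.node (.leaf 0) (.leaf 1)) (.node (.leaf 0) (.leaf 1))) (.node (.node (.leaf 1) (.leaf 1)) (.node (.leaf 1) (.leaf 1))))))) (.node (.node (.node (.node (.node (.node (.node (.leaf 1) (.leaf 1)) (.leaf 1)) (.node (.leaf 1) (.leaf 1))) (.node (.node (.leaf 0) (.leaf 1)) (.node (.leaf 0) (.leaf 1)))) (.node (.node (.node (.leaf 1) (.leaf 1)) (.node (.leaf 0) (.leaf 1))) (.node (.node (.leaf 1) (.leaf 1)) (.node (.leaf 1) (.leaf 1))))) (.node (.node (.node (.node (.node (.leaf 0) (.leaf 1)) (.leaf 1)) (.node (.leaf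 0) (.leaf 1))) (.node (.node (.leaf 1) (.leaf 0)) (.node (.leaf 1) (.leaf 1)))) (.node (.node (.node (.leaf 0) (.leaf 1)) (.node (.leaf 1) (.leaf 1))) (.node (.node (.leaf 1) (.leaf 1)) (.node (.leaf 1) (.leaf 1)))))) (.node (.node (.node (.node (.node (.node (.leaf 1) (.leaf 1)) (.leaf 0)) (.node (.leaf 0) (.leaf 1))) (.node (.node (.leaf 0) (.leaf 1)) (.node (.leaf 1) (.leaf 1)))) (.node (.node (.node (.leaf 0) (.leaf 1)) (.node (.leaf 0) (.leaf 1))) (.node (.node (.leaf 0) (.leaf 0)) (.node (.leaf 1) (.leaf 1))))) (.node (.node (.node (.node (.node (.leaf 0) (.leaf 1)) (.leaf 1)) (.node (.leaf 0) (.leaf 1))) (.node (.node (.leaf 1) (.leaf 1)) (.node (.leaf 1) (.leaf 1)))) (.node (.node (.node (.leaf 1) (.leaf 1)) (.node (.leaf 1) (.leaf 1))) (.node (.node (.leaf 0) (.leaf 1)) (.node (.leaf 1) (.leaf 1)))))))))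

def threeKind8 : Janko.Tree (ℕ) :=
  (.node (.node (.node (.node (.node (.node (.node (.node (.node (.leaf 0) (.leaf 1)) (.leaf 1)) (.node (.leaf 1) (.leaf 1))) (.node (.node (.leaf 0) (.leaf 0)) (.node (.leaf 1) (.leaf 0)))) (.node (.node (.node (.node (.leaf 1) (.leaf 1)) (.leaf 1)) (.node (.leaf 0) (.leaf 1))) (.node (.node (.leaf 1) (.leaf 1)) (.node (.leaf 0) (.leaf 1))))) (.node (.node (.node (.node (.node (.leaf 0) (.leaf 1)) (.leaf 1)) (.node (.leaf 1) (.leaf 0))) (.node (.node (.leaf 0) (.leaf 1)) (.node (.leaf 1) (.leaf 1)))) (.node (.node (.node (.leaf 0) (.leaf 1)) (.node (.leaf 1) (.leaf 1))) (.node (.node (.leaf 0) (.leaf 1)) (.node (.leaf 1) (.leaf 1)))))) (.node (.node (.node (.node (.node (.node (.leaf 1) (.leaf 1)) (.leaf 1)) (.node (.leaf 1) (.leaf 1))) (.node (.node (.leaf 1) (.leaf 1)) (.node (.leaf 1) (.leaf 1)))) (.node (.node (.node (.leaf 0) (.leaf 1)) (.node (.leaf 1) (.leaf 1))) (.node (.node (.leaf 1) (.leaf 1)) (.node (.leaf 1) (.leaf 1))))) (.node (.node (.node (.node (.node (.leaf 0) (.leaf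 1)) (.leaf 1)) (.node (.leaf 1) (.leaf 1))) (.node (.node (.leaf 1) (.leaf 1)) (.node (.leaf 1) (.leaf 1)))) (.node (.node (.node (.leaf 1) (.leaf 1)) (.node (.leaf 1) (.leaf 1))) (.node (.node (.leaf 1) (.leaf 1)) (.node (.leaf 1) (.leaf 1))))))) (.node (.node (.node (.node (.node (.node (.node (.leaf 1) (.leaf 1)) (.leaf 1)) (.node (.leaf 1) (.leaf 1))) (.node (.node (.leaf 1) (.leaf 1)) (.node (.leaf 1) (.leaf 1)))) (.node (.node (.node (.node (.leaf 1) (.leaf 2)) (.leaf 1)) (.node (.leaf 1) (.leaf 1))) (.node (.node (.leaf 0) (.leaf 1)) (.node (.leaf 1) (.leaf 1))))) (.node (.node (.node (.node (.node (.leaf 1) (.leaf 1)) (.leaf 1)) (.node (.leaf 0) (.leaf 1))) (.node (.node (.leaf 1) (.leaf 1)) (.node (.leaf 1) (.leaf 1)))) (.node (.node (.node (.leaf 0) (.leaf 1)) (.node (.leaf 1) (.leaf 1))) (.node (.node (.leaf 0) (.leaf 1)) (.node (.leaf 1) (.leaf 1)))))) (.node (.node (.node (.node (.node (.node (.leaf 1) (.leaf 1)) (.leaf 1)) (.node (.leaf 1) (.leaf 1))) (.node (.node (.leaf 1) (.leaf 1)) (.node (.leaf 1) (.leaf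 1)))) (.node (.node (.node (.leaf 0) (.leaf 1)) (.node (.leaf 1) (.leaf 1))) (.node (.node (.leaf 1) (.leaf 1)) (.node (.leaf 0) (.leaf 1))))) (.node (.node (.node (.node (.node (.leaf 0) (.leaf 1)) (.leaf 1)) (.node (.leaf 1) (.leaf 1))) (.node (.node (.leaf 1) (.leaf 1)) (.node (.leaf 1) (.leaf 1)))) (.node (.node (.node (.leaf 1) (.leaf 1)) (.node (.leaf 1) (.leaf 1))) (.node (.node (.leaf 0) (.leaf 0)) (.node (.leaf 1) (.leaf 1)))))))) (.node (.node (.node (.node (.node (.node (.node (.node (.leaf 0) (.leaf 1)) (.leaf 1)) (.node (.leaf 0) (.leaf 1))) (.node (.node (.leaf 1) (.leaf 1)) (.node (.leaf 1) (.leaf 1)))) (.node (.node (.node (.node (.leaf 0) (.leaf 2)) (.leaf 1)) (.node (.leaf 1) (.leaf 1))) (.node (.node (.leaf 1) (.leaf 1)) (.node (.leaf 1) (.leaf 1))))) (.node (.node (.node (.node (.node (.leaf 1) (.leaf 1)) (.leaf 0)) (.node (.leaf 1) (.leaf 1))) (.node (.node (.leaf 1) (.leaf 1)) (.node (.leaf 1) (.leaf 1)))) (.node (.node (.node (.leaf 1) (.leaf 1)) (.node (.leaf 1) (.leaf 1))) (.node (.node (.leaf 1)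 (.leaf 1)) (.node (.leaf 1) (.leaf 1)))))) (.node (.node (.node (.node (.node (.node (.leaf 0) (.leaf 1)) (.leaf 1)) (.node (.leaf 1) (.leaf 1))) (.node (.node (.leaf 1) (.leaf 1)) (.node (.leaf 1) (.leaf 1)))) (.node (.node (.node (.leaf 1) (.leaf 1)) (.node (.leaf 1) (.leaf 1))) (.node (.node (.leaf 0) (.leaf 1)) (.node (.leaf 1) (.leaf 1))))) (.node (.node (.node (.node (.node (.leaf 1) (.leaf 1)) (.leaf 1)) (.node (.leaf 1) (.leaf 1))) (.node (.node (.leaf 1) (.leaf 1)) (.node (.leaf 1) (.leaf 1)))) (.node (.node (.node (.leaf 0) (.leaf 1)) (.node (.leaf 1) (.leaf 1))) (.node (.node (.leaf 1) (.leaf 1)) (.node (.leaf 0) (.leaf 1))))))) (.node (.node (.node (.node (.node (.node (.node (.leaf 0) (.leaf 1)) (.leaf 1)) (.node (.leaf 1) (.leaf 1))) (.node (.node (.leaf 0) (.leaf 1)) (.node (.leaf 1) (.leaf 1)))) (.node (.node (.node (.leaf 1) (.leaf 1)) (.node (.leaf 1) (.leaf 1))) (.node (.node (.leaf 1) (.leaf 1)) (.node (.leaf 0) (.leaf 1))))) (.node (.node (.node (.node (.node (.leaf 1) (.leaf 1)) (.leaf 1)) (.node (.leaf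 1) (.leaf 1))) (.node (.node (.leaf 0) (.leaf 1)) (.node (.leaf 1) (.leaf 1)))) (.node (.node (.node (.leaf 1) (.leaf 1)) (.node (.leaf 1) (.leaf 1))) (.node (.node (.leaf 1) (.leaf 1)) (.node (.leaf 1) (.leaf 1)))))) (.node (.node (.node (.node (.node (.node (.leaf 0) (.leaf 1)) (.leaf 1)) (.node (.leaf 0) (.leaf 1))) (.node (.node (.leaf 1) (.leaf 1)) (.node (.leaf 1) (.leaf 1)))) (.node (.node (.node (.leaf 0) (.leaf 1)) (.node (.leaf 1) (.leaf 1))) (.node (.node (.leaf 1) (.leaf 1)) (.node (.leaf 1) (.leaf 1))))) (.node (.node (.node (.node (.node (.leaf 1) (.leaf 1)) (.leaf 1)) (.node (.leaf 1) (.leaf 1))) (.node (.node (.leaf 0) (.leaf 1)) (.node (.leaf 1) (.leaf 1)))) (.node (.node (.node (.leaf 1) (.leaf 1)) (.node (.leaf 0) (.leaf 1))) (.node (.node (.leaf 1) (.leaf 1)) (.node (.leaf 1) (.leaf 1)))))))))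

def threeKind9 : Janko.Tree (ℕ) :=
  (.node (.node (.node (.node (.node (.node (.node (.node (.node (.leaf 0) (.leaf 1)) (.leaf 1)) (.node (.leaf 0) (.leaf 1))) (.node (.node (.leaf 1) (.leaf 1)) (.node (.leaf 0) (.leaf 1)))) (.node (.node (.node (.node (.leaf 1) (.leaf 1)) (.leaf 1)) (.node (.leaf 1) (.leaf 1))) (.node (.node (.leaf 0) (.leaf 1)) (.node (.leaf 1) (.leaf 1))))) (.node (.node (.node (.node (.node (.leaf 0) (.leaf 1)) (.leaf 1)) (.node (.leaf 0) (.leaf 1))) (.node (.node (.leaf 0) (.leaf 0)) (.node (.leaf 1) (.leaf 1)))) (.node (.node (.node (.leaf 0) (.leaf 1)) (.node (.leaf 1) (.leaf 1))) (.node (.node (.leaf 0) (.leaf 1)) (.node (.leaf 1) (.leaf 1)))))) (.node (.node (.node (.node (.node (.node (.leaf 1) (.leaf 1)) (.leaf 1)) (.node (.leaf 1) (.leaf 1))) (.node (.node (.leaf 0) (.leaf 1)) (.node (.leaf 1) (.leaf 1)))) (.node (.node (.node (.leaf 1) (.leaf 0)) (.node (.leaf 1) (.leaf 1))) (.node (.node (.leaf 1) (.leaf 1)) (.node (.leaf 1) (.leaf 1))))) (.node (.node (.node (.node (.node (.leaf 0) (.leaf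 1)) (.leaf 1)) (.node (.leaf 1) (.leaf 1))) (.node (.node (.leaf 1) (.leaf 1)) (.node (.leaf 1) (.leaf 1)))) (.node (.node (.node (.leaf 1) (.leaf 0)) (.node (.leaf 1) (.leaf 1))) (.node (.node (.leaf 0) (.leaf 1)) (.node (.leaf 1) (.leaf 1))))))) (.node (.node (.node (.node (.node (.node (.node (.leaf 0) (.leaf 1)) (.leaf 1)) (.node (.leaf 1) (.leaf 1))) (.node (.node (.leaf 0) (.leaf 1)) (.node (.leaf 1) (.leaf 1)))) (.node (.node (.node (.node (.leaf 0) (.leaf 1)) (.leaf 1)) (.node (.leaf 1) (.leaf 1))) (.node (.node (.leaf 1) (.leaf 1)) (.node (.leaf 1) (.leaf 1))))) (.node (.node (.node (.node (.node (.leaf 1) (.leaf 1)) (.leaf 1)) (.node (.leaf 1) (.leaf 1))) (.node (.node (.leaf 1) (.leaf 1)) (.node (.leaf 1) (.leaf 1)))) (.node (.node (.node (.leaf 0) (.leaf 1)) (.node (.leaf 0) (.leaf 1))) (.node (.node (.leaf 0) (.leaf 1)) (.node (.leaf 1) (.leaf 1)))))) (.node (.node (.node (.node (.node (.node (.leaf 0) (.leaf 1)) (.leaf 1)) (.node (.leaf 1) (.leaf 1))) (.node (.node (.leaf 1) (.leaf 1)) (.node (.leaf 0) (.leaf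 1)))) (.node (.node (.node (.leaf 1) (.leaf 0)) (.node (.leaf 0) (.leaf 1))) (.node (.node (.leaf 1) (.leaf 1)) (.node (.leaf 1) (.leaf 1))))) (.node (.node (.node (.node (.node (.leaf 0) (.leaf 1)) (.leaf 1)) (.node (.leaf 0) (.leaf 1))) (.node (.node (.leaf 1) (.leaf 1)) (.node (.leaf 1) (.leaf 1)))) (.node (.node (.node (.leaf 1) (.leaf 1)) (.node (.leaf 1) (.leaf 1))) (.node (.node (.leaf 1) (.leaf 1)) (.node (.leaf 0) (.leaf 1)))))))) (.node (.node (.node (.node (.node (.node (.node (.node (.leaf 0) (.leaf 1)) (.leaf 0)) (.node (.leaf 1) (.leaf 1))) (.node (.node (.leaf 0) (.leaf 1)) (.node (.leaf 0) (.leaf 1)))) (.node (.node (.node (.node (.leaf 1) (.leaf 2)) (.leaf 1)) (.node (.leaf 1) (.leaf 1))) (.node (.node (.leaf 0) (.leaf 1)) (.node (.leaf 1) (.leaf 1))))) (.node (.node (.node (.node (.node (.leaf 0) (.leaf 1)) (.leaf 1)) (.node (.leaf 1) (.leaf 1))) (.node (.node (.leaf 0) (.leaf 1)) (.node (.leaf 1) (.leaf 1)))) (.node (.node (.node (.leaf 1) (.leaf 1)) (.node (.leaf 1) (.leaf 1))) (.node (.node (.leaf 0)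 (.leaf 1)) (.node (.leaf 1) (.leaf 1)))))) (.node (.node (.node (.node (.node (.node (.leaf 0) (.leaf 1)) (.leaf 1)) (.node (.leaf 1) (.leaf 1))) (.node (.node (.leaf 0) (.leaf 1)) (.node (.leaf 0) (.leaf 1)))) (.node (.node (.node (.leaf 1) (.leaf 1)) (.node (.leaf 1) (.leaf 1))) (.node (.node (.leaf 0) (.leaf 1)) (.node (.leaf 1) (.leaf 1))))) (.node (.node (.node (.node (.node (.leaf 1) (.leaf 1)) (.leaf 1)) (.node (.leaf 0) (.leaf 1))) (.node (.node (.leaf 1) (.leaf 1)) (.node (.leaf 0) (.leaf 1)))) (.node (.node (.node (.leaf 1) (.leaf 1)) (.node (.leaf 1) (.leaf 1))) (.node (.node (.leaf 1) (.leaf 1)) (.node (.leaf 1) (.leaf 1))))))) (.node (.node (.node (.node (.node (.node (.node (.leaf 0) (.leaf 1)) (.leaf 0)) (.node (.leaf 1) (.leaf 1))) (.node (.node (.leaf 0) (.leaf 1)) (.node (.leaf 0) (.leaf 1)))) (.node (.node (.node (.leaf 1) (.leaf 0)) (.node (.leaf 1) (.leaf 1))) (.node (.node (.leaf 1) (.leaf 1)) (.node (.leaf 1) (.leaf 1))))) (.node (.node (.node (.node (.node (.leaf 0) (.leaf 1)) (.leaf 1)) (.node (.leaf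 0) (.leaf 0))) (.node (.node (.leaf 1) (.leaf 1)) (.node (.leaf 1) (.leaf 1)))) (.node (.node (.node (.leaf 0) (.leaf 1)) (.node (.leaf 1) (.leaf 1))) (.node (.node (.leaf 1) (.leaf 1)) (.node (.leaf 1) (.leaf 1)))))) (.node (.node (.node (.node (.node (.node (.leaf 1) (.leaf 1)) (.leaf 0)) (.node (.leaf 1) (.leaf 1))) (.node (.node (.leaf 1) (.leaf 1)) (.node (.leaf 0) (.leaf 1)))) (.node (.node (.node (.leaf 0) (.leaf 1)) (.node (.leaf 0) (.leaf 1))) (.node (.node (.leaf 1) (.leaf 1)) (.node (.leaf 1) (.leaf 1))))) (.node (.node (.node (.node (.node (.leaf 0) (.leaf 1)) (.leaf 1)) (.node (.leaf 1) (.leaf 1))) (.node (.node (.leaf 0) (.leaf 1)) (.node (.leaf 1) (.leaf 1)))) (.node (.node (.node (.leaf 1) (.leaf 1)) (.node (.leaf 1) (.leaf 1))) (.node (.node (.leaf 0) (.leaf 1)) (.node (.leaf 0) (.leaf 1)))))))))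

def threeKind10 : Janko.Tree (ℕ) :=
  (.node (.node (.node (.node (.node (.node (.node (.node (.node (.leaf 0) (.leaf 1)) (.leaf 1)) (.node (.leaf 1) (.leaf 1))) (.node (.node (.leaf 1) (.leaf 1)) (.node (.leaf 1) (.leaf 1)))) (.node (.node (.node (.node (.leaf 0) (.leaf 1)) (.leaf 1)) (.node (.leaf 1) (.leaf 1))) (.node (.node (.leaf 0) (.leaf 1)) (.node (.leaf 1) (.leaf 1))))) (.node (.node (.node (.node (.node (.leaf 1) (.leaf 1)) (.leaf 1)) (.node (.leaf 0) (.leaf 1))) (.node (.node (.leaf 1) (.leaf 1)) (.node (.leaf 1) (.leaf 1)))) (.node (.node (.node (.leaf 0) (.leaf 1)) (.node (.leaf 1) (.leaf 1))) (.node (.node (.leaf 1) (.leaf 1)) (.node (.leaf 0) (.leaf 1)))))) (.node (.node (.node (.node (.node (.node (.leaf 1) (.leaf 1)) (.leaf 1)) (.node (.leaf 1) (.leaf 1))) (.node (.node (.leaf 1) (.leaf 1)) (.node (.leaf 1) (.leaf 1)))) (.node (.node (.node (.leaf 1) (.leaf 1)) (.node (.leaf 1) (.leaf 1))) (.node (.node (.leaf 1) (.leaf 1)) (.node (.leaf 1) (.leaf 1))))) (.node (.node (.node (.node (.node (.leaf 0) (.leaf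 1)) (.leaf 1)) (.node (.leaf 1) (.leaf 1))) (.node (.node (.leaf 1) (.leaf 1)) (.node (.leaf 1) (.leaf 1)))) (.node (.node (.node (.leaf 1) (.leaf 1)) (.node (.leaf 1) (.leaf 1))) (.node (.node (.leaf 0) (.leaf 1)) (.node (.leaf 1) (.leaf 1))))))) (.node (.node (.node (.node (.node (.node (.node (.leaf 1) (.leaf 1)) (.leaf 1)) (.node (.leaf 1) (.leaf 1))) (.node (.node (.leaf 1) (.leaf 1)) (.node (.leaf 1) (.leaf 1)))) (.node (.node (.node (.node (.leaf 1) (.leaf 1)) (.leaf 1)) (.node (.leaf 1) (.leaf 1))) (.node (.node (.leaf 1) (.leaf 1)) (.node (.leaf 1) (.leaf 1))))) (.node (.node (.node (.node (.node (.leaf 1) (.leaf 1)) (.leaf 0)) (.node (.leaf 1) (.leaf 1))) (.node (.node (.leaf 1) (.leaf 1)) (.node (.leaf 1) (.leaf 1)))) (.node (.node (.node (.leaf 1) (.leaf 1)) (.node (.leaf 1) (.leaf 1))) (.node (.node (.leaf 1) (.leaf 1)) (.node (.leaf 1) (.leaf 1)))))) (.node (.node (.node (.node (.node (.node (.leaf 0) (.leaf 1)) (.leaf 1)) (.node (.leaf 1) (.leaf 1))) (.node (.node (.leaf 0) (.leaf 1)) (.node (.leaf 1) (.leaf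 1)))) (.node (.node (.node (.leaf 1) (.leaf 1)) (.node (.leaf 1) (.leaf 1))) (.node (.node (.leaf 0) (.leaf 1)) (.node (.leaf 1) (.leaf 1))))) (.node (.node (.node (.node (.node (.leaf 0) (.leaf 1)) (.leaf 1)) (.node (.leaf 0) (.leaf 1))) (.node (.node (.leaf 1) (.leaf 0)) (.node (.leaf 0) (.leaf 1)))) (.node (.node (.node (.leaf 1) (.leaf 0)) (.node (.leaf 1) (.leaf 1))) (.node (.node (.leaf 1) (.leaf 1)) (.node (.leaf 1) (.leaf 1)))))))) (.node (.node (.node (.node (.node (.node (.node (.node (.leaf 1) (.leaf 1)) (.leaf 1)) (.node (.leaf 0) (.leaf 1))) (.node (.node (.leaf 0) (.leaf 0)) (.node (.leaf 1) (.leaf 1)))) (.node (.node (.node (.node (.leaf 1) (.leaf 2)) (.leaf 1)) (.node (.leaf 1) (.leaf 1))) (.node (.node (.leaf 1) (.leaf 1)) (.node (.leaf 0) (.leaf 1))))) (.node (.node (.node (.node (.node (.leaf 0) (.leaf 1)) (.leaf 1)) (.node (.leaf 1) (.leaf 1))) (.node (.node (.leaf 1) (.leaf 1)) (.node (.leaf 0) (.leaf 1)))) (.node (.node (.node (.leaf 1) (.leaf 0)) (.node (.leaf 1) (.leaf 1))) (.node (.node (.leaf 1)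 (.leaf 1)) (.node (.leaf 1) (.leaf 1)))))) (.node (.node (.node (.node (.node (.node (.leaf 1) (.leaf 1)) (.leaf 1)) (.node (.leaf 1) (.leaf 1))) (.node (.node (.leaf 1) (.leaf 1)) (.node (.leaf 1) (.leaf 1)))) (.node (.node (.node (.leaf 1) (.leaf 1)) (.node (.leaf 1) (.leaf 1))) (.node (.node (.leaf 1) (.leaf 1)) (.node (.leaf 1) (.leaf 1))))) (.node (.node (.node (.node (.node (.leaf 1) (.leaf 1)) (.leaf 1)) (.node (.leaf 1) (.leaf 1))) (.node (.node (.leaf 1) (.leaf 1)) (.node (.leaf 1) (.leaf 0)))) (.node (.node (.node (.leaf 1) (.leaf 1)) (.node (.leaf 1) (.leaf 1))) (.node (.node (.leaf 1) (.leaf 1)) (.node (.leaf 1) (.leaf 1))))))) (.node (.node (.node (.node (.node (.node (.node (.leaf 0) (.leaf 1)) (.leaf 1)) (.node (.leaf 1) (.leaf 1))) (.node (.node (.leaf 1) (.leaf 1)) (.node (.leaf 0) (.leaf 1)))) (.node (.node (.node (.leaf 1) (.leaf 0)) (.node (.leaf 1) (.leaf 1))) (.node (.node (.leaf 1) (.leaf 1)) (.node (.leaf 1) (.leaf 1))))) (.node (.node (.node (.node (.node (.leaf 1) (.leaf 1)) (.leaf 1)) (.node (.leaf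 1) (.leaf 1))) (.node (.node (.leaf 1) (.leaf 1)) (.node (.leaf 1) (.leaf 1)))) (.node (.node (.node (.leaf 1) (.leaf 1)) (.node (.leaf 1) (.leaf 1))) (.node (.node (.leaf 1) (.leaf 1)) (.node (.leaf 1) (.leaf 1)))))) (.node (.node (.node (.node (.node (.node (.leaf 1) (.leaf 1)) (.leaf 1)) (.node (.leaf 1) (.leaf 1))) (.node (.node (.leaf 0) (.leaf 0)) (.node (.leaf 1) (.leaf 1)))) (.node (.node (.node (.leaf 1) (.leaf 1)) (.node (.leaf 0) (.leaf 1))) (.node (.node (.leaf 1) (.leaf 1)) (.node (.leaf 1) (.leaf 1))))) (.node (.node (.node (.node (.node (.leaf 1) (.leaf 1)) (.leaf 1)) (.node (.leaf 1) (.leaf 1))) (.node (.node (.leaf 1) (.leaf 1)) (.node (.leaf 1) (.leaf 1)))) (.node (.node (.node (.leaf 1) (.leaf 1)) (.node (.leaf 1) (.leaf 1))) (.node (.node (.leaf 0) (.leaf 1)) (.node (.leaf 1) (.leaf 1)))))))))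

def threeKind11 : Janko.Tree (ℕ) :=
  (.node (.node (.node (.node (.node (.node (.node (.node (.node (.leaf 0) (.leaf 1)) (.leaf 1)) (.node (.leaf 0) (.leaf 1))) (.node (.node (.leaf 1) (.leaf 1)) (.node (.leaf 1) (.leaf 1)))) (.node (.node (.node (.node (.leaf 0) (.leaf 1)) (.leaf 1)) (.node (.leaf 1) (.leaf 1))) (.node (.node (.leaf 1) (.leaf 1)) (.node (.leaf 1) (.leaf 1))))) (.node (.node (.node (.node (.node (.leaf 1) (.leaf 1)) (.leaf 1)) (.node (.leaf 1) (.leaf 1))) (.node (.node (.leaf 0) (.leaf 1)) (.node (.leaf 1) (.leaf 1)))) (.node (.node (.node (.leaf 0) (.leaf 1)) (.node (.leaf 1) (.leaf 1))) (.node (.node (.leaf 1) (.leaf 1)) (.node (.leaf 1) (.leaf 1)))))) (.node (.node (.node (.node (.node (.node (.leaf 1) (.leaf 1)) (.leaf 1)) (.node (.leaf 0) (.leaf 1))) (.node (.node (.leaf 0) (.leaf 1)) (.node (.leaf 1) (.leaf 1)))) (.node (.node (.node (.leaf 1) (.leaf 1)) (.node (.leaf 1) (.leaf 1))) (.node (.node (.leaf 0) (.leaf 1)) (.node (.leaf 1) (.leaf 1))))) (.node (.node (.node (.node (.node (.leaf 0) (.leaf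 1)) (.leaf 1)) (.node (.leaf 1) (.leaf 1))) (.node (.node (.leaf 1) (.leaf 1)) (.node (.leaf 0) (.leaf 1)))) (.node (.node (.node (.leaf 0) (.leaf 1)) (.node (.leaf 0) (.leaf 1))) (.node (.node (.leaf 1) (.leaf 1)) (.node (.leaf 0) (.leaf 1))))))) (.node (.node (.node (.node (.node (.node (.node (.leaf 0) (.leaf 1)) (.leaf 1)) (.node (.leaf 1) (.leaf 1))) (.node (.node (.leaf 0) (.leaf 1)) (.node (.leaf 1) (.leaf 1)))) (.node (.node (.node (.leaf 1) (.leaf 1)) (.node (.leaf 1) (.leaf 1))) (.node (.node (.leaf 1) (.leaf 1)) (.node (.leaf 1) (.leaf 1))))) (.node (.node (.node (.node (.node (.leaf 1) (.leaf 1)) (.leaf 1)) (.node (.leaf 1) (.leaf 1))) (.node (.node (.leaf 1) (.leaf 1)) (.node (.leaf 1) (.leaf 1)))) (.node (.node (.node (.leaf 1) (.leaf 1)) (.node (.leaf 1) (.leaf 1))) (.node (.node (.leaf 0) (.leaf 1)) (.node (.leaf 1) (.leaf 1)))))) (.node (.node (.node (.node (.node (.node (.leaf 0) (.leaf 1)) (.leaf 1)) (.node (.leaf 1) (.leaf 1))) (.node (.node (.leaf 0) (.leaf 1)) (.node (.leaf 1) (.leaf 1)))) (.node (.node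 (.node (.leaf 0) (.leaf 1)) (.node (.leaf 1) (.leaf 1))) (.node (.node (.leaf 1) (.leaf 1)) (.node (.leaf 1) (.leaf 1))))) (.node (.node (.node (.node (.node (.leaf 1) (.leaf 1)) (.leaf 1)) (.node (.leaf 1) (.leaf 1))) (.node (.node (.leaf 1) (.leaf 1)) (.node (.leaf 0) (.leaf 1)))) (.node (.node (.node (.leaf 1) (.leaf 1)) (.node (.leaf 1) (.leaf 1))) (.node (.node (.leaf 0) (.leaf 1)) (.node (.leaf 1) (.leaf 1)))))))) (.node (.node (.node (.node (.node (.node (.node (.node (.leaf 0) (.leaf 1)) (.leaf 1)) (.node (.leaf 1) (.leaf 1))) (.node (.node (.leaf 0) (.leaf 1)) (.node (.leaf 1) (.leaf 1)))) (.node (.node (.node (.node (.leaf 1) (.leaf 2)) (.leaf 1)) (.node (.leaf 1) (.leaf 1))) (.node (.node (.leaf 1) (.leaf 1)) (.node (.leaf 0) (.leaf 1))))) (.node (.node (.node (.node (.node (.leaf 1) (.leaf 1)) (.leaf 1)) (.node (.leaf 0) (.leaf 1))) (.node (.node (.leaf 1) (.leaf 1)) (.node (.leaf 1) (.leaf 1)))) (.node (.node (.node (.leaf 1) (.leaf 1)) (.node (.leaf 1) (.leaf 1))) (.node (.node (.leaf 1) (.leaf 1)) (.node (.leaf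 0) (.leaf 1)))))) (.node (.node (.node (.node (.node (.node (.leaf 1) (.leaf 1)) (.leaf 0)) (.node (.leaf 1) (.leaf 1))) (.node (.node (.leaf 1) (.leaf 1)) (.node (.leaf 1) (.leaf 1)))) (.node (.node (.node (.leaf 1) (.leaf 1)) (.node (.leaf 1) (.leaf 1))) (.node (.node (.leaf 1) (.leaf 1)) (.node (.leaf 1) (.leaf 1))))) (.node (.node (.node (.node (.node (.leaf 0) (.leaf 1)) (.leaf 0)) (.node (.leaf 1) (.leaf 1))) (.node (.node (.leaf 1) (.leaf 1)) (.node (.leaf 1) (.leaf 1)))) (.node (.node (.node (.leaf 1) (.leaf 1)) (.node (.leaf 1) (.leaf 1))) (.node (.node (.leaf 0) (.leaf 1)) (.node (.leaf 1) (.leaf 1))))))) (.node (.node (.node (.node (.node (.node (.node (.leaf 0) (.leaf 1)) (.leaf 1)) (.node (.leaf 1) (.leaf 1))) (.node (.node (.leaf 1) (.leaf 1)) (.node (.leaf 1) (.leaf 1)))) (.node (.node (.node (.leaf 0) (.leaf 1)) (.node (.leaf 1) (.leaf 1))) (.node (.node (.leaf 1) (.leaf 1)) (.node (.leaf 1) (.leaf 1))))) (.node (.node (.node (.node (.node (.leaf 1) (.leaf 1)) (.leaf 1)) (.node (.leaf 1) (.leaf 1))) (.node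 (.node (.leaf 1) (.leaf 1)) (.node (.leaf 1) (.leaf 0)))) (.node (.node (.node (.leaf 1) (.leaf 1)) (.node (.leaf 1) (.leaf 1))) (.node (.node (.leaf 1) (.leaf 1)) (.node (.leaf 1) (.leaf 1)))))) (.node (.node (.node (.node (.node (.node (.leaf 0) (.leaf 1)) (.leaf 1)) (.node (.leaf 0) (.leaf 1))) (.node (.node (.leaf 1) (.leaf 0)) (.node (.leaf 1) (.leaf 1)))) (.node (.node (.node (.leaf 1) (.leaf 1)) (.node (.leaf 1) (.leaf 1))) (.node (.node (.leaf 1) (.leaf 1)) (.node (.leaf 1) (.leaf 1))))) (.node (.node (.node (.node (.node (.leaf 0) (.leaf 1)) (.leaf 1)) (.node (.leaf 0) (.leaf 1))) (.node (.node (.leaf 1) (.leaf 0)) (.node (.leaf 1) (.leaf 1)))) (.node (.node (.node (.leaf 0) (.leaf 1)) (.node (.leaf 1) (.leaf 1))) (.node (.node (.leaf 1) (.leaf 1)) (.node (.leaf 1) (.leaf 1)))))))))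

def threeKind12 : Janko.Tree (ℕ) :=
  (.node (.node (.node (.node (.node (.node (.node (.node (.node (.leaf 0) (.leaf 1)) (.leaf 1)) (.node (.leaf 1) (.leaf 1))) (.node (.node (.leaf 1) (.leaf 1)) (.node (.leaf 1) (.leaf 1)))) (.node (.node (.node (.node (.leaf 0) (.leaf 1)) (.leaf 0)) (.node (.leaf 1) (.leaf 1))) (.node (.node (.leaf 1) (.leaf 1)) (.node (.leaf 1) (.leaf 1))))) (.node (.node (.node (.node (.node (.leaf 1) (.leaf 1)) (.leaf 1)) (.node (.leaf 1) (.leaf 1))) (.node (.node (.leaf 1) (.leaf 1)) (.node (.leaf 1) (.leaf 1)))) (.node (.node (.node (.leaf 0) (.leaf 1)) (.node (.leaf 1) (.leaf 1))) (.node (.node (.leaf 1) (.leaf 1)) (.node (.leaf 1) (.leaf 1)))))) (.node (.node (.node (.node (.node (.node (.leaf 1) (.leaf 1)) (.leaf 1)) (.node (.leaf 1) (.leaf 1))) (.node (.node (.leaf 1) (.leaf 1)) (.node (.leaf 1) (.leaf 1)))) (.node (.node (.node (.leaf 1) (.leaf 1)) (.node (.leaf 1) (.leaf 1))) (.node (.node (.leaf 0) (.leaf 1)) (.node (.leaf 1) (.leaf 1))))) (.node (.node (.node (.node (.node (.leaf 1) (.leaf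 1)) (.leaf 1)) (.node (.leaf 1) (.leaf 1))) (.node (.node (.leaf 1) (.leaf 1)) (.node (.leaf 1) (.leaf 1)))) (.node (.node (.node (.leaf 1) (.leaf 0)) (.node (.leaf 1) (.leaf 1))) (.node (.node (.leaf 1) (.leaf 1)) (.node (.leaf 0) (.leaf 1))))))) (.node (.node (.node (.node (.node (.node (.node (.leaf 0) (.leaf 1)) (.leaf 1)) (.node (.leaf 1) (.leaf 1))) (.node (.node (.leaf 0) (.leaf 1)) (.node (.leaf 1) (.leaf 0)))) (.node (.node (.node (.leaf 0) (.leaf 1)) (.node (.leaf 1) (.leaf 1))) (.node (.node (.leaf 1) (.leaf 1)) (.node (.leaf 0) (.leaf 1))))) (.node (.node (.node (.node (.node (.leaf 1) (.leaf 1)) (.leaf 1)) (.node (.leaf 1) (.leaf 1))) (.node (.node (.leaf 1) (.leaf 1)) (.node (.leaf 1) (.leaf 1)))) (.node (.node (.node (.leaf 1) (.leaf 1)) (.node (.leaf 1) (.leaf 1))) (.node (.node (.leaf 1) (.leaf 1)) (.node (.leaf 1) (.leaf 1)))))) (.node (.node (.node (.node (.node (.node (.leaf 1) (.leaf 1)) (.leaf 1)) (.node (.leaf 1) (.leaf 1))) (.node (.node (.leaf 1) (.leaf 1)) (.node (.leaf 1) (.leaf 1)))) (.node (.node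 (.node (.leaf 0) (.leaf 1)) (.node (.leaf 1) (.leaf 1))) (.node (.node (.leaf 0) (.leaf 1)) (.node (.leaf 1) (.leaf 1))))) (.node (.node (.node (.node (.node (.leaf 0) (.leaf 1)) (.leaf 1)) (.node (.leaf 1) (.leaf 1))) (.node (.node (.leaf 0) (.leaf 1)) (.node (.leaf 1) (.leaf 1)))) (.node (.node (.node (.leaf 1) (.leaf 1)) (.node (.leaf 1) (.leaf 1))) (.node (.node (.leaf 1) (.leaf 1)) (.node (.leaf 1) (.leaf 1)))))))) (.node (.node (.node (.node (.node (.node (.node (.node (.leaf 0) (.leaf 1)) (.leaf 1)) (.node (.leaf 1) (.leaf 0))) (.node (.node (.leaf 1) (.leaf 1)) (.node (.leaf 1) (.leaf 1)))) (.node (.node (.node (.node (.leaf 1) (.leaf 2)) (.leaf 1)) (.node (.leaf 1) (.leaf 1))) (.node (.node (.leaf 0) (.leaf 1)) (.node (.leaf 1) (.leaf 1))))) (.node (.node (.node (.node (.node (.leaf 0) (.leaf 1)) (.leaf 1)) (.node (.leaf 0) (.leaf 1))) (.node (.node (.leaf 1) (.leaf 1)) (.node (.leaf 1) (.leaf 1)))) (.node (.node (.node (.leaf 1) (.leaf 1)) (.node (.leaf 1) (.leaf 1))) (.node (.node (.leaf 0) (.leaf 1)) (.node (.leaf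 0) (.leaf 1)))))) (.node (.node (.node (.node (.node (.node (.leaf 0) (.leaf 1)) (.leaf 1)) (.node (.leaf 1) (.leaf 1))) (.node (.node (.leaf 1) (.leaf 1)) (.node (.leaf 1) (.leaf 1)))) (.node (.node (.node (.leaf 1) (.leaf 1)) (.node (.leaf 1) (.leaf 1))) (.node (.node (.leaf 1) (.leaf 1)) (.node (.leaf 1) (.leaf 1))))) (.node (.node (.node (.node (.node (.leaf 0) (.leaf 1)) (.leaf 1)) (.node (.leaf 1) (.leaf 1))) (.node (.node (.leaf 1) (.leaf 1)) (.node (.leaf 1) (.leaf 1)))) (.node (.node (.node (.leaf 1) (.leaf 1)) (.node (.leaf 1) (.leaf 1))) (.node (.node (.leaf 0) (.leaf 1)) (.node (.leaf 1) (.leaf 1))))))) (.node (.node (.node (.node (.node (.node (.node (.leaf 0) (.leaf 1)) (.leaf 1)) (.node (.leaf 0) (.leaf 1))) (.node (.node (.leaf 1) (.leaf 1)) (.node (.leaf 1) (.leaf 1)))) (.node (.node (.node (.leaf 0) (.leaf 1)) (.node (.leaf 1) (.leaf 1))) (.node (.node (.leaf 1) (.leaf 1)) (.node (.leaf 1) (.leaf 1))))) (.node (.node (.node (.node (.node (.leaf 1) (.leaf 1)) (.leaf 1)) (.node (.leaf 1) (.leaf 1))) (.node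 (.node (.leaf 1) (.leaf 1)) (.node (.leaf 1) (.leaf 1)))) (.node (.node (.node (.leaf 0) (.leaf 1)) (.node (.leaf 1) (.leaf 1))) (.node (.node (.leaf 1) (.leaf 1)) (.node (.leaf 1) (.leaf 1)))))) (.node (.node (.node (.node (.node (.node (.leaf 0) (.leaf 1)) (.leaf 1)) (.node (.leaf 1) (.leaf 0))) (.node (.node (.leaf 1) (.leaf 1)) (.node (.leaf 0) (.leaf 1)))) (.node (.node (.node (.leaf 1) (.leaf 1)) (.node (.leaf 1) (.leaf 1))) (.node (.node (.leaf 1) (.leaf 1)) (.node (.leaf 1) (.leaf 1))))) (.node (.node (.node (.node (.node (.leaf 1) (.leaf 1)) (.leaf 1)) (.node (.leaf 0) (.leaf 1))) (.node (.node (.leaf 1) (.leaf 1)) (.node (.leaf 0) (.leaf 1)))) (.node (.node (.node (.leaf 0) (.leaf 1)) (.node (.leaf 1) (.leaf 1))) (.node (.node (.leaf 1) (.leaf 1)) (.node (.leaf 1) (.leaf 1)))))))))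

def threeKind13 : Janko.Tree (ℕ) :=
  (.node (.node (.node (.node (.node (.node (.node (.node (.node (.leaf 0) (.leaf 1)) (.leaf 1)) (.node (.leaf 1) (.leaf 1))) (.node (.node (.leaf 0) (.leaf 1)) (.node (.leaf 1) (.leaf 0)))) (.node (.node (.node (.node (.leaf 1) (.leaf 1)) (.leaf 1)) (.node (.leaf 0) (.leaf 1))) (.node (.node (.leaf 1) (.leaf 1)) (.node (.leaf 1) (.leaf 1))))) (.node (.node (.node (.node (.node (.leaf 1) (.leaf 1)) (.leaf 0)) (.node (.leaf 1) (.leaf 0))) (.node (.node (.leaf 1) (.leaf 1)) (.node (.leaf 1) (.leaf 1)))) (.node (.node (.node (.leaf 1) (.leaf 1)) (.node (.leaf 1) (.leaf 1))) (.node (.node (.leaf 1) (.leaf 1)) (.node (.leaf 1) (.leaf 1)))))) (.node (.node (.node (.node (.node (.node (.leaf 0) (.leaf 1)) (.leaf 1)) (.node (.leaf 1) (.leaf 1))) (.node (.node (.leaf 1) (.leaf 1)) (.node (.leaf 0) (.leaf 1)))) (.node (.node (.node (.leaf 0) (.leaf 1)) (.node (.leaf 0) (.leaf 1))) (.node (.node (.leaf 1) (.leaf 1)) (.node (.leaf 1) (.leaf 1))))) (.node (.node (.node (.node (.node (.leaf 1) (.leaf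 1)) (.leaf 1)) (.node (.leaf 1) (.leaf 1))) (.node (.node (.leaf 1) (.leaf 1)) (.node (.leaf 1) (.leaf 1)))) (.node (.node (.node (.leaf 1) (.leaf 1)) (.node (.leaf 1) (.leaf 1))) (.node (.node (.leaf 1) (.leaf 0)) (.node (.leaf 1) (.leaf 1))))))) (.node (.node (.node (.node (.node (.node (.node (.leaf 0) (.leaf 1)) (.leaf 1)) (.node (.leaf 0) (.leaf 1))) (.node (.node (.leaf 1) (.leaf 1)) (.node (.leaf 0) (.leaf 1)))) (.node (.node (.node (.leaf 0) (.leaf 1)) (.node (.leaf 1) (.leaf 1))) (.node (.node (.leaf 0) (.leaf 1)) (.node (.leaf 1) (.leaf 1))))) (.node (.node (.node (.node (.node (.leaf 0) (.leaf 1)) (.leaf 1)) (.node (.leaf 1) (.leaf 1))) (.node (.node (.leaf 1) (.leaf 0)) (.node (.leaf 1) (.leaf 1)))) (.node (.node (.node (.leaf 0) (.leaf 1)) (.node (.leaf 0) (.leaf 1))) (.node (.node (.leaf 1) (.leaf 1)) (.node (.leaf 0) (.leaf 1)))))) (.node (.node (.node (.node (.node (.node (.leaf 1) (.leaf 1)) (.leaf 1)) (.node (.leaf 0) (.leaf 1))) (.node (.node (.leaf 0) (.leaf 1)) (.node (.leaf 0) (.leaf 1)))) (.node (.node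 (.node (.leaf 1) (.leaf 1)) (.node (.leaf 0) (.leaf 1))) (.node (.node (.leaf 1) (.leaf 1)) (.node (.leaf 1) (.leaf 1))))) (.node (.node (.node (.node (.node (.leaf 0) (.leaf 1)) (.leaf 1)) (.node (.leaf 1) (.leaf 1))) (.node (.node (.leaf 1) (.leaf 1)) (.node (.leaf 1) (.leaf 1)))) (.node (.node (.node (.leaf 0) (.leaf 1)) (.node (.leaf 1) (.leaf 1))) (.node (.node (.leaf 1) (.leaf 1)) (.node (.leaf 0) (.leaf 1)))))))) (.node (.node (.node (.node (.node (.node (.node (.node (.leaf 0) (.leaf 1)) (.leaf 1)) (.node (.leaf 0) (.leaf 1))) (.node (.node (.leaf 1) (.leaf 1)) (.node (.leaf 1) (.leaf 1)))) (.node (.node (.node (.node (.leaf 0) (.leaf 2)) (.leaf 1)) (.node (.leaf 1) (.leaf 1))) (.node (.node (.leaf 1) (.leaf 1)) (.node (.leaf 1) (.leaf 1))))) (.node (.node (.node (.node (.node (.leaf 0) (.leaf 1)) (.leaf 0)) (.node (.leaf 0) (.leaf 1))) (.node (.node (.leaf 1) (.leaf 1)) (.node (.leaf 1) (.leaf 1)))) (.node (.node (.node (.leaf 0) (.leaf 1)) (.node (.leaf 0) (.leaf 1))) (.node (.node (.leaf 0) (.leaf 0)) (.node (.leaf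 1) (.leaf 1)))))) (.node (.node (.node (.node (.node (.node (.leaf 0) (.leaf 1)) (.leaf 1)) (.node (.leaf 1) (.leaf 1))) (.node (.node (.leaf 1) (.leaf 1)) (.node (.leaf 1) (.leaf 1)))) (.node (.node (.node (.leaf 0) (.leaf 1)) (.node (.leaf 1) (.leaf 1))) (.node (.node (.leaf 1) (.leaf 1)) (.node (.leaf 1) (.leaf 1))))) (.node (.node (.node (.node (.node (.leaf 0) (.leaf 1)) (.leaf 1)) (.node (.leaf 1) (.leaf 1))) (.node (.node (.leaf 0) (.leaf 1)) (.node (.leaf 1) (.leaf 1)))) (.node (.node (.node (.leaf 1) (.leaf 1)) (.node (.leaf 1) (.leaf 1))) (.node (.node (.leaf 1) (.leaf 1)) (.node (.leaf 0) (.leaf 1))))))) (.node (.node (.node (.node (.node (.node (.node (.leaf 0) (.leaf 1)) (.leaf 1)) (.node (.leaf 1) (.leaf 1))) (.node (.node (.leaf 1) (.leaf 1)) (.node (.leaf 0) (.leaf 1)))) (.node (.node (.node (.leaf 1) (.leaf 1)) (.node (.leaf 1) (.leaf 1))) (.node (.node (.leaf 0) (.leaf 0)) (.node (.leaf 1) (.leaf 1))))) (.node (.node (.node (.node (.node (.leaf 1) (.leaf 1)) (.leaf 1)) (.node (.leaf 0) (.leaf 1))) (.node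 (.node (.leaf 1) (.leaf 1)) (.node (.leaf 1) (.leaf 1)))) (.node (.node (.node (.leaf 1) (.leaf 1)) (.node (.leaf 1) (.leaf 1))) (.node (.node (.leaf 0) (.leaf 1)) (.node (.leaf 1) (.leaf 1)))))) (.node (.node (.node (.node (.node (.node (.leaf 0) (.leaf 1)) (.leaf 0)) (.node (.leaf 0) (.leaf 1))) (.node (.node (.leaf 1) (.leaf 1)) (.node (.leaf 1) (.leaf 1)))) (.node (.node (.node (.leaf 1) (.leaf 1)) (.node (.leaf 1) (.leaf 1))) (.node (.node (.leaf 1) (.leaf 1)) (.node (.leaf 0) (.leaf 1))))) (.node (.node (.node (.node (.node (.leaf 1) (.leaf 1)) (.leaf 0)) (.node (.leaf 0) (.leaf 1))) (.node (.node (.leaf 1) (.leaf 1)) (.node (.leaf 1) (.leaf 1)))) (.node (.node (.node (.leaf 1) (.leaf 0)) (.node (.leaf 0) (.leaf 1))) (.node (.node (.leaf 1) (.leaf 1)) (.node (.leaf 1) (.leaf 1)))))))))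

def threeKind14 : Janko.Tree (ℕ) :=
  (.node (.node (.node (.node (.node (.node (.node (.node (.node (.leaf 0) (.leaf 1)) (.leaf 0)) (.node (.leaf 1) (.leaf 1))) (.node (.node (.leaf 0) (.leaf 1)) (.node (.leaf 1) (.leaf 1)))) (.node (.node (.node (.node (.leaf 0) (.leaf 1)) (.leaf 1)) (.node (.leaf 0) (.leaf 1))) (.node (.node (.leaf 1) (.leaf 1)) (.node (.leaf 0) (.leaf 1))))) (.node (.node (.node (.node (.node (.leaf 1) (.leaf 1)) (.leaf 1)) (.node (.leaf 1) (.leaf 1))) (.node (.node (.leaf 1) (.leaf 1)) (.node (.leaf 0) (.leaf 1)))) (.node (.node (.node (.leaf 1) (.leaf 1)) (.node (.leaf 0) (.leaf 1))) (.node (.node (.leaf 1) (.leaf 1)) (.node (.leaf 1) (.leaf 1)))))) (.node (.node (.node (.node (.node (.node (.leaf 0) (.leaf 1)) (.leaf 1)) (.node (.leaf 1) (.leaf 1))) (.node (.node (.leaf 1) (.leaf 1)) (.node (.leaf 1) (.leaf 1)))) (.node (.node (.node (.leaf 1) (.leaf 1)) (.node (.leaf 1) (.leaf 1))) (.node (.node (.leaf 1) (.leaf 1)) (.node (.leaf 1) (.leaf 1))))) (.node (.node (.node (.node (.node (.leaf 0) (.leaf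 1)) (.leaf 1)) (.node (.leaf 1) (.leaf 1))) (.node (.node (.leaf 1) (.leaf 1)) (.node (.leaf 1) (.leaf 1)))) (.node (.node (.node (.leaf 1) (.leaf 1)) (.node (.leaf 1) (.leaf 1))) (.node (.node (.leaf 1) (.leaf 1)) (.node (.leaf 1) (.leaf 1))))))) (.node (.node (.node (.node (.node (.node (.node (.leaf 0) (.leaf 1)) (.leaf 1)) (.node (.leaf 1) (.leaf 1))) (.node (.node (.leaf 1) (.leaf 1)) (.node (.leaf 1) (.leaf 1)))) (.node (.node (.node (.leaf 1) (.leaf 1)) (.node (.leaf 1) (.leaf 1))) (.node (.node (.leaf 1) (.leaf 1)) (.node (.leaf 1) (.leaf 1))))) (.node (.node (.node (.node (.node (.leaf 0) (.leaf 1)) (.leaf 1)) (.node (.leaf 1) (.leaf 1))) (.node (.node (.leaf 1) (.leaf 1)) (.node (.leaf 1) (.leaf 1)))) (.node (.node (.node (.leaf 0) (.leaf 1)) (.node (.leaf 1) (.leaf 0))) (.node (.node (.leaf 1) (.leaf 1)) (.node (.leaf 1) (.leaf 1)))))) (.node (.node (.node (.node (.node (.node (.leaf 1) (.leaf 1)) (.leaf 1)) (.node (.leaf 1) (.leaf 1))) (.node (.node (.leaf 0) (.leaf 1)) (.node (.leaf 1) (.leaf 1)))) (.node (.node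 (.node (.leaf 0) (.leaf 1)) (.node (.leaf 1) (.leaf 1))) (.node (.node (.leaf 1) (.leaf 1)) (.node (.leaf 1) (.leaf 1))))) (.node (.node (.node (.node (.node (.leaf 0) (.leaf 1)) (.leaf 1)) (.node (.leaf 1) (.leaf 1))) (.node (.node (.leaf 0) (.leaf 1)) (.node (.leaf 1) (.leaf 1)))) (.node (.node (.node (.leaf 1) (.leaf 1)) (.node (.leaf 1) (.leaf 1))) (.node (.node (.leaf 0) (.leaf 1)) (.node (.leaf 1) (.leaf 1)))))))) (.node (.node (.node (.node (.node (.node (.node (.node (.leaf 1) (.leaf 1)) (.leaf 1)) (.node (.leaf 0) (.leaf 1))) (.node (.node (.leaf 1) (.leaf 1)) (.node (.leaf 1) (.leaf 1)))) (.node (.node (.node (.node (.leaf 0) (.leaf 2)) (.leaf 0)) (.node (.leaf 1) (.leaf 1))) (.node (.node (.leaf 1) (.leaf 1)) (.node (.leaf 1) (.leaf 1))))) (.node (.node (.node (.node (.node (.leaf 1) (.leaf 1)) (.leaf 1)) (.node (.leaf 1) (.leaf 1))) (.node (.node (.leaf 0) (.leaf 1)) (.node (.leaf 1) (.leaf 1)))) (.node (.node (.node (.leaf 1) (.leaf 1)) (.node (.leaf 0) (.leaf 1))) (.node (.node (.leaf 1) (.leaf 1)) (.node (.leaf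 1) (.leaf 1)))))) (.node (.node (.node (.node (.node (.node (.leaf 0) (.leaf 1)) (.leaf 1)) (.node (.leaf 1) (.leaf 1))) (.node (.node (.leaf 0) (.leaf 1)) (.node (.leaf 1) (.leaf 1)))) (.node (.node (.node (.leaf 1) (.leaf 0)) (.node (.leaf 1) (.leaf 1))) (.node (.node (.leaf 1) (.leaf 1)) (.node (.leaf 1) (.leaf 1))))) (.node (.node (.node (.node (.node (.leaf 1) (.leaf 1)) (.leaf 1)) (.node (.leaf 1) (.leaf 1))) (.node (.node (.leaf 1) (.leaf 1)) (.node (.leaf 0) (.leaf 1)))) (.node (.node (.node (.leaf 1) (.leaf 1)) (.node (.leaf 1) (.leaf 1))) (.node (.node (.leaf 1) (.leaf 1)) (.node (.leaf 0) (.leaf 1))))))) (.node (.node (.node (.node (.node (.node (.node (.leaf 1) (.leaf 1)) (.leaf 1)) (.node (.leaf 1) (.leaf 1))) (.node (.node (.leaf 1) (.leaf 1)) (.node (.leaf 1) (.leaf 1)))) (.node (.node (.node (.leaf 1) (.leaf 1)) (.node (.leaf 1) (.leaf 1))) (.node (.node (.leaf 1) (.leaf 1)) (.node (.leaf 0) (.leaf 1))))) (.node (.node (.node (.node (.node (.leaf 1) (.leaf 1)) (.leaf 1)) (.node (.leaf 1) (.leaf 1))) (.node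 (.node (.leaf 1) (.leaf 1)) (.node (.leaf 1) (.leaf 1)))) (.node (.node (.node (.leaf 1) (.leaf 1)) (.node (.leaf 1) (.leaf 1))) (.node (.node (.leaf 0) (.leaf 1)) (.node (.leaf 1) (.leaf 1)))))) (.node (.node (.node (.node (.node (.node (.leaf 0) (.leaf 1)) (.leaf 1)) (.node (.leaf 1) (.leaf 1))) (.node (.node (.leaf 1) (.leaf 1)) (.node (.leaf 1) (.leaf 1)))) (.node (.node (.node (.leaf 1) (.leaf 1)) (.node (.leaf 1) (.leaf 1))) (.node (.node (.leaf 1) (.leaf 1)) (.node (.leaf 0) (.leaf 1))))) (.node (.node (.node (.node (.node (.leaf 1) (.leaf 1)) (.leaf 1)) (.node (.leaf 1) (.leaf 1))) (.node (.node (.leaf 1) (.leaf 1)) (.node (.leaf 1) (.leaf 1)))) (.node (.node (.node (.leaf 1) (.leaf 1)) (.node (.leaf 1) (.leaf 1))) (.node (.node (.leaf 1) (.leaf 1)) (.node (.leaf 1) (.leaf 1)))))))))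

def threeKind15 : Janko.Tree (ℕ) :=
  (.node (.node (.node (.node (.node (.node (.node (.node (.node (.leaf 0) (.leaf 1)) (.leaf 1)) (.node (.leaf 0) (.leaf 1))) (.node (.node (.leaf 1) (.leaf 1)) (.node (.leaf 0) (.leaf 1)))) (.node (.node (.node (.node (.leaf 1) (.leaf 1)) (.leaf 0)) (.node (.leaf 0) (.leaf 1))) (.node (.node (.leaf 0) (.leaf 1)) (.node (.leaf 1) (.leaf 1))))) (.node (.node (.node (.node (.node (.leaf 0) (.leaf 1)) (.leaf 1)) (.node (.leaf 1) (.leaf 1))) (.node (.node (.leaf 1) (.leaf 1)) (.node (.leaf 1) (.leaf 1)))) (.node (.node (.node (.leaf 0) (.leaf 1)) (.node (.leaf 0) (.leaf 1))) (.node (.node (.leaf 1) (.leaf 1)) (.node (.leaf 1) (.leaf 1)))))) (.node (.node (.node (.node (.node (.node (.leaf 0) (.leaf 1)) (.leaf 1)) (.node (.leaf 1) (.leaf 1))) (.node (.node (.leaf 1) (.leaf 1)) (.node (.leaf 0) (.leaf 1)))) (.node (.node (.node (.leaf 0) (.leaf 1)) (.node (.leaf 0) (.leaf 1))) (.node (.node (.leaf 0) (.leaf 1)) (.node (.leaf 1) (.leaf 1))))) (.node (.node (.node (.node (.node (.leaf 0) (.leaf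 1)) (.leaf 0)) (.node (.leaf 0) (.leaf 1))) (.node (.node (.leaf 1) (.leaf 1)) (.node (.leaf 1) (.leaf 1)))) (.node (.node (.node (.leaf 1) (.leaf 1)) (.node (.leaf 1) (.leaf 1))) (.node (.node (.leaf 0) (.leaf 1)) (.node (.leaf 1) (.leaf 1))))))) (.node (.node (.node (.node (.node (.node (.node (.leaf 0) (.leaf 1)) (.leaf 1)) (.node (.leaf 1) (.leaf 1))) (.node (.node (.leaf 0) (.leaf 1)) (.node (.leaf 1) (.leaf 1)))) (.node (.node (.node (.leaf 0) (.leaf 1)) (.node (.leaf 1) (.leaf 1))) (.node (.node (.leaf 0) (.leaf 1)) (.node (.leaf 1) (.leaf 1))))) (.node (.node (.node (.node (.node (.leaf 0) (.leaf 1)) (.leaf 0)) (.node (.leaf 1) (.leaf 1))) (.node (.node (.leaf 1) (.leaf 1)) (.node (.leaf 1) (.leaf 1)))) (.node (.node (.node (.leaf 0) (.leaf 1)) (.node (.leaf 1) (.leaf 1))) (.node (.node (.leaf 1) (.leaf 1)) (.node (.leaf 1) (.leaf 1)))))) (.node (.node (.node (.node (.node (.node (.leaf 1) (.leaf 1)) (.leaf 1)) (.node (.leaf 1) (.leaf 1))) (.node (.node (.leaf 1) (.leaf 1)) (.node (.leaf 1) (.leaf 1)))) (.node (.node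 (.node (.leaf 0) (.leaf 0)) (.node (.leaf 1) (.leaf 1))) (.node (.node (.leaf 0) (.leaf 1)) (.node (.leaf 1) (.leaf 1))))) (.node (.node (.node (.node (.node (.leaf 0) (.leaf 1)) (.leaf 0)) (.node (.leaf 0) (.leaf 1))) (.node (.node (.leaf 0) (.leaf 1)) (.node (.leaf 1) (.leaf 1)))) (.node (.node (.node (.leaf 1) (.leaf 1)) (.node (.leaf 1) (.leaf 1))) (.node (.node (.leaf 1) (.leaf 1)) (.node (.leaf 0) (.leaf 1)))))))) (.node (.node (.node (.node (.node (.node (.node (.node (.leaf 1) (.leaf 1)) (.leaf 1)) (.node (.leaf 1) (.leaf 1))) (.node (.node (.leaf 1) (.leaf 1)) (.node (.leaf 0) (.leaf 1)))) (.node (.node (.node (.node (.leaf 0) (.leaf 2)) (.leaf 1)) (.node (.leaf 0) (.leaf 1))) (.node (.node (.leaf 1) (.leaf 0)) (.node (.leaf 1) (.leaf 1))))) (.node (.node (.node (.node (.node (.leaf 1) (.leaf 1)) (.leaf 1)) (.node (.leaf 1) (.leaf 1))) (.node (.node (.leaf 1) (.leaf 1)) (.node (.leaf 0) (.leaf 1)))) (.node (.node (.node (.leaf 1) (.leaf 1)) (.node (.leaf 1) (.leaf 1))) (.node (.node (.leaf 1) (.leaf 1)) (.node (.leaf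 1) (.leaf 1)))))) (.node (.node (.node (.node (.node (.node (.leaf 0) (.leaf 1)) (.leaf 1)) (.node (.leaf 1) (.leaf 1))) (.node (.node (.leaf 0) (.leaf 1)) (.node (.leaf 0) (.leaf 1)))) (.node (.node (.node (.leaf 0) (.leaf 1)) (.node (.leaf 1) (.leaf 1))) (.node (.node (.leaf 1) (.leaf 1)) (.node (.leaf 1) (.leaf 1))))) (.node (.node (.node (.node (.node (.leaf 1) (.leaf 1)) (.leaf 1)) (.node (.leaf 0) (.leaf 1))) (.node (.node (.leaf 0) (.leaf 1)) (.node (.leaf 1) (.leaf 1)))) (.node (.node (.node (.leaf 0) (.leaf 1)) (.node (.leaf 1) (.leaf 1))) (.node (.node (.leaf 0) (.leaf 1)) (.node (.leaf 1) (.leaf 1))))))) (.node (.node (.node (.node (.node (.node (.node (.leaf 0) (.leaf 1)) (.leaf 1)) (.node (.leaf 1) (.leaf 1))) (.node (.node (.leaf 0) (.leaf 1)) (.node (.leaf 1) (.leaf 1)))) (.node (.node (.node (.leaf 1) (.leaf 1)) (.node (.leaf 0) (.leaf 1))) (.node (.node (.leaf 0) (.leaf 1)) (.node (.leaf 1) (.leaf 1))))) (.node (.node (.node (.node (.node (.leaf 0) (.leaf 1)) (.leaf 1)) (.node (.leaf 0) (.leaf 1))) (.node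 (.node (.leaf 0) (.leaf 0)) (.node (.leaf 1) (.leaf 1)))) (.node (.node (.node (.leaf 0) (.leaf 1)) (.node (.leaf 1) (.leaf 1))) (.node (.node (.leaf 1) (.leaf 1)) (.node (.leaf 1) (.leaf 1)))))) (.node (.node (.node (.node (.node (.node (.leaf 0) (.leaf 1)) (.leaf 1)) (.node (.leaf 1) (.leaf 1))) (.node (.node (.leaf 0) (.leaf 0)) (.node (.leaf 1) (.leaf 1)))) (.node (.node (.node (.leaf 0) (.leaf 1)) (.node (.leaf 1) (.leaf 1))) (.node (.node (.leaf 1) (.leaf 1)) (.node (.leaf 1) (.leaf 1))))) (.node (.node (.node (.node (.node (.leaf 0) (.leaf 1)) (.leaf 1)) (.node (.leaf 1) (.leaf 1))) (.node (.node (.leaf 1) (.leaf 1)) (.node (.leaf 1) (.leaf 1)))) (.node (.node (.node (.leaf 0) (.leaf 1)) (.node (.leaf 1) (.leaf 1))) (.node (.node (.leaf 0) (.leaf 1)) (.node (.leaf 1) (.leaf 1)))))))))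

/-- a table -/
def threeKind : Janko.Tree (ℕ) := (.node (.node (.node (.node threeKind0 threeKind8) (.node threeKind4 threeKind12)) (.node (.node threeKind2 threeKind10) (.node threeKind6 threeKind14))) (.node (.node (.node threeKind1 threeKind9) (.node threeKind5 threeKind13)) (.node (.node threeKind3 threeKind11) (.node threeKind7 threeKind15))))

def threeRank0 : Janko.Tree (ℕ) :=
  (.node (.node (.node (.node (.node (.node (.node (.node (.node (.leaf 0) (.leaf 1984)) (.leaf 1358)) (.node (.leaf 145) (.leaf 3393))) (.node (.node (.leaf 846) (.leaf 3564)) (.node (.leaf 813) (.leaf 786)))) (.node (.node (.node (.node (.leaf 0) (.leaf 994)) (.leaf 0)) (.node (.leaf 908) (.leaf 2421))) (.node (.node (.leaf 1140) (.leaf 2944)) (.node (.leaf 2777) (.leaf 2984))))) (.node (.node (.node (.node (.node (.leaf 418) (.leaf 3495)) (.leaf 3110)) (.node (.leaf 218) (.leaf 616))) (.node (.node (.leaf 290) (.leaf 1734)) (.node (.leaf 1208) (.leaf 2153)))) (.node (.node (.node (.leaf 0) (.leaf 1491)) (.node (.leaf 141) (.leaf 3583))) (.node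 (.node (.leaf 1256) (.leaf 2331)) (.node (.leaf 1308) (.leaf 2476)))))) (.node (.node (.node (.node (.node (.node (.leaf 0) (.leaf 938)) (.leaf 1175)) (.node (.leaf 2747) (.leaf 119))) (.node (.node (.leaf 2821) (.leaf 1276)) (.node (.leaf 0) (.leaf 2388)))) (.node (.node (.node (.leaf 857) (.leaf 3443)) (.node (.leaf 1051) (.leaf 3567))) (.node (.node (.leaf 0) (.leaf 1003)) (.node (.leaf 430) (.leaf 2670))))) (.node (.node (.node (.node (.node (.leaf 278) (.leaf 3310)) (.leaf 1706)) (.node (.leaf 1738) (.leaf 3191))) (.node (.node (.leaf 472) (.leaf 1985)) (.node (.leaf 2827) (.leaf 2022)))) (.node (.node (.node (.leaf 0) (.leaf 510)) (.node (.leaf 2915) (.leaf 115))) (.node (.node (.leaf 1522) (.leaf 1100)) (.node (.leaf 136) (.leaf 2013))))))) (.node (.node (.node (.node (.node (.node (.node (.leaf 464) (.leaf 1755)) (.leaf 2249)) (.node (.leaf 0) (.leaf 965))) (.node (.node (.leaf 550) (.leaf 3052)) (.node (.leaf 3519) (.leaf 3433)))) (.node (.node (.node (.node (.leaf 253) (.leaf 0)) (.leaf 3615)) (.node (.leaf 1913)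 (.leaf 3172))) (.node (.node (.leaf 481) (.leaf 1634)) (.node (.leaf 3492) (.leaf 3279))))) (.node (.node (.node (.node (.node (.leaf 0) (.leaf 2842)) (.leaf 206)) (.node (.leaf 898) (.leaf 2332))) (.node (.node (.leaf 2380) (.leaf 1356)) (.node (.leaf 138) (.leaf 2985)))) (.node (.node (.node (.leaf 40) (.leaf 0)) (.node (.leaf 0) (.leaf 3448))) (.node (.node (.leaf 2685) (.leaf 1289)) (.node (.leaf 773) (.leaf 2391)))))) (.node (.node (.node (.node (.node (.node (.leaf 0) (.leaf 3009)) (.leaf 1124)) (.node (.leaf 2134) (.leaf 2044))) (.node (.node (.leaf 2101) (.leaf 2110)) (.node (.leaf 1137) (.leaf 1499)))) (.node (.node (.node (.leaf 0) (.leaf 1472)) (.node (.leaf 1662) (.leaf 2867))) (.node (.node (.leaf 0) (.leaf 1800)) (.node (.leaf 1867) (.leaf 3421))))) (.node (.node (.node (.node (.node (.leaf 961) (.leaf 2852)) (.leaf 1401)) (.node (.leaf 762) (.leaf 3540))) (.node (.node (.leaf 0) (.leaf 1674)) (.node (.leaf 1688) (.leaf 2566)))) (.node (.node (.node (.leaf 269) (.leaf 2556)) (.node (.leaf 2891) (.leaf 2857)))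 (.node (.node (.leaf 1455) (.leaf 3504)) (.node (.leaf 2815) (.leaf 1002)))))))) (.node (.node (.node (.node (.node (.node (.node (.node (.leaf 0) (.leaf 3271)) (.leaf 3153)) (.node (.leaf 1490) (.leaf 3610))) (.node (.node (.leaf 1430) (.leaf 3579)) (.node (.leaf 0) (.leaf 2301)))) (.node (.node (.node (.node (.leaf 41) (.leaf 2843)) (.leaf 2678)) (.node (.leaf 1065) (.leaf 3325))) (.node (.node (.leaf 0) (.leaf 215)) (.node (.leaf 1812) (.leaf 664))))) (.node (.node (.node (.node (.node (.leaf 0) (.leaf 98)) (.leaf 769)) (.node (.leaf 0) (.leaf 3522))) (.node (.node (.leaf 450) (.leaf 125)) (.node (.leaf 1464) (.leaf 825)))) (.node (.node (.node (.leaf 0) (.leaf 3532)) (.node (.leaf 2723) (.leaf 2990))) (.node (.node (.leaf 1225) (.leaf 1798)) (.node (.leaf 0) (.leaf 1470)))))) (.node (.node (.node (.node (.node (.node (.leaf 0) (.leaf 1185)) (.leaf 3083)) (.node (.leaf 0) (.leaf 2861))) (.node (.node (.leaf 525) (.leaf 1032)) (.node (.leaf 469) (.leaf 3203)))) (.node (.node (.node (.leaf 270) (.leaf 826)) (.node (.leaf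 0) (.leaf 295))) (.node (.node (.leaf 1314) (.leaf 2646)) (.node (.leaf 1493) (.leaf 1489))))) (.node (.node (.node (.node (.node (.leaf 0) (.leaf 435)) (.leaf 732)) (.node (.leaf 2931) (.leaf 1978))) (.node (.node (.leaf 267) (.leaf 2769)) (.node (.leaf 516) (.leaf 1626)))) (.node (.node (.node (.leaf 1205) (.leaf 2266)) (.node (.leaf 0) (.leaf 1938))) (.node (.node (.leaf 0) (.leaf 1959)) (.node (.leaf 445) (.leaf 3193))))))) (.node (.node (.node (.node (.node (.node (.node (.leaf 0) (.leaf 1815)) (.leaf 2237)) (.node (.leaf 2168) (.leaf 1436))) (.node (.node (.leaf 420) (.leaf 2466)) (.node (.leaf 627) (.leaf 1350)))) (.node (.node (.node (.leaf 0) (.leaf 625)) (.node (.leaf 1651) (.leaf 1756))) (.node (.node (.leaf 268) (.leaf 1633)) (.node (.leaf 3331) (.leaf 3511))))) (.node (.node (.node (.node (.node (.leaf 470) (.leaf 1044)) (.leaf 2051)) (.node (.leaf 781) (.leaf 2877))) (.node (.node (.leaf 1835) (.leaf 1962)) (.node (.leaf 2895) (.leaf 109)))) (.node (.node (.node (.leaf 689) (.leaf 535)) (.node (.leaf 2924) (.leaf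 2793))) (.node (.node (.leaf 583) (.leaf 2882)) (.node (.leaf 1304) (.leaf 3539)))))) (.node (.node (.node (.node (.node (.node (.leaf 576) (.leaf 1956)) (.leaf 812)) (.node (.leaf 837) (.leaf 1207))) (.node (.node (.leaf 0) (.leaf 1161)) (.node (.leaf 2406) (.leaf 3529)))) (.node (.node (.node (.leaf 1280) (.leaf 0)) (.node (.leaf 1227) (.leaf 3429))) (.node (.node (.leaf 0) (.leaf 2855)) (.node (.leaf 3326) (.leaf 2179))))) (.node (.node (.node (.node (.node (.leaf 378) (.leaf 2213)) (.leaf 2056)) (.node (.leaf 0) (.leaf 3262))) (.node (.node (.leaf 1313) (.leaf 1899)) (.node (.leaf 8) (.leaf 1750)))) (.node (.node (.node (.leaf 0) (.leaf 0)) (.node (.leaf 739) (.leaf 1955))) (.node (.node (.leaf 2820) (.leaf 2999)) (.node (.leaf 0) (.leaf 3483)))))))))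

def threeRank1 : Janko.Tree (ℕ) :=
  (.node (.node (.node (.node (.node (.node (.node (.node (.node (.leaf 0) (.leaf 1905)) (.leaf 1968)) (.node (.leaf 0) (.leaf 3384))) (.node (.node (.leaf 0) (.leaf 2555)) (.node (.leaf 675) (.leaf 2254)))) (.node (.node (.node (.node (.leaf 0) (.leaf 1920)) (.leaf 2727)) (.node (.leaf 1617) (.leaf 157))) (.node (.node (.leaf 1133) (.leaf 65)) (.node (.leaf 2785) (.leaf 2636))))) (.node (.node (.node (.node (.node (.leaf 0) (.leaf 3317)) (.leaf 1291)) (.node (.leaf 722) (.leaf 1513))) (.node (.node (.leaf 2892) (.leaf 3462)) (.node (.leaf 0) (.leaf 2167)))) (.node (.node (.node (.leaf 645) (.leaf 1452)) (.node (.leaf 0) (.leaf 3117))) (.node (.node (.leaf 0) (.leaf 1546)) (.node (.leaf 0) (.leaf 2478)))))) (.node (.node (.node (.node (.node (.node (.leaf 0) (.leaf 1979)) (.leaf 1020)) (.node (.leaf 2475) (.leaf 833))) (.node (.node (.leaf 0) (.leaf 1283)) (.node (.leaf 0) (.leaf 2809)))) (.node (.node (.node (.leaf 882) (.leaf 2537)) (.node (.leaf 358) (.leaf 3565))) (.node (.node (.leaf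 688) (.leaf 326)) (.node (.leaf 577) (.leaf 2668))))) (.node (.node (.node (.node (.node (.leaf 369) (.leaf 1771)) (.leaf 2676)) (.node (.leaf 1897) (.leaf 2638))) (.node (.node (.leaf 89) (.leaf 2751)) (.node (.leaf 2880) (.leaf 1935)))) (.node (.node (.node (.leaf 1819) (.leaf 672)) (.node (.leaf 2917) (.leaf 1084))) (.node (.node (.leaf 0) (.leaf 3081)) (.node (.leaf 0) (.leaf 2064))))))) (.node (.node (.node (.node (.node (.node (.node (.leaf 0) (.leaf 3115)) (.leaf 2247)) (.node (.leaf 0) (.leaf 2207))) (.node (.node (.leaf 0) (.leaf 2659)) (.node (.leaf 2436) (.leaf 3435)))) (.node (.node (.node (.node (.leaf 668) (.leaf 0)) (.leaf 2673)) (.node (.leaf 192) (.leaf 2273))) (.node (.node (.leaf 0) (.leaf 1629)) (.node (.leaf 2973) (.leaf 2026))))) (.node (.node (.node (.node (.node (.leaf 0) (.leaf 2322)) (.leaf 304)) (.node (.leaf 1712) (.leaf 2330))) (.node (.node (.leaf 336) (.leaf 2019)) (.node (.leaf 2423) (.leaf 0)))) (.node (.node (.node (.leaf 0) (.leaf 2450)) (.node (.leaf 1875) (.leaf 3440))) (.node (.node (.leaf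 0) (.leaf 3066)) (.node (.leaf 2036) (.leaf 2455)))))) (.node (.node (.node (.node (.node (.node (.leaf 0) (.leaf 3007)) (.leaf 0)) (.node (.leaf 2370) (.leaf 24))) (.node (.node (.leaf 0) (.leaf 1339)) (.node (.leaf 1081) (.leaf 1743)))) (.node (.node (.node (.leaf 743) (.leaf 3126)) (.node (.leaf 0) (.leaf 2779))) (.node (.node (.leaf 260) (.leaf 63)) (.node (.leaf 1865) (.leaf 1585))))) (.node (.node (.node (.node (.node (.leaf 1485) (.leaf 2598)) (.leaf 1267)) (.node (.leaf 892) (.leaf 3086))) (.node (.node (.leaf 1089) (.leaf 2300)) (.node (.leaf 0) (.leaf 1407)))) (.node (.node (.node (.leaf 361) (.leaf 2035)) (.node (.leaf 2897) (.leaf 1213))) (.node (.node (.leaf 0) (.leaf 2989)) (.node (.leaf 3447) (.leaf 3266)))))))) (.node (.node (.node (.node (.node (.node (.node (.node (.leaf 0) (.leaf 3275)) (.leaf 3270)) (.node (.leaf 1488) (.leaf 3612))) (.node (.node (.leaf 0) (.leaf 3577)) (.node (.leaf 838) (.leaf 2595)))) (.node (.node (.node (.node (.leaf 0) (.leaf 3113)) (.leaf 2666)) (.node (.leaf 316) (.leaf 3002)))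 (.node (.node (.leaf 496) (.leaf 648)) (.node (.leaf 1776) (.leaf 661))))) (.node (.node (.node (.node (.node (.leaf 0) (.leaf 2319)) (.leaf 2554)) (.node (.leaf 901) (.leaf 2334))) (.node (.node (.leaf 1860) (.leaf 0)) (.node (.leaf 3585) (.leaf 2162)))) (.node (.node (.node (.leaf 0) (.leaf 1876)) (.node (.leaf 0) (.leaf 2988))) (.node (.node (.leaf 0) (.leaf 1792)) (.node (.leaf 729) (.leaf 2641)))))) (.node (.node (.node (.node (.node (.node (.leaf 0) (.leaf 1101)) (.leaf 678)) (.node (.leaf 2764) (.leaf 2630))) (.node (.node (.leaf 0) (.leaf 723)) (.node (.leaf 0) (.leaf 3184)))) (.node (.node (.node (.leaf 594) (.leaf 2229)) (.node (.leaf 1190) (.leaf 1501))) (.node (.node (.leaf 0) (.leaf 1616)) (.node (.leaf 3377) (.leaf 50))))) (.node (.node (.node (.node (.node (.leaf 258) (.leaf 2187)) (.leaf 357)) (.node (.leaf 2933) (.leaf 3012))) (.node (.node (.leaf 572) (.leaf 2773)) (.node (.leaf 166) (.leaf 2336)))) (.node (.node (.node (.leaf 1377) (.leaf 2264)) (.node (.leaf 3598) (.leaf 1510))) (.node (.node (.leaf 953)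 (.leaf 3123)) (.node (.leaf 0) (.leaf 3534))))))) (.node (.node (.node (.node (.node (.node (.node (.leaf 0) (.leaf 3314)) (.leaf 2154)) (.node (.leaf 1487) (.leaf 3124))) (.node (.node (.leaf 90) (.leaf 2471)) (.node (.leaf 1062) (.leaf 0)))) (.node (.node (.node (.leaf 2039) (.leaf 2600)) (.node (.leaf 2978) (.leaf 1573))) (.node (.node (.leaf 1164) (.leaf 3232)) (.node (.leaf 3338) (.leaf 3269))))) (.node (.node (.node (.node (.node (.leaf 0) (.leaf 1104)) (.leaf 191)) (.node (.leaf 906) (.leaf 2306))) (.node (.node (.leaf 176) (.leaf 3127)) (.node (.leaf 3210) (.leaf 0)))) (.node (.node (.node (.leaf 710) (.leaf 68)) (.node (.leaf 1251) (.leaf 2338))) (.node (.node (.leaf 2138) (.leaf 2884)) (.node (.leaf 0) (.leaf 3537)))))) (.node (.node (.node (.node (.node (.node (.leaf 0) (.leaf 1927)) (.leaf 1147)) (.node (.leaf 2135) (.leaf 1368))) (.node (.node (.leaf 35) (.leaf 3137)) (.node (.leaf 863) (.leaf 3247)))) (.node (.node (.node (.leaf 0) (.leaf 2483)) (.node (.leaf 1829) (.leaf 3427))) (.node (.node (.leaf 0) (.leaf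 2340)) (.node (.leaf 3328) (.leaf 1440))))) (.node (.node (.node (.node (.node (.leaf 385) (.leaf 2215)) (.leaf 0)) (.node (.leaf 897) (.leaf 3233))) (.node (.node (.leaf 0) (.leaf 1708)) (.node (.leaf 1553) (.leaf 1561)))) (.node (.node (.node (.leaf 255) (.leaf 2009)) (.node (.leaf 1317) (.leaf 1944))) (.node (.node (.leaf 1592) (.leaf 1786)) (.node (.leaf 1547) (.leaf 3479)))))))))

def threeRank2 : Janko.Tree (ℕ) :=
  (.node (.node (.node (.node (.node (.node (.node (.node (.node (.leaf 0) (.leaf 3239)) (.leaf 1364)) (.node (.leaf 506) (.leaf 3390))) (.node (.node (.leaf 2438) (.leaf 3302)) (.node (.leaf 658) (.leaf 540)))) (.node (.node (.node (.node (.leaf 685) (.leaf 979)) (.leaf 2720)) (.node (.leaf 651) (.leaf 3163))) (.node (.node (.leaf 39) (.leaf 2991)) (.node (.leaf 293) (.leaf 2996))))) (.node (.node (.node (.node (.node (.leaf 0) (.leaf 3371)) (.leaf 1228)) (.node (.leaf 679) (.leaf 2317))) (.node (.node (.leaf 1495) (.leaf 1713)) (.node (.leaf 1201) (.leaf 3058)))) (.node (.node (.node (.leaf 0) (.leaf 2220))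 (.node (.leaf 782) (.leaf 3099))) (.node (.node (.leaf 2612) (.leaf 778)) (.node (.leaf 1206) (.leaf 2492)))))) (.node (.node (.node (.node (.node (.node (.leaf 233) (.leaf 1017)) (.leaf 1171)) (.node (.leaf 0) (.leaf 3171))) (.node (.node (.leaf 474) (.leaf 2699)) (.node (.leaf 1534) (.leaf 2241)))) (.node (.node (.node (.leaf 2142) (.leaf 1413)) (.node (.leaf 1030) (.leaf 3563))) (.node (.node (.leaf 1049) (.leaf 455)) (.node (.leaf 1824) (.leaf 2858))))) (.node (.node (.node (.node (.node (.leaf 816) (.leaf 3288)) (.leaf 2711)) (.node (.leaf 0) (.leaf 2782))) (.node (.node (.leaf 1866) (.leaf 3411)) (.node (.leaf 2875) (.leaf 2025)))) (.node (.node (.node (.leaf 0) (.leaf 829)) (.node (.leaf 3216) (.leaf 1035))) (.node (.node (.leaf 1411) (.leaf 692)) (.node (.leaf 776) (.leaf 3277))))))) (.node (.node (.node (.node (.node (.node (.node (.leaf 0) (.leaf 1749)) (.leaf 3158)) (.node (.leaf 2686) (.leaf 121))) (.node (.node (.leaf 1412) (.leaf 479)) (.node (.leaf 2447) (.leaf 1471)))) (.node (.node (.node (.node (.leaf 885)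 (.leaf 0)) (.leaf 2507)) (.node (.leaf 0) (.leaf 3430))) (.node (.node (.leaf 0) (.leaf 1033)) (.node (.leaf 3370) (.leaf 2024))))) (.node (.node (.node (.node (.node (.leaf 2147) (.leaf 2320)) (.leaf 1128)) (.node (.leaf 1055) (.leaf 3043))) (.node (.node (.leaf 607) (.leaf 1551)) (.node (.leaf 2818) (.leaf 1745)))) (.node (.node (.node (.leaf 0) (.leaf 2386)) (.node (.leaf 1797) (.leaf 3442))) (.node (.node (.leaf 1226) (.leaf 1198)) (.node (.leaf 0) (.leaf 3280)))))) (.node (.node (.node (.node (.node (.node (.leaf 411) (.leaf 3486)) (.leaf 0)) (.node (.leaf 2378) (.leaf 423))) (.node (.node (.leaf 2368) (.leaf 227)) (.node (.leaf 818) (.leaf 1939)))) (.node (.node (.node (.leaf 0) (.leaf 415)) (.node (.leaf 0) (.leaf 6))) (.node (.node (.leaf 1131) (.leaf 3307)) (.node (.leaf 0) (.leaf 3568))))) (.node (.node (.node (.node (.node (.leaf 557) (.leaf 2240)) (.leaf 777)) (.node (.leaf 919) (.leaf 3063))) (.node (.node (.leaf 1172) (.leaf 1677)) (.node (.leaf 2675) (.leaf 208)))) (.node (.node (.node (.leaf 697) (.leaf 3574))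 (.node (.leaf 605) (.leaf 1772))) (.node (.node (.leaf 2226) (.leaf 1683)) (.node (.leaf 490) (.leaf 103)))))))) (.node (.node (.node (.node (.node (.node (.node (.node (.leaf 0) (.leaf 3285)) (.leaf 3149)) (.node (.leaf 2166) (.leaf 2986))) (.node (.node (.leaf 406) (.leaf 3573)) (.node (.leaf 2610) (.leaf 489)))) (.node (.node (.node (.node (.leaf 0) (.leaf 2174)) (.leaf 1346)) (.node (.leaf 453) (.leaf 3208))) (.node (.node (.leaf 0) (.leaf 1763)) (.node (.leaf 1810) (.leaf 1533))))) (.node (.node (.node (.node (.node (.leaf 866) (.leaf 1473)) (.leaf 784)) (.node (.leaf 1732) (.leaf 2874))) (.node (.node (.leaf 0) (.leaf 1122)) (.node (.leaf 1419) (.leaf 556)))) (.node (.node (.node (.leaf 217) (.leaf 2730)) (.node (.leaf 2000) (.leaf 3395))) (.node (.node (.leaf 1233) (.leaf 1814)) (.node (.leaf 1729) (.leaf 3473)))))) (.node (.node (.node (.node (.node (.node (.leaf 0) (.leaf 1096)) (.leaf 1176)) (.node (.leaf 2766) (.leaf 2625))) (.node (.node (.leaf 254) (.leaf 997)) (.node (.leaf 0) (.leaf 1399)))) (.node (.node (.node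 (.leaf 637) (.leaf 130)) (.node (.leaf 379) (.leaf 2521))) (.node (.node (.leaf 1385) (.leaf 1754)) (.node (.leaf 1415) (.leaf 2176))))) (.node (.node (.node (.node (.node (.leaf 197) (.leaf 2080)) (.leaf 890)) (.node (.leaf 3455) (.leaf 1728))) (.node (.node (.leaf 1010) (.leaf 2771)) (.node (.leaf 1570) (.leaf 1641)))) (.node (.node (.node (.leaf 296) (.leaf 0)) (.node (.leaf 3606) (.leaf 1940))) (.node (.node (.leaf 1431) (.leaf 2721)) (.node (.leaf 0) (.leaf 1581))))))) (.node (.node (.node (.node (.node (.node (.node (.leaf 0) (.leaf 3243)) (.leaf 2161)) (.node (.leaf 0) (.leaf 870))) (.node (.node (.leaf 0) (.leaf 2609)) (.node (.leaf 889) (.leaf 111)))) (.node (.node (.node (.leaf 0) (.leaf 1456)) (.node (.leaf 1669) (.leaf 3282))) (.node (.node (.leaf 956) (.leaf 2885)) (.node (.leaf 0) (.leaf 3267))))) (.node (.node (.node (.node (.node (.leaf 0) (.leaf 3389)) (.leaf 0)) (.node (.leaf 659) (.leaf 2328))) (.node (.node (.leaf 2143) (.leaf 2950)) (.node (.leaf 2353) (.leaf 975)))) (.node (.node (.node (.leaf 1097)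 (.leaf 2404)) (.node (.leaf 0) (.leaf 1827))) (.node (.node (.leaf 146) (.leaf 3168)) (.node (.leaf 1344) (.leaf 3533)))))) (.node (.node (.node (.node (.node (.node (.leaf 0) (.leaf 1880)) (.leaf 794)) (.node (.leaf 560) (.leaf 3560))) (.node (.node (.leaf 427) (.leaf 0)) (.node (.leaf 3642) (.leaf 3249)))) (.node (.node (.node (.leaf 294) (.leaf 947)) (.node (.leaf 1200) (.leaf 3436))) (.node (.node (.leaf 210) (.leaf 1665)) (.node (.leaf 3333) (.leaf 946))))) (.node (.node (.node (.node (.node (.leaf 382) (.leaf 3165)) (.leaf 1371)) (.node (.leaf 0) (.leaf 3350))) (.node (.node (.leaf 2094) (.leaf 1067)) (.node (.leaf 1357) (.leaf 2802)))) (.node (.node (.node (.leaf 1088) (.leaf 3506)) (.node (.leaf 0) (.leaf 2960))) (.node (.node (.leaf 613) (.leaf 2969)) (.node (.leaf 1543) (.leaf 3472)))))))))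

def threeRank3 : Janko.Tree (ℕ) :=
  (.node (.node (.node (.node (.node (.node (.node (.node (.node (.leaf 0) (.leaf 935)) (.leaf 2091)) (.node (.leaf 640) (.leaf 3603))) (.node (.node (.leaf 862) (.leaf 2660)) (.node (.leaf 2122) (.leaf 2259)))) (.node (.node (.node (.node (.leaf 375) (.leaf 970)) (.leaf 2714)) (.node (.leaf 646) (.leaf 3362))) (.node (.node (.leaf 0) (.leaf 1720)) (.node (.leaf 1739) (.leaf 2746))))) (.node (.node (.node (.node (.node (.leaf 0) (.leaf 3315)) (.leaf 2596)) (.node (.leaf 2550) (.leaf 0))) (.node (.node (.leaf 0) (.leaf 1709)) (.node (.leaf 2360) (.leaf 2559)))) (.node (.node (.node (.leaf 0) (.leaf 1450)) (.node (.leaf 1069) (.leaf 3101))) (.node (.node (.leaf 0) (.leaf 313)) (.node (.leaf 0) (.leaf 2480)))))) (.node (.node (.node (.node (.node (.node (.leaf 333) (.leaf 3010)) (.leaf 1597)) (.node (.leaf 2401) (.leaf 2643))) (.node (.node (.leaf 0) (.leaf 1278)) (.node (.leaf 1212) (.leaf 2214)))) (.node (.node (.node (.leaf 203) (.leaf 0)) (.node (.leaf 1823) (.leaf 3572))) (.node (.node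 (.leaf 799) (.leaf 1789)) (.node (.leaf 1802) (.leaf 2810))))) (.node (.node (.node (.node (.node (.leaf 873) (.leaf 3037)) (.leaf 1704)) (.node (.leaf 0) (.leaf 2121))) (.node (.node (.leaf 1856) (.leaf 1987)) (.node (.leaf 2419) (.leaf 1933)))) (.node (.node (.node (.leaf 0) (.leaf 2408)) (.node (.leaf 2920) (.leaf 750))) (.node (.node (.leaf 0) (.leaf 3085)) (.node (.leaf 1165) (.leaf 2016))))))) (.node (.node (.node (.node (.node (.node (.node (.leaf 0) (.leaf 1751)) (.leaf 0)) (.node (.leaf 2126) (.leaf 500))) (.node (.node (.leaf 0) (.leaf 2464)) (.node (.leaf 2444) (.leaf 2063)))) (.node (.node (.node (.node (.leaf 864) (.leaf 0)) (.leaf 2042)) (.node (.leaf 2964) (.leaf 2553))) (.node (.node (.leaf 2084) (.leaf 302)) (.node (.leaf 3372) (.leaf 2028))))) (.node (.node (.node (.node (.node (.leaf 334) (.leaf 2315)) (.leaf 2053)) (.node (.leaf 909) (.leaf 3030))) (.node (.node (.leaf 0) (.leaf 2055)) (.node (.leaf 2868) (.leaf 52)))) (.node (.node (.node (.leaf 0) (.leaf 1622)) (.node (.leaf 1818) (.leaf 3444))) (.node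 (.node (.leaf 2725) (.leaf 1218)) (.node (.leaf 746) (.leaf 1496)))))) (.node (.node (.node (.node (.node (.node (.leaf 0) (.leaf 3067)) (.leaf 0)) (.node (.leaf 2707) (.leaf 0))) (.node (.node (.leaf 2038) (.leaf 718)) (.node (.leaf 1421) (.leaf 1563)))) (.node (.node (.node (.leaf 896) (.leaf 69)) (.node (.leaf 1806) (.leaf 1587))) (.node (.node (.leaf 0) (.leaf 1611)) (.node (.leaf 2139) (.leaf 2572))))) (.node (.node (.node (.node (.node (.leaf 0) (.leaf 2192)) (.leaf 388)) (.node (.leaf 1239) (.leaf 3078))) (.node (.node (.leaf 34) (.leaf 2590)) (.node (.leaf 354) (.leaf 306)))) (.node (.node (.node (.leaf 2907) (.leaf 3094)) (.node (.leaf 573) (.leaf 0))) (.node (.node (.leaf 262) (.leaf 1687)) (.node (.leaf 0) (.leaf 730)))))))) (.node (.node (.node (.node (.node (.node (.node (.node (.leaf 289) (.leaf 3273)) (.leaf 3147)) (.node (.leaf 1484) (.leaf 2966))) (.node (.node (.leaf 0) (.leaf 3575)) (.node (.leaf 1686) (.leaf 0)))) (.node (.node (.node (.node (.leaf 842) (.leaf 2180)) (.leaf 2683)) (.node (.leaf 0) (.leaf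 3004))) (.node (.node (.leaf 0) (.leaf 3509)) (.node (.leaf 3305) (.leaf 18))))) (.node (.node (.node (.node (.node (.leaf 0) (.leaf 3542)) (.leaf 789)) (.node (.leaf 1248) (.leaf 3589))) (.node (.node (.leaf 1858) (.leaf 1052)) (.node (.leaf 1516) (.leaf 155)))) (.node (.node (.node (.leaf 328) (.leaf 2734)) (.node (.leaf 1895) (.leaf 3405))) (.node (.node (.leaf 0) (.leaf 1804)) (.node (.leaf 2297) (.leaf 2437)))))) (.node (.node (.node (.node (.node (.node (.leaf 0) (.leaf 3198)) (.leaf 1152)) (.node (.leaf 2704) (.leaf 2627))) (.node (.node (.leaf 711) (.leaf 2806)) (.node (.leaf 2326) (.leaf 1635)))) (.node (.node (.node (.leaf 2132) (.leaf 503)) (.node (.leaf 311) (.leaf 3103))) (.node (.node (.leaf 0) (.leaf 2644)) (.node (.leaf 875) (.leaf 1444))))) (.node (.node (.node (.node (.node (.leaf 0) (.leaf 2074)) (.leaf 2509)) (.node (.leaf 2929) (.leaf 300))) (.node (.node (.leaf 1873) (.leaf 3451)) (.node (.leaf 0) (.leaf 3316)))) (.node (.node (.node (.leaf 0) (.leaf 0)) (.node (.leaf 3604) (.leaf 3135))) (.node (.node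 (.leaf 3129) (.leaf 1904)) (.node (.leaf 954) (.leaf 1583))))))) (.node (.node (.node (.node (.node (.node (.node (.leaf 0) (.leaf 314)) (.leaf 2157)) (.node (.leaf 0) (.leaf 59))) (.node (.node (.leaf 0) (.leaf 2296)) (.node (.leaf 2481) (.leaf 2224)))) (.node (.node (.node (.leaf 0) (.leaf 0)) (.node (.leaf 1642) (.leaf 1609))) (.node (.node (.leaf 2150) (.leaf 1791)) (.node (.leaf 2728) (.leaf 2031))))) (.node (.node (.node (.node (.node (.leaf 1848) (.leaf 1768)) (.leaf 2650)) (.node (.leaf 2129) (.leaf 2323))) (.node (.node (.leaf 0) (.leaf 1900)) (.node (.leaf 2351) (.leaf 989)))) (.node (.node (.node (.leaf 1217) (.leaf 2453)) (.node (.leaf 3379) (.leaf 1779))) (.node (.node (.leaf 0) (.leaf 0)) (.node (.leaf 77) (.leaf 3535)))))) (.node (.node (.node (.node (.node (.node (.leaf 0) (.leaf 1918)) (.leaf 2261)) (.node (.leaf 173) (.leaf 0))) (.node (.node (.leaf 0) (.leaf 1159)) (.node (.leaf 32) (.leaf 2260)))) (.node (.node (.node (.leaf 0) (.leaf 592)) (.node (.leaf 1216) (.leaf 3425))) (.node (.node (.leaf 317) (.leaf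 0)) (.node (.leaf 3330) (.leaf 3258))))) (.node (.node (.node (.node (.node (.leaf 0) (.leaf 2561)) (.leaf 1698)) (.node (.leaf 2622) (.leaf 3211))) (.node (.node (.leaf 0) (.leaf 893)) (.node (.leaf 0) (.leaf 1557)))) (.node (.node (.node (.leaf 654) (.leaf 2007)) (.node (.leaf 737) (.leaf 2283))) (.node (.node (.leaf 0) (.leaf 2981)) (.node (.leaf 29) (.leaf 3469)))))))))

def threeRank4 : Janko.Tree (ℕ) :=
  (.node (.node (.node (.node (.node (.node (.node (.node (.node (.leaf 0) (.leaf 912)) (.leaf 3559)) (.node (.leaf 636) (.leaf 3386))) (.node (.node (.leaf 219) (.leaf 2945)) (.node (.leaf 0) (.leaf 1433)))) (.node (.node (.node (.node (.leaf 921) (.leaf 2846)) (.leaf 2716)) (.node (.leaf 1042) (.leaf 2841))) (.node (.node (.leaf 0) (.leaf 1691)) (.node (.leaf 2862) (.leaf 2745))))) (.node (.node (.node (.node (.node (.leaf 223) (.leaf 3311)) (.leaf 1230)) (.node (.leaf 0) (.leaf 3046))) (.node (.node (.leaf 883) (.leaf 1737)) (.node (.leaf 3571) (.leaf 2233)))) (.node (.node (.node (.leaf 0) (.leaf 3174)) (.node (.leaf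 698) (.leaf 3092))) (.node (.node (.leaf 779) (.leaf 461)) (.node (.leaf 1369) (.leaf 2061)))))) (.node (.node (.node (.node (.node (.node (.leaf 531) (.leaf 3545)) (.leaf 0)) (.node (.leaf 2381) (.leaf 2787))) (.node (.node (.leaf 0) (.leaf 265)) (.node (.leaf 451) (.leaf 2225)))) (.node (.node (.node (.leaf 0) (.leaf 1458)) (.node (.leaf 570) (.leaf 3497))) (.node (.node (.leaf 0) (.leaf 123)) (.node (.leaf 0) (.leaf 2047))))) (.node (.node (.node (.node (.node (.leaf 566) (.leaf 3026)) (.leaf 2856)) (.node (.leaf 1277) (.leaf 2731))) (.node (.node (.leaf 2377) (.leaf 2784)) (.node (.leaf 2422) (.leaf 1881)))) (.node (.node (.node (.leaf 408) (.leaf 515)) (.node (.leaf 241) (.leaf 1126))) (.node (.node (.leaf 2209) (.leaf 3132)) (.node (.leaf 774) (.leaf 2015))))))) (.node (.node (.node (.node (.node (.node (.node (.leaf 281) (.leaf 1926)) (.leaf 491)) (.node (.leaf 2689) (.leaf 1329))) (.node (.node (.leaf 856) (.leaf 127)) (.node (.leaf 221) (.leaf 443)))) (.node (.node (.node (.node (.leaf 513) (.leaf 0)) (.leaf 3059))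 (.node (.leaf 396) (.leaf 2268))) (.node (.node (.leaf 2146) (.leaf 440)) (.node (.leaf 2977) (.leaf 3496))))) (.node (.node (.node (.node (.node (.leaf 610) (.leaf 945)) (.leaf 0)) (.node (.leaf 690) (.leaf 473))) (.node (.node (.leaf 148) (.leaf 1238)) (.node (.leaf 2873) (.leaf 2023)))) (.node (.node (.node (.leaf 1224) (.leaf 1246)) (.node (.leaf 1977) (.leaf 1703))) (.node (.node (.leaf 1264) (.leaf 3064)) (.node (.leaf 1337) (.leaf 3278)))))) (.node (.node (.node (.node (.node (.node (.leaf 0) (.leaf 3019)) (.leaf 1047)) (.node (.leaf 2458) (.leaf 1602))) (.node (.node (.leaf 1479) (.leaf 797)) (.node (.leaf 547) (.leaf 2957)))) (.node (.node (.node (.leaf 0) (.leaf 0)) (.node (.leaf 1302) (.leaf 1589))) (.node (.node (.leaf 0) (.leaf 936)) (.node (.leaf 2863) (.leaf 2570))))) (.node (.node (.node (.node (.node (.leaf 0) (.leaf 2194)) (.leaf 584)) (.node (.leaf 587) (.leaf 3582))) (.node (.node (.leaf 0) (.leaf 1930)) (.node (.leaf 0) (.leaf 993)))) (.node (.node (.node (.leaf 574) (.leaf 1383)) (.node (.leaf 708) (.leaf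 1215))) (.node (.node (.leaf 1402) (.leaf 3640)) (.node (.leaf 0) (.leaf 3240)))))))) (.node (.node (.node (.node (.node (.node (.node (.node (.leaf 0) (.leaf 1766)) (.leaf 0)) (.node (.leaf 1384) (.leaf 3018))) (.node (.node (.leaf 0) (.leaf 0)) (.node (.leaf 3630) (.leaf 0)))) (.node (.node (.node (.node (.leaf 0) (.leaf 2172)) (.leaf 1273)) (.node (.leaf 0) (.leaf 509))) (.node (.node (.leaf 1359) (.leaf 124)) (.node (.leaf 1614) (.leaf 1353))))) (.node (.node (.node (.node (.node (.leaf 2371) (.leaf 1417)) (.leaf 7)) (.node (.leaf 1624) (.leaf 2324))) (.node (.node (.leaf 1475) (.leaf 1060)) (.node (.leaf 2430) (.leaf 1117)))) (.node (.node (.node (.leaf 457) (.leaf 2732)) (.node (.leaf 1347) (.leaf 3403))) (.node (.node (.leaf 1366) (.leaf 1661)) (.node (.leaf 1562) (.leaf 104)))))) (.node (.node (.node (.node (.node (.node (.leaf 0) (.leaf 1090)) (.leaf 996)) (.node (.leaf 2365) (.leaf 1434))) (.node (.node (.leaf 817) (.leaf 0)) (.node (.leaf 628) (.leaf 2894)))) (.node (.node (.node (.leaf 558) (.leaf 1529)) (.node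 (.leaf 452) (.leaf 292))) (.node (.node (.leaf 230) (.leaf 1721)) (.node (.leaf 1853) (.leaf 3524))))) (.node (.node (.node (.node (.node (.leaf 405) (.leaf 3042)) (.leaf 595)) (.node (.leaf 226) (.leaf 1598))) (.node (.node (.leaf 563) (.leaf 764)) (.node (.leaf 1580) (.leaf 1646)))) (.node (.node (.node (.leaf 0) (.leaf 2575)) (.node (.leaf 3600) (.leaf 1187))) (.node (.node (.leaf 400) (.leaf 2755)) (.node (.leaf 1465) (.leaf 2021))))))) (.node (.node (.node (.node (.node (.node (.node (.leaf 0) (.leaf 456)) (.leaf 246)) (.node (.leaf 2775) (.leaf 2479))) (.node (.node (.leaf 2816) (.leaf 2545)) (.node (.leaf 0) (.leaf 2432)))) (.node (.node (.node (.leaf 413) (.leaf 2191)) (.node (.leaf 0) (.leaf 2952))) (.node (.node (.leaf 553) (.leaf 1735)) (.node (.leaf 2788) (.leaf 2586))))) (.node (.node (.node (.node (.node (.leaf 234) (.leaf 97)) (.leaf 1715)) (.node (.leaf 2694) (.leaf 1141))) (.node (.node (.leaf 3520) (.leaf 1996)) (.node (.leaf 2431) (.leaf 1127)))) (.node (.node (.node (.leaf 695) (.leaf 2826)) (.node (.leaf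 3304) (.leaf 1631))) (.node (.node (.leaf 788) (.leaf 2603)) (.node (.leaf 2252) (.leaf 1964)))))) (.node (.node (.node (.node (.node (.node (.leaf 0) (.leaf 3406)) (.leaf 2257)) (.node (.leaf 1043) (.leaf 431))) (.node (.node (.leaf 0) (.leaf 1034)) (.node (.leaf 424) (.leaf 2258)))) (.node (.node (.node (.leaf 224) (.leaf 529)) (.node (.leaf 1202) (.leaf 2959))) (.node (.node (.leaf 539) (.leaf 1645)) (.node (.leaf 264) (.leaf 958))))) (.node (.node (.node (.node (.node (.leaf 0) (.leaf 2230)) (.leaf 3584)) (.node (.leaf 1707) (.leaf 3084))) (.node (.node (.leaf 1113) (.leaf 1058)) (.node (.leaf 0) (.leaf 1404)))) (.node (.node (.node (.leaf 922) (.leaf 2012)) (.node (.leaf 212) (.leaf 3276))) (.node (.node (.leaf 0) (.leaf 2756)) (.node (.leaf 1555) (.leaf 3465)))))))))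

def threeRank5 : Janko.Tree (ℕ) :=
  (.node (.node (.node (.node (.node (.node (.node (.node (.node (.leaf 0) (.leaf 3638)) (.leaf 0)) (.node (.leaf 2449) (.leaf 3388))) (.node (.node (.leaf 676) (.leaf 2677)) (.node (.leaf 660) (.leaf 3580)))) (.node (.node (.node (.node (.leaf 1287) (.leaf 2593)) (.leaf 2718)) (.node (.leaf 288) (.leaf 2418))) (.node (.node (.leaf 951) (.leaf 1620)) (.node (.leaf 0) (.leaf 2744))))) (.node (.node (.node (.node (.node (.leaf 327) (.leaf 3313)) (.leaf 1294)) (.node (.leaf 747) (.leaf 3038))) (.node (.node (.leaf 880) (.leaf 1711)) (.node (.leaf 0) (.leaf 2170)))) (.node (.node (.node (.leaf 0) (.leaf 2640)) (.node (.leaf 2914) (.leaf 3562))) (.node (.node (.leaf 384) (.leaf 3196)) (.node (.leaf 1192) (.leaf 591)))))) (.node (.node (.node (.node (.node (.node (.leaf 0) (.leaf 3179)) (.leaf 712)) (.node (.leaf 1265) (.leaf 2099))) (.node (.node (.leaf 2425) (.leaf 2763)) (.node (.leaf 0) (.leaf 2223)))) (.node (.node (.node (.leaf 0) (.leaf 70)) (.node (.leaf 0) (.leaf 21))) (.node (.node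 (.leaf 0) (.leaf 0)) (.node (.leaf 3391) (.leaf 3274))))) (.node (.node (.node (.node (.node (.leaf 180) (.leaf 3023)) (.leaf 2724)) (.node (.leaf 84) (.leaf 2113))) (.node (.node (.leaf 1838) (.leaf 2786)) (.node (.leaf 2426) (.leaf 809)))) (.node (.node (.node (.leaf 91) (.leaf 508)) (.node (.leaf 1841) (.leaf 2020))) (.node (.node (.leaf 1448) (.leaf 3142)) (.node (.leaf 2552) (.leaf 3290))))))) (.node (.node (.node (.node (.node (.node (.node (.leaf 372) (.leaf 2588)) (.leaf 75)) (.node (.leaf 2128) (.leaf 3514))) (.node (.node (.leaf 0) (.leaf 2467)) (.node (.leaf 670) (.leaf 2072)))) (.node (.node (.node (.node (.leaf 189) (.leaf 0)) (.leaf 0)) (.node (.leaf 83) (.leaf 2263))) (.node (.node (.leaf 0) (.leaf 1770)) (.node (.leaf 2979) (.leaf 3500))))) (.node (.node (.node (.node (.node (.leaf 0) (.leaf 1102)) (.leaf 724)) (.node (.leaf 1135) (.leaf 57))) (.node (.node (.leaf 1849) (.leaf 2065)) (.node (.leaf 2416) (.leaf 1752)))) (.node (.node (.node (.leaf 0) (.leaf 0)) (.node (.leaf 1795) (.leaf 1601))) (.node (.node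 (.leaf 1286) (.leaf 3001)) (.node (.leaf 0) (.leaf 1921)))))) (.node (.node (.node (.node (.node (.node (.leaf 0) (.leaf 3017)) (.leaf 1134)) (.node (.leaf 2503) (.leaf 1542))) (.node (.node (.leaf 0) (.leaf 3445)) (.node (.leaf 168) (.leaf 2271)))) (.node (.node (.node (.leaf 0) (.leaf 854)) (.node (.leaf 0) (.leaf 2027))) (.node (.node (.leaf 720) (.leaf 355)) (.node (.leaf 2362) (.leaf 3434))))) (.node (.node (.node (.node (.node (.leaf 0) (.leaf 2190)) (.leaf 2736)) (.node (.leaf 172) (.leaf 3587))) (.node (.node (.leaf 0) (.leaf 1679)) (.node (.leaf 2662) (.leaf 3297)))) (.node (.node (.node (.leaf 0) (.leaf 1699)) (.node (.leaf 3218) (.leaf 1632))) (.node (.node (.leaf 1590) (.leaf 1885)) (.node (.leaf 2202) (.leaf 1166)))))))) (.node (.node (.node (.node (.node (.node (.node (.node (.leaf 0) (.leaf 1758)) (.leaf 2151)) (.node (.leaf 0) (.leaf 2970))) (.node (.node (.leaf 0) (.leaf 27)) (.node (.leaf 0) (.leaf 2083)))) (.node (.node (.node (.node (.leaf 0) (.leaf 2184)) (.leaf 1288)) (.node (.leaf 0) (.leaf 3234)))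 (.node (.node (.leaf 0) (.leaf 0)) (.node (.leaf 310) (.leaf 0))))) (.node (.node (.node (.node (.node (.leaf 202) (.leaf 1420)) (.leaf 942)) (.node (.leaf 0) (.leaf 2303))) (.node (.node (.leaf 3219) (.leaf 1896)) (.node (.leaf 0) (.leaf 1115)))) (.node (.node (.node (.leaf 0) (.leaf 2741)) (.node (.leaf 0) (.leaf 3401))) (.node (.node (.leaf 195) (.leaf 1660)) (.node (.leaf 0) (.leaf 2390)))))) (.node (.node (.node (.node (.node (.node (.leaf 37) (.leaf 1094)) (.leaf 1498)) (.node (.leaf 2367) (.leaf 3419))) (.node (.node (.leaf 1424) (.leaf 728)) (.node (.leaf 312) (.leaf 3538)))) (.node (.node (.node (.leaf 0) (.leaf 1392)) (.node (.leaf 3185) (.leaf 2542))) (.node (.node (.leaf 807) (.leaf 1719)) (.node (.leaf 165) (.leaf 2299))))) (.node (.node (.node (.node (.node (.leaf 0) (.leaf 3268)) (.leaf 904)) (.node (.leaf 933) (.leaf 3016))) (.node (.node (.leaf 0) (.leaf 914)) (.node (.leaf 0) (.leaf 1628)))) (.node (.node (.node (.leaf 0) (.leaf 1511)) (.node (.leaf 3602) (.leaf 321))) (.node (.node (.leaf 0) (.leaf 1901))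 (.node (.leaf 0) (.leaf 1586))))))) (.node (.node (.node (.node (.node (.node (.node (.leaf 0) (.leaf 1785)) (.leaf 1168)) (.node (.leaf 0) (.leaf 851))) (.node (.node (.leaf 1209) (.leaf 2092)) (.node (.leaf 834) (.leaf 2069)))) (.node (.node (.node (.leaf 92) (.leaf 1442)) (.node (.leaf 1840) (.leaf 2043))) (.node (.node (.leaf 0) (.leaf 2350)) (.node (.leaf 2705) (.leaf 2029))))) (.node (.node (.node (.node (.node (.leaf 338) (.leaf 1023)) (.leaf 73)) (.node (.leaf 601) (.leaf 1105))) (.node (.node (.leaf 2399) (.leaf 1902)) (.node (.leaf 0) (.leaf 1936)))) (.node (.node (.node (.leaf 691) (.leaf 2621)) (.node (.leaf 0) (.leaf 1648))) (.node (.node (.leaf 593) (.leaf 61)) (.node (.leaf 0) (.leaf 17)))))) (.node (.node (.node (.node (.node (.node (.leaf 0) (.leaf 307)) (.leaf 792)) (.node (.leaf 719) (.leaf 3202))) (.node (.node (.leaf 3599) (.leaf 905)) (.node (.leaf 0) (.leaf 2256)))) (.node (.node (.node (.leaf 1064) (.leaf 2490)) (.node (.leaf 1220) (.leaf 3480))) (.node (.node (.leaf 0) (.leaf 1647)) (.node (.leaf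 3392) (.leaf 2193))))) (.node (.node (.node (.node (.node (.leaf 0) (.leaf 2222)) (.leaf 0)) (.node (.leaf 0) (.leaf 3082))) (.node (.node (.leaf 318) (.leaf 1903)) (.node (.leaf 2548) (.leaf 2066)))) (.node (.node (.node (.leaf 0) (.leaf 2667)) (.node (.leaf 308) (.leaf 0))) (.node (.node (.leaf 2448) (.leaf 2752)) (.node (.leaf 0) (.leaf 3467)))))))))

def threeRank6 : Janko.Tree (ℕ) :=
  (.node (.node (.node (.node (.node (.node (.node (.node (.node (.leaf 0) (.leaf 910)) (.leaf 3557)) (.node (.leaf 512) (.leaf 3643))) (.node (.node (.leaf 836) (.leaf 2679)) (.node (.leaf 1429) (.leaf 404)))) (.node (.node (.node (.node (.leaf 597) (.leaf 2234)) (.leaf 1345)) (.node (.leaf 38) (.leaf 2414))) (.node (.node (.leaf 1538) (.leaf 1618)) (.node (.leaf 298) (.leaf 1305))))) (.node (.node (.node (.node (.node (.leaf 468) (.leaf 1582)) (.leaf 2533)) (.node (.leaf 1118) (.leaf 3645))) (.node (.node (.leaf 2403) (.leaf 3228)) (.node (.leaf 433) (.leaf 2164)))) (.node (.node (.node (.leaf 1119) (.leaf 2926)) (.node (.leaf 693) (.leaf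 4))) (.node (.node (.leaf 582) (.leaf 122)) (.node (.leaf 1114) (.leaf 537)))))) (.node (.node (.node (.node (.node (.node (.leaf 0) (.leaf 1796)) (.leaf 1299)) (.node (.leaf 614) (.leaf 2739))) (.node (.node (.leaf 220) (.leaf 830)) (.node (.leaf 0) (.leaf 1572)))) (.node (.node (.node (.leaf 534) (.leaf 2216)) (.node (.leaf 1045) (.leaf 2995))) (.node (.node (.leaf 0) (.leaf 1066)) (.node (.leaf 3349) (.leaf 2049))))) (.node (.node (.node (.node (.node (.leaf 0) (.leaf 3021)) (.leaf 2722)) (.node (.leaf 0) (.leaf 3558))) (.node (.node (.leaf 2342) (.leaf 3415)) (.node (.leaf 521) (.leaf 1973)))) (.node (.node (.node (.leaf 2922) (.leaf 1659)) (.node (.leaf 1222) (.leaf 0))) (.node (.node (.leaf 504) (.leaf 3140)) (.node (.leaf 791) (.leaf 3491))))))) (.node (.node (.node (.node (.node (.node (.node (.leaf 1013) (.leaf 1050)) (.leaf 2169)) (.node (.leaf 1390) (.leaf 1275))) (.node (.node (.leaf 2443) (.leaf 3057)) (.node (.leaf 832) (.leaf 0)))) (.node (.node (.node (.node (.leaf 250) (.leaf 0)) (.leaf 2781)) (.node (.leaf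 1817) (.leaf 3619))) (.node (.node (.leaf 494) (.leaf 0)) (.node (.leaf 3422) (.leaf 2803))))) (.node (.node (.node (.node (.node (.leaf 0) (.leaf 824)) (.leaf 976)) (.node (.leaf 740) (.leaf 2316))) (.node (.node (.leaf 2145) (.leaf 1297)) (.node (.leaf 2427) (.leaf 3224)))) (.node (.node (.node (.leaf 407) (.leaf 128)) (.node (.leaf 1689) (.leaf 1603))) (.node (.node (.leaf 1387) (.leaf 3166)) (.node (.leaf 1191) (.leaf 1952)))))) (.node (.node (.node (.node (.node (.node (.leaf 228) (.leaf 3013)) (.leaf 1130)) (.node (.leaf 2374) (.leaf 3189))) (.node (.node (.leaf 871) (.leaf 126)) (.node (.leaf 2608) (.leaf 2592)))) (.node (.node (.node (.leaf 0) (.leaf 1530)) (.node (.leaf 409) (.leaf 1696))) (.node (.node (.leaf 1046) (.leaf 939)) (.node (.leaf 2136) (.leaf 3592))))) (.node (.node (.node (.node (.node (.leaf 0) (.leaf 1468)) (.leaf 131)) (.node (.leaf 10) (.leaf 3354))) (.node (.node (.leaf 0) (.leaf 205)) (.node (.leaf 2783) (.leaf 108)))) (.node (.node (.node (.leaf 761) (.leaf 2522)) (.node (.leaf 551) (.leaf 1306)))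 (.node (.node (.leaf 2930) (.leaf 1700)) (.node (.leaf 497) (.leaf 1155)))))))) (.node (.node (.node (.node (.node (.node (.node (.node (.leaf 0) (.leaf 1764)) (.leaf 2384)) (.node (.leaf 351) (.leaf 2980))) (.node (.node (.leaf 631) (.leaf 2949)) (.node (.leaf 2614) (.leaf 828)))) (.node (.node (.node (.node (.leaf 412) (.leaf 0)) (.leaf 2690)) (.node (.leaf 1173) (.leaf 822))) (.node (.node (.leaf 0) (.leaf 973)) (.node (.leaf 611) (.leaf 1351))))) (.node (.node (.node (.node (.node (.leaf 0) (.leaf 2308)) (.leaf 940)) (.node (.leaf 1998) (.leaf 1525))) (.node (.node (.leaf 1418) (.leaf 1054)) (.node (.leaf 3161) (.leaf 1074)))) (.node (.node (.node (.leaf 0) (.leaf 1466)) (.node (.leaf 1274) (.leaf 3397))) (.node (.node (.leaf 0) (.leaf 1668)) (.node (.leaf 3133) (.leaf 3164)))))) (.node (.node (.node (.node (.node (.node (.leaf 0) (.leaf 1982)) (.leaf 0)) (.node (.leaf 3157) (.leaf 884))) (.node (.node (.leaf 517) (.leaf 2054)) (.node (.leaf 467) (.leaf 1367)))) (.node (.node (.node (.leaf 279) (.leaf 1446)) (.node (.leaf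 0) (.leaf 2107))) (.node (.node (.leaf 796) (.leaf 1878)) (.node (.leaf 3053) (.leaf 2198))))) (.node (.node (.node (.node (.node (.leaf 0) (.leaf 3148)) (.leaf 1331)) (.node (.leaf 2767) (.leaf 1790))) (.node (.node (.leaf 271) (.leaf 585)) (.node (.leaf 2093) (.leaf 204)))) (.node (.node (.node (.leaf 475) (.leaf 2270)) (.node (.leaf 2108) (.leaf 735))) (.node (.node (.leaf 0) (.leaf 2961)) (.node (.leaf 403) (.leaf 3272))))))) (.node (.node (.node (.node (.node (.node (.node (.leaf 0) (.leaf 100)) (.leaf 959)) (.node (.leaf 2691) (.leaf 3523))) (.node (.node (.leaf 606) (.leaf 2090)) (.node (.leaf 2096) (.leaf 492)))) (.node (.node (.node (.leaf 0) (.leaf 624)) (.node (.leaf 476) (.leaf 2657))) (.node (.node (.leaf 280) (.leaf 1650)) (.node (.leaf 2700) (.leaf 3289))))) (.node (.node (.node (.node (.node (.leaf 466) (.leaf 765)) (.leaf 2717)) (.node (.leaf 243) (.leaf 615))) (.node (.node (.leaf 2373) (.leaf 3408)) (.node (.leaf 471) (.leaf 981)))) (.node (.node (.node (.leaf 0) (.leaf 3475)) (.node (.leaf 3306) (.leaf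 1332))) (.node (.node (.leaf 620) (.leaf 3207)) (.node (.leaf 1234) (.leaf 1584)))))) (.node (.node (.node (.node (.node (.node (.leaf 0) (.leaf 3256)) (.leaf 1682)) (.node (.leaf 1151) (.leaf 3204))) (.node (.node (.leaf 0) (.leaf 907)) (.node (.leaf 0) (.leaf 3050)))) (.node (.node (.node (.leaf 604) (.leaf 129)) (.node (.leaf 3170) (.leaf 2946))) (.node (.node (.leaf 0) (.leaf 1303)) (.node (.leaf 823) (.leaf 105))))) (.node (.node (.node (.node (.node (.leaf 0) (.leaf 2219)) (.leaf 1319)) (.node (.leaf 1684) (.leaf 1469))) (.node (.node (.leaf 768) (.leaf 1761)) (.node (.leaf 1577) (.leaf 1503)))) (.node (.node (.node (.leaf 0) (.leaf 1567)) (.node (.leaf 957) (.leaf 2285))) (.node (.node (.leaf 2817) (.leaf 2998)) (.node (.leaf 0) (.leaf 3488)))))))))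

def threeRank7 : Janko.Tree (ℕ) :=
  (.node (.node (.node (.node (.node (.node (.node (.node (.node (.leaf 0) (.leaf 1759)) (.leaf 0)) (.node (.leaf 514) (.leaf 3641))) (.node (.node (.leaf 0) (.leaf 2664)) (.node (.leaf 3632) (.leaf 54)))) (.node (.node (.node (.node (.leaf 185) (.leaf 2185)) (.leaf 0)) (.node (.leaf 0) (.leaf 2420))) (.node (.node (.leaf 1348) (.leaf 1718)) (.node (.leaf 2772) (.leaf 1993))))) (.node (.node (.node (.node (.node (.leaf 0) (.leaf 16)) (.leaf 196)) (.node (.leaf 1169) (.leaf 2309))) (.node (.node (.leaf 878) (.leaf 3478)) (.node (.leaf 0) (.leaf 2163)))) (.node (.node (.node (.leaf 284) (.leaf 2116)) (.node (.leaf 696) (.leaf 3498))) (.node (.node (.leaf 2112) (.leaf 0)) (.node (.leaf 1110) (.leaf 48)))))) (.node (.node (.node (.node (.node (.node (.leaf 0) (.leaf 1769)) (.leaf 1831)) (.node (.leaf 0) (.leaf 2115))) (.node (.node (.leaf 324) (.leaf 2465)) (.node (.leaf 0) (.leaf 1541)))) (.node (.node (.node (.leaf 0) (.leaf 1453)) (.node (.leaf 371) (.leaf 1608))) (.node (.node (.leaf 0)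 (.leaf 356)) (.node (.leaf 3346) (.leaf 2045))))) (.node (.node (.node (.node (.node (.leaf 0) (.leaf 3025)) (.leaf 1606)) (.node (.leaf 1252) (.leaf 1910))) (.node (.node (.leaf 1869) (.leaf 2928)) (.node (.leaf 1077) (.leaf 992)))) (.node (.node (.node (.leaf 0) (.leaf 28)) (.node (.leaf 3329) (.leaf 731))) (.node (.node (.leaf 721) (.leaf 3138)) (.node (.leaf 793) (.leaf 2583))))))) (.node (.node (.node (.node (.node (.node (.node (.leaf 1477) (.leaf 673)) (.leaf 2152)) (.node (.leaf 1388) (.leaf 60))) (.node (.node (.leaf 198) (.leaf 2661)) (.node (.leaf 2392) (.leaf 2068)))) (.node (.node (.node (.node (.leaf 0) (.leaf 0)) (.leaf 71)) (.node (.leaf 2976) (.leaf 1370))) (.node (.node (.leaf 0) (.leaf 705)) (.node (.leaf 3378) (.leaf 2801))))) (.node (.node (.node (.node (.node (.leaf 0) (.leaf 2321)) (.leaf 386)) (.node (.leaf 1293) (.leaf 2310))) (.node (.node (.leaf 3597) (.leaf 1236)) (.node (.leaf 1832) (.leaf 2597)))) (.node (.node (.node (.leaf 0) (.leaf 2441)) (.node (.leaf 1672) (.leaf 0))) (.node (.node (.leaf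 1282) (.leaf 3361)) (.node (.leaf 0) (.leaf 2281)))))) (.node (.node (.node (.node (.node (.node (.leaf 337) (.leaf 3015)) (.leaf 1748)) (.node (.leaf 2372) (.leaf 0))) (.node (.node (.leaf 872) (.leaf 745)) (.node (.leaf 3617) (.leaf 2294)))) (.node (.node (.node (.leaf 0) (.leaf 3464)) (.node (.leaf 82) (.leaf 1594))) (.node (.node (.leaf 283) (.leaf 1809)) (.node (.leaf 2366) (.leaf 2813))))) (.node (.node (.node (.node (.node (.leaf 0) (.leaf 3432)) (.leaf 0)) (.node (.leaf 1132) (.leaf 3212))) (.node (.node (.leaf 1158) (.leaf 986)) (.node (.leaf 2130) (.leaf 717)))) (.node (.node (.node (.leaf 370) (.leaf 3566)) (.node (.leaf 3344) (.leaf 0))) (.node (.node (.leaf 0) (.leaf 1685)) (.node (.leaf 752) (.leaf 1922)))))))) (.node (.node (.node (.node (.node (.node (.node (.node (.leaf 0) (.leaf 2002)) (.leaf 1354)) (.node (.leaf 0) (.leaf 2968))) (.node (.node (.leaf 315) (.leaf 579)) (.node (.leaf 2097) (.leaf 787)))) (.node (.node (.node (.node (.leaf 0) (.leaf 0)) (.leaf 1285)) (.node (.leaf 359) (.leaf 2835))) (.node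 (.node (.leaf 347) (.leaf 642)) (.node (.leaf 2967) (.leaf 342))))) (.node (.node (.node (.node (.node (.leaf 0) (.leaf 154)) (.leaf 0)) (.node (.leaf 0) (.leaf 1549))) (.node (.node (.leaf 1478) (.leaf 1056)) (.node (.leaf 3076) (.leaf 1805)))) (.node (.node (.node (.leaf 0) (.leaf 2637)) (.node (.leaf 1241) (.leaf 3399))) (.node (.node (.leaf 2369) (.leaf 0)) (.node (.leaf 1565) (.leaf 2635)))))) (.node (.node (.node (.node (.node (.node (.leaf 0) (.leaf 1989)) (.leaf 1150)) (.node (.leaf 0) (.leaf 58))) (.node (.node (.leaf 177) (.leaf 2242)) (.node (.leaf 0) (.leaf 2333)))) (.node (.node (.node (.leaf 376) (.leaf 0)) (.node (.leaf 0) (.leaf 2562))) (.node (.node (.leaf 2582) (.leaf 1717)) (.node (.leaf 2974) (.leaf 2073))))) (.node (.node (.node (.node (.node (.leaf 252) (.leaf 2177)) (.leaf 0)) (.node (.leaf 0) (.leaf 1636))) (.node (.node (.leaf 362) (.leaf 3453)) (.node (.leaf 350) (.leaf 706)))) (.node (.node (.node (.leaf 0) (.leaf 1948)) (.node (.leaf 0) (.leaf 1953))) (.node (.node (.leaf 852) (.leaf 3482)) (.node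 (.leaf 76) (.leaf 3549))))))) (.node (.node (.node (.node (.node (.node (.node (.leaf 383) (.leaf 1026)) (.leaf 3144)) (.node (.leaf 2703) (.leaf 3459))) (.node (.node (.leaf 0) (.leaf 2248)) (.node (.leaf 0) (.leaf 53)))) (.node (.node (.node (.leaf 879) (.leaf 798)) (.node (.leaf 0) (.leaf 2665))) (.node (.node (.leaf 800) (.leaf 3368)) (.node (.leaf 2702) (.leaf 3300))))) (.node (.node (.node (.node (.node (.leaf 0) (.leaf 734)) (.leaf 2663)) (.node (.leaf 0) (.leaf 2314))) (.node (.node (.leaf 239) (.leaf 0)) (.node (.leaf 78) (.leaf 977)))) (.node (.node (.node (.leaf 0) (.leaf 2407)) (.node (.leaf 3308) (.leaf 3036))) (.node (.node (.leaf 2037) (.leaf 2909)) (.node (.leaf 2058) (.leaf 1512)))))) (.node (.node (.node (.node (.node (.node (.leaf 188) (.leaf 2574)) (.leaf 0)) (.node (.leaf 0) (.leaf 3200))) (.node (.node (.leaf 0) (.leaf 2719)) (.node (.leaf 2883) (.leaf 2272)))) (.node (.node (.node (.leaf 0) (.leaf 639)) (.node (.leaf 0) (.leaf 2943))) (.node (.node (.leaf 0) (.leaf 0)) (.node (.leaf 1864) (.leaf 948)))))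 (.node (.node (.node (.node (.node (.leaf 0) (.leaf 2217)) (.leaf 1296)) (.node (.leaf 0) (.leaf 3070))) (.node (.node (.leaf 2250) (.leaf 1053)) (.node (.leaf 1249) (.leaf 1406)))) (.node (.node (.node (.leaf 656) (.leaf 303)) (.node (.leaf 2204) (.leaf 2287))) (.node (.node (.leaf 0) (.leaf 2750)) (.node (.leaf 349) (.leaf 2936)))))))))

def threeRank8 : Janko.Tree (ℕ) :=
  (.node (.node (.node (.node (.node (.node (.node (.node (.node (.leaf 0) (.leaf 2844)) (.leaf 2062)) (.node (.leaf 2095) (.leaf 3639))) (.node (.node (.leaf 0) (.leaf 0)) (.node (.leaf 847) (.leaf 0)))) (.node (.node (.node (.node (.leaf 256) (.leaf 2183)) (.leaf 1328)) (.node (.leaf 0) (.leaf 2830))) (.node (.node (.leaf 401) (.leaf 1890)) (.node (.leaf 0) (.leaf 1259))))) (.node (.node (.node (.node (.node (.leaf 0) (.leaf 434)) (.leaf 3261)) (.node (.leaf 1157) (.leaf 0))) (.node (.node (.leaf 0) (.leaf 3518)) (.node (.leaf 3079) (.leaf 1330)))) (.node (.node (.node (.leaf 0) (.leaf 2119)) (.node (.leaf 9) (.leaf 3108))) (.node (.node (.leaf 0) (.leaf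 780)) (.node (.leaf 1112) (.leaf 2394)))))) (.node (.node (.node (.node (.node (.node (.leaf 277) (.leaf 1816)) (.leaf 1221)) (.node (.leaf 144) (.leaf 3544))) (.node (.node (.leaf 465) (.leaf 561)) (.node (.leaf 1528) (.leaf 3605)))) (.node (.node (.node (.leaf 0) (.leaf 2819)) (.node (.leaf 1019) (.leaf 2680))) (.node (.node (.leaf 1178) (.leaf 1029)) (.node (.leaf 3343) (.leaf 3490))))) (.node (.node (.node (.node (.node (.leaf 0) (.leaf 3238)) (.leaf 2506)) (.node (.leaf 240) (.leaf 3417))) (.node (.node (.leaf 1843) (.leaf 2004)) (.node (.leaf 1011) (.leaf 1976)))) (.node (.node (.node (.leaf 3622) (.leaf 1576)) (.node (.leaf 2903) (.leaf 3487))) (.node (.node (.leaf 633) (.leaf 3136)) (.node (.leaf 1526) (.leaf 2591))))))) (.node (.node (.node (.node (.node (.node (.node (.leaf 564) (.leaf 931)) (.leaf 2382)) (.node (.leaf 1757) (.leaf 2100))) (.node (.node (.leaf 1382) (.leaf 2500)) (.node (.leaf 140) (.leaf 2434)))) (.node (.node (.node (.node (.leaf 1457) (.leaf 0)) (.leaf 2698)) (.node (.leaf 1916) (.leaf 1373)))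 (.node (.node (.leaf 0) (.leaf 2958)) (.node (.leaf 3353) (.leaf 3294))))) (.node (.node (.node (.node (.node (.leaf 251) (.leaf 549)) (.leaf 1057)) (.node (.leaf 0) (.leaf 2850))) (.node (.node (.leaf 2872) (.leaf 3426)) (.node (.leaf 1523) (.leaf 2799)))) (.node (.node (.node (.leaf 0) (.leaf 2617)) (.node (.leaf 1666) (.leaf 1599))) (.node (.node (.leaf 0) (.leaf 3356)) (.node (.leaf 1204) (.leaf 3192)))))) (.node (.node (.node (.node (.node (.node (.leaf 462) (.leaf 3049)) (.leaf 980)) (.node (.leaf 263) (.leaf 3357))) (.node (.node (.leaf 2469) (.leaf 1692)) (.node (.leaf 2104) (.leaf 2278)))) (.node (.node (.node (.leaf 0) (.leaf 441)) (.node (.leaf 3062) (.leaf 1882))) (.node (.node (.leaf 899) (.leaf 542)) (.node (.leaf 0) (.leaf 2543))))) (.node (.node (.node (.node (.node (.leaf 0) (.leaf 2078)) (.leaf 1005)) (.node (.leaf 1179) (.leaf 3089))) (.node (.node (.leaf 763) (.leaf 1160)) (.node (.leaf 2701) (.leaf 982)))) (.node (.node (.node (.leaf 1082) (.leaf 1391)) (.node (.leaf 702) (.leaf 1375))) (.node (.node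 (.leaf 0) (.leaf 0)) (.node (.leaf 486) (.leaf 102)))))))) (.node (.node (.node (.node (.node (.node (.node (.node (.leaf 0) (.leaf 1760)) (.leaf 483)) (.node (.leaf 0) (.leaf 700))) (.node (.node (.leaf 463) (.leaf 1610)) (.node (.leaf 1459) (.leaf 487)))) (.node (.node (.node (.node (.leaf 0) (.leaf 0)) (.leaf 2530)) (.node (.leaf 1018) (.leaf 518))) (.node (.node (.leaf 1474) (.leaf 929)) (.node (.leaf 1775) (.leaf 1917))))) (.node (.node (.node (.node (.node (.leaf 425) (.leaf 3048)) (.leaf 0)) (.node (.leaf 1181) (.leaf 1428))) (.node (.node (.leaf 1862) (.leaf 694)) (.node (.leaf 3647) (.leaf 3008)))) (.node (.node (.node (.leaf 1048) (.leaf 478)) (.node (.leaf 2778) (.leaf 2514))) (.node (.node (.leaf 3517) (.leaf 1656)) (.node (.leaf 1068) (.leaf 2499)))))) (.node (.node (.node (.node (.node (.node (.leaf 0) (.leaf 3027)) (.leaf 1639)) (.node (.leaf 536) (.leaf 2495))) (.node (.node (.leaf 12) (.leaf 2052)) (.node (.leaf 139) (.leaf 1981)))) (.node (.node (.node (.leaf 844) (.leaf 2189)) (.node (.leaf 1177) (.leaf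 3098))) (.node (.node (.leaf 0) (.leaf 3225)) (.node (.leaf 2840) (.leaf 2196))))) (.node (.node (.node (.node (.node (.leaf 232) (.leaf 2182)) (.leaf 1260)) (.node (.leaf 143) (.leaf 3489))) (.node (.node (.leaf 820) (.leaf 543)) (.node (.leaf 2512) (.leaf 704)))) (.node (.node (.node (.leaf 0) (.leaf 1673)) (.node (.leaf 2604) (.leaf 114))) (.node (.node (.leaf 1144) (.leaf 2955)) (.node (.leaf 0) (.leaf 3263))))))) (.node (.node (.node (.node (.node (.node (.node (.leaf 0) (.leaf 1963)) (.leaf 545)) (.node (.leaf 3151) (.leaf 3521))) (.node (.node (.leaf 0) (.leaf 3588)) (.node (.leaf 428) (.leaf 2221)))) (.node (.node (.node (.leaf 2148) (.leaf 632)) (.node (.leaf 1774) (.leaf 3169))) (.node (.node (.leaf 963) (.leaf 1657)) (.node (.leaf 0) (.leaf 3298))))) (.node (.node (.node (.node (.node (.leaf 152) (.leaf 1129)) (.leaf 2792)) (.node (.leaf 1316) (.leaf 541))) (.node (.node (.leaf 0) (.leaf 1343)) (.node (.leaf 2833) (.leaf 2848)))) (.node (.node (.node (.leaf 1266) (.leaf 2446)) (.node (.leaf 1379) (.leaf 3355)))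 (.node (.node (.leaf 600) (.leaf 2517)) (.node (.leaf 1232) (.leaf 2286)))))) (.node (.node (.node (.node (.node (.node (.leaf 0) (.leaf 99)) (.leaf 3139)) (.node (.leaf 0) (.leaf 3040))) (.node (.node (.leaf 3358) (.leaf 2669)) (.node (.leaf 3061) (.leaf 444)))) (.node (.node (.node (.leaf 0) (.leaf 3644)) (.node (.leaf 2601) (.leaf 2941))) (.node (.node (.leaf 1039) (.leaf 410)) (.node (.leaf 567) (.leaf 3044))))) (.node (.node (.node (.node (.node (.leaf 417) (.leaf 3047)) (.leaf 2557)) (.node (.leaf 213) (.leaf 448))) (.node (.node (.leaf 0) (.leaf 1690)) (.node (.leaf 2511) (.leaf 3547)))) (.node (.node (.node (.leaf 1139) (.leaf 1623)) (.node (.leaf 0) (.leaf 1333))) (.node (.node (.leaf 538) (.leaf 2938)) (.node (.leaf 3190) (.leaf 1716)))))))))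

def threeRank9 : Janko.Tree (ℕ) :=
  (.node (.node (.node (.node (.node (.node (.node (.node (.node (.leaf 0) (.leaf 2935)) (.leaf 1946)) (.node (.leaf 0) (.leaf 3637))) (.node (.node (.leaf 507) (.leaf 1945)) (.node (.leaf 0) (.leaf 1441)))) (.node (.node (.node (.node (.leaf 725) (.leaf 2181)) (.leaf 1290)) (.node (.leaf 941) (.leaf 3068))) (.node (.node (.leaf 0) (.leaf 193)) (.node (.leaf 1591) (.leaf 1271))))) (.node (.node (.node (.node (.node (.leaf 0) (.leaf 707)) (.leaf 804)) (.node (.leaf 0) (.leaf 2318))) (.node (.node (.leaf 0) (.leaf 0)) (.node (.leaf 3209) (.leaf 1971)))) (.node (.node (.node (.leaf 0) (.leaf 2114)) (.node (.leaf 2808) (.leaf 3106))) (.node (.node (.leaf 0) (.leaf 1006)) (.node (.leaf 3182) (.leaf 2477)))))) (.node (.node (.node (.node (.node (.node (.leaf 374) (.leaf 1783)) (.leaf 3003)) (.node (.leaf 2375) (.leaf 3120))) (.node (.node (.leaf 0) (.leaf 162)) (.node (.leaf 1539) (.leaf 3034)))) (.node (.node (.node (.leaf 2141) (.leaf 0)) (.node (.leaf 876) (.leaf 1605))) (.node (.node (.leaf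 1149) (.leaf 3231)) (.node (.leaf 3341) (.leaf 2652))))) (.node (.node (.node (.node (.node (.leaf 0) (.leaf 3246)) (.leaf 2713)) (.node (.leaf 3477) (.leaf 2742))) (.node (.node (.leaf 1836) (.leaf 3128)) (.node (.leaf 2411) (.leaf 2032)))) (.node (.node (.node (.leaf 3376) (.leaf 0)) (.node (.leaf 170) (.leaf 2274))) (.node (.node (.leaf 0) (.leaf 3134)) (.node (.leaf 1372) (.leaf 2589))))))) (.node (.node (.node (.node (.node (.node (.node (.leaf 0) (.leaf 3613)) (.leaf 3143)) (.node (.leaf 2706) (.leaf 1272))) (.node (.node (.leaf 0) (.leaf 2470)) (.node (.leaf 511) (.leaf 3286)))) (.node (.node (.node (.node (.leaf 0) (.leaf 849)) (.leaf 2131)) (.node (.leaf 2879) (.leaf 1974))) (.node (.node (.leaf 2088) (.leaf 3069)) (.node (.leaf 3345) (.leaf 2805))))) (.node (.node (.node (.node (.node (.leaf 3607) (.leaf 153)) (.leaf 1906)) (.node (.leaf 682) (.leaf 2337))) (.node (.node (.leaf 1859) (.leaf 1318)) (.node (.leaf 2349) (.leaf 1879)))) (.node (.node (.node (.leaf 0) (.leaf 2619)) (.node (.leaf 0) (.leaf 1643))) (.node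 (.node (.leaf 0) (.leaf 2908)) (.node (.leaf 1189) (.leaf 3177)))))) (.node (.node (.node (.node (.node (.node (.leaf 0) (.leaf 2649)) (.leaf 968)) (.node (.leaf 596) (.leaf 3187))) (.node (.node (.leaf 869) (.leaf 2295)) (.node (.leaf 0) (.leaf 2280)))) (.node (.node (.node (.leaf 926) (.leaf 0)) (.node (.leaf 0) (.leaf 1884))) (.node (.node (.leaf 1615) (.leaf 3385)) (.node (.leaf 3458) (.leaf 2573))))) (.node (.node (.node (.node (.node (.leaf 0) (.leaf 2070)) (.leaf 641)) (.node (.leaf 0) (.leaf 3087))) (.node (.node (.leaf 753) (.leaf 1932)) (.node (.leaf 2127) (.leaf 389)))) (.node (.node (.node (.leaf 1250) (.leaf 2515)) (.node (.leaf 363) (.leaf 1193))) (.node (.node (.leaf 2123) (.leaf 3119)) (.node (.leaf 0) (.leaf 2292)))))))) (.node (.node (.node (.node (.node (.node (.node (.node (.leaf 0) (.leaf 1762)) (.leaf 0)) (.node (.leaf 2531) (.leaf 301))) (.node (.node (.leaf 0) (.leaf 2715)) (.node (.leaf 0) (.leaf 2235)))) (.node (.node (.node (.node (.leaf 848) (.leaf 0)) (.leaf 2599)) (.node (.leaf 1655) (.leaf 156)))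 (.node (.node (.leaf 0) (.leaf 1911)) (.node (.leaf 1652) (.leaf 2594))))) (.node (.node (.node (.node (.node (.leaf 0) (.leaf 3321)) (.leaf 1022)) (.node (.leaf 1063) (.leaf 1422))) (.node (.node (.leaf 0) (.leaf 988)) (.node (.leaf 2412) (.leaf 1072)))) (.node (.node (.node (.leaf 366) (.leaf 1992)) (.node (.leaf 1240) (.leaf 2524))) (.node (.node (.leaf 0) (.leaf 1658)) (.node (.leaf 309) (.leaf 2456)))))) (.node (.node (.node (.node (.node (.node (.leaf 0) (.leaf 1788)) (.leaf 1507)) (.node (.leaf 85) (.leaf 850))) (.node (.node (.leaf 0) (.leaf 3551)) (.node (.leaf 0) (.leaf 1972)))) (.node (.node (.node (.leaf 868) (.leaf 1443)) (.node (.leaf 1106) (.leaf 2109))) (.node (.node (.leaf 0) (.leaf 1891)) (.node (.leaf 1852) (.leaf 2188))))) (.node (.node (.node (.node (.node (.leaf 322) (.leaf 2082)) (.leaf 72)) (.node (.leaf 0) (.leaf 3071))) (.node (.node (.leaf 1844) (.leaf 3396)) (.node (.leaf 0) (.leaf 1782)))) (.node (.node (.node (.leaf 2902) (.leaf 1394)) (.node (.leaf 81) (.leaf 1154))) (.node (.node (.leaf 589)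 (.leaf 1995)) (.node (.leaf 1451) (.leaf 3259))))))) (.node (.node (.node (.node (.node (.node (.node (.leaf 0) (.leaf 3077)) (.leaf 0)) (.node (.leaf 2682) (.leaf 1991))) (.node (.node (.leaf 0) (.leaf 2526)) (.node (.leaf 0) (.leaf 2212)))) (.node (.node (.node (.leaf 1389) (.leaf 0)) (.node (.leaf 1821) (.leaf 3114))) (.node (.node (.leaf 1483) (.leaf 1654)) (.node (.leaf 3125) (.leaf 3295))))) (.node (.node (.node (.node (.node (.leaf 0) (.leaf 2018)) (.leaf 2376)) (.node (.leaf 0) (.leaf 0))) (.node (.node (.leaf 3374) (.leaf 1340)) (.node (.leaf 2413) (.leaf 19)))) (.node (.node (.node (.leaf 0) (.leaf 2439)) (.node (.leaf 3381) (.leaf 56))) (.node (.node (.leaf 602) (.leaf 2869)) (.node (.leaf 1310) (.leaf 1509)))))) (.node (.node (.node (.node (.node (.node (.leaf 286) (.leaf 733)) (.leaf 0)) (.node (.leaf 726) (.leaf 3028))) (.node (.node (.leaf 2921) (.leaf 903)) (.node (.leaf 0) (.leaf 3146)))) (.node (.node (.node (.leaf 0) (.leaf 2811)) (.node (.leaf 0) (.leaf 2937))) (.node (.node (.leaf 360) (.leaf 62)) (.node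 (.leaf 164) (.leaf 1994))))) (.node (.node (.node (.node (.node (.leaf 0) (.leaf 2034)) (.leaf 1292)) (.node (.leaf 674) (.leaf 2409))) (.node (.node (.leaf 0) (.leaf 2523)) (.node (.leaf 2757) (.leaf 1560)))) (.node (.node (.node (.leaf 916) (.leaf 2653)) (.node (.leaf 502) (.leaf 2059))) (.node (.node (.leaf 0) (.leaf 2754)) (.node (.leaf 0) (.leaf 1604)))))))))

def threeRank10 : Janko.Tree (ℕ) :=
  (.node (.node (.node (.node (.node (.node (.node (.node (.node (.leaf 0) (.leaf 2498)) (.leaf 3156)) (.node (.leaf 1596) (.leaf 3635))) (.node (.node (.leaf 623) (.leaf 3107)) (.node (.leaf 2486) (.leaf 1432)))) (.node (.node (.node (.node (.leaf 0) (.leaf 209)) (.leaf 2579)) (.node (.leaf 1733) (.leaf 2838))) (.node (.node (.leaf 0) (.leaf 1915)) (.node (.leaf 2005) (.leaf 2120))))) (.node (.node (.node (.node (.node (.leaf 257) (.leaf 3022)) (.leaf 3250)) (.node (.leaf 0) (.leaf 1531))) (.node (.node (.leaf 432) (.leaf 3634)) (.node (.leaf 1467) (.leaf 1322)))) (.node (.node (.node (.leaf 0) (.leaf 1398)) (.node (.leaf 1231)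 (.leaf 3111))) (.node (.node (.leaf 381) (.leaf 617)) (.node (.leaf 0) (.leaf 2851)))))) (.node (.node (.node (.node (.node (.node (.leaf 886) (.leaf 3301)) (.leaf 2357)) (.node (.leaf 2144) (.leaf 2865))) (.node (.node (.leaf 149) (.leaf 1627)) (.node (.leaf 1521) (.leaf 1630)))) (.node (.node (.node (.leaf 235) (.leaf 2200)) (.node (.leaf 571) (.leaf 3410))) (.node (.node (.leaf 680) (.leaf 1071)) (.node (.leaf 3056) (.leaf 2947))))) (.node (.node (.node (.node (.node (.leaf 0) (.leaf 3244)) (.leaf 207)) (.node (.leaf 1261) (.leaf 2740))) (.node (.node (.leaf 2385) (.leaf 2006)) (.node (.leaf 523) (.leaf 1001)))) (.node (.node (.node (.leaf 2901) (.leaf 1693)) (.node (.leaf 3620) (.leaf 1746))) (.node (.node (.leaf 0) (.leaf 1532)) (.node (.leaf 393) (.leaf 2587))))))) (.node (.node (.node (.node (.node (.node (.node (.leaf 15) (.leaf 653)) (.leaf 2239)) (.node (.leaf 1381) (.leaf 1086))) (.node (.node (.leaf 426) (.leaf 2472)) (.node (.leaf 1527) (.leaf 3150)))) (.node (.node (.node (.node (.leaf 2159) (.leaf 499)) (.leaf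 999)) (.node (.leaf 1826) (.leaf 1506))) (.node (.node (.leaf 236) (.leaf 397)) (.node (.leaf 3339) (.leaf 2790))))) (.node (.node (.node (.node (.node (.leaf 1519) (.leaf 3284)) (.leaf 0)) (.node (.leaf 1298) (.leaf 2341))) (.node (.node (.leaf 1846) (.leaf 2849)) (.node (.leaf 1427) (.leaf 1929)))) (.node (.node (.node (.leaf 677) (.leaf 2770)) (.node (.leaf 1664) (.leaf 1036))) (.node (.node (.leaf 2860) (.leaf 3088)) (.node (.leaf 1663) (.leaf 3360)))))) (.node (.node (.node (.node (.node (.node (.leaf 0) (.leaf 2501)) (.leaf 1199)) (.node (.leaf 888) (.leaf 3536))) (.node (.node (.leaf 0) (.leaf 1180)) (.node (.leaf 2626) (.leaf 1961)))) (.node (.node (.node (.leaf 923) (.leaf 1244)) (.node (.leaf 2529) (.leaf 2951))) (.node (.node (.leaf 0) (.leaf 974)) (.node (.leaf 3450) (.leaf 2541))))) (.node (.node (.node (.node (.node (.leaf 0) (.leaf 95)) (.leaf 619)) (.node (.leaf 0) (.leaf 1958))) (.node (.node (.leaf 767) (.leaf 0)) (.node (.leaf 0) (.leaf 911)))) (.node (.node (.node (.leaf 575) (.leaf 0)) (.node (.leaf 699)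 (.leaf 3206))) (.node (.node (.leaf 1461) (.leaf 2948)) (.node (.leaf 135) (.leaf 3485)))))))) (.node (.node (.node (.node (.node (.node (.node (.node (.leaf 422) (.leaf 216)) (.leaf 134)) (.node (.leaf 0) (.leaf 795))) (.node (.node (.leaf 0) (.leaf 0)) (.node (.leaf 867) (.leaf 112)))) (.node (.node (.node (.node (.leaf 261) (.leaf 0)) (.leaf 2536)) (.node (.leaf 1076) (.leaf 3130))) (.node (.node (.leaf 402) (.leaf 652)) (.node (.leaf 0) (.leaf 1937))))) (.node (.node (.node (.node (.node (.leaf 0) (.leaf 2839)) (.leaf 1724)) (.node (.leaf 930) (.leaf 2312))) (.node (.node (.leaf 3152) (.leaf 790)) (.node (.leaf 0) (.leaf 1121)))) (.node (.node (.node (.leaf 1015) (.leaf 0)) (.node (.leaf 1702) (.leaf 2546))) (.node (.node (.leaf 2712) (.leaf 3281)) (.node (.leaf 755) (.leaf 2454)))))) (.node (.node (.node (.node (.node (.node (.leaf 687) (.leaf 3014)) (.leaf 1502)) (.node (.leaf 2473) (.leaf 629))) (.node (.node (.leaf 1447) (.leaf 2050)) (.node (.leaf 1146) (.leaf 3292)))) (.node (.node (.node (.leaf 559) (.leaf 1145))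 (.node (.leaf 1099) (.leaf 3105))) (.node (.node (.leaf 686) (.leaf 1894)) (.node (.leaf 1857) (.leaf 630))))) (.node (.node (.node (.node (.node (.leaf 488) (.leaf 3045)) (.leaf 2117)) (.node (.leaf 757) (.leaf 3369))) (.node (.node (.leaf 565) (.leaf 701)) (.node (.leaf 352) (.leaf 0)))) (.node (.node (.node (.leaf 225) (.leaf 1569)) (.node (.leaf 3336) (.leaf 758))) (.node (.node (.leaf 480) (.leaf 1997)) (.node (.leaf 2822) (.leaf 3257))))))) (.node (.node (.node (.node (.node (.node (.node (.leaf 0) (.leaf 1803)) (.leaf 273)) (.node (.leaf 477) (.leaf 2487))) (.node (.node (.leaf 1537) (.leaf 2520)) (.node (.leaf 0) (.leaf 2824)))) (.node (.node (.node (.leaf 612) (.leaf 0)) (.node (.leaf 214) (.leaf 3112))) (.node (.node (.leaf 554) (.leaf 3227)) (.node (.leaf 2729) (.leaf 3291))))) (.node (.node (.node (.node (.node (.leaf 274) (.leaf 96)) (.leaf 2510)) (.node (.leaf 291) (.leaf 1143))) (.node (.node (.leaf 2896) (.leaf 2540)) (.node (.leaf 2387) (.leaf 2236)))) (.node (.node (.node (.leaf 2932) (.leaf 2829)) (.node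 (.leaf 1374) (.leaf 3176))) (.node (.node (.leaf 626) (.leaf 3352)) (.node (.leaf 1361) (.leaf 2)))))) (.node (.node (.node (.node (.node (.node (.leaf 42) (.leaf 2014)) (.leaf 1697)) (.node (.leaf 190) (.leaf 438))) (.node (.node (.leaf 0) (.leaf 0)) (.node (.leaf 3359) (.leaf 110)))) (.node (.node (.node (.leaf 759) (.leaf 1578)) (.node (.leaf 0) (.leaf 3407))) (.node (.node (.leaf 900) (.leaf 3188)) (.node (.leaf 1038) (.leaf 436))))) (.node (.node (.node (.node (.node (.leaf 2364) (.leaf 2079)) (.leaf 2854)) (.node (.leaf 1059) (.leaf 116))) (.node (.node (.leaf 373) (.leaf 1730)) (.node (.leaf 1736) (.leaf 736)))) (.node (.node (.node (.leaf 845) (.leaf 2505)) (.node (.leaf 1336) (.leaf 1320))) (.node (.node (.leaf 0) (.leaf 3501)) (.node (.leaf 2576) (.leaf 1986)))))))))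

def threeRank11 : Janko.Tree (ℕ) :=
  (.node (.node (.node (.node (.node (.node (.node (.node (.node (.leaf 0) (.leaf 2493)) (.leaf 2282)) (.node (.leaf 0) (.leaf 3633))) (.node (.node (.leaf 801) (.leaf 1967)) (.node (.leaf 853) (.leaf 2525)))) (.node (.node (.node (.node (.leaf 0) (.leaf 1078)) (.leaf 1295)) (.node (.leaf 2870) (.leaf 2836))) (.node (.node (.leaf 1454) (.leaf 2634)) (.node (.leaf 3508) (.leaf 1269))))) (.node (.node (.node (.node (.node (.leaf 713) (.leaf 1781)) (.leaf 3264)) (.node (.leaf 1153) (.leaf 1214))) (.node (.node (.leaf 0) (.leaf 1898)) (.node (.leaf 3065) (.leaf 1326)))) (.node (.node (.node (.leaf 0) (.leaf 1619)) (.node (.leaf 1342) (.leaf 3104))) (.node (.node (.leaf 667) (.leaf 2606)) (.node (.leaf 1093) (.leaf 3476)))))) (.node (.node (.node (.node (.node (.node (.leaf 881) (.leaf 3035)) (.leaf 1219)) (.node (.leaf 0) (.leaf 2629))) (.node (.node (.leaf 0) (.leaf 1500)) (.node (.leaf 1515) (.leaf 1540)))) (.node (.node (.node (.leaf 330) (.leaf 2067)) (.node (.leaf 171) (.leaf 2564)))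 (.node (.node (.leaf 0) (.leaf 1075)) (.node (.leaf 2972) (.leaf 2656))))) (.node (.node (.node (.node (.node (.leaf 0) (.leaf 2293)) (.leaf 332)) (.node (.leaf 1255) (.leaf 2738))) (.node (.node (.leaf 2878) (.leaf 2003)) (.node (.leaf 0) (.leaf 990)))) (.node (.node (.node (.leaf 0) (.leaf 346)) (.node (.leaf 0) (.leaf 55))) (.node (.node (.leaf 501) (.leaf 25)) (.node (.leaf 0) (.leaf 2585))))))) (.node (.node (.node (.node (.node (.node (.node (.leaf 0) (.leaf 649)) (.leaf 3145)) (.node (.leaf 2137) (.leaf 671))) (.node (.node (.leaf 0) (.leaf 2468)) (.node (.leaf 1242) (.leaf 2211)))) (.node (.node (.node (.leaf 201) (.leaf 599)) (.node (.leaf 1822) (.leaf 1568))) (.node (.node (.leaf 319) (.leaf 64)) (.node (.leaf 3334) (.leaf 3554))))) (.node (.node (.node (.node (.node (.leaf 1476) (.leaf 3320)) (.leaf 650)) (.node (.leaf 2708) (.leaf 2847))) (.node (.node (.leaf 1842) (.leaf 26)) (.node (.leaf 1425) (.leaf 1931)))) (.node (.node (.node (.leaf 323) (.leaf 2735)) (.node (.leaf 1670) (.leaf 1080))) (.node (.node (.leaf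 0) (.leaf 2912)) (.node (.leaf 2244) (.leaf 3175)))))) (.node (.node (.node (.node (.node (.node (.leaf 0) (.leaf 2393)) (.leaf 3141)) (.node (.leaf 2462) (.leaf 3183))) (.node (.node (.leaf 0) (.leaf 2279)) (.node (.leaf 2102) (.leaf 20)))) (.node (.node (.node (.leaf 0) (.leaf 2482)) (.node (.leaf 2348) (.leaf 1886))) (.node (.node (.leaf 644) (.leaf 364)) (.node (.leaf 3454) (.leaf 3441))))) (.node (.node (.node (.node (.node (.leaf 36) (.leaf 2218)) (.leaf 2098)) (.node (.leaf 978) (.leaf 23))) (.node (.node (.leaf 1341) (.leaf 971)) (.node (.leaf 0) (.leaf 2954)))) (.node (.node (.node (.leaf 178) (.leaf 1550)) (.node (.leaf 2918) (.leaf 1195))) (.node (.node (.leaf 0) (.leaf 1877)) (.node (.leaf 498) (.leaf 2558)))))))) (.node (.node (.node (.node (.node (.node (.node (.node (.leaf 0) (.leaf 991)) (.leaf 2160)) (.node (.leaf 33) (.leaf 2568))) (.node (.node (.leaf 0) (.leaf 2762)) (.node (.leaf 80) (.leaf 949)))) (.node (.node (.node (.node (.leaf 390) (.leaf 0)) (.leaf 3096)) (.node (.leaf 1016) (.leaf 22))) (.node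 (.node (.leaf 88) (.leaf 643)) (.node (.leaf 0) (.leaf 1919))))) (.node (.node (.node (.node (.node (.leaf 2906) (.leaf 2305)) (.leaf 2814)) (.node (.leaf 0) (.leaf 159))) (.node (.node (.leaf 3383) (.leaf 2535)) (.node (.leaf 2429) (.leaf 1148)))) (.node (.node (.node (.leaf 1653) (.leaf 2435)) (.node (.leaf 2620) (.leaf 3576))) (.node (.node (.leaf 2710) (.leaf 3074)) (.node (.leaf 0) (.leaf 2452)))))) (.node (.node (.node (.node (.node (.node (.leaf 285) (.leaf 1980)) (.leaf 0)) (.node (.leaf 2402) (.leaf 3404))) (.node (.node (.leaf 1482) (.leaf 2795)) (.node (.leaf 1079) (.leaf 1924)))) (.node (.node (.node (.leaf 179) (.leaf 987)) (.node (.leaf 1196) (.leaf 2567))) (.node (.node (.leaf 983) (.leaf 2993)) (.node (.leaf 1854) (.leaf 806))))) (.node (.node (.node (.node (.node (.leaf 0) (.leaf 810)) (.leaf 0)) (.node (.leaf 1061) (.leaf 3367))) (.node (.node (.leaf 175) (.leaf 894)) (.node (.leaf 2581) (.leaf 1027)))) (.node (.node (.node (.leaf 339) (.leaf 3265)) (.node (.leaf 2916) (.leaf 751))) (.node (.node (.leaf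 0) (.leaf 2753)) (.node (.leaf 1504) (.leaf 3255))))))) (.node (.node (.node (.node (.node (.node (.node (.leaf 0) (.leaf 45)) (.leaf 811)) (.node (.leaf 2400) (.leaf 2484))) (.node (.node (.leaf 2887) (.leaf 3100)) (.node (.leaf 1545) (.leaf 2243)))) (.node (.node (.node (.leaf 0) (.leaf 634)) (.node (.leaf 340) (.leaf 3095))) (.node (.node (.leaf 174) (.leaf 1830)) (.node (.leaf 2776) (.leaf 3293))))) (.node (.node (.node (.node (.node (.leaf 365) (.leaf 727)) (.leaf 2508)) (.node (.leaf 194) (.leaf 1109))) (.node (.node (.leaf 3347) (.leaf 1338)) (.node (.leaf 2347) (.leaf 0)))) (.node (.node (.node (.leaf 199) (.leaf 2632)) (.node (.leaf 1376) (.leaf 1197))) (.node (.node (.leaf 802) (.leaf 3080)) (.node (.leaf 1312) (.leaf 1535)))))) (.node (.node (.node (.node (.node (.node (.leaf 0) (.leaf 3029)) (.leaf 1928)) (.node (.leaf 0) (.leaf 3590))) (.node (.node (.leaf 2919) (.leaf 0)) (.node (.leaf 2913) (.leaf 2165)))) (.node (.node (.node (.leaf 918) (.leaf 3428)) (.node (.leaf 2354) (.leaf 3420))) (.node (.node (.leaf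 1705) (.leaf 1194)) (.node (.leaf 1108) (.leaf 2398))))) (.node (.node (.node (.node (.node (.leaf 0) (.leaf 2081)) (.leaf 2807)) (.node (.leaf 0) (.leaf 2831))) (.node (.node (.leaf 1170) (.leaf 0)) (.node (.leaf 3636) (.leaf 353)))) (.node (.node (.node (.leaf 0) (.leaf 1625)) (.node (.leaf 2633) (.leaf 1309))) (.node (.node (.leaf 2445) (.leaf 3512)) (.node (.leaf 2251) (.leaf 2940)))))))))

def threeRank12 : Janko.Tree (ℕ) :=
  (.node (.node (.node (.node (.node (.node (.node (.node (.node (.leaf 0) (.leaf 2491)) (.leaf 442)) (.node (.leaf 2246) (.leaf 3608))) (.node (.node (.leaf 887) (.leaf 1970)) (.node (.leaf 1142) (.leaf 437)))) (.node (.node (.node (.node (.leaf 0) (.leaf 937)) (.leaf 0)) (.node (.leaf 395) (.leaf 2832))) (.node (.node (.leaf 495) (.leaf 1914)) (.node (.leaf 1621) (.leaf 3530))))) (.node (.node (.node (.node (.node (.leaf 1014) (.leaf 2845)) (.leaf 133)) (.node (.leaf 1041) (.leaf 609))) (.node (.node (.leaf 3335) (.leaf 1183)) (.node (.leaf 446) (.leaf 2265)))) (.node (.node (.node (.leaf 0) (.leaf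 3457)) (.node (.leaf 2549) (.leaf 3223))) (.node (.node (.leaf 920) (.leaf 1095)) (.node (.leaf 1040) (.leaf 3474)))))) (.node (.node (.node (.node (.node (.node (.leaf 562) (.leaf 3309)) (.leaf 211)) (.node (.leaf 2199) (.leaf 2118))) (.node (.node (.leaf 505) (.leaf 1410)) (.node (.leaf 2325) (.leaf 3173)))) (.node (.node (.node (.leaf 527) (.leaf 2227)) (.node (.leaf 1335) (.leaf 2577))) (.node (.node (.leaf 0) (.leaf 3493)) (.node (.leaf 447) (.leaf 2658))))) (.node (.node (.node (.node (.node (.leaf 186) (.leaf 2291)) (.leaf 530)) (.node (.leaf 3626) (.leaf 2956))) (.node (.node (.leaf 2876) (.leaf 1999)) (.node (.leaf 519) (.leaf 785)))) (.node (.node (.node (.leaf 2899) (.leaf 0)) (.node (.leaf 3631) (.leaf 1951))) (.node (.node (.leaf 1138) (.leaf 1245)) (.node (.leaf 0) (.leaf 3531))))))) (.node (.node (.node (.node (.node (.node (.node (.leaf 0) (.leaf 1405)) (.leaf 2085)) (.node (.leaf 877) (.leaf 1188))) (.node (.node (.leaf 0) (.leaf 3055)) (.node (.leaf 858) (.leaf 0)))) (.node (.node (.node (.leaf 0) (.leaf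 1004)) (.node (.leaf 3601) (.leaf 1571))) (.node (.node (.leaf 485) (.leaf 1793)) (.node (.leaf 0) (.leaf 3552))))) (.node (.node (.node (.node (.node (.leaf 1847) (.leaf 2971)) (.leaf 1722)) (.node (.leaf 1281) (.leaf 2302))) (.node (.node (.leaf 248) (.leaf 2460)) (.node (.leaf 2344) (.leaf 966)))) (.node (.node (.node (.leaf 458) (.leaf 2613)) (.node (.leaf 1237) (.leaf 1031))) (.node (.node (.leaf 2363) (.leaf 3131)) (.node (.leaf 2800) (.leaf 3194)))))) (.node (.node (.node (.node (.node (.node (.leaf 276) (.leaf 2396)) (.leaf 1315)) (.node (.leaf 552) (.leaf 2618))) (.node (.node (.leaf 2105) (.leaf 1695)) (.node (.leaf 1463) (.leaf 3553)))) (.node (.node (.node (.leaf 0) (.leaf 3526)) (.node (.leaf 2890) (.leaf 2953))) (.node (.node (.leaf 0) (.leaf 1073)) (.node (.leaf 3452) (.leaf 1437))))) (.node (.node (.node (.node (.node (.leaf 0) (.leaf 3162)) (.leaf 666)) (.node (.leaf 1174) (.leaf 429))) (.node (.node (.leaf 0) (.leaf 1566)) (.node (.leaf 2866) (.leaf 107)))) (.node (.node (.node (.leaf 13) (.leaf 1552)) (.node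 (.leaf 3342) (.leaf 1957))) (.node (.node (.leaf 414) (.leaf 1883)) (.node (.leaf 1397) (.leaf 1747)))))))) (.node (.node (.node (.node (.node (.node (.node (.node (.leaf 0) (.leaf 1156)) (.leaf 2611)) (.node (.leaf 1593) (.leaf 0))) (.node (.node (.leaf 943) (.leaf 2768)) (.node (.leaf 2451) (.leaf 3439)))) (.node (.node (.node (.node (.leaf 532) (.leaf 0)) (.leaf 2532)) (.node (.leaf 1638) (.leaf 2046))) (.node (.node (.leaf 0) (.leaf 1723)) (.node (.leaf 2934) (.leaf 2030))))) (.node (.node (.node (.node (.node (.leaf 0) (.leaf 2311)) (.leaf 1731)) (.node (.leaf 0) (.leaf 3527))) (.node (.node (.leaf 3646) (.leaf 3252)) (.node (.leaf 2825) (.leaf 1125)))) (.node (.node (.node (.leaf 569) (.leaf 3160)) (.node (.leaf 3515) (.leaf 2516))) (.node (.node (.leaf 0) (.leaf 3303)) (.node (.leaf 0) (.leaf 2389)))))) (.node (.node (.node (.node (.node (.node (.leaf 0) (.leaf 3237)) (.leaf 1508)) (.node (.leaf 2383) (.leaf 638))) (.node (.node (.leaf 2089) (.leaf 1380)) (.node (.leaf 1007) (.leaf 1923)))) (.node (.node (.node (.leaf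 14) (.leaf 955)) (.node (.leaf 1092) (.leaf 3438))) (.node (.node (.leaf 766) (.leaf 1893)) (.node (.leaf 3051) (.leaf 964))))) (.node (.node (.node (.node (.node (.leaf 0) (.leaf 493)) (.leaf 1334)) (.node (.leaf 581) (.leaf 3365))) (.node (.node (.leaf 814) (.leaf 618)) (.node (.leaf 2519) (.leaf 1726)))) (.node (.node (.node (.leaf 459) (.leaf 1680)) (.node (.leaf 3593) (.leaf 771))) (.node (.node (.leaf 0) (.leaf 3221)) (.node (.leaf 482) (.leaf 3253))))))) (.node (.node (.node (.node (.node (.node (.node (.leaf 0) (.leaf 3006)) (.leaf 622)) (.node (.leaf 0) (.leaf 944))) (.node (.node (.leaf 1520) (.leaf 2528)) (.node (.leaf 1435) (.leaf 2238)))) (.node (.node (.node (.leaf 0) (.leaf 3621)) (.node (.leaf 454) (.leaf 3093))) (.node (.node (.leaf 11) (.leaf 1828)) (.node (.leaf 2774) (.leaf 3242))))) (.node (.node (.node (.node (.node (.leaf 1008) (.leaf 2791)) (.leaf 2674)) (.node (.leaf 1741) (.leaf 821))) (.node (.node (.leaf 2904) (.leaf 1983)) (.node (.leaf 2343) (.leaf 1393)))) (.node (.node (.node (.leaf 0) (.leaf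 2459)) (.node (.leaf 3337) (.leaf 1087))) (.node (.node (.leaf 621) (.leaf 2359)) (.node (.leaf 1085) (.leaf 1667)))))) (.node (.node (.node (.node (.node (.node (.leaf 0) (.leaf 1811)) (.leaf 1301)) (.node (.leaf 681) (.leaf 0))) (.node (.node (.leaf 297) (.leaf 2655)) (.node (.leaf 0) (.leaf 3054)))) (.node (.node (.node (.leaf 377) (.leaf 2544)) (.node (.leaf 1000) (.leaf 3416))) (.node (.node (.leaf 578) (.leaf 2607)) (.node (.leaf 1021) (.leaf 3468))))) (.node (.node (.node (.node (.node (.leaf 229) (.leaf 2077)) (.leaf 2798)) (.node (.leaf 0) (.leaf 1414))) (.node (.node (.leaf 738) (.leaf 1681)) (.node (.leaf 0) (.leaf 913)))) (.node (.node (.node (.leaf 0) (.leaf 3167)) (.node (.leaf 924) (.leaf 2269))) (.node (.node (.leaf 520) (.leaf 3507)) (.node (.leaf 2253) (.leaf 1965)))))))))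

def threeRank13 : Janko.Tree (ℕ) :=
  (.node (.node (.node (.node (.node (.node (.node (.node (.node (.leaf 0) (.leaf 3466)) (.leaf 2071)) (.node (.leaf 348) (.leaf 3618))) (.node (.node (.leaf 0) (.leaf 1947)) (.node (.leaf 895) (.leaf 0)))) (.node (.node (.node (.node (.leaf 187) (.leaf 1777)) (.leaf 2681)) (.node (.leaf 0) (.leaf 2834))) (.node (.node (.leaf 749) (.leaf 1887)) (.node (.leaf 3609) (.leaf 669))))) (.node (.node (.node (.node (.node (.leaf 1517) (.leaf 3318)) (.leaf 0)) (.node (.leaf 925) (.leaf 0))) (.node (.node (.leaf 3214) (.leaf 932)) (.node (.leaf 2428) (.leaf 1324)))) (.node (.node (.node (.leaf 3596) (.leaf 2737)) (.node (.leaf 242) (.leaf 3121))) (.node (.node (.leaf 1263) (.leaf 1091)) (.node (.leaf 282) (.leaf 3471)))))) (.node (.node (.node (.node (.node (.node (.leaf 0) (.leaf 3033)) (.leaf 1116)) (.node (.leaf 2087) (.leaf 2733))) (.node (.node (.leaf 709) (.leaf 1408)) (.node (.leaf 0) (.leaf 3319)))) (.node (.node (.node (.leaf 0) (.leaf 2205)) (.node (.leaf 0) (.leaf 2539))) (.node (.node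 (.leaf 182) (.leaf 2642)) (.node (.leaf 1870) (.leaf 2654))))) (.node (.node (.node (.node (.node (.leaf 754) (.leaf 2289)) (.leaf 2504)) (.node (.leaf 200) (.leaf 2962))) (.node (.node (.leaf 1871) (.leaf 2001)) (.node (.leaf 1070) (.leaf 3109)))) (.node (.node (.node (.leaf 2905) (.leaf 2275)) (.node (.leaf 3629) (.leaf 2277))) (.node (.node (.leaf 1136) (.leaf 0)) (.node (.leaf 1445) (.leaf 3199))))))) (.node (.node (.node (.node (.node (.node (.node (.leaf 0) (.leaf 3180)) (.leaf 2158)) (.node (.leaf 0) (.leaf 2616))) (.node (.node (.leaf 2355) (.leaf 2651)) (.node (.leaf 0) (.leaf 2203)))) (.node (.node (.node (.leaf 0) (.leaf 2688)) (.node (.leaf 1820) (.leaf 1575))) (.node (.node (.leaf 0) (.leaf 3364)) (.node (.leaf 3215) (.leaf 3550))))) (.node (.node (.node (.node (.node (.leaf 0) (.leaf 44)) (.leaf 2812)) (.node (.leaf 1279) (.leaf 2313))) (.node (.node (.leaf 3375) (.leaf 0)) (.node (.leaf 167) (.leaf 805)))) (.node (.node (.node (.leaf 0) (.leaf 2615)) (.node (.leaf 0) (.leaf 1780))) (.node (.node (.leaf 2124)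 (.leaf 2888)) (.node (.leaf 0) (.leaf 3186)))))) (.node (.node (.node (.node (.node (.node (.leaf 368) (.leaf 2494)) (.leaf 1325)) (.node (.leaf 0) (.leaf 1600))) (.node (.node (.leaf 0) (.leaf 1564)) (.node (.leaf 0) (.leaf 1186)))) (.node (.node (.node (.leaf 184) (.leaf 3461)) (.node (.leaf 0) (.leaf 3502))) (.node (.node (.leaf 2140) (.leaf 1794)) (.node (.leaf 3456) (.leaf 3116))))) (.node (.node (.node (.node (.node (.leaf 0) (.leaf 2565)) (.leaf 657)) (.node (.leaf 917) (.leaf 526))) (.node (.node (.leaf 742) (.leaf 3460)) (.node (.leaf 1607) (.leaf 647)))) (.node (.node (.node (.leaf 0) (.leaf 3296)) (.node (.leaf 169) (.leaf 1966))) (.node (.node (.leaf 86) (.leaf 1908)) (.node (.leaf 0) (.leaf 1744)))))))) (.node (.node (.node (.node (.node (.node (.node (.node (.leaf 0) (.leaf 1925)) (.leaf 2245)) (.node (.leaf 0) (.leaf 703))) (.node (.node (.leaf 1107) (.leaf 2697)) (.node (.leaf 865) (.leaf 3555)))) (.node (.node (.node (.node (.leaf 0) (.leaf 0)) (.leaf 2534)) (.node (.leaf 2631) (.leaf 2288))) (.node (.node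 (.leaf 1480) (.leaf 2329)) (.node (.leaf 2925) (.leaf 1934))))) (.node (.node (.node (.node (.node (.leaf 0) (.leaf 2307)) (.leaf 0)) (.node (.leaf 0) (.leaf 2335))) (.node (.node (.leaf 1855) (.leaf 783)) (.node (.leaf 1211) (.leaf 1943)))) (.node (.node (.node (.leaf 0) (.leaf 2743)) (.node (.leaf 0) (.leaf 2527))) (.node (.node (.leaf 0) (.leaf 0)) (.node (.leaf 1162) (.leaf 2645)))))) (.node (.node (.node (.node (.node (.node (.leaf 0) (.leaf 3235)) (.leaf 1676)) (.node (.leaf 2726) (.leaf 3470))) (.node (.node (.leaf 249) (.leaf 3299)) (.node (.leaf 2304) (.leaf 2284)))) (.node (.node (.node (.leaf 0) (.leaf 2186)) (.node (.leaf 1083) (.leaf 3122))) (.node (.node (.leaf 1229) (.leaf 1888)) (.node (.leaf 2965) (.leaf 2171))))) (.node (.node (.node (.node (.node (.leaf 0) (.leaf 43)) (.leaf 1892)) (.node (.leaf 2106) (.leaf 3363))) (.node (.node (.leaf 0) (.leaf 3628)) (.node (.leaf 1360) (.leaf 2563)))) (.node (.node (.node (.leaf 3332) (.leaf 1588)) (.node (.leaf 3595) (.leaf 3102))) (.node (.node (.leaf 840) (.leaf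 1909)) (.node (.leaf 0) (.leaf 3251))))))) (.node (.node (.node (.node (.node (.node (.node (.leaf 0) (.leaf 1403)) (.leaf 2086)) (.node (.leaf 2474) (.leaf 934))) (.node (.node (.leaf 1518) (.leaf 2518)) (.node (.leaf 0) (.leaf 2208)))) (.node (.node (.node (.leaf 2133) (.leaf 1574)) (.node (.leaf 1787) (.leaf 3097))) (.node (.node (.leaf 0) (.leaf 0)) (.node (.leaf 3413) (.leaf 2761))))) (.node (.node (.node (.node (.node (.leaf 1851) (.leaf 3322)) (.leaf 2709)) (.node (.leaf 0) (.leaf 3591))) (.node (.node (.leaf 2898) (.leaf 590)) (.node (.leaf 2410) (.leaf 2195)))) (.node (.node (.node (.leaf 1837) (.leaf 2457)) (.node (.leaf 3327) (.leaf 1103))) (.node (.node (.leaf 0) (.leaf 2356)) (.node (.leaf 320) (.leaf 3024)))))) (.node (.node (.node (.node (.node (.node (.leaf 0) (.leaf 1767)) (.leaf 0)) (.node (.leaf 0) (.leaf 1863))) (.node (.node (.leaf 335) (.leaf 66)) (.node (.leaf 2911) (.leaf 2276)))) (.node (.node (.node (.leaf 1254) (.leaf 2538)) (.node (.leaf 325) (.leaf 3418))) (.node (.node (.leaf 902) (.leaf 1548))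 (.node (.leaf 0) (.leaf 1990))))) (.node (.node (.node (.node (.node (.leaf 329) (.leaf 2173)) (.leaf 0)) (.node (.leaf 0) (.leaf 3072))) (.node (.node (.leaf 1235) (.leaf 1675)) (.node (.leaf 3481) (.leaf 2011)))) (.node (.node (.node (.leaf 843) (.leaf 0)) (.node (.leaf 0) (.leaf 1327))) (.node (.node (.leaf 387) (.leaf 3510)) (.node (.leaf 2267) (.leaf 2648)))))))))

def threeRank14 : Janko.Tree (ℕ) :=
  (.node (.node (.node (.node (.node (.node (.node (.node (.node (.leaf 0) (.leaf 3283)) (.leaf 0)) (.node (.leaf 1494) (.leaf 3616))) (.node (.node (.leaf 0) (.leaf 3090)) (.node (.leaf 835) (.leaf 1352)))) (.node (.node (.node (.node (.leaf 0) (.leaf 94)) (.leaf 2997)) (.node (.leaf 0) (.leaf 3000))) (.node (.node (.leaf 484) (.leaf 3611)) (.node (.leaf 0) (.leaf 3402))))) (.node (.node (.node (.node (.node (.leaf 524) (.leaf 449)) (.leaf 998)) (.node (.leaf 928) (.leaf 117))) (.node (.node (.leaf 3154) (.leaf 2760)) (.node (.leaf 0) (.leaf 266)))) (.node (.node (.node (.leaf 399) (.leaf 1395)) (.node (.leaf 0) (.leaf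 2994))) (.node (.node (.leaf 665) (.leaf 1960)) (.node (.leaf 995) (.leaf 2489)))))) (.node (.node (.node (.node (.node (.node (.leaf 0) (.leaf 3312)) (.leaf 1111)) (.node (.leaf 2156) (.leaf 3528))) (.node (.node (.leaf 1009) (.leaf 1505)) (.node (.leaf 3525) (.leaf 2602)))) (.node (.node (.node (.leaf 151) (.leaf 522)) (.node (.leaf 394) (.leaf 2571))) (.node (.node (.leaf 1223) (.leaf 1714)) (.node (.leaf 137) (.leaf 1439))))) (.node (.node (.node (.node (.node (.leaf 0) (.leaf 3039)) (.leaf 132)) (.node (.leaf 3623) (.leaf 1813))) (.node (.node (.leaf 1850) (.leaf 3594)) (.node (.leaf 819) (.leaf 684)))) (.node (.node (.node (.leaf 244) (.leaf 2569)) (.node (.leaf 3625) (.leaf 3229))) (.node (.node (.leaf 962) (.leaf 1247)) (.node (.leaf 635) (.leaf 3324))))))) (.node (.node (.node (.node (.node (.node (.node (.leaf 0) (.leaf 398)) (.leaf 2379)) (.node (.leaf 1492) (.leaf 120))) (.node (.node (.leaf 1460) (.leaf 2497)) (.node (.leaf 2397) (.leaf 2828)))) (.node (.node (.node (.leaf 1396) (.leaf 544)) (.node (.leaf 1640)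 (.leaf 1595))) (.node (.node (.leaf 147) (.leaf 3230)) (.node (.leaf 3213) (.leaf 3548))))) (.node (.node (.node (.node (.node (.leaf 0) (.leaf 3020)) (.leaf 1678)) (.node (.leaf 2125) (.leaf 2853))) (.node (.node (.leaf 1426) (.leaf 1243)) (.node (.leaf 2513) (.leaf 3245)))) (.node (.node (.node (.leaf 0) (.leaf 2433)) (.node (.leaf 1257) (.leaf 0))) (.node (.node (.leaf 231) (.leaf 2886)) (.node (.leaf 1694) (.leaf 3543)))))) (.node (.node (.node (.node (.node (.node (.leaf 1098) (.leaf 1)) (.leaf 1365)) (.node (.leaf 272) (.leaf 439))) (.node (.node (.leaf 0) (.leaf 1182)) (.node (.leaf 859) (.leaf 1497)))) (.node (.node (.node (.leaf 0) (.leaf 533)) (.node (.leaf 2352) (.leaf 5))) (.node (.node (.leaf 1613) (.leaf 3387)) (.node (.leaf 3409) (.leaf 1486))))) (.node (.node (.node (.node (.node (.leaf 0) (.leaf 2232)) (.leaf 3226)) (.node (.leaf 891) (.leaf 1988))) (.node (.node (.leaf 0) (.leaf 1727)) (.node (.leaf 2687) (.leaf 3494)))) (.node (.node (.node (.leaf 960) (.leaf 1554)) (.node (.leaf 760) (.leaf 2804))) (.node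 (.node (.leaf 0) (.leaf 2983)) (.node (.leaf 2889) (.leaf 1954)))))))) (.node (.node (.node (.node (.node (.node (.node (.node (.leaf 237) (.leaf 101)) (.leaf 3449)) (.node (.leaf 0) (.leaf 222))) (.node (.node (.leaf 1012) (.leaf 2695)) (.node (.leaf 2823) (.leaf 3578)))) (.node (.node (.node (.node (.leaf 0) (.leaf 0)) (.leaf 0)) (.node (.leaf 1710) (.leaf 1941))) (.node (.node (.leaf 2149) (.leaf 392)) (.node (.leaf 2923) (.leaf 2982))))) (.node (.node (.node (.node (.node (.leaf 419) (.leaf 3484)) (.leaf 2797)) (.node (.leaf 1120) (.leaf 3351))) (.node (.node (.leaf 0) (.leaf 1649)) (.node (.leaf 608) (.leaf 2290)))) (.node (.node (.node (.leaf 380) (.leaf 2748)) (.node (.leaf 0) (.leaf 3))) (.node (.node (.leaf 1258) (.leaf 3366)) (.node (.leaf 756) (.leaf 2496)))))) (.node (.node (.node (.node (.node (.node (.leaf 0) (.leaf 3241)) (.leaf 972)) (.node (.leaf 2461) (.leaf 118))) (.node (.node (.leaf 0) (.leaf 1321)) (.node (.leaf 546) (.leaf 1637)))) (.node (.node (.node (.leaf 741) (.leaf 0)) (.node (.leaf 1740) (.leaf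 2864))) (.node (.node (.leaf 770) (.leaf 3222)) (.node (.leaf 2837) (.leaf 106))))) (.node (.node (.node (.node (.node (.leaf 275) (.leaf 2175)) (.leaf 1262)) (.node (.leaf 586) (.leaf 3091))) (.node (.node (.leaf 181) (.leaf 3398)) (.node (.leaf 0) (.leaf 2584)))) (.node (.node (.node (.leaf 150) (.leaf 3060)) (.node (.leaf 2893) (.leaf 113))) (.node (.node (.leaf 1524) (.leaf 2647)) (.node (.leaf 0) (.leaf 1037))))))) (.node (.node (.node (.node (.node (.node (.node (.leaf 416) (.leaf 1765)) (.leaf 555)) (.node (.leaf 3155) (.leaf 831))) (.node (.node (.leaf 2424) (.leaf 1300)) (.node (.leaf 421) (.leaf 2206)))) (.node (.node (.node (.leaf 247) (.leaf 2547)) (.node (.leaf 142) (.leaf 3561))) (.node (.node (.leaf 815) (.leaf 1807)) (.node (.leaf 0) (.leaf 2759))))) (.node (.node (.node (.node (.node (.leaf 568) (.leaf 1801)) (.leaf 1725)) (.node (.leaf 3516) (.leaf 548))) (.node (.node (.leaf 3159) (.leaf 2010)) (.node (.leaf 1833) (.leaf 2987)))) (.node (.node (.node (.leaf 1671) (.leaf 2442)) (.node (.leaf 3423) (.leaf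 3348))) (.node (.node (.leaf 0) (.leaf 3260)) (.node (.leaf 772) (.leaf 1644)))))) (.node (.node (.node (.node (.node (.node (.leaf 0) (.leaf 1778)) (.leaf 1323)) (.node (.leaf 1579) (.leaf 1438))) (.node (.node (.leaf 1203) (.leaf 2939)) (.node (.leaf 1386) (.leaf 2231)))) (.node (.node (.node (.leaf 580) (.leaf 1462)) (.node (.leaf 460) (.leaf 3412))) (.node (.node (.leaf 1307) (.leaf 2900)) (.node (.leaf 0) (.leaf 3041))))) (.node (.node (.node (.node (.node (.leaf 588) (.leaf 3394)) (.leaf 2796)) (.node (.leaf 967) (.leaf 1416))) (.node (.node (.leaf 775) (.leaf 1753)) (.node (.leaf 2780) (.leaf 598)))) (.node (.node (.node (.leaf 1536) (.leaf 2578)) (.node (.leaf 2103) (.leaf 1184))) (.node (.node (.leaf 528) (.leaf 3505)) (.node (.leaf 1400) (.leaf 2789)))))))))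

def threeRank15 : Janko.Tree (ℕ) :=
  (.node (.node (.node (.node (.node (.node (.node (.node (.node (.leaf 0) (.leaf 3287)) (.leaf 2060)) (.node (.leaf 0) (.leaf 3614))) (.node (.node (.leaf 841) (.leaf 3581)) (.node (.leaf 0) (.leaf 2197)))) (.node (.node (.node (.node (.leaf 391) (.leaf 1024)) (.leaf 0)) (.node (.leaf 0) (.leaf 3075))) (.node (.node (.leaf 0) (.leaf 1889)) (.node (.leaf 3382) (.leaf 2628))))) (.node (.node (.node (.node (.node (.leaf 0) (.leaf 1874)) (.leaf 985)) (.node (.leaf 927) (.leaf 2327))) (.node (.node (.leaf 3380) (.leaf 2758)) (.node (.leaf 2415) (.leaf 3248)))) (.node (.node (.node (.leaf 0) (.leaf 2624)) (.node (.leaf 0) (.leaf 2992))) (.node (.node (.leaf 663) (.leaf 3586)) (.node (.leaf 1558) (.leaf 2485)))))) (.node (.node (.node (.node (.node (.node (.leaf 0) (.leaf 3031)) (.leaf 2910)) (.node (.leaf 238) (.leaf 2623))) (.node (.node (.leaf 2417) (.leaf 1556)) (.node (.leaf 0) (.leaf 2605)))) (.node (.node (.node (.leaf 0) (.leaf 715)) (.node (.leaf 0) (.leaf 3424))) (.node (.node (.leaf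 0) (.leaf 1612)) (.node (.leaf 1868) (.leaf 3570))))) (.node (.node (.node (.node (.node (.leaf 0) (.leaf 2076)) (.leaf 0)) (.node (.leaf 0) (.leaf 1808))) (.node (.node (.leaf 1845) (.leaf 3463)) (.node (.leaf 1834) (.leaf 3254)))) (.node (.node (.node (.leaf 1839) (.leaf 2262)) (.node (.leaf 3627) (.leaf 2057))) (.node (.node (.leaf 0) (.leaf 344)) (.node (.leaf 808) (.leaf 3195))))))) (.node (.node (.node (.node (.node (.node (.node (.leaf 0) (.leaf 46)) (.leaf 2298)) (.node (.leaf 1481) (.leaf 662))) (.node (.node (.leaf 0) (.leaf 2502)) (.node (.leaf 855) (.leaf 1355)))) (.node (.node (.node (.leaf 0) (.leaf 2696)) (.node (.leaf 3373) (.leaf 2017))) (.node (.node (.leaf 0) (.leaf 2881)) (.node (.leaf 3217) (.leaf 3546))))) (.node (.node (.node (.node (.node (.leaf 0) (.leaf 1409)) (.leaf 0)) (.node (.leaf 1284) (.leaf 2339))) (.node (.node (.leaf 874) (.leaf 2488)) (.node (.leaf 2871) (.leaf 1975)))) (.node (.node (.node (.leaf 0) (.leaf 3513)) (.node (.leaf 1253) (.leaf 1028))) (.node (.node (.leaf 331) (.leaf 3236))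 (.node (.leaf 1942) (.leaf 3541)))))) (.node (.node (.node (.node (.node (.node (.leaf 1378) (.leaf 3118)) (.leaf 1311)) (.node (.leaf 603) (.leaf 3197))) (.node (.node (.leaf 3624) (.leaf 1163)) (.node (.leaf 861) (.leaf 1949)))) (.node (.node (.node (.leaf 0) (.leaf 0)) (.node (.leaf 2358) (.leaf 3431))) (.node (.node (.leaf 0) (.leaf 160)) (.node (.leaf 2963) (.leaf 49))))) (.node (.node (.node (.node (.node (.leaf 0) (.leaf 2228)) (.leaf 0)) (.node (.leaf 0) (.leaf 1799))) (.node (.node (.leaf 0) (.leaf 2942)) (.node (.leaf 2692) (.leaf 2560)))) (.node (.node (.node (.leaf 1449) (.leaf 2048)) (.node (.leaf 259) (.leaf 1950))) (.node (.node (.leaf 860) (.leaf 1825)) (.node (.leaf 0) (.leaf 1742)))))))) (.node (.node (.node (.node (.node (.node (.node (.node (.leaf 341) (.leaf 969)) (.leaf 2255)) (.node (.leaf 2041) (.leaf 305))) (.node (.node (.leaf 1514) (.leaf 2693)) (.node (.leaf 0) (.leaf 3437)))) (.node (.node (.node (.node (.leaf 0) (.leaf 0)) (.leaf 2040)) (.node (.leaf 0) (.leaf 343))) (.node (.node (.leaf 1363)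 (.leaf 0)) (.node (.leaf 2927) (.leaf 2075))))) (.node (.node (.node (.node (.node (.leaf 93) (.leaf 3178)) (.leaf 1559)) (.node (.leaf 915) (.leaf 3201))) (.node (.node (.leaf 1861) (.leaf 1349)) (.node (.leaf 0) (.leaf 1123)))) (.node (.node (.node (.leaf 287) (.leaf 3648)) (.node (.leaf 1912) (.leaf 3446))) (.node (.node (.leaf 87) (.leaf 3005)) (.node (.leaf 748) (.leaf 2405)))))) (.node (.node (.node (.node (.node (.node (.leaf 0) (.leaf 3011)) (.leaf 803)) (.node (.leaf 2463) (.leaf 839))) (.node (.node (.leaf 0) (.leaf 67)) (.node (.leaf 0) (.leaf 299)))) (.node (.node (.node (.leaf 0) (.leaf 950)) (.node (.leaf 2346) (.leaf 3400))) (.node (.node (.leaf 683) (.leaf 3220)) (.node (.leaf 1872) (.leaf 827))))) (.node (.node (.node (.node (.node (.leaf 367) (.leaf 2178)) (.leaf 1270)) (.node (.leaf 0) (.leaf 3073))) (.node (.node (.leaf 0) (.leaf 161)) (.node (.leaf 31) (.leaf 51)))) (.node (.node (.node (.leaf 0) (.leaf 2033)) (.node (.leaf 3340) (.leaf 744))) (.node (.node (.leaf 0) (.leaf 1907)) (.node (.leaf 2201)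 (.leaf 716))))))) (.node (.node (.node (.node (.node (.node (.node (.leaf 0) (.leaf 345)) (.leaf 163)) (.node (.leaf 2684) (.leaf 2395))) (.node (.node (.leaf 0) (.leaf 2008)) (.node (.leaf 79) (.leaf 2210)))) (.node (.node (.node (.leaf 2859) (.leaf 2551)) (.node (.leaf 0) (.leaf 3569))) (.node (.node (.leaf 0) (.leaf 1773)) (.node (.leaf 30) (.leaf 2672))))) (.node (.node (.node (.node (.node (.leaf 0) (.leaf 1784)) (.leaf 2765)) (.node (.leaf 0) (.leaf 158))) (.node (.node (.leaf 0) (.leaf 0)) (.node (.leaf 2345) (.leaf 3556)))) (.node (.node (.node (.leaf 0) (.leaf 2440)) (.node (.leaf 2975) (.leaf 3205))) (.node (.node (.leaf 952) (.leaf 714)) (.node (.leaf 1969) (.leaf 1544)))))) (.node (.node (.node (.node (.node (.node (.leaf 0) (.leaf 3032)) (.leaf 74)) (.node (.leaf 245) (.leaf 3323))) (.node (.node (.leaf 0) (.leaf 0)) (.node (.leaf 1210) (.leaf 2155)))) (.node (.node (.node (.leaf 0) (.leaf 3499)) (.node (.leaf 2361) (.leaf 3414))) (.node (.node (.leaf 1701) (.leaf 3181)) (.node (.leaf 1025) (.leaf 2749))))) (.node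 (.node (.node (.node (.node (.leaf 0) (.leaf 984)) (.leaf 2794)) (.node (.leaf 655) (.leaf 1423))) (.node (.node (.leaf 183) (.leaf 2639)) (.node (.leaf 2111) (.leaf 2671)))) (.node (.node (.node (.leaf 0) (.leaf 2580)) (.node (.leaf 1268) (.leaf 1167))) (.node (.node (.leaf 0) (.leaf 3503)) (.node (.leaf 1362) (.leaf 47)))))))))

/-- a table -/
def threeRank : Janko.Tree (ℕ) := (.node (.node (.node (.node threeRank0 threeRank8) (.node threeRank4 threeRank12)) (.node (.node threeRank2 threeRank10) (.node threeRank6 threeRank14))) (.node (.node (.node threeRank1 threeRank9) (.node threeRank5 threeRank13)) (.node (.node threeRank3 threeRank11) (.node threeRank7 threeRank15))))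

def threeVia0 : Janko.Tree (ℕ × ℕ) :=
  (.node (.node (.node (.node (.node (.node (.node (.node (.node (.leaf (0, 0)) (.leaf (9, 682))) (.leaf (16, 131))) (.node (.leaf (4, 170)) (.leaf (6, 725)))) (.node (.node (.leaf (15, 19)) (.leaf (20, 385))) (.node (.leaf (10, 380)) (.leaf (17, 330))))) (.node (.node (.node (.node (.leaf (0, 0)) (.leaf (17, 713))) (.leaf (0, 0))) (.node (.leaf (16, 194)) (.leaf (20, 555)))) (.node (.node (.leaf (10, 90)) (.leaf (15, 211))) (.node (.leaf (18, 298)) (.leaf (0, 645)))))) (.node (.node (.node (.node (.node (.leaf (15, 3)) (.leaf (10, 427))) (.leaf (18, 436))) (.node (.leaf (9, 58)) (.leaf (17, 266)))) (.node (.node (.leaf (12, 0)) (.leaf (10, 195))) (.node (.leaf (16, 530)) (.leaf (20, 173))))) (.node (.node (.node (.leaf (0, 0)) (.leaf (17, 178))) (.node (.leaf (4, 234)) (.leaf (10, 429)))) (.node (.node (.leaf (15, 40)) (.leaf (20, 538))) (.node (.leaf (10, 326)) (.leaf (15, 401))))))) (.node (.node (.node (.node (.node (.node (.leaf (0, 0)) (.leaf (11, 251))) (.leaf (10, 217))) (.node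 (.leaf (11, 181)) (.leaf (4, 522)))) (.node (.node (.leaf (10, 396)) (.leaf (11, 662))) (.node (.leaf (0, 0)) (.leaf (9, 411))))) (.node (.node (.node (.leaf (17, 263)) (.leaf (20, 236))) (.node (.leaf (9, 473)) (.leaf (15, 656)))) (.node (.node (.leaf (0, 0)) (.leaf (6, 234))) (.node (.leaf (11, 309)) (.leaf (20, 194)))))) (.node (.node (.node (.node (.node (.leaf (10, 6)) (.leaf (16, 714))) (.leaf (15, 148))) (.node (.leaf (9, 494)) (.leaf (10, 529)))) (.node (.node (.leaf (15, 539)) (.leaf (18, 448))) (.node (.leaf (10, 605)) (.leaf (17, 644))))) (.node (.node (.node (.leaf (0, 0)) (.leaf (10, 337))) (.node (.leaf (15, 76)) (.leaf (4, 586)))) (.node (.node (.leaf (7, 49)) (.leaf (16, 696))) (.node (.leaf (4, 330)) (.leaf (8, 703)))))))) (.node (.node (.node (.node (.node (.node (.node (.leaf (11, 216)) (.leaf (8, 219))) (.leaf (20, 435))) (.node (.leaf (0, 0)) (.leaf (17, 659)))) (.node (.node (.leaf (20, 542)) (.leaf (10, 433))) (.node (.leaf (6, 547)) (.leaf (13, 721))))) (.node (.node (.node (.node (.leaf (10, 99))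 (.leaf (10, 0))) (.leaf (15, 650))) (.node (.leaf (20, 470)) (.leaf (8, 610)))) (.node (.node (.leaf (16, 35)) (.leaf (4, 609))) (.node (.leaf (10, 482)) (.leaf (16, 672)))))) (.node (.node (.node (.node (.node (.leaf (0, 0)) (.leaf (17, 556))) (.leaf (9, 144))) (.node (.leaf (17, 145)) (.leaf (20, 226)))) (.node (.node (.leaf (9, 186)) (.leaf (11, 453))) (.node (.leaf (4, 282)) (.leaf (9, 645))))) (.node (.node (.node (.leaf (2, 69)) (.leaf (0, 0))) (.node (.leaf (0, 0)) (.leaf (11, 581)))) (.node (.node (.leaf (13, 154)) (.leaf (8, 232))) (.node (.leaf (16, 126)) (.leaf (20, 664))))))) (.node (.node (.node (.node (.node (.node (.leaf (0, 0)) (.leaf (20, 352))) (.leaf (17, 623))) (.node (.leaf (20, 24)) (.leaf (8, 727)))) (.node (.node (.leaf (15, 158)) (.leaf (18, 442))) (.node (.leaf (6, 162)) (.leaf (15, 355))))) (.node (.node (.node (.leaf (0, 0)) (.leaf (7, 167))) (.node (.leaf (16, 478)) (.leaf (16, 570)))) (.node (.node (.leaf (0, 0)) (.leaf (17, 240))) (.node (.leaf (20, 110)) (.leaf (6, 575)))))) (.node (.node (.node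 (.node (.node (.leaf (17, 162)) (.leaf (10, 540))) (.leaf (9, 611))) (.node (.leaf (10, 253)) (.leaf (17, 305)))) (.node (.node (.leaf (0, 0)) (.leaf (8, 209))) (.node (.leaf (11, 293)) (.leaf (13, 634))))) (.node (.node (.node (.leaf (10, 17)) (.leaf (15, 174))) (.node (.leaf (16, 320)) (.leaf (10, 488)))) (.node (.node (.leaf (17, 129)) (.leaf (20, 511))) (.node (.leaf (6, 367)) (.leaf (6, 391))))))))) (.node (.node (.node (.node (.node (.node (.node (.node (.leaf (0, 0)) (.leaf (11, 328))) (.leaf (10, 347))) (.node (.leaf (17, 395)) (.leaf (20, 471)))) (.node (.node (.leaf (10, 537)) (.leaf (17, 342))) (.node (.leaf (0, 0)) (.leaf (6, 464))))) (.node (.node (.node (.node (.leaf (2, 45)) (.leaf (7, 723))) (.leaf (18, 386))) (.node (.leaf (6, 71)) (.leaf (16, 550)))) (.node (.node (.leaf (0, 0)) (.leaf (9, 687))) (.node (.leaf (15, 546)) (.leaf (20, 379)))))) (.node (.node (.node (.node (.node (.leaf (0, 0)) (.leaf (4, 706))) (.leaf (7, 207))) (.node (.leaf (0, 0)) (.leaf (6, 474)))) (.node (.node (.leaf (16, 532)) (.leaf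 (4, 450))) (.node (.leaf (10, 405)) (.leaf (7, 621))))) (.node (.node (.node (.leaf (0, 0)) (.leaf (10, 524))) (.node (.leaf (17, 484)) (.leaf (20, 469)))) (.node (.node (.leaf (0, 152)) (.leaf (15, 694))) (.node (.leaf (0, 0)) (.leaf (9, 721))))))) (.node (.node (.node (.node (.node (.node (.leaf (0, 0)) (.leaf (10, 491))) (.leaf (20, 552))) (.node (.leaf (0, 0)) (.leaf (16, 273)))) (.node (.node (.leaf (20, 289)) (.leaf (6, 192))) (.node (.leaf (15, 89)) (.leaf (18, 610))))) (.node (.node (.node (.leaf (10, 11)) (.leaf (16, 655))) (.node (.leaf (0, 0)) (.leaf (9, 106)))) (.node (.node (.leaf (17, 359)) (.leaf (13, 482))) (.node (.leaf (7, 178)) (.leaf (15, 392)))))) (.node (.node (.node (.node (.node (.leaf (0, 0)) (.leaf (16, 598))) (.leaf (10, 147))) (.node (.leaf (17, 50)) (.leaf (16, 240)))) (.node (.node (.leaf (10, 350)) (.leaf (15, 206))) (.node (.leaf (9, 290)) (.leaf (8, 366))))) (.node (.node (.node (.leaf (16, 326)) (.leaf (18, 341))) (.node (.leaf (0, 0)) (.leaf (15, 381)))) (.node (.node (.leaf (0, 0)) (.leaf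 (10, 682))) (.node (.leaf (16, 128)) (.leaf (9, 418)))))))) (.node (.node (.node (.node (.node (.node (.node (.leaf (0, 0)) (.leaf (16, 493))) (.leaf (16, 608))) (.node (.leaf (20, 347)) (.leaf (8, 658)))) (.node (.node (.leaf (15, 266)) (.leaf (18, 434))) (.node (.leaf (9, 87)) (.leaf (11, 605))))) (.node (.node (.node (.leaf (0, 0)) (.leaf (8, 159))) (.node (.leaf (7, 439)) (.leaf (9, 562)))) (.node (.node (.leaf (10, 36)) (.leaf (16, 215))) (.node (.leaf (20, 317)) (.leaf (8, 511)))))) (.node (.node (.node (.node (.node (.leaf (15, 5)) (.leaf (9, 677))) (.leaf (20, 651))) (.node (.leaf (7, 235)) (.leaf (17, 288)))) (.node (.node (.leaf (16, 114)) (.leaf (10, 692))) (.node (.leaf (17, 500)) (.leaf (4, 626))))) (.node (.node (.node (.leaf (10, 198)) (.leaf (15, 169))) (.node (.leaf (20, 570)) (.leaf (10, 592)))) (.node (.node (.leaf (16, 42)) (.leaf (13, 353))) (.node (.leaf (8, 641)) (.leaf (15, 611))))))) (.node (.node (.node (.node (.node (.node (.leaf (13, 120)) (.leaf (16, 688))) (.leaf (6, 351))) (.node (.leaf (16,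 258)) (.leaf (16, 232)))) (.node (.node (.leaf (0, 0)) (.leaf (17, 368))) (.node (.leaf (18, 411)) (.leaf (8, 642))))) (.node (.node (.node (.leaf (15, 199)) (.leaf (0, 0))) (.node (.leaf (0, 232)) (.leaf (15, 560)))) (.node (.node (.leaf (0, 0)) (.leaf (10, 584))) (.node (.leaf (11, 539)) (.leaf (20, 598)))))) (.node (.node (.node (.node (.node (.leaf (7, 69)) (.leaf (20, 395))) (.leaf (17, 453))) (.node (.leaf (0, 0)) (.leaf (10, 157)))) (.node (.node (.leaf (17, 363)) (.leaf (20, 448))) (.node (.leaf (0, 296)) (.leaf (15, 588))))) (.node (.node (.node (.leaf (0, 0)) (.leaf (0, 0))) (.node (.leaf (17, 198)) (.leaf (18, 339)))) (.node (.node (.leaf (10, 96)) (.leaf (7, 509))) (.node (.leaf (0, 0)) (.leaf (6, 709))))))))))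

def threeVia1 : Janko.Tree (ℕ × ℕ) :=
  (.node (.node (.node (.node (.node (.node (.node (.node (.node (.leaf (0, 0)) (.leaf (19, 682))) (.leaf (18, 330))) (.node (.leaf (0, 0)) (.leaf (12, 243)))) (.node (.node (.leaf (0, 0)) (.leaf (8, 50))) (.node (.leaf (14, 380)) (.leaf (18, 435))))) (.node (.node (.node (.node (.leaf (0, 0)) (.leaf (18, 627))) (.leaf (12, 153))) (.node (.leaf (19, 64)) (.leaf (5, 554)))) (.node (.node (.leaf (14, 358)) (.leaf (3, 469))) (.node (.leaf (17, 298)) (.leaf (13, 410)))))) (.node (.node (.node (.node (.node (.leaf (0, 0)) (.leaf (12, 632))) (.leaf (19, 362))) (.node (.leaf (13, 440)) (.leaf (15, 533)))) (.node (.node (.leaf (20, 106)) (.leaf (14, 521))) (.node (.leaf (0, 0)) (.leaf (20, 618))))) (.node (.node (.node (.leaf (14, 145)) (.leaf (19, 334))) (.node (.leaf (0, 0)) (.leaf (14, 701)))) (.node (.node (.leaf (0, 0)) (.leaf (20, 320))) (.node (.leaf (0, 0)) (.leaf (19, 662))))))) (.node (.node (.node (.node (.node (.node (.leaf (0, 0)) (.leaf (18, 546))) (.leaf (11, 225))) (.node (.leaf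 (19, 52)) (.leaf (17, 522)))) (.node (.node (.leaf (0, 0)) (.leaf (19, 60))) (.node (.leaf (0, 0)) (.leaf (14, 191))))) (.node (.node (.node (.leaf (19, 107)) (.leaf (17, 394))) (.node (.leaf (14, 67)) (.leaf (18, 426)))) (.node (.node (.leaf (10, 138)) (.leaf (13, 97))) (.node (.leaf (12, 309)) (.leaf (19, 424)))))) (.node (.node (.node (.node (.node (.leaf (14, 6)) (.leaf (19, 714))) (.leaf (18, 293))) (.node (.leaf (19, 196)) (.leaf (13, 641)))) (.node (.node (.leaf (3, 117)) (.leaf (19, 458))) (.node (.leaf (11, 119)) (.leaf (19, 361))))) (.node (.node (.node (.leaf (19, 74)) (.leaf (14, 642))) (.node (.leaf (19, 249)) (.leaf (20, 586)))) (.node (.node (.leaf (0, 0)) (.leaf (18, 549))) (.node (.leaf (0, 0)) (.leaf (12, 454)))))))) (.node (.node (.node (.node (.node (.node (.node (.leaf (0, 0)) (.leaf (14, 728))) (.leaf (20, 346))) (.node (.leaf (0, 0)) (.leaf (18, 607)))) (.node (.node (.leaf (0, 0)) (.leaf (13, 652))) (.node (.leaf (19, 409)) (.leaf (20, 569))))) (.node (.node (.node (.node (.leaf (14, 64)) (.leaf (11,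 0))) (.leaf (19, 386))) (.node (.leaf (8, 14)) (.leaf (13, 679)))) (.node (.node (.leaf (0, 0)) (.leaf (19, 319))) (.node (.leaf (14, 313)) (.leaf (18, 629)))))) (.node (.node (.node (.node (.node (.leaf (0, 0)) (.leaf (18, 535))) (.leaf (13, 144))) (.node (.leaf (19, 59)) (.leaf (14, 536)))) (.node (.node (.leaf (13, 27)) (.leaf (18, 587))) (.node (.leaf (20, 282)) (.leaf (0, 0))))) (.node (.node (.node (.leaf (0, 0)) (.leaf (19, 410))) (.node (.leaf (12, 74)) (.leaf (8, 581)))) (.node (.node (.leaf (0, 0)) (.leaf (14, 697))) (.node (.leaf (15, 325)) (.leaf (20, 666))))))) (.node (.node (.node (.node (.node (.node (.leaf (0, 0)) (.leaf (18, 692))) (.leaf (0, 0))) (.node (.leaf (14, 186)) (.leaf (1, 528)))) (.node (.node (.leaf (0, 0)) (.leaf (19, 201))) (.node (.leaf (13, 319)) (.leaf (19, 679))))) (.node (.node (.node (.leaf (20, 702)) (.leaf (14, 456))) (.node (.leaf (0, 0)) (.leaf (18, 103)))) (.node (.node (.leaf (1, 253)) (.leaf (3, 485))) (.node (.leaf (19, 314)) (.leaf (1, 675)))))) (.node (.node (.node (.node (.node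 (.leaf (19, 100)) (.leaf (14, 363))) (.leaf (17, 378))) (.node (.leaf (11, 210)) (.leaf (18, 276)))) (.node (.node (.leaf (10, 122)) (.leaf (14, 468))) (.node (.leaf (0, 0)) (.leaf (19, 634))))) (.node (.node (.node (.leaf (14, 17)) (.leaf (12, 421))) (.node (.leaf (17, 538)) (.leaf (13, 535)))) (.node (.node (.leaf (0, 0)) (.leaf (20, 483))) (.node (.leaf (14, 367)) (.leaf (15, 677))))))))) (.node (.node (.node (.node (.node (.node (.node (.node (.leaf (0, 0)) (.leaf (19, 677))) (.leaf (11, 718))) (.node (.leaf (19, 178)) (.leaf (20, 514)))) (.node (.node (.leaf (0, 0)) (.leaf (19, 364))) (.node (.leaf (17, 258)) (.leaf (12, 464))))) (.node (.node (.node (.node (.leaf (0, 0)) (.leaf (11, 723))) (.leaf (14, 437))) (.node (.leaf (13, 65)) (.leaf (19, 496)))) (.node (.node (.leaf (6, 147)) (.leaf (14, 636))) (.node (.leaf (18, 486)) (.leaf (20, 256)))))) (.node (.node (.node (.node (.node (.leaf (0, 0)) (.leaf (20, 534))) (.leaf (15, 365))) (.node (.leaf (17, 210)) (.leaf (14, 267)))) (.node (.node (.leaf (19, 121)) (.leaf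 (0, 0))) (.node (.leaf (6, 280)) (.leaf (18, 351))))) (.node (.node (.node (.leaf (0, 0)) (.leaf (6, 240))) (.node (.leaf (0, 0)) (.leaf (10, 578)))) (.node (.node (.leaf (0, 0)) (.leaf (19, 622))) (.node (.leaf (20, 322)) (.leaf (14, 665))))))) (.node (.node (.node (.node (.node (.node (.leaf (0, 0)) (.leaf (11, 542))) (.leaf (10, 354))) (.node (.leaf (12, 431)) (.leaf (19, 642)))) (.node (.node (.leaf (0, 0)) (.leaf (13, 161))) (.node (.leaf (0, 0)) (.leaf (19, 490))))) (.node (.node (.node (.leaf (1, 376)) (.leaf (19, 723))) (.node (.leaf (19, 122)) (.leaf (13, 335)))) (.node (.node (.leaf (0, 0)) (.leaf (19, 482))) (.node (.leaf (12, 114)) (.leaf (3, 653)))))) (.node (.node (.node (.node (.node (.leaf (10, 9)) (.leaf (19, 718))) (.leaf (14, 147))) (.node (.leaf (18, 73)) (.leaf (19, 498)))) (.node (.node (.leaf (13, 251)) (.leaf (15, 461))) (.node (.leaf (5, 290)) (.leaf (14, 269))))) (.node (.node (.node (.leaf (19, 18)) (.leaf (19, 131))) (.node (.leaf (13, 28)) (.leaf (19, 670)))) (.node (.node (.leaf (20, 601)) (.leaf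 (13, 520))) (.node (.leaf (0, 0)) (.leaf (20, 674)))))))) (.node (.node (.node (.node (.node (.node (.node (.leaf (0, 0)) (.leaf (20, 715))) (.leaf (18, 618))) (.node (.leaf (17, 598)) (.leaf (13, 570)))) (.node (.node (.leaf (3, 93)) (.leaf (19, 434))) (.node (.leaf (14, 164)) (.leaf (0, 0))))) (.node (.node (.node (.leaf (19, 42)) (.leaf (14, 571))) (.node (.leaf (18, 304)) (.leaf (10, 562)))) (.node (.node (.leaf (14, 331)) (.leaf (19, 551))) (.node (.leaf (20, 249)) (.leaf (14, 385)))))) (.node (.node (.node (.node (.node (.leaf (0, 0)) (.leaf (14, 710))) (.leaf (8, 39))) (.node (.leaf (14, 189)) (.leaf (3, 708)))) (.node (.node (.leaf (5, 114)) (.leaf (13, 308))) (.node (.leaf (19, 500)) (.leaf (0, 0))))) (.node (.node (.node (.leaf (13, 23)) (.leaf (3, 413))) (.node (.leaf (8, 16)) (.leaf (14, 541)))) (.node (.node (.leaf (18, 42)) (.leaf (20, 229))) (.node (.leaf (0, 0)) (.leaf (18, 611))))))) (.node (.node (.node (.node (.node (.node (.leaf (0, 0)) (.leaf (18, 688))) (.leaf (6, 451))) (.node (.leaf (18, 57)) (.leaf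 (20, 530)))) (.node (.node (.leaf (1, 104)) (.leaf (18, 502))) (.node (.leaf (19, 85)) (.leaf (14, 621))))) (.node (.node (.node (.leaf (0, 0)) (.leaf (19, 258))) (.node (.leaf (11, 479)) (.leaf (18, 454)))) (.node (.node (.leaf (0, 0)) (.leaf (14, 584))) (.node (.leaf (19, 246)) (.leaf (10, 658)))))) (.node (.node (.node (.node (.node (.leaf (1, 145)) (.leaf (19, 722))) (.leaf (0, 0))) (.node (.leaf (14, 210)) (.leaf (12, 278)))) (.node (.node (.leaf (0, 0)) (.leaf (17, 466))) (.node (.leaf (11, 423)) (.leaf (19, 638))))) (.node (.node (.node (.leaf (10, 48)) (.leaf (12, 185))) (.node (.leaf (15, 253)) (.leaf (19, 594)))) (.node (.node (.leaf (13, 46)) (.leaf (15, 691))) (.node (.leaf (20, 326)) (.leaf (12, 663))))))))))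

def threeVia2 : Janko.Tree (ℕ × ℕ) :=
  (.node (.node (.node (.node (.node (.node (.node (.node (.node (.leaf (0, 0)) (.leaf (10, 480))) (.leaf (13, 35))) (.node (.leaf (10, 47)) (.leaf (17, 698)))) (.node (.node (.leaf (18, 416)) (.leaf (9, 386))) (.node (.leaf (17, 380)) (.leaf (20, 330))))) (.node (.node (.node (.node (.leaf (10, 8)) (.leaf (20, 626))) (.leaf (15, 682))) (.node (.leaf (20, 64)) (.leaf (10, 665)))) (.node (.node (.leaf (2, 128)) (.leaf (20, 640))) (.node (.leaf (9, 103)) (.leaf (16, 578)))))) (.node (.node (.node (.node (.node (.leaf (0, 0)) (.leaf (17, 548))) (.leaf (10, 141))) (.node (.leaf (7, 192)) (.leaf (20, 709)))) (.node (.node (.leaf (10, 26)) (.leaf (15, 197))) (.node (.leaf (16, 77)) (.leaf (10, 617))))) (.node (.node (.node (.leaf (0, 0)) (.leaf (20, 606))) (.node (.leaf (0, 452)) (.leaf (16, 564)))) (.node (.node (.leaf (9, 149)) (.leaf (9, 597))) (.node (.leaf (17, 326)) (.leaf (20, 520))))))) (.node (.node (.node (.node (.node (.node (.leaf (9, 1)) (.leaf (20, 480))) (.leaf (6, 127))) (.node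 (.leaf (0, 0)) (.leaf (7, 294)))) (.node (.node (.leaf (15, 269)) (.leaf (20, 387))) (.node (.leaf (9, 599)) (.leaf (17, 628))))) (.node (.node (.node (.leaf (20, 10)) (.leaf (8, 160))) (.node (.leaf (16, 633)) (.leaf (20, 576)))) (.node (.node (.leaf (10, 213)) (.leaf (16, 691))) (.node (.leaf (18, 309)) (.leaf (9, 441)))))) (.node (.node (.node (.node (.node (.leaf (11, 32)) (.leaf (6, 563))) (.leaf (20, 153))) (.node (.leaf (0, 0)) (.leaf (16, 298)))) (.node (.node (.leaf (20, 314)) (.leaf (10, 245))) (.node (.leaf (16, 283)) (.leaf (20, 624))))) (.node (.node (.node (.leaf (0, 0)) (.leaf (7, 416))) (.node (.leaf (13, 245)) (.leaf (10, 475)))) (.node (.node (.leaf (15, 44)) (.leaf (20, 234))) (.node (.leaf (9, 127)) (.leaf (17, 685)))))))) (.node (.node (.node (.node (.node (.node (.node (.leaf (0, 0)) (.leaf (15, 637))) (.leaf (10, 180))) (.node (.leaf (16, 154)) (.leaf (4, 517)))) (.node (.node (.leaf (7, 160)) (.leaf (16, 180))) (.node (.leaf (20, 415)) (.leaf (9, 409))))) (.node (.node (.node (.node (.leaf (15, 274))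 (.leaf (12, 0))) (.leaf (20, 175))) (.node (.leaf (0, 0)) (.leaf (17, 421)))) (.node (.node (.leaf (0, 0)) (.leaf (10, 583))) (.node (.leaf (17, 704)) (.leaf (12, 152)))))) (.node (.node (.node (.node (.node (.leaf (10, 183)) (.leaf (20, 706))) (.leaf (17, 587))) (.node (.leaf (16, 636)) (.leaf (10, 660)))) (.node (.node (.leaf (16, 27)) (.leaf (13, 453))) (.node (.leaf (8, 335)) (.leaf (15, 679))))) (.node (.node (.node (.leaf (0, 0)) (.leaf (7, 182))) (.node (.leaf (15, 493)) (.leaf (20, 657)))) (.node (.node (.leaf (10, 41)) (.leaf (17, 230))) (.node (.leaf (0, 0)) (.leaf (7, 645))))))) (.node (.node (.node (.node (.node (.node (.leaf (15, 226)) (.leaf (10, 548))) (.leaf (0, 0))) (.node (.leaf (9, 345)) (.leaf (11, 528)))) (.node (.node (.leaf (20, 184)) (.leaf (9, 79))) (.node (.leaf (17, 32)) (.leaf (16, 613))))) (.node (.node (.node (.leaf (0, 0)) (.leaf (15, 51))) (.node (.leaf (0, 0)) (.leaf (0, 571)))) (.node (.node (.leaf (17, 322)) (.leaf (20, 304))) (.node (.leaf (0, 0)) (.leaf (17, 419)))))) (.node (.node (.node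 (.node (.node (.leaf (20, 350)) (.leaf (17, 607))) (.leaf (9, 150))) (.node (.leaf (11, 208)) (.leaf (4, 549)))) (.node (.node (.leaf (7, 358)) (.leaf (17, 367))) (.node (.leaf (20, 389)) (.leaf (9, 727))))) (.node (.node (.node (.leaf (17, 17)) (.leaf (20, 382))) (.node (.leaf (6, 120)) (.leaf (15, 475)))) (.node (.node (.leaf (20, 396)) (.leaf (9, 239))) (.node (.leaf (15, 130)) (.leaf (4, 677))))))))) (.node (.node (.node (.node (.node (.node (.node (.node (.leaf (0, 0)) (.leaf (9, 652))) (.leaf (17, 604))) (.node (.leaf (20, 344)) (.leaf (10, 469)))) (.node (.node (.leaf (15, 20)) (.leaf (20, 565))) (.node (.leaf (10, 273)) (.leaf (15, 333))))) (.node (.node (.node (.node (.leaf (0, 0)) (.leaf (17, 724))) (.leaf (10, 154))) (.node (.leaf (16, 65)) (.leaf (20, 496)))) (.node (.node (.leaf (0, 0)) (.leaf (17, 636))) (.node (.leaf (18, 301)) (.leaf (9, 535)))))) (.node (.node (.node (.node (.node (.leaf (17, 85)) (.leaf (10, 533))) (.leaf (20, 143))) (.node (.leaf (7, 470)) (.leaf (17, 113)))) (.node (.node (.leaf (0, 0))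 (.leaf (10, 216))) (.node (.leaf (17, 533)) (.leaf (20, 137))))) (.node (.node (.node (.leaf (9, 465)) (.leaf (11, 51))) (.node (.leaf (20, 195)) (.leaf (6, 702)))) (.node (.node (.leaf (17, 201)) (.leaf (16, 301))) (.node (.leaf (10, 613)) (.leaf (17, 432))))))) (.node (.node (.node (.node (.node (.node (.leaf (0, 0)) (.leaf (16, 492))) (.leaf (10, 193))) (.node (.leaf (11, 184)) (.leaf (20, 407)))) (.node (.node (.leaf (0, 99)) (.leaf (16, 190))) (.node (.leaf (0, 0)) (.leaf (9, 341))))) (.node (.node (.node (.leaf (7, 89)) (.leaf (4, 397))) (.node (.leaf (9, 69)) (.leaf (16, 341)))) (.node (.node (.leaf (9, 141)) (.leaf (8, 688))) (.node (.leaf (7, 312)) (.leaf (20, 658)))))) (.node (.node (.node (.node (.node (.leaf (8, 7)) (.leaf (16, 721))) (.leaf (11, 376))) (.node (.leaf (18, 462)) (.leaf (7, 466)))) (.node (.node (.leaf (16, 31)) (.leaf (16, 461))) (.node (.leaf (10, 131)) (.leaf (7, 632))))) (.node (.node (.node (.leaf (9, 296)) (.leaf (0, 0))) (.node (.leaf (17, 498)) (.leaf (18, 678)))) (.node (.node (.leaf (7,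 332)) (.leaf (17, 682))) (.node (.leaf (0, 0)) (.leaf (6, 705)))))))) (.node (.node (.node (.node (.node (.node (.node (.leaf (0, 0)) (.leaf (10, 713))) (.leaf (20, 345))) (.node (.leaf (0, 0)) (.leaf (17, 102)))) (.node (.node (.leaf (0, 0)) (.leaf (9, 291))) (.node (.leaf (16, 56)) (.leaf (4, 605))))) (.node (.node (.node (.leaf (0, 0)) (.leaf (17, 398))) (.node (.leaf (16, 671)) (.leaf (7, 505)))) (.node (.node (.leaf (17, 254)) (.leaf (20, 498))) (.node (.leaf (0, 0)) (.leaf (15, 420)))))) (.node (.node (.node (.node (.node (.leaf (0, 0)) (.leaf (17, 727))) (.leaf (0, 0))) (.node (.leaf (17, 62)) (.leaf (20, 536)))) (.node (.node (.leaf (9, 53)) (.leaf (17, 508))) (.node (.leaf (13, 287)) (.leaf (10, 369))))) (.node (.node (.node (.leaf (16, 501)) (.leaf (16, 107))) (.node (.leaf (0, 0)) (.leaf (17, 477)))) (.node (.node (.leaf (4, 157)) (.leaf (10, 176))) (.node (.leaf (17, 385)) (.leaf (9, 669))))))) (.node (.node (.node (.node (.node (.node (.leaf (0, 0)) (.leaf (18, 701))) (.leaf (17, 142))) (.node (.leaf (20, 438))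 (.leaf (10, 545)))) (.node (.node (.leaf (11, 92)) (.leaf (0, 0))) (.node (.leaf (6, 513)) (.leaf (11, 655))))) (.node (.node (.node (.leaf (9, 61)) (.leaf (10, 710))) (.node (.leaf (17, 70)) (.leaf (20, 602)))) (.node (.node (.leaf (9, 633)) (.leaf (16, 632))) (.node (.leaf (18, 106)) (.leaf (9, 403)))))) (.node (.node (.node (.node (.node (.leaf (2, 63)) (.leaf (10, 666))) (.leaf (13, 381))) (.node (.leaf (0, 0)) (.leaf (17, 586)))) (.node (.node (.leaf (20, 359)) (.leaf (7, 324))) (.node (.leaf (11, 35)) (.leaf (18, 637))))) (.node (.node (.node (.leaf (9, 519)) (.leaf (16, 511))) (.node (.leaf (0, 0)) (.leaf (9, 510)))) (.node (.node (.leaf (2, 401)) (.leaf (20, 515))) (.node (.leaf (6, 131)) (.leaf (15, 664))))))))))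

def threeVia3 : Janko.Tree (ℕ × ℕ) :=
  (.node (.node (.node (.node (.node (.node (.node (.node (.node (.leaf (0, 0)) (.leaf (14, 450))) (.leaf (20, 341))) (.node (.leaf (11, 56)) (.leaf (19, 486)))) (.node (.node (.leaf (19, 48)) (.leaf (14, 433))) (.node (.leaf (19, 406)) (.leaf (20, 597))))) (.node (.node (.node (.node (.leaf (1, 148)) (.leaf (5, 725))) (.leaf (19, 446))) (.node (.leaf (5, 213)) (.leaf (14, 556)))) (.node (.node (.leaf (0, 0)) (.leaf (19, 470))) (.node (.leaf (13, 103)) (.leaf (12, 640)))))) (.node (.node (.node (.node (.node (.leaf (0, 0)) (.leaf (19, 690))) (.leaf (13, 580))) (.node (.leaf (18, 58)) (.leaf (0, 0)))) (.node (.node (.leaf (0, 0)) (.leaf (19, 197))) (.node (.leaf (20, 277)) (.leaf (14, 617))))) (.node (.node (.node (.leaf (0, 0)) (.leaf (19, 405))) (.node (.leaf (6, 324)) (.leaf (18, 631)))) (.node (.node (.leaf (0, 0)) (.leaf (13, 691))) (.node (.leaf (0, 0)) (.leaf (20, 526))))))) (.node (.node (.node (.node (.node (.node (.leaf (13, 147)) (.leaf (20, 693))) (.leaf (12, 352))) (.node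 (.leaf (19, 181)) (.leaf (14, 666)))) (.node (.node (.leaf (0, 0)) (.leaf (17, 437))) (.node (.leaf (11, 94)) (.leaf (18, 722))))) (.node (.node (.node (.leaf (5, 53)) (.leaf (0, 0))) (.node (.leaf (19, 309)) (.leaf (10, 565)))) (.node (.node (.leaf (13, 159)) (.leaf (3, 697))) (.node (.leaf (17, 694)) (.leaf (13, 441)))))) (.node (.node (.node (.node (.node (.leaf (8, 32)) (.leaf (14, 593))) (.leaf (10, 632))) (.node (.leaf (0, 0)) (.leaf (18, 641)))) (.node (.node (.leaf (19, 117)) (.leaf (13, 203))) (.node (.leaf (3, 555)) (.leaf (19, 629))))) (.node (.node (.node (.leaf (0, 0)) (.leaf (19, 664))) (.node (.leaf (19, 78)) (.leaf (14, 325)))) (.node (.node (.leaf (0, 0)) (.leaf (20, 501))) (.node (.leaf (14, 445)) (.leaf (8, 672)))))))) (.node (.node (.node (.node (.node (.node (.node (.leaf (0, 0)) (.leaf (15, 688))) (.leaf (0, 0))) (.node (.leaf (19, 200)) (.leaf (20, 517)))) (.node (.node (.leaf (0, 0)) (.leaf (18, 188))) (.node (.leaf (20, 261)) (.leaf (11, 343))))) (.node (.node (.node (.node (.leaf (19, 274)) (.leaf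 (13, 0))) (.leaf (14, 101))) (.node (.leaf (13, 301)) (.leaf (19, 126)))) (.node (.node (.leaf (17, 600)) (.leaf (13, 214))) (.node (.leaf (15, 632)) (.leaf (19, 645)))))) (.node (.node (.node (.node (.node (.leaf (13, 4)) (.leaf (19, 540))) (.leaf (15, 368))) (.node (.leaf (17, 64)) (.leaf (12, 585)))) (.node (.node (.leaf (0, 0)) (.leaf (20, 453))) (.node (.leaf (6, 283)) (.leaf (3, 624))))) (.node (.node (.node (.leaf (0, 0)) (.leaf (13, 168))) (.node (.leaf (18, 219)) (.leaf (20, 581)))) (.node (.node (.leaf (14, 182)) (.leaf (3, 496))) (.node (.leaf (20, 325)) (.leaf (12, 417))))))) (.node (.node (.node (.node (.node (.node (.leaf (0, 0)) (.leaf (13, 697))) (.leaf (0, 0))) (.node (.leaf (12, 55)) (.leaf (0, 0)))) (.node (.node (.leaf (18, 43)) (.leaf (1, 677))) (.node (.leaf (19, 537)) (.leaf (17, 613))))) (.node (.node (.node (.leaf (13, 84)) (.leaf (3, 400))) (.node (.leaf (19, 229)) (.leaf (6, 571)))) (.node (.node (.leaf (0, 0)) (.leaf (19, 485))) (.node (.leaf (14, 177)) (.leaf (18, 567)))))) (.node (.node (.node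 (.node (.node (.leaf (0, 0)) (.leaf (18, 659))) (.leaf (13, 636))) (.node (.leaf (8, 208)) (.leaf (14, 549)))) (.node (.node (.leaf (1, 123)) (.leaf (19, 209))) (.node (.leaf (14, 293)) (.leaf (13, 702))))) (.node (.node (.node (.leaf (19, 17)) (.leaf (20, 362))) (.node (.leaf (13, 486)) (.leaf (0, 0)))) (.node (.node (.leaf (8, 9)) (.leaf (1, 507))) (.node (.leaf (0, 0)) (.leaf (20, 677))))))))) (.node (.node (.node (.node (.node (.node (.node (.node (.leaf (11, 65)) (.leaf (20, 685))) (.leaf (18, 136))) (.node (.leaf (19, 173)) (.leaf (14, 311)))) (.node (.node (.leaf (0, 0)) (.leaf (20, 429))) (.node (.leaf (14, 507)) (.leaf (0, 0))))) (.node (.node (.node (.node (.leaf (20, 522)) (.leaf (18, 643))) (.leaf (14, 563))) (.node (.leaf (0, 0)) (.leaf (19, 557)))) (.node (.node (.leaf (0, 0)) (.leaf (19, 511))) (.node (.leaf (17, 695)) (.leaf (1, 643)))))) (.node (.node (.node (.node (.node (.leaf (0, 0)) (.leaf (14, 714))) (.leaf (10, 365))) (.node (.leaf (12, 59)) (.leaf (12, 536)))) (.node (.node (.leaf (20, 312)) (.leaf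 (6, 80))) (.node (.leaf (15, 280)) (.leaf (5, 621))))) (.node (.node (.node (.leaf (13, 14)) (.leaf (19, 524))) (.node (.leaf (6, 77)) (.leaf (14, 686)))) (.node (.node (.leaf (0, 0)) (.leaf (17, 493))) (.node (.leaf (14, 183)) (.leaf (18, 409))))))) (.node (.node (.node (.node (.node (.node (.leaf (0, 0)) (.leaf (19, 491))) (.leaf (11, 140))) (.node (.leaf (19, 315)) (.leaf (20, 525)))) (.node (.node (.leaf (14, 23)) (.leaf (19, 646))) (.node (.leaf (20, 88)) (.leaf (13, 338))))) (.node (.node (.node (.leaf (12, 56)) (.leaf (20, 254))) (.node (.leaf (13, 69)) (.leaf (8, 308)))) (.node (.node (.leaf (0, 0)) (.leaf (14, 544))) (.node (.leaf (19, 32)) (.leaf (19, 398)))))) (.node (.node (.node (.node (.node (.leaf (0, 0)) (.leaf (19, 717))) (.leaf (18, 430))) (.node (.leaf (19, 205)) (.leaf (13, 275)))) (.node (.node (.leaf (19, 311)) (.leaf (17, 461))) (.node (.leaf (0, 0)) (.leaf (19, 366))))) (.node (.node (.node (.leaf (0, 0)) (.leaf (0, 0))) (.node (.leaf (19, 243)) (.leaf (20, 444)))) (.node (.node (.leaf (12, 205)) (.leaf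 (19, 451))) (.node (.leaf (20, 162)) (.leaf (6, 675)))))))) (.node (.node (.node (.node (.node (.node (.node (.leaf (0, 0)) (.leaf (13, 270))) (.leaf (20, 349))) (.node (.leaf (0, 0)) (.leaf (3, 520)))) (.node (.node (.leaf (0, 0)) (.leaf (14, 323))) (.node (.leaf (19, 661)) (.leaf (20, 336))))) (.node (.node (.node (.leaf (0, 0)) (.leaf (0, 0))) (.node (.leaf (6, 568)) (.leaf (12, 293)))) (.node (.node (.leaf (8, 136)) (.leaf (20, 478))) (.node (.leaf (14, 107)) (.leaf (18, 644)))))) (.node (.node (.node (.node (.node (.leaf (20, 4)) (.leaf (19, 727))) (.leaf (11, 681))) (.node (.leaf (19, 176)) (.leaf (19, 710)))) (.node (.node (.leaf (0, 0)) (.leaf (19, 467))) (.node (.leaf (14, 285)) (.leaf (14, 365))))) (.node (.node (.node (.leaf (15, 72)) (.leaf (20, 413))) (.node (.leaf (13, 485)) (.leaf (18, 633)))) (.node (.node (.leaf (0, 0)) (.leaf (0, 0))) (.node (.leaf (3, 328)) (.leaf (20, 610))))))) (.node (.node (.node (.node (.node (.node (.leaf (0, 0)) (.leaf (10, 701))) (.leaf (18, 340))) (.node (.leaf (5, 189)) (.leaf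 (0, 0)))) (.node (.node (.leaf (0, 0)) (.leaf (20, 123))) (.node (.leaf (1, 275)) (.leaf (19, 597))))) (.node (.node (.node (.leaf (0, 0)) (.leaf (11, 170))) (.node (.leaf (15, 232)) (.leaf (20, 442)))) (.node (.node (.leaf (13, 39)) (.leaf (0, 0))) (.node (.leaf (19, 317)) (.leaf (11, 676)))))) (.node (.node (.node (.node (.node (.leaf (0, 0)) (.leaf (12, 569))) (.leaf (20, 381))) (.node (.leaf (13, 169)) (.leaf (18, 278)))) (.node (.node (.leaf (0, 0)) (.leaf (13, 210))) (.node (.leaf (0, 0)) (.leaf (19, 439))))) (.node (.node (.node (.leaf (13, 213)) (.leaf (15, 686))) (.node (.leaf (14, 253)) (.leaf (14, 344)))) (.node (.node (.leaf (0, 0)) (.leaf (20, 509))) (.node (.leaf (1, 339)) (.leaf (18, 660))))))))))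

def threeVia4 : Janko.Tree (ℕ × ℕ) :=
  (.node (.node (.node (.node (.node (.node (.node (.node (.node (.leaf (0, 0)) (.leaf (16, 375))) (.leaf (10, 531))) (.node (.leaf (7, 171)) (.leaf (20, 487)))) (.node (.node (.leaf (9, 19)) (.leaf (17, 574))) (.node (.leaf (0, 0)) (.leaf (8, 332))))) (.node (.node (.node (.node (.leaf (17, 208)) (.leaf (10, 728))) (.leaf (20, 430))) (.node (.leaf (10, 322)) (.leaf (17, 708)))) (.node (.node (.leaf (0, 0)) (.leaf (10, 211))) (.node (.leaf (17, 315)) (.leaf (13, 640)))))) (.node (.node (.node (.node (.node (.leaf (9, 254)) (.leaf (13, 489))) (.leaf (15, 143))) (.node (.leaf (0, 0)) (.leaf (10, 717)))) (.node (.node (.leaf (15, 53)) (.leaf (13, 61))) (.node (.leaf (6, 295)) (.leaf (17, 723))))) (.node (.node (.node (.leaf (0, 0)) (.leaf (10, 523))) (.node (.leaf (2, 492)) (.leaf (9, 576)))) (.node (.node (.leaf (9, 227)) (.leaf (16, 79))) (.node (.leaf (4, 611)) (.leaf (6, 458))))))) (.node (.node (.node (.node (.node (.node (.leaf (16, 47)) (.leaf (6, 674))) (.leaf (0, 0))) (.node (.leaf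 (10, 186)) (.leaf (15, 459)))) (.node (.node (.leaf (0, 0)) (.leaf (10, 621))) (.node (.leaf (16, 88)) (.leaf (20, 605))))) (.node (.node (.node (.leaf (0, 0)) (.leaf (15, 160))) (.node (.leaf (4, 486)) (.leaf (10, 714)))) (.node (.node (.leaf (0, 0)) (.leaf (4, 480))) (.node (.leaf (0, 0)) (.leaf (17, 420)))))) (.node (.node (.node (.node (.node (.leaf (20, 318)) (.leaf (15, 697))) (.leaf (10, 453))) (.node (.leaf (17, 518)) (.leaf (16, 179)))) (.node (.node (.leaf (9, 29)) (.leaf (11, 666))) (.node (.leaf (18, 288)) (.leaf (9, 701))))) (.node (.node (.node (.leaf (15, 16)) (.leaf (20, 171))) (.node (.leaf (0, 246)) (.leaf (17, 440)))) (.node (.node (.leaf (18, 517)) (.leaf (9, 477))) (.node (.leaf (17, 126)) (.leaf (9, 672)))))))) (.node (.node (.node (.node (.node (.node (.node (.leaf (10, 37)) (.leaf (18, 561))) (.leaf (15, 134))) (.node (.leaf (18, 315)) (.leaf (10, 641)))) (.node (.node (.leaf (17, 46)) (.leaf (4, 432))) (.node (.leaf (9, 517)) (.leaf (2, 717))))) (.node (.node (.node (.node (.leaf (20, 416)) (.leaf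 (14, 0))) (.leaf (6, 432))) (.node (.leaf (15, 66)) (.leaf (20, 596)))) (.node (.node (.leaf (10, 52)) (.leaf (16, 214))) (.node (.leaf (20, 219)) (.leaf (9, 637)))))) (.node (.node (.node (.node (.node (.leaf (16, 267)) (.leaf (10, 542))) (.leaf (0, 0))) (.node (.leaf (10, 60)) (.leaf (15, 286)))) (.node (.node (.leaf (4, 112)) (.leaf (0, 454))) (.node (.leaf (17, 536)) (.leaf (16, 624))))) (.node (.node (.node (.leaf (10, 152)) (.leaf (16, 182))) (.node (.leaf (9, 630)) (.leaf (7, 370)))) (.node (.node (.leaf (7, 16)) (.leaf (20, 230))) (.node (.leaf (10, 226)) (.leaf (17, 645))))))) (.node (.node (.node (.node (.node (.node (.leaf (0, 0)) (.leaf (17, 711))) (.leaf (10, 225))) (.node (.leaf (15, 55)) (.leaf (13, 530)))) (.node (.node (.leaf (8, 110)) (.leaf (16, 192))) (.node (.leaf (20, 90)) (.leaf (9, 595))))) (.node (.node (.node (.leaf (0, 0)) (.leaf (0, 0))) (.node (.leaf (10, 437)) (.leaf (17, 562)))) (.node (.node (.leaf (0, 0)) (.leaf (6, 251))) (.node (.leaf (16, 525)) (.leaf (13, 722)))))) (.node (.node (.node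 (.node (.node (.leaf (0, 0)) (.leaf (18, 720))) (.leaf (16, 462))) (.node (.leaf (20, 63)) (.leaf (6, 179)))) (.node (.node (.leaf (0, 0)) (.leaf (20, 571))) (.node (.leaf (0, 0)) (.leaf (11, 635))))) (.node (.node (.node (.leaf (13, 80)) (.leaf (9, 174))) (.node (.leaf (16, 80)) (.leaf (13, 592)))) (.node (.node (.leaf (9, 378)) (.leaf (17, 293))) (.node (.leaf (0, 0)) (.leaf (10, 450))))))))) (.node (.node (.node (.node (.node (.node (.node (.node (.leaf (0, 0)) (.leaf (9, 590))) (.leaf (0, 0))) (.node (.leaf (0, 174)) (.leaf (15, 699)))) (.node (.node (.leaf (0, 0)) (.leaf (0, 0))) (.node (.leaf (15, 380)) (.leaf (0, 0))))) (.node (.node (.node (.node (.leaf (0, 0)) (.leaf (18, 728))) (.leaf (17, 154))) (.node (.leaf (0, 0)) (.leaf (10, 416)))) (.node (.node (.leaf (2, 296)) (.leaf (4, 472))) (.node (.leaf (8, 225)) (.leaf (16, 605)))))) (.node (.node (.node (.node (.node (.leaf (20, 186)) (.leaf (17, 312))) (.leaf (0, 366))) (.node (.leaf (2, 470)) (.leaf (20, 267)))) (.node (.node (.leaf (8, 102)) (.leaf (17, 369)))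 (.node (.leaf (20, 93)) (.leaf (6, 354))))) (.node (.node (.node (.leaf (16, 475)) (.leaf (20, 641))) (.node (.leaf (7, 641)) (.leaf (17, 391)))) (.node (.node (.leaf (16, 152)) (.leaf (6, 297))) (.node (.leaf (15, 123)) (.leaf (4, 664))))))) (.node (.node (.node (.node (.node (.node (.leaf (0, 0)) (.leaf (20, 491))) (.leaf (17, 190))) (.node (.leaf (12, 11)) (.leaf (8, 707)))) (.node (.node (.leaf (17, 272)) (.leaf (0, 0))) (.node (.leaf (9, 89)) (.leaf (16, 500))))) (.node (.node (.node (.leaf (9, 56)) (.leaf (10, 263))) (.node (.leaf (16, 69)) (.leaf (4, 568)))) (.node (.node (.leaf (0, 354)) (.leaf (15, 470))) (.node (.leaf (18, 119)) (.leaf (9, 536)))))) (.node (.node (.node (.node (.node (.leaf (15, 332)) (.leaf (10, 719))) (.leaf (13, 376))) (.node (.leaf (9, 443)) (.leaf (15, 352)))) (.node (.node (.leaf (9, 120)) (.leaf (9, 591))) (.node (.leaf (11, 398)) (.leaf (20, 671))))) (.node (.node (.node (.leaf (0, 0)) (.leaf (15, 435))) (.node (.leaf (20, 220)) (.leaf (6, 330)))) (.node (.node (.leaf (15, 45)) (.leaf (20,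 682))) (.node (.leaf (10, 93)) (.leaf (15, 670)))))))) (.node (.node (.node (.node (.node (.node (.node (.leaf (0, 0)) (.leaf (16, 223))) (.leaf (10, 135))) (.node (.leaf (16, 308)) (.leaf (18, 520)))) (.node (.node (.leaf (8, 261)) (.leaf (16, 422))) (.node (.leaf (0, 0)) (.leaf (9, 413))))) (.node (.node (.node (.leaf (15, 10)) (.leaf (20, 720))) (.node (.leaf (0, 0)) (.leaf (17, 505)))) (.node (.node (.leaf (20, 36)) (.leaf (10, 444))) (.node (.leaf (16, 294)) (.leaf (20, 673)))))) (.node (.node (.node (.node (.node (.leaf (9, 5)) (.leaf (4, 712))) (.leaf (15, 681))) (.node (.leaf (20, 431)) (.leaf (9, 601)))) (.node (.node (.leaf (17, 521)) (.leaf (18, 456))) (.node (.leaf (9, 280)) (.leaf (16, 324))))) (.node (.node (.node (.leaf (4, 501)) (.leaf (10, 415))) (.node (.leaf (11, 489)) (.leaf (12, 122)))) (.node (.node (.leaf (9, 43)) (.leaf (15, 249))) (.node (.leaf (18, 328)) (.leaf (10, 493))))))) (.node (.node (.node (.node (.node (.node (.leaf (0, 0)) (.leaf (6, 579))) (.leaf (20, 616))) (.node (.leaf (10, 319)) (.leaf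 (11, 531)))) (.node (.node (.leaf (0, 0)) (.leaf (10, 587))) (.node (.leaf (11, 275)) (.leaf (20, 140))))) (.node (.node (.node (.leaf (9, 13)) (.leaf (16, 55))) (.node (.leaf (4, 277)) (.leaf (9, 614)))) (.node (.node (.leaf (11, 147)) (.leaf (12, 69))) (.node (.leaf (10, 120)) (.leaf (16, 399)))))) (.node (.node (.node (.node (.node (.leaf (0, 0)) (.leaf (15, 619))) (.leaf (9, 429))) (.node (.leaf (7, 547)) (.leaf (20, 138)))) (.node (.node (.leaf (7, 321)) (.leaf (17, 451))) (.node (.leaf (0, 0)) (.leaf (8, 690))))) (.node (.node (.node (.leaf (17, 151)) (.leaf (18, 424))) (.node (.leaf (9, 82)) (.leaf (15, 685)))) (.node (.node (.leaf (0, 0)) (.leaf (9, 504))) (.node (.leaf (16, 423)) (.leaf (12, 195))))))))))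

def threeVia5 : Janko.Tree (ℕ × ℕ) :=
  (.node (.node (.node (.node (.node (.node (.node (.node (.node (.leaf (0, 0)) (.leaf (19, 505))) (.leaf (0, 0))) (.node (.leaf (19, 47)) (.leaf (20, 512)))) (.node (.node (.leaf (14, 473)) (.leaf (19, 148))) (.node (.leaf (17, 256)) (.leaf (11, 429))))) (.node (.node (.node (.node (.leaf (19, 387)) (.leaf (11, 426))) (.leaf (20, 652))) (.node (.leaf (11, 20)) (.leaf (18, 281)))) (.node (.node (.leaf (20, 128)) (.leaf (1, 470))) (.node (.leaf (0, 0)) (.leaf (14, 640)))))) (.node (.node (.node (.node (.node (.leaf (13, 216)) (.leaf (20, 704))) (.leaf (19, 143))) (.node (.leaf (20, 253)) (.leaf (14, 695)))) (.node (.node (.leaf (19, 51)) (.leaf (17, 470))) (.node (.leaf (0, 0)) (.leaf (18, 347))))) (.node (.node (.node (.leaf (0, 0)) (.leaf (13, 665))) (.node (.leaf (19, 497)) (.leaf (10, 576)))) (.node (.node (.leaf (13, 40)) (.leaf (18, 530))) (.node (.leaf (5, 326)) (.leaf (1, 662))))))) (.node (.node (.node (.node (.node (.node (.leaf (0, 0)) (.leaf (13, 690))) (.leaf (14, 352)))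 (.node (.leaf (11, 503)) (.leaf (3, 523)))) (.node (.node (.leaf (20, 21)) (.leaf (14, 650))) (.node (.leaf (0, 0)) (.leaf (19, 397))))) (.node (.node (.node (.leaf (0, 0)) (.leaf (3, 395))) (.node (.leaf (0, 0)) (.leaf (1, 566)))) (.node (.node (.leaf (0, 0)) (.leaf (0, 0))) (.node (.leaf (11, 586)) (.leaf (19, 685)))))) (.node (.node (.node (.node (.node (.leaf (5, 32)) (.leaf (18, 705))) (.leaf (11, 237))) (.node (.leaf (3, 203)) (.leaf (19, 544)))) (.node (.node (.leaf (11, 16)) (.leaf (19, 298))) (.node (.leaf (20, 96)) (.leaf (12, 719))))) (.node (.node (.node (.leaf (3, 75)) (.leaf (20, 86))) (.node (.leaf (14, 77)) (.leaf (8, 430)))) (.node (.node (.leaf (17, 35)) (.leaf (13, 349))) (.node (.leaf (15, 331)) (.leaf (10, 672)))))))) (.node (.node (.node (.node (.node (.node (.node (.leaf (14, 68)) (.leaf (20, 688))) (.leaf (3, 347))) (.node (.leaf (19, 156)) (.leaf (14, 511)))) (.node (.node (.leaf (0, 0)) (.leaf (20, 432))) (.node (.leaf (14, 416)) (.leaf (3, 603))))) (.node (.node (.node (.node (.leaf (5, 48)) (.leaf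 (15, 0))) (.leaf (0, 0))) (.node (.leaf (3, 219)) (.leaf (19, 560)))) (.node (.node (.leaf (0, 0)) (.leaf (19, 583))) (.node (.leaf (19, 304)) (.leaf (13, 577)))))) (.node (.node (.node (.node (.node (.leaf (0, 0)) (.leaf (14, 542))) (.leaf (14, 368))) (.node (.leaf (14, 143)) (.leaf (3, 539)))) (.node (.node (.leaf (20, 29)) (.leaf (1, 672))) (.node (.leaf (19, 279)) (.leaf (19, 624))))) (.node (.node (.node (.leaf (0, 0)) (.leaf (0, 0))) (.node (.leaf (19, 240)) (.leaf (13, 267)))) (.node (.node (.leaf (19, 41)) (.leaf (10, 496))) (.node (.leaf (0, 0)) (.leaf (15, 725))))))) (.node (.node (.node (.node (.node (.node (.leaf (0, 0)) (.leaf (19, 352))) (.leaf (13, 143))) (.node (.leaf (19, 182)) (.leaf (14, 528)))) (.node (.node (.leaf (0, 0)) (.leaf (19, 702))) (.node (.leaf (5, 272)) (.leaf (13, 618))))) (.node (.node (.node (.leaf (0, 0)) (.leaf (19, 257))) (.node (.leaf (0, 0)) (.leaf (19, 725)))) (.node (.node (.leaf (14, 144)) (.leaf (14, 223))) (.node (.leaf (8, 234)) (.leaf (20, 656)))))) (.node (.node (.node (.node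 (.node (.leaf (0, 0)) (.leaf (20, 654))) (.leaf (19, 519))) (.node (.leaf (5, 208)) (.leaf (14, 280)))) (.node (.node (.leaf (0, 0)) (.leaf (17, 439))) (.node (.leaf (14, 434)) (.leaf (19, 649))))) (.node (.node (.node (.leaf (0, 0)) (.leaf (13, 174))) (.node (.leaf (19, 79)) (.leaf (20, 592)))) (.node (.node (.leaf (6, 166)) (.leaf (12, 507))) (.node (.leaf (19, 161)) (.leaf (13, 445))))))))) (.node (.node (.node (.node (.node (.node (.node (.node (.leaf (0, 0)) (.leaf (12, 458))) (.leaf (19, 344))) (.node (.leaf (0, 0)) (.leaf (18, 509)))) (.node (.node (.leaf (0, 0)) (.leaf (1, 430))) (.node (.leaf (0, 0)) (.leaf (19, 600))))) (.node (.node (.node (.node (.leaf (0, 0)) (.leaf (20, 728))) (.leaf (19, 155))) (.node (.leaf (0, 0)) (.leaf (14, 698)))) (.node (.node (.leaf (0, 0)) (.leaf (0, 0))) (.node (.leaf (13, 104)) (.leaf (0, 0)))))) (.node (.node (.node (.node (.node (.leaf (8, 0)) (.leaf (15, 707))) (.leaf (14, 214))) (.node (.leaf (0, 0)) (.leaf (20, 537)))) (.node (.node (.leaf (12, 306)) (.leaf (18, 197))) (.node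 (.leaf (0, 0)) (.leaf (11, 354))))) (.node (.node (.node (.leaf (0, 0)) (.leaf (20, 523))) (.node (.leaf (0, 0)) (.leaf (18, 299)))) (.node (.node (.leaf (8, 8)) (.leaf (6, 494))) (.node (.leaf (0, 0)) (.leaf (10, 664))))))) (.node (.node (.node (.node (.node (.node (.leaf (1, 14)) (.leaf (20, 321))) (.leaf (12, 355))) (.node (.leaf (20, 50)) (.leaf (12, 575)))) (.node (.node (.leaf (19, 284)) (.leaf (20, 440))) (.node (.leaf (13, 89)) (.leaf (19, 696))))) (.node (.node (.node (.leaf (0, 0)) (.leaf (12, 162))) (.node (.leaf (19, 610)) (.leaf (20, 568)))) (.node (.node (.leaf (13, 393)) (.leaf (19, 213))) (.node (.leaf (5, 312)) (.leaf (11, 468)))))) (.node (.node (.node (.node (.node (.leaf (0, 0)) (.leaf (11, 648))) (.leaf (20, 39))) (.node (.leaf (13, 522)) (.leaf (19, 699)))) (.node (.node (.leaf (0, 0)) (.leaf (11, 683))) (.node (.leaf (0, 0)) (.leaf (8, 190))))) (.node (.node (.node (.leaf (0, 0)) (.leaf (12, 419))) (.node (.leaf (20, 248)) (.leaf (13, 135)))) (.node (.node (.leaf (0, 0)) (.leaf (19, 504))) (.node (.leaf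 (0, 0)) (.leaf (12, 675)))))))) (.node (.node (.node (.node (.node (.node (.node (.leaf (0, 0)) (.leaf (18, 475))) (.leaf (11, 678))) (.node (.leaf (0, 0)) (.leaf (19, 520)))) (.node (.node (.leaf (11, 27)) (.leaf (19, 341))) (.node (.leaf (20, 264)) (.leaf (14, 603))))) (.node (.node (.node (.leaf (3, 51)) (.leaf (19, 392))) (.node (.leaf (13, 112)) (.leaf (19, 375)))) (.node (.node (.leaf (0, 0)) (.leaf (13, 494))) (.node (.leaf (19, 179)) (.leaf (14, 362)))))) (.node (.node (.node (.node (.node (.leaf (13, 5)) (.leaf (20, 712))) (.leaf (3, 371))) (.node (.leaf (20, 43)) (.leaf (14, 727)))) (.node (.node (.leaf (15, 660)) (.leaf (19, 449))) (.node (.leaf (0, 0)) (.leaf (19, 644))))) (.node (.node (.node (.leaf (10, 143)) (.leaf (14, 149))) (.node (.leaf (0, 0)) (.leaf (20, 582)))) (.node (.node (.leaf (6, 31)) (.leaf (3, 499))) (.node (.leaf (0, 0)) (.leaf (1, 670))))))) (.node (.node (.node (.node (.node (.node (.leaf (0, 0)) (.leaf (13, 517))) (.leaf (20, 127))) (.node (.leaf (13, 677)) (.leaf (19, 586)))) (.node (.node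 (.leaf (14, 104)) (.leaf (14, 376))) (.node (.leaf (0, 0)) (.leaf (19, 616))))) (.node (.node (.node (.leaf (14, 258)) (.leaf (18, 164))) (.node (.leaf (19, 15)) (.leaf (14, 684)))) (.node (.node (.leaf (0, 0)) (.leaf (20, 488))) (.node (.leaf (14, 512)) (.leaf (19, 724)))))) (.node (.node (.node (.node (.node (.leaf (0, 0)) (.leaf (18, 606))) (.leaf (0, 0))) (.node (.leaf (0, 0)) (.leaf (19, 549)))) (.node (.node (.leaf (13, 33)) (.leaf (19, 456))) (.node (.leaf (17, 172)) (.leaf (13, 672))))) (.node (.node (.node (.leaf (0, 0)) (.leaf (19, 293))) (.node (.leaf (13, 516)) (.leaf (0, 0)))) (.node (.node (.leaf (20, 168)) (.leaf (14, 458))) (.node (.leaf (0, 0)) (.leaf (20, 662))))))))))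

def threeVia6 : Janko.Tree (ℕ × ℕ) :=
  (.node (.node (.node (.node (.node (.node (.node (.node (.node (.leaf (0, 0)) (.leaf (20, 450))) (.leaf (11, 342))) (.node (.leaf (20, 47)) (.leaf (10, 339)))) (.node (.node (.leaf (17, 189)) (.leaf (20, 566))) (.node (.leaf (7, 537)) (.leaf (15, 132))))) (.node (.node (.node (.node (.leaf (13, 56)) (.leaf (17, 728))) (.leaf (7, 154))) (.node (.leaf (2, 214)) (.leaf (18, 284)))) (.node (.node (.leaf (10, 85)) (.leaf (15, 213))) (.node (.leaf (9, 299)) (.leaf (8, 489)))))) (.node (.node (.node (.node (.node (.leaf (16, 89)) (.leaf (0, 705))) (.leaf (20, 580))) (.node (.leaf (9, 352)) (.leaf (11, 534)))) (.node (.node (.leaf (20, 51)) (.leaf (10, 589))) (.node (.leaf (11, 266)) (.leaf (18, 619))))) (.node (.node (.node (.leaf (10, 352)) (.leaf (15, 303))) (.node (.leaf (20, 72)) (.leaf (0, 577)))) (.node (.node (.leaf (11, 11)) (.leaf (4, 491))) (.node (.leaf (10, 256)) (.leaf (15, 413))))))) (.node (.node (.node (.node (.node (.node (.leaf (0, 0)) (.leaf (17, 705))) (.leaf (10, 363)))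 (.node (.leaf (16, 52)) (.leaf (20, 545)))) (.node (.node (.leaf (9, 22)) (.leaf (17, 188))) (.node (.leaf (0, 0)) (.leaf (0, 609))))) (.node (.node (.node (.leaf (15, 11)) (.leaf (20, 722))) (.node (.leaf (7, 319)) (.leaf (17, 504)))) (.node (.node (.leaf (0, 0)) (.leaf (7, 224))) (.node (.leaf (17, 552)) (.leaf (20, 423)))))) (.node (.node (.node (.node (.node (.leaf (0, 0)) (.leaf (12, 326))) (.leaf (15, 237))) (.node (.leaf (0, 0)) (.leaf (6, 274)))) (.node (.node (.leaf (16, 287)) (.leaf (20, 575))) (.node (.leaf (10, 397)) (.leaf (11, 630))))) (.node (.node (.node (.leaf (18, 75)) (.leaf (7, 571))) (.node (.leaf (17, 320)) (.leaf (0, 0)))) (.node (.node (.leaf (10, 254)) (.leaf (17, 441))) (.node (.leaf (16, 198)) (.leaf (7, 634)))))))) (.node (.node (.node (.node (.node (.node (.node (.leaf (17, 23)) (.leaf (9, 626))) (.leaf (20, 619))) (.node (.leaf (9, 277)) (.leaf (17, 641)))) (.node (.node (.leaf (18, 86)) (.leaf (10, 434))) (.node (.leaf (17, 438)) (.leaf (0, 0))))) (.node (.node (.node (.node (.leaf (10, 100))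 (.leaf (16, 0))) (.leaf (16, 544))) (.node (.leaf (16, 694)) (.leaf (6, 514)))) (.node (.node (.leaf (15, 600)) (.leaf (0, 0))) (.node (.leaf (10, 306)) (.leaf (16, 637)))))) (.node (.node (.node (.node (.node (.leaf (0, 0)) (.leaf (17, 558))) (.leaf (10, 487))) (.node (.leaf (2, 253)) (.leaf (20, 532)))) (.node (.node (.leaf (10, 27)) (.leaf (15, 201))) (.node (.leaf (20, 288)) (.leaf (8, 484))))) (.node (.node (.node (.leaf (15, 15)) (.leaf (4, 411))) (.node (.leaf (6, 507)) (.leaf (11, 582)))) (.node (.node (.leaf (9, 92)) (.leaf (6, 556))) (.node (.leaf (17, 226)) (.leaf (20, 679))))))) (.node (.node (.node (.node (.node (.node (.leaf (9, 192)) (.leaf (12, 233))) (.leaf (16, 725))) (.node (.leaf (20, 53)) (.leaf (9, 489)))) (.node (.node (.leaf (17, 260)) (.leaf (4, 443))) (.node (.leaf (10, 291)) (.leaf (17, 634))))) (.node (.node (.node (.leaf (0, 0)) (.leaf (9, 163))) (.node (.leaf (15, 489)) (.leaf (16, 571)))) (.node (.node (.leaf (10, 358)) (.leaf (2, 727))) (.node (.leaf (12, 189)) (.leaf (7, 435)))))) (.node (.node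 (.node (.node (.node (.leaf (0, 0)) (.leaf (9, 603))) (.leaf (4, 379))) (.node (.leaf (0, 209)) (.leaf (17, 306)))) (.node (.node (.leaf (0, 0)) (.leaf (9, 209))) (.node (.leaf (17, 390)) (.leaf (4, 635))))) (.node (.node (.node (.leaf (10, 208)) (.leaf (17, 436))) (.node (.leaf (20, 79)) (.leaf (10, 489)))) (.node (.node (.leaf (17, 205)) (.leaf (9, 507))) (.node (.leaf (7, 135)) (.leaf (17, 590))))))))) (.node (.node (.node (.node (.node (.node (.node (.node (.leaf (0, 0)) (.leaf (16, 639))) (.leaf (10, 187))) (.node (.leaf (6, 10)) (.leaf (18, 241)))) (.node (.node (.leaf (9, 393)) (.leaf (17, 456))) (.node (.leaf (20, 149)) (.leaf (10, 655))))) (.node (.node (.node (.node (.leaf (15, 9)) (.leaf (0, 0))) (.leaf (20, 154))) (.node (.leaf (10, 210)) (.leaf (16, 290)))) (.node (.node (.leaf (0, 0)) (.leaf (9, 224))) (.node (.leaf (11, 302)) (.leaf (16, 643)))))) (.node (.node (.node (.node (.node (.leaf (0, 0)) (.leaf (20, 708))) (.leaf (16, 727))) (.node (.leaf (18, 195)) (.leaf (7, 284)))) (.node (.node (.leaf (17, 280))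 (.leaf (20, 197))) (.node (.leaf (10, 604)) (.leaf (17, 583))))) (.node (.node (.node (.leaf (0, 0)) (.leaf (9, 167))) (.node (.leaf (15, 641)) (.leaf (20, 463)))) (.node (.node (.leaf (0, 0)) (.leaf (16, 241))) (.node (.leaf (9, 323)) (.leaf (10, 722))))))) (.node (.node (.node (.node (.node (.node (.leaf (0, 0)) (.leaf (8, 458))) (.leaf (0, 0))) (.node (.leaf (10, 344)) (.leaf (17, 274)))) (.node (.node (.leaf (20, 558)) (.leaf (8, 368))) (.node (.leaf (16, 97)) (.leaf (9, 329))))) (.node (.node (.node (.leaf (10, 137)) (.leaf (17, 332))) (.node (.leaf (0, 0)) (.leaf (8, 249)))) (.node (.node (.leaf (17, 452)) (.leaf (18, 483))) (.node (.leaf (9, 619)) (.leaf (17, 599)))))) (.node (.node (.node (.node (.node (.leaf (0, 0)) (.leaf (15, 599))) (.leaf (10, 585))) (.node (.leaf (15, 431)) (.leaf (18, 216)))) (.node (.node (.leaf (10, 31)) (.leaf (16, 157))) (.node (.leaf (18, 597)) (.leaf (9, 366))))) (.node (.node (.node (.leaf (15, 17)) (.leaf (20, 328))) (.node (.leaf (0, 569)) (.leaf (11, 590)))) (.node (.node (.leaf (0,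 0)) (.leaf (10, 510))) (.node (.leaf (15, 598)) (.leaf (16, 675)))))))) (.node (.node (.node (.node (.node (.node (.node (.leaf (0, 0)) (.leaf (4, 691))) (.leaf (17, 517))) (.node (.leaf (13, 432)) (.leaf (10, 654)))) (.node (.node (.leaf (16, 21)) (.leaf (13, 100))) (.node (.leaf (6, 259)) (.leaf (15, 719))))) (.node (.node (.node (.leaf (0, 0)) (.leaf (9, 159))) (.node (.leaf (15, 67)) (.leaf (18, 563)))) (.node (.node (.leaf (10, 32)) (.leaf (17, 215))) (.node (.leaf (13, 434)) (.leaf (10, 695)))))) (.node (.node (.node (.node (.node (.leaf (16, 270)) (.leaf (6, 591))) (.leaf (20, 424))) (.node (.leaf (10, 236)) (.leaf (17, 270)))) (.node (.node (.leaf (20, 187)) (.leaf (9, 656))) (.node (.leaf (15, 96)) (.leaf (20, 725))))) (.node (.node (.node (.leaf (0, 0)) (.leaf (17, 186))) (.node (.leaf (20, 485)) (.leaf (10, 620)))) (.node (.node (.leaf (17, 463)) (.leaf (16, 499))) (.node (.leaf (7, 152)) (.leaf (11, 670))))))) (.node (.node (.node (.node (.node (.node (.leaf (0, 0)) (.leaf (15, 676))) (.leaf (9, 468))) (.node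 (.leaf (17, 355)) (.leaf (20, 593)))) (.node (.node (.leaf (0, 0)) (.leaf (11, 446))) (.node (.leaf (0, 0)) (.leaf (7, 724))))) (.node (.node (.node (.leaf (6, 5)) (.leaf (4, 403))) (.node (.leaf (8, 388)) (.leaf (17, 469)))) (.node (.node (.leaf (0, 0)) (.leaf (7, 230))) (.node (.leaf (17, 710)) (.leaf (4, 659)))))) (.node (.node (.node (.node (.node (.leaf (0, 0)) (.leaf (20, 721))) (.leaf (15, 596))) (.node (.leaf (9, 241)) (.leaf (9, 664)))) (.node (.node (.leaf (16, 33)) (.leaf (20, 210))) (.node (.leaf (6, 103)) (.leaf (15, 439))))) (.node (.node (.node (.leaf (0, 0)) (.leaf (8, 194))) (.node (.leaf (17, 399)) (.leaf (20, 670)))) (.node (.node (.leaf (10, 261)) (.leaf (17, 640))) (.node (.leaf (0, 0)) (.leaf (10, 699))))))))))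

def threeVia7 : Janko.Tree (ℕ × ℕ) :=
  (.node (.node (.node (.node (.node (.node (.node (.node (.node (.leaf (0, 0)) (.leaf (14, 683))) (.leaf (0, 0))) (.node (.leaf (20, 9)) (.leaf (11, 507)))) (.node (.node (.leaf (0, 0)) (.leaf (19, 425))) (.node (.leaf (11, 85)) (.leaf (3, 598))))) (.node (.node (.node (.node (.leaf (5, 60)) (.leaf (19, 728))) (.leaf (0, 0))) (.node (.leaf (0, 0)) (.leaf (19, 555)))) (.node (.node (.leaf (12, 34)) (.leaf (19, 483))) (.node (.leaf (20, 299)) (.leaf (12, 409)))))) (.node (.node (.node (.node (.node (.leaf (0, 0)) (.leaf (1, 705))) (.leaf (5, 363))) (.node (.leaf (13, 678)) (.leaf (18, 707)))) (.node (.node (.leaf (10, 312)) (.leaf (14, 663))) (.node (.leaf (0, 0)) (.leaf (19, 619))))) (.node (.node (.node (.leaf (11, 14)) (.leaf (19, 523))) (.node (.leaf (20, 15)) (.leaf (6, 577)))) (.node (.node (.leaf (15, 150)) (.leaf (0, 0))) (.node (.leaf (14, 583)) (.leaf (3, 662))))))) (.node (.node (.node (.node (.node (.node (.leaf (0, 0)) (.leaf (18, 583))) (.leaf (14, 232))) (.node (.leaf (0,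 0)) (.leaf (5, 544)))) (.node (.node (.leaf (13, 22)) (.leaf (19, 188))) (.node (.leaf (0, 0)) (.leaf (1, 609))))) (.node (.node (.node (.leaf (0, 0)) (.leaf (19, 165))) (.node (.leaf (14, 32)) (.leaf (3, 566)))) (.node (.node (.leaf (0, 0)) (.leaf (14, 216))) (.node (.leaf (19, 251)) (.leaf (10, 651)))))) (.node (.node (.node (.node (.node (.leaf (0, 0)) (.leaf (19, 715))) (.leaf (19, 566))) (.node (.leaf (19, 73)) (.leaf (1, 545)))) (.node (.node (.leaf (19, 119)) (.leaf (20, 238))) (.node (.leaf (13, 501)) (.leaf (12, 630))))) (.node (.node (.node (.leaf (0, 0)) (.leaf (1, 417))) (.node (.leaf (19, 81)) (.leaf (20, 587)))) (.node (.node (.leaf (13, 44)) (.leaf (19, 615))) (.node (.leaf (20, 33)) (.leaf (12, 726)))))))) (.node (.node (.node (.node (.node (.node (.node (.leaf (19, 110)) (.leaf (14, 472))) (.leaf (19, 183))) (.node (.leaf (13, 52)) (.leaf (3, 518)))) (.node (.node (.leaf (8, 3)) (.leaf (1, 433))) (.node (.leaf (18, 666)) (.leaf (19, 603))))) (.node (.node (.node (.node (.leaf (0, 0)) (.leaf (17, 0))) (.leaf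 (3, 390))) (.node (.leaf (14, 219)) (.leaf (11, 332)))) (.node (.node (.leaf (0, 0)) (.leaf (17, 475))) (.node (.leaf (14, 485)) (.leaf (15, 623)))))) (.node (.node (.node (.node (.node (.leaf (0, 0)) (.leaf (18, 709))) (.leaf (13, 145))) (.node (.leaf (19, 382)) (.leaf (19, 539)))) (.node (.node (.leaf (14, 250)) (.leaf (15, 127))) (.node (.leaf (12, 216)) (.leaf (14, 720))))) (.node (.node (.node (.leaf (0, 0)) (.leaf (19, 416))) (.node (.leaf (11, 671)) (.leaf (0, 0)))) (.node (.node (.leaf (17, 155)) (.leaf (11, 556))) (.node (.leaf (0, 0)) (.leaf (20, 667))))))) (.node (.node (.node (.node (.node (.node (.leaf (13, 2)) (.leaf (20, 699))) (.leaf (15, 358))) (.node (.leaf (18, 11)) (.leaf (0, 0)))) (.node (.node (.leaf (15, 257)) (.leaf (20, 516))) (.node (.leaf (11, 514)) (.leaf (18, 595))))) (.node (.node (.node (.leaf (0, 0)) (.leaf (14, 402))) (.node (.leaf (3, 230)) (.leaf (7, 175)))) (.node (.node (.leaf (11, 39)) (.leaf (15, 486))) (.node (.leaf (20, 315)) (.leaf (13, 396)))))) (.node (.node (.node (.node (.node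 (.leaf (0, 0)) (.leaf (14, 638))) (.leaf (0, 0))) (.node (.leaf (11, 144)) (.leaf (19, 278)))) (.node (.node (.leaf (17, 209)) (.leaf (14, 627))) (.node (.leaf (19, 158)) (.leaf (14, 635))))) (.node (.node (.node (.leaf (14, 225)) (.leaf (19, 676))) (.node (.leaf (20, 252)) (.leaf (0, 0)))) (.node (.node (.leaf (0, 0)) (.leaf (20, 507))) (.node (.leaf (14, 713)) (.leaf (19, 590))))))))) (.node (.node (.node (.node (.node (.node (.node (.node (.leaf (0, 0)) (.leaf (18, 467))) (.leaf (11, 643))) (.node (.leaf (0, 0)) (.leaf (19, 515)))) (.node (.node (.leaf (13, 475)) (.leaf (12, 430))) (.node (.leaf (10, 259)) (.leaf (11, 337))))) (.node (.node (.node (.node (.leaf (0, 0)) (.leaf (1, 0))) (.leaf (19, 199))) (.node (.leaf (14, 65)) (.leaf (19, 556)))) (.node (.node (.leaf (14, 131)) (.leaf (14, 212))) (.node (.leaf (12, 302)) (.leaf (14, 643)))))) (.node (.node (.node (.node (.node (.leaf (0, 0)) (.leaf (5, 707))) (.leaf (0, 0))) (.node (.leaf (0, 0)) (.leaf (14, 671)))) (.node (.node (.leaf (19, 28)) (.leaf (20, 59))) (.node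 (.leaf (14, 286)) (.leaf (19, 493))))) (.node (.node (.node (.leaf (0, 0)) (.leaf (14, 410))) (.node (.leaf (3, 238)) (.leaf (20, 579)))) (.node (.node (.leaf (13, 186)) (.leaf (0, 0))) (.node (.leaf (5, 613)) (.leaf (12, 415))))))) (.node (.node (.node (.node (.node (.node (.leaf (0, 0)) (.leaf (13, 551))) (.leaf (14, 355))) (.node (.leaf (0, 0)) (.leaf (3, 526)))) (.node (.node (.leaf (5, 99)) (.leaf (11, 608))) (.node (.leaf (0, 0)) (.leaf (20, 611))))) (.node (.node (.node (.leaf (14, 12)) (.leaf (0, 0))) (.node (.leaf (0, 0)) (.leaf (12, 637)))) (.node (.node (.leaf (19, 426)) (.leaf (7, 690))) (.node (.leaf (1, 313)) (.leaf (15, 603)))))) (.node (.node (.node (.node (.node (.leaf (10, 10)) (.leaf (18, 653))) (.leaf (0, 0))) (.node (.leaf (0, 0)) (.leaf (17, 547)))) (.node (.node (.leaf (14, 31)) (.leaf (18, 316))) (.node (.leaf (14, 291)) (.leaf (14, 475))))) (.node (.node (.node (.leaf (0, 0)) (.leaf (14, 132))) (.node (.leaf (0, 0)) (.leaf (18, 667)))) (.node (.node (.leaf (19, 163)) (.leaf (13, 238))) (.node (.leaf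 (3, 334)) (.leaf (20, 675)))))))) (.node (.node (.node (.node (.node (.node (.node (.leaf (11, 1)) (.leaf (20, 691))) (.leaf (12, 350))) (.node (.leaf (20, 176)) (.leaf (14, 401)))) (.node (.node (.leaf (0, 0)) (.leaf (20, 131))) (.node (.leaf (0, 0)) (.leaf (3, 606))))) (.node (.node (.node (.leaf (19, 24)) (.leaf (11, 161))) (.node (.leaf (0, 0)) (.leaf (20, 563)))) (.node (.node (.leaf (11, 159)) (.leaf (19, 217))) (.node (.leaf (20, 390)) (.leaf (14, 606)))))) (.node (.node (.node (.node (.node (.leaf (0, 0)) (.leaf (14, 677))) (.leaf (14, 371))) (.node (.leaf (0, 0)) (.leaf (18, 271)))) (.node (.node (.leaf (8, 5)) (.leaf (0, 0))) (.node (.leaf (3, 286)) (.leaf (10, 627))))) (.node (.node (.node (.leaf (0, 0)) (.leaf (18, 169))) (.node (.leaf (20, 243)) (.leaf (14, 703)))) (.node (.node (.leaf (8, 158)) (.leaf (19, 499))) (.node (.leaf (13, 345)) (.leaf (3, 670))))))) (.node (.node (.node (.node (.node (.node (.leaf (7, 0)) (.leaf (18, 656))) (.leaf (0, 0))) (.node (.leaf (0, 0)) (.leaf (14, 531)))) (.node (.node (.leaf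 (0, 0)) (.leaf (19, 384))) (.node (.leaf (20, 477)) (.leaf (14, 618))))) (.node (.node (.node (.leaf (0, 0)) (.leaf (17, 403))) (.node (.leaf (0, 0)) (.leaf (19, 210)))) (.node (.node (.leaf (0, 0)) (.leaf (0, 0))) (.node (.leaf (18, 121)) (.leaf (10, 659)))))) (.node (.node (.node (.node (.node (.leaf (0, 0)) (.leaf (18, 335))) (.leaf (19, 385))) (.node (.leaf (0, 0)) (.leaf (14, 699)))) (.node (.node (.leaf (18, 33)) (.leaf (14, 207))) (.node (.leaf (1, 297)) (.leaf (8, 638))))) (.node (.node (.node (.leaf (14, 83)) (.leaf (13, 175))) (.node (.leaf (19, 604)) (.leaf (20, 595)))) (.node (.node (.leaf (0, 0)) (.leaf (12, 510))) (.node (.leaf (14, 172)) (.leaf (14, 700))))))))))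

def threeVia8 : Janko.Tree (ℕ × ℕ) :=
  (.node (.node (.node (.node (.node (.node (.node (.node (.node (.leaf (0, 0)) (.leaf (9, 706))) (.leaf (13, 342))) (.node (.leaf (9, 125)) (.leaf (15, 683)))) (.node (.node (.leaf (0, 0)) (.leaf (0, 0))) (.node (.leaf (7, 4)) (.leaf (0, 0))))) (.node (.node (.node (.node (.leaf (10, 82)) (.leaf (20, 653))) (.leaf (17, 362))) (.node (.leaf (0, 0)) (.leaf (8, 282)))) (.node (.node (.leaf (15, 34)) (.leaf (20, 211))) (.node (.leaf (0, 0)) (.leaf (17, 377)))))) (.node (.node (.node (.node (.node (.leaf (0, 0)) (.leaf (11, 278))) (.leaf (10, 676))) (.node (.leaf (16, 678)) (.leaf (0, 0)))) (.node (.node (.leaf (0, 0)) (.leaf (17, 239))) (.node (.leaf (20, 549)) (.leaf (10, 596))))) (.node (.node (.node (.leaf (0, 0)) (.leaf (4, 524))) (.node (.leaf (0, 236)) (.leaf (16, 576)))) (.node (.node (.leaf (0, 0)) (.leaf (10, 227))) (.node (.leaf (17, 252)) (.leaf (18, 662))))))) (.node (.node (.node (.node (.node (.node (.leaf (10, 1)) (.leaf (18, 528))) (.leaf (17, 246))) (.node (.leaf (4, 182))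 (.leaf (10, 674)))) (.node (.node (.leaf (16, 22)) (.leaf (20, 57))) (.node (.leaf (10, 398)) (.leaf (15, 712))))) (.node (.node (.node (.leaf (0, 0)) (.leaf (10, 335))) (.node (.leaf (17, 68)) (.leaf (20, 386)))) (.node (.node (.leaf (10, 151)) (.leaf (17, 216))) (.node (.leaf (20, 81)) (.leaf (7, 447)))))) (.node (.node (.node (.node (.node (.leaf (0, 0)) (.leaf (10, 678))) (.leaf (18, 639))) (.node (.leaf (10, 246)) (.leaf (17, 307)))) (.node (.node (.leaf (20, 114)) (.leaf (8, 686))) (.node (.leaf (17, 542)) (.leaf (18, 630))))) (.node (.node (.node (.leaf (10, 205)) (.leaf (11, 417))) (.node (.leaf (20, 78)) (.leaf (10, 681)))) (.node (.node (.leaf (17, 351)) (.leaf (20, 589))) (.node (.leaf (10, 392)) (.leaf (15, 464)))))))) (.node (.node (.node (.node (.node (.node (.node (.leaf (9, 136)) (.leaf (16, 473))) (.leaf (10, 119))) (.node (.leaf (11, 177)) (.leaf (18, 518)))) (.node (.node (.leaf (9, 232)) (.leaf (16, 684))) (.node (.leaf (4, 262)) (.leaf (10, 606))))) (.node (.node (.node (.node (.leaf (17, 160)) (.leaf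 (18, 0))) (.leaf (18, 184))) (.node (.leaf (10, 381)) (.leaf (11, 561)))) (.node (.node (.leaf (0, 0)) (.leaf (10, 574))) (.node (.leaf (15, 250)) (.leaf (20, 649)))))) (.node (.node (.node (.node (.node (.leaf (0, 49)) (.leaf (20, 272))) (.leaf (17, 473))) (.node (.leaf (0, 0)) (.leaf (10, 541)))) (.node (.node (.leaf (6, 444)) (.leaf (20, 457))) (.node (.leaf (10, 165)) (.leaf (17, 327))))) (.node (.node (.node (.leaf (0, 0)) (.leaf (8, 519))) (.node (.leaf (16, 74)) (.leaf (16, 275)))) (.node (.node (.leaf (0, 0)) (.leaf (16, 557))) (.node (.leaf (16, 277)) (.leaf (10, 406))))))) (.node (.node (.node (.node (.node (.node (.leaf (16, 227)) (.leaf (10, 724))) (.leaf (20, 627))) (.node (.leaf (10, 55)) (.leaf (17, 668)))) (.node (.node (.leaf (20, 433)) (.leaf (7, 464))) (.node (.leaf (16, 255)) (.leaf (20, 588))))) (.node (.node (.node (.leaf (0, 0)) (.leaf (16, 163))) (.node (.leaf (9, 230)) (.leaf (0, 630)))) (.node (.node (.leaf (16, 39)) (.leaf (20, 223))) (.node (.leaf (0, 0)) (.leaf (17, 568)))))) (.node (.node (.node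 (.node (.node (.leaf (0, 0)) (.leaf (16, 724))) (.leaf (7, 158))) (.node (.leaf (6, 151)) (.leaf (20, 557)))) (.node (.node (.leaf (10, 63)) (.leaf (17, 627))) (.node (.leaf (20, 437)) (.leaf (9, 369))))) (.node (.node (.node (.leaf (11, 99)) (.leaf (9, 422))) (.node (.leaf (0, 516)) (.leaf (15, 496)))) (.node (.node (.leaf (0, 0)) (.leaf (0, 0))) (.node (.leaf (16, 601)) (.leaf (4, 678))))))))) (.node (.node (.node (.node (.node (.node (.node (.node (.leaf (0, 0)) (.leaf (20, 683))) (.leaf (16, 133))) (.node (.leaf (0, 0)) (.leaf (6, 254)))) (.node (.node (.leaf (11, 89)) (.leaf (13, 430))) (.node (.leaf (7, 395)) (.leaf (16, 135))))) (.node (.node (.node (.node (.leaf (0, 0)) (.leaf (2, 0))) (.leaf (10, 233))) (.node (.leaf (16, 693)) (.leaf (20, 290)))) (.node (.node (.leaf (7, 598)) (.leaf (16, 213))) (.node (.leaf (16, 528)) (.leaf (8, 381)))))) (.node (.node (.node (.node (.node (.leaf (11, 25)) (.leaf (10, 700))) (.leaf (0, 0))) (.node (.leaf (9, 59)) (.leaf (17, 114)))) (.node (.node (.leaf (20, 26)) (.leaf (9, 198)))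 (.node (.leaf (17, 534)) (.leaf (20, 698))))) (.node (.node (.node (.leaf (10, 139)) (.leaf (2, 660))) (.node (.leaf (18, 461)) (.leaf (10, 500)))) (.node (.node (.leaf (17, 372)) (.leaf (12, 15))) (.node (.leaf (7, 481)) (.leaf (17, 433))))))) (.node (.node (.node (.node (.node (.node (.leaf (0, 0)) (.leaf (17, 509))) (.leaf (0, 356))) (.node (.leaf (15, 662)) (.leaf (20, 700)))) (.node (.node (.leaf (0, 100)) (.leaf (16, 370))) (.node (.leaf (4, 270)) (.leaf (7, 630))))) (.node (.node (.node (.leaf (17, 84)) (.leaf (20, 332))) (.node (.leaf (6, 140)) (.leaf (17, 564)))) (.node (.node (.leaf (0, 0)) (.leaf (10, 222))) (.node (.leaf (17, 555)) (.leaf (20, 628)))))) (.node (.node (.node (.node (.node (.leaf (9, 7)) (.leaf (20, 726))) (.leaf (15, 242))) (.node (.leaf (4, 206)) (.leaf (10, 447)))) (.node (.node (.leaf (17, 543)) (.leaf (20, 206))) (.node (.leaf (6, 231)) (.leaf (6, 516))))) (.node (.node (.node (.leaf (0, 0)) (.leaf (6, 174))) (.node (.leaf (2, 610)) (.leaf (4, 590)))) (.node (.node (.leaf (10, 399)) (.leaf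 (15, 563))) (.node (.leaf (0, 0)) (.leaf (10, 501)))))))) (.node (.node (.node (.node (.node (.node (.node (.leaf (0, 0)) (.leaf (10, 615))) (.leaf (20, 135))) (.node (.leaf (7, 660)) (.leaf (17, 261)))) (.node (.node (.leaf (0, 0)) (.leaf (8, 184))) (.node (.leaf (11, 265)) (.leaf (20, 723))))) (.node (.node (.node (.leaf (10, 54)) (.leaf (7, 393))) (.node (.leaf (16, 582)) (.leaf (10, 276)))) (.node (.node (.leaf (17, 37)) (.leaf (4, 494))) (.node (.leaf (0, 0)) (.leaf (15, 612)))))) (.node (.node (.node (.node (.node (.leaf (4, 30)) (.leaf (16, 587))) (.leaf (8, 592))) (.node (.leaf (17, 329)) (.leaf (20, 270)))) (.node (.node (.leaf (0, 0)) (.leaf (15, 328))) (.node (.leaf (20, 280)) (.leaf (8, 601))))) (.node (.node (.node (.leaf (2, 378)) (.leaf (20, 169))) (.node (.leaf (8, 442)) (.leaf (16, 674)))) (.node (.node (.leaf (13, 188)) (.leaf (9, 580))) (.node (.leaf (17, 125)) (.leaf (20, 614))))))) (.node (.node (.node (.node (.node (.node (.leaf (0, 0)) (.leaf (4, 702))) (.leaf (15, 465))) (.node (.leaf (0, 0)) (.leaf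 (10, 534)))) (.node (.node (.leaf (17, 276)) (.leaf (20, 650))) (.node (.leaf (10, 497)) (.leaf (16, 343))))) (.node (.node (.node (.leaf (0, 0)) (.leaf (6, 247))) (.node (.leaf (6, 392)) (.leaf (20, 681)))) (.node (.node (.leaf (9, 190)) (.leaf (15, 75))) (.node (.leaf (20, 121)) (.leaf (10, 718)))))) (.node (.node (.node (.node (.node (.leaf (15, 8)) (.leaf (9, 717))) (.leaf (16, 382))) (.node (.leaf (9, 64)) (.leaf (16, 706)))) (.node (.node (.leaf (0, 0)) (.leaf (9, 420))) (.node (.leaf (16, 202)) (.leaf (20, 647))))) (.node (.node (.node (.leaf (10, 128)) (.leaf (11, 425))) (.node (.leaf (0, 0)) (.leaf (10, 593)))) (.node (.node (.leaf (15, 402)) (.leaf (20, 458))) (.node (.leaf (10, 544)) (.leaf (15, 482))))))))))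

def threeVia9 : Janko.Tree (ℕ × ℕ) :=
  (.node (.node (.node (.node (.node (.node (.node (.node (.node (.leaf (0, 0)) (.leaf (11, 665))) (.leaf (14, 342))) (.node (.leaf (0, 0)) (.leaf (19, 683)))) (.node (.node (.leaf (10, 290)) (.leaf (14, 594))) (.node (.leaf (0, 0)) (.leaf (10, 400))))) (.node (.node (.node (.node (.leaf (13, 190)) (.leaf (19, 643))) (.leaf (8, 385))) (.node (.leaf (17, 214)) (.leaf (14, 553)))) (.node (.node (.leaf (0, 0)) (.leaf (5, 470))) (.node (.leaf (1, 300)) (.leaf (19, 151)))))) (.node (.node (.node (.node (.node (.leaf (0, 0)) (.leaf (12, 705))) (.leaf (13, 142))) (.node (.leaf (0, 0)) (.leaf (20, 266)))) (.node (.node (.leaf (0, 0)) (.leaf (0, 0))) (.node (.leaf (20, 497)) (.leaf (13, 428))))) (.node (.node (.node (.leaf (0, 0)) (.leaf (19, 259))) (.node (.leaf (14, 607)) (.leaf (18, 569)))) (.node (.node (.leaf (0, 0)) (.leaf (6, 492))) (.node (.leaf (19, 492)) (.leaf (17, 662))))))) (.node (.node (.node (.node (.node (.node (.leaf (14, 1)) (.leaf (19, 584))) (.leaf (19, 138))) (.node (.leaf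 (20, 182)) (.leaf (14, 578)))) (.node (.node (.leaf (0, 0)) (.leaf (5, 438))) (.node (.leaf (12, 90)) (.leaf (19, 712))))) (.node (.node (.node (.leaf (14, 425)) (.leaf (0, 0))) (.node (.leaf (12, 225)) (.leaf (14, 566)))) (.node (.node (.leaf (13, 355)) (.leaf (8, 502))) (.node (.leaf (19, 305)) (.leaf (14, 432)))))) (.node (.node (.node (.node (.node (.leaf (0, 0)) (.leaf (11, 626))) (.leaf (20, 373))) (.node (.leaf (14, 449)) (.leaf (19, 408)))) (.node (.node (.leaf (20, 118)) (.leaf (12, 163))) (.node (.leaf (18, 553)) (.leaf (19, 630))))) (.node (.node (.node (.leaf (14, 241)) (.leaf (0, 0))) (.node (.leaf (5, 246)) (.leaf (14, 679)))) (.node (.node (.leaf (0, 0)) (.leaf (20, 613))) (.node (.leaf (1, 561)) (.leaf (19, 688)))))))) (.node (.node (.node (.node (.node (.node (.node (.leaf (0, 0)) (.leaf (19, 514))) (.leaf (14, 349))) (.node (.leaf (19, 157)) (.leaf (19, 378)))) (.node (.node (.leaf (0, 0)) (.leaf (18, 187))) (.node (.leaf (10, 558)) (.leaf (13, 685))))) (.node (.node (.node (.node (.leaf (0, 0)) (.leaf (19,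 19))) (.leaf (19, 390))) (.node (.leaf (14, 246)) (.leaf (15, 561)))) (.node (.node (.leaf (19, 351)) (.leaf (12, 497))) (.node (.leaf (19, 306)) (.leaf (17, 646)))))) (.node (.node (.node (.node (.node (.leaf (11, 248)) (.leaf (5, 710))) (.leaf (15, 369))) (.node (.leaf (7, 13)) (.leaf (13, 269)))) (.node (.node (.leaf (19, 109)) (.leaf (19, 454))) (.node (.leaf (14, 494)) (.leaf (8, 508))))) (.node (.node (.node (.leaf (0, 0)) (.leaf (6, 412))) (.node (.leaf (0, 0)) (.leaf (17, 582)))) (.node (.node (.leaf (0, 0)) (.leaf (15, 80))) (.node (.leaf (8, 33)) (.leaf (13, 585))))))) (.node (.node (.node (.node (.node (.node (.leaf (0, 0)) (.leaf (13, 681))) (.leaf (10, 64))) (.node (.leaf (13, 391)) (.leaf (19, 668)))) (.node (.node (.leaf (19, 102)) (.leaf (12, 346))) (.node (.leaf (0, 0)) (.leaf (19, 614))))) (.node (.node (.node (.leaf (14, 57)) (.leaf (0, 0))) (.node (.leaf (0, 0)) (.leaf (13, 508)))) (.node (.node (.leaf (3, 482)) (.leaf (14, 486))) (.node (.leaf (11, 407)) (.leaf (18, 702)))))) (.node (.node (.node (.node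 (.node (.leaf (0, 0)) (.leaf (18, 603))) (.leaf (6, 67))) (.node (.leaf (0, 0)) (.leaf (19, 550)))) (.node (.node (.leaf (13, 591)) (.leaf (19, 627))) (.node (.leaf (19, 294)) (.leaf (13, 170))))) (.node (.node (.node (.leaf (8, 81)) (.leaf (10, 422))) (.node (.leaf (14, 487)) (.leaf (19, 228)))) (.node (.node (.leaf (19, 380)) (.leaf (6, 508))) (.node (.leaf (0, 0)) (.leaf (20, 678))))))))) (.node (.node (.node (.node (.node (.node (.node (.node (.leaf (0, 0)) (.leaf (20, 686))) (.leaf (0, 0))) (.node (.leaf (10, 174)) (.leaf (13, 253)))) (.node (.node (.leaf (0, 0)) (.leaf (19, 430))) (.node (.leaf (0, 0)) (.leaf (15, 722))))) (.node (.node (.node (.node (.leaf (17, 24)) (.leaf (3, 0))) (.leaf (13, 363))) (.node (.leaf (19, 65)) (.leaf (5, 558)))) (.node (.node (.leaf (0, 0)) (.leaf (8, 74))) (.node (.leaf (17, 632)) (.leaf (13, 673)))))) (.node (.node (.node (.node (.node (.leaf (0, 0)) (.leaf (14, 704))) (.leaf (17, 366))) (.node (.leaf (14, 467)) (.leaf (19, 707)))) (.node (.node (.leaf (0, 0)) (.leaf (14, 465))) (.node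 (.leaf (18, 98)) (.leaf (20, 217))))) (.node (.node (.node (.leaf (14, 14)) (.leaf (15, 409))) (.node (.leaf (19, 238)) (.leaf (14, 422)))) (.node (.node (.leaf (0, 0)) (.leaf (20, 494))) (.node (.leaf (13, 123)) (.leaf (19, 666))))))) (.node (.node (.node (.node (.node (.node (.leaf (0, 0)) (.leaf (15, 223))) (.leaf (13, 561))) (.node (.leaf (3, 185)) (.leaf (19, 526)))) (.node (.node (.leaf (0, 0)) (.leaf (19, 368))) (.node (.leaf (0, 0)) (.leaf (12, 347))))) (.node (.node (.node (.leaf (15, 57)) (.leaf (20, 643))) (.node (.leaf (13, 696)) (.leaf (8, 569)))) (.node (.node (.leaf (0, 0)) (.leaf (13, 470))) (.node (.leaf (18, 111)) (.leaf (19, 654)))))) (.node (.node (.node (.node (.node (.leaf (13, 324)) (.leaf (18, 332))) (.leaf (3, 377))) (.node (.leaf (0, 0)) (.leaf (14, 555)))) (.node (.node (.leaf (18, 32)) (.leaf (10, 462))) (.node (.leaf (0, 0)) (.leaf (19, 705))))) (.node (.node (.node (.leaf (17, 78)) (.leaf (1, 420))) (.node (.leaf (3, 249)) (.leaf (20, 590)))) (.node (.node (.leaf (11, 47)) (.leaf (12, 505)))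 (.node (.leaf (19, 160)) (.leaf (14, 687)))))))) (.node (.node (.node (.node (.node (.node (.node (.leaf (0, 0)) (.leaf (13, 554))) (.leaf (0, 0))) (.node (.leaf (14, 181)) (.leaf (19, 660)))) (.node (.node (.leaf (0, 0)) (.leaf (14, 356))) (.node (.leaf (0, 0)) (.leaf (19, 606))))) (.node (.node (.node (.leaf (1, 425)) (.leaf (0, 0))) (.node (.leaf (20, 221)) (.leaf (14, 688)))) (.node (.node (.leaf (19, 37)) (.leaf (17, 302))) (.node (.leaf (14, 570)) (.leaf (18, 646)))))) (.node (.node (.node (.node (.node (.leaf (0, 0)) (.leaf (18, 672))) (.leaf (13, 146))) (.node (.leaf (0, 0)) (.leaf (0, 0)))) (.node (.node (.leaf (14, 29)) (.leaf (19, 442))) (.node (.leaf (19, 286)) (.leaf (1, 628))))) (.node (.node (.node (.leaf (0, 0)) (.leaf (20, 414))) (.node (.leaf (13, 509)) (.leaf (3, 585)))) (.node (.node (.leaf (20, 8)) (.leaf (14, 215))) (.node (.leaf (15, 198)) (.leaf (14, 670))))))) (.node (.node (.node (.node (.node (.node (.leaf (11, 3)) (.leaf (14, 702))) (.leaf (0, 0))) (.node (.leaf (14, 190)) (.leaf (11, 715)))) (.node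 (.node (.leaf (19, 245)) (.leaf (20, 148))) (.node (.leaf (0, 0)) (.leaf (19, 350))))) (.node (.node (.node (.leaf (0, 0)) (.leaf (14, 165))) (.node (.leaf (0, 0)) (.leaf (14, 459)))) (.node (.node (.leaf (14, 39)) (.leaf (3, 489))) (.node (.leaf (5, 318)) (.leaf (11, 409)))))) (.node (.node (.node (.node (.node (.leaf (0, 0)) (.leaf (1, 724))) (.leaf (19, 363))) (.node (.leaf (13, 171)) (.leaf (8, 553)))) (.node (.node (.leaf (0, 0)) (.leaf (11, 422))) (.node (.leaf (8, 297)) (.leaf (19, 367))))) (.node (.node (.node (.leaf (14, 59)) (.leaf (12, 425))) (.node (.leaf (20, 34)) (.leaf (12, 329)))) (.node (.node (.leaf (0, 0)) (.leaf (14, 203))) (.node (.leaf (0, 0)) (.leaf (19, 447))))))))))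

def threeVia10 : Janko.Tree (ℕ × ℕ) :=
  (.node (.node (.node (.node (.node (.node (.node (.node (.node (.leaf (0, 0)) (.leaf (17, 700))) (.leaf (10, 117))) (.node (.leaf (11, 172)) (.leaf (20, 466)))) (.node (.node (.leaf (7, 159)) (.leaf (15, 341))) (.node (.leaf (20, 663)) (.leaf (9, 332))))) (.node (.node (.node (.node (.leaf (0, 0)) (.leaf (9, 375))) (.leaf (16, 385))) (.node (.leaf (10, 323)) (.leaf (16, 709)))) (.node (.node (.leaf (0, 0)) (.leaf (9, 218))) (.node (.leaf (7, 300)) (.leaf (20, 377)))))) (.node (.node (.node (.node (.node (.leaf (0, 44)) (.leaf (20, 711))) (.leaf (16, 443))) (.node (.leaf (0, 0)) (.leaf (9, 267)))) (.node (.node (.leaf (11, 93)) (.leaf (20, 513))) (.node (.leaf (9, 93)) (.leaf (11, 719))))) (.node (.node (.node (.leaf (0, 0)) (.leaf (9, 166))) (.node (.leaf (7, 236)) (.leaf (16, 577)))) (.node (.node (.leaf (10, 40)) (.leaf (17, 227))) (.node (.leaf (0, 0)) (.leaf (10, 720))))))) (.node (.node (.node (.node (.node (.node (.leaf (17, 87)) (.leaf (6, 649))) (.leaf (20, 500))) (.node (.leaf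 (10, 133)) (.leaf (17, 295)))) (.node (.node (.leaf (4, 97)) (.leaf (10, 425))) (.node (.leaf (17, 28)) (.leaf (20, 528))))) (.node (.node (.node (.leaf (9, 135)) (.leaf (17, 654))) (.node (.leaf (20, 68)) (.leaf (9, 457)))) (.node (.node (.leaf (16, 58)) (.leaf (13, 481))) (.node (.leaf (10, 618)) (.leaf (17, 427)))))) (.node (.node (.node (.node (.node (.leaf (0, 0)) (.leaf (7, 716))) (.leaf (9, 147))) (.node (.leaf (15, 149)) (.leaf (20, 518)))) (.node (.node (.leaf (10, 348)) (.leaf (16, 175))) (.node (.leaf (9, 289)) (.leaf (9, 391))))) (.node (.node (.node (.leaf (17, 231)) (.leaf (9, 417))) (.node (.leaf (6, 404)) (.leaf (17, 679)))) (.node (.node (.leaf (0, 0)) (.leaf (9, 643))) (.node (.leaf (15, 128)) (.leaf (20, 644)))))))) (.node (.node (.node (.node (.node (.node (.node (.leaf (0, 7)) (.leaf (20, 213))) (.leaf (17, 720))) (.node (.leaf (12, 1)) (.leaf (10, 586)))) (.node (.node (.leaf (11, 88)) (.leaf (20, 181))) (.node (.leaf (10, 163)) (.leaf (17, 718))))) (.node (.node (.node (.node (.leaf (20, 348)) (.leaf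 (20, 337))) (.leaf (9, 158))) (.node (.leaf (15, 584)) (.leaf (16, 439)))) (.node (.node (.leaf (9, 30)) (.leaf (15, 690))) (.node (.leaf (20, 306)) (.leaf (7, 694)))))) (.node (.node (.node (.node (.node (.leaf (15, 6)) (.leaf (9, 715))) (.leaf (0, 0))) (.node (.leaf (8, 60)) (.leaf (11, 540)))) (.node (.node (.leaf (20, 27)) (.leaf (9, 541))) (.node (.leaf (17, 537)) (.leaf (20, 464))))) (.node (.node (.node (.leaf (6, 22)) (.leaf (17, 184))) (.node (.leaf (12, 2)) (.leaf (10, 440)))) (.node (.node (.leaf (11, 263)) (.leaf (20, 499))) (.node (.leaf (6, 125)) (.leaf (17, 497))))))) (.node (.node (.node (.node (.node (.node (.leaf (0, 0)) (.leaf (17, 434))) (.leaf (8, 140))) (.node (.leaf (16, 527)) (.leaf (20, 669)))) (.node (.node (.leaf (0, 0)) (.leaf (15, 193))) (.node (.leaf (20, 255)) (.leaf (10, 670))))) (.node (.node (.node (.leaf (17, 13)) (.leaf (20, 503))) (.node (.leaf (9, 101)) (.leaf (16, 508)))) (.node (.node (.leaf (0, 0)) (.leaf (10, 224))) (.node (.leaf (7, 316)) (.leaf (12, 161)))))) (.node (.node (.node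 (.node (.node (.leaf (0, 0)) (.leaf (4, 721))) (.leaf (17, 150))) (.node (.leaf (0, 0)) (.leaf (8, 682)))) (.node (.node (.leaf (17, 33)) (.leaf (0, 0))) (.node (.leaf (0, 0)) (.leaf (16, 683))))) (.node (.node (.node (.leaf (20, 18)) (.leaf (0, 0))) (.node (.leaf (17, 80)) (.leaf (18, 538)))) (.node (.node (.leaf (8, 334)) (.leaf (16, 483))) (.node (.leaf (4, 337)) (.leaf (6, 548))))))))) (.node (.node (.node (.node (.node (.node (.node (.node (.leaf (15, 88)) (.leaf (9, 223))) (.leaf (4, 345))) (.node (.leaf (0, 0)) (.leaf (17, 331)))) (.node (.node (.leaf (0, 0)) (.leaf (0, 0))) (.node (.leaf (15, 85)) (.leaf (4, 601))))) (.node (.node (.node (.node (.leaf (9, 9)) (.leaf (4, 0))) (.leaf (15, 452))) (.node (.leaf (20, 65)) (.leaf (6, 498)))) (.node (.node (.leaf (15, 35)) (.leaf (20, 689))) (.node (.leaf (0, 0)) (.leaf (15, 675)))))) (.node (.node (.node (.node (.node (.leaf (0, 0)) (.leaf (17, 709))) (.leaf (10, 373))) (.node (.leaf (17, 446)) (.leaf (18, 537)))) (.node (.node (.leaf (9, 347)) (.leaf (17, 516))) (.node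 (.leaf (0, 0)) (.leaf (9, 355))))) (.node (.node (.node (.leaf (11, 68)) (.leaf (0, 0))) (.node (.leaf (9, 74)) (.leaf (17, 422)))) (.node (.node (.leaf (20, 293)) (.leaf (10, 505))) (.node (.leaf (11, 324)) (.leaf (20, 260))))))) (.node (.node (.node (.node (.node (.node (.leaf (10, 43)) (.leaf (20, 551))) (.leaf (11, 341))) (.node (.leaf (20, 434)) (.leaf (9, 655)))) (.node (.node (.leaf (17, 165)) (.leaf (12, 58))) (.node (.leaf (10, 333)) (.leaf (16, 649))))) (.node (.node (.node (.leaf (20, 12)) (.leaf (10, 543))) (.node (.leaf (17, 72)) (.leaf (20, 577)))) (.node (.node (.leaf (9, 15)) (.leaf (11, 484))) (.node (.leaf (18, 114)) (.leaf (9, 270)))))) (.node (.node (.node (.node (.node (.leaf (16, 333)) (.leaf (10, 661))) (.leaf (18, 377))) (.node (.leaf (10, 80)) (.leaf (15, 478)))) (.node (.node (.leaf (20, 31)) (.leaf (10, 252))) (.node (.leaf (6, 24)) (.leaf (0, 0))))) (.node (.node (.node (.leaf (9, 17)) (.leaf (17, 561))) (.node (.leaf (20, 244)) (.leaf (9, 325)))) (.node (.node (.leaf (16, 45)) (.leaf (20, 447)))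 (.node (.leaf (10, 283)) (.leaf (17, 597)))))))) (.node (.node (.node (.node (.node (.node (.node (.leaf (0, 0)) (.leaf (17, 714))) (.leaf (10, 121))) (.node (.leaf (16, 51)) (.leaf (20, 263)))) (.node (.node (.leaf (10, 129)) (.leaf (16, 568))) (.node (.leaf (0, 0)) (.leaf (9, 336))))) (.node (.node (.node (.leaf (16, 10)) (.leaf (0, 0))) (.node (.leaf (9, 67)) (.leaf (16, 418)))) (.node (.node (.leaf (20, 37)) (.leaf (7, 222))) (.node (.leaf (6, 26)) (.leaf (20, 646)))))) (.node (.node (.node (.node (.node (.leaf (10, 136)) (.leaf (4, 713))) (.leaf (15, 376))) (.node (.leaf (9, 201)) (.leaf (10, 271)))) (.node (.node (.leaf (11, 269)) (.leaf (18, 457))) (.node (.leaf (9, 608)) (.leaf (15, 601))))) (.node (.node (.node (.leaf (16, 73)) (.leaf (10, 607))) (.node (.leaf (7, 596)) (.leaf (18, 585)))) (.node (.node (.leaf (0, 159)) (.leaf (17, 611))) (.node (.leaf (16, 329)) (.leaf (0, 671))))))) (.node (.node (.node (.node (.node (.node (.leaf (2, 20)) (.leaf (0, 703))) (.leaf (20, 420))) (.node (.leaf (8, 58)) (.leaf (16,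 266)))) (.node (.node (.leaf (0, 0)) (.leaf (0, 0))) (.node (.leaf (17, 529)) (.leaf (4, 617))))) (.node (.node (.node (.leaf (9, 462)) (.leaf (11, 100))) (.node (.leaf (0, 0)) (.leaf (8, 656)))) (.node (.node (.leaf (17, 39)) (.leaf (18, 489))) (.node (.leaf (9, 712)) (.leaf (16, 400)))))) (.node (.node (.node (.node (.node (.leaf (20, 199)) (.leaf (16, 617))) (.leaf (6, 584))) (.node (.leaf (17, 376)) (.leaf (4, 553)))) (.node (.node (.leaf (6, 37)) (.leaf (7, 468))) (.node (.leaf (9, 297)) (.leaf (10, 375))))) (.node (.node (.node (.leaf (17, 19)) (.leaf (18, 147))) (.node (.leaf (10, 359)) (.leaf (15, 454)))) (.node (.node (.leaf (0, 0)) (.leaf (9, 648))) (.node (.leaf (16, 328)) (.leaf (12, 61))))))))))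

def threeVia11 : Janko.Tree (ℕ × ℕ) :=
  (.node (.node (.node (.node (.node (.node (.node (.node (.node (.leaf (0, 0)) (.leaf (18, 661))) (.leaf (14, 667))) (.node (.leaf (0, 0)) (.leaf (14, 513)))) (.node (.node (.leaf (6, 87)) (.leaf (12, 428))) (.node (.leaf (19, 87)) (.leaf (14, 600))))) (.node (.node (.node (.node (.leaf (0, 0)) (.leaf (11, 693))) (.leaf (19, 141))) (.node (.leaf (14, 283)) (.leaf (19, 282)))) (.node (.node (.leaf (19, 129)) (.leaf (14, 415))) (.node (.leaf (15, 300)) (.leaf (19, 255)))))) (.node (.node (.node (.node (.node (.leaf (14, 72)) (.leaf (19, 488))) (.leaf (8, 364))) (.node (.leaf (7, 213)) (.leaf (1, 592)))) (.node (.node (.leaf (0, 0)) (.leaf (14, 73))) (.node (.leaf (13, 496)) (.leaf (19, 140))))) (.node (.node (.node (.leaf (0, 0)) (.leaf (11, 470))) (.node (.leaf (19, 457)) (.leaf (19, 577)))) (.node (.node (.leaf (13, 48)) (.leaf (19, 227))) (.node (.leaf (20, 69)) (.leaf (11, 414))))))) (.node (.node (.node (.node (.node (.node (.leaf (19, 53)) (.leaf (12, 609))) (.leaf (19, 72))) (.node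 (.leaf (0, 0)) (.leaf (18, 525)))) (.node (.node (.leaf (0, 0)) (.leaf (11, 613))) (.node (.leaf (19, 533)) (.leaf (14, 609))))) (.node (.node (.node (.leaf (13, 11)) (.leaf (12, 672))) (.node (.leaf (5, 225)) (.leaf (12, 722)))) (.node (.node (.leaf (0, 0)) (.leaf (17, 487))) (.node (.leaf (12, 515)) (.leaf (15, 652)))))) (.node (.node (.node (.node (.node (.leaf (0, 0)) (.leaf (19, 678))) (.leaf (13, 55))) (.node (.leaf (19, 242)) (.leaf (19, 545)))) (.node (.node (.leaf (11, 541)) (.leaf (18, 458))) (.node (.leaf (0, 0)) (.leaf (13, 365))))) (.node (.node (.node (.leaf (0, 0)) (.leaf (14, 417))) (.node (.leaf (0, 0)) (.leaf (3, 588)))) (.node (.node (.leaf (20, 161)) (.leaf (1, 503))) (.node (.leaf (0, 0)) (.leaf (17, 637)))))))) (.node (.node (.node (.node (.node (.node (.node (.leaf (0, 0)) (.leaf (5, 689))) (.leaf (19, 617))) (.node (.leaf (20, 177)) (.leaf (14, 689)))) (.node (.node (.leaf (0, 0)) (.leaf (20, 185))) (.node (.leaf (12, 87)) (.leaf (18, 254))))) (.node (.node (.node (.leaf (8, 1)) (.leaf (13, 639)))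 (.node (.leaf (19, 224)) (.leaf (6, 50)))) (.node (.node (.leaf (13, 36)) (.leaf (3, 476))) (.node (.leaf (20, 245)) (.leaf (11, 615)))))) (.node (.node (.node (.node (.node (.leaf (8, 28)) (.leaf (14, 706))) (.leaf (20, 369))) (.node (.leaf (13, 372)) (.leaf (8, 728)))) (.node (.node (.leaf (12, 67)) (.leaf (1, 455))) (.node (.leaf (19, 554)) (.leaf (20, 625))))) (.node (.node (.node (.leaf (13, 15)) (.leaf (18, 519))) (.node (.leaf (20, 241)) (.leaf (14, 633)))) (.node (.node (.leaf (0, 0)) (.leaf (19, 233))) (.node (.leaf (11, 348)) (.leaf (8, 668))))))) (.node (.node (.node (.node (.node (.node (.leaf (0, 0)) (.leaf (15, 262))) (.leaf (11, 502))) (.node (.leaf (15, 188)) (.leaf (19, 529)))) (.node (.node (.leaf (0, 0)) (.leaf (18, 614))) (.node (.leaf (14, 46)) (.leaf (1, 615))))) (.node (.node (.node (.leaf (0, 0)) (.leaf (19, 401))) (.node (.leaf (13, 70)) (.leaf (18, 636)))) (.node (.node (.leaf (20, 145)) (.leaf (14, 121))) (.node (.leaf (19, 575)) (.leaf (19, 657)))))) (.node (.node (.node (.node (.node (.leaf (1,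 39)) (.leaf (20, 604))) (.leaf (18, 151))) (.node (.leaf (20, 209)) (.leaf (1, 551)))) (.node (.node (.leaf (19, 236)) (.leaf (20, 465))) (.node (.leaf (0, 0)) (.leaf (18, 572))))) (.node (.node (.node (.leaf (5, 81)) (.leaf (6, 423))) (.node (.leaf (19, 80)) (.leaf (19, 320)))) (.node (.node (.leaf (0, 0)) (.leaf (12, 508))) (.node (.leaf (6, 375)) (.leaf (12, 560))))))))) (.node (.node (.node (.node (.node (.node (.node (.node (.leaf (0, 0)) (.leaf (14, 725))) (.leaf (20, 134))) (.node (.leaf (1, 175)) (.leaf (19, 569)))) (.node (.node (.leaf (0, 0)) (.leaf (14, 438))) (.node (.leaf (3, 260)) (.leaf (20, 393))))) (.node (.node (.node (.node (.leaf (13, 369)) (.leaf (5, 0))) (.leaf (19, 452))) (.node (.leaf (17, 14)) (.leaf (1, 559)))) (.node (.node (.leaf (3, 132)) (.leaf (14, 150))) (.node (.leaf (0, 0)) (.leaf (19, 701)))))) (.node (.node (.node (.node (.node (.leaf (20, 246)) (.leaf (18, 534))) (.leaf (14, 370))) (.node (.leaf (0, 0)) (.leaf (5, 537)))) (.node (.node (.leaf (14, 117)) (.leaf (19, 365))) (.node (.leaf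 (19, 283)) (.leaf (14, 351))))) (.node (.node (.node (.leaf (19, 14)) (.leaf (10, 409))) (.node (.leaf (13, 211)) (.leaf (19, 429)))) (.node (.node (.leaf (20, 425)) (.leaf (13, 692))) (.node (.leaf (0, 0)) (.leaf (20, 665))))))) (.node (.node (.node (.node (.node (.node (.leaf (11, 2)) (.leaf (18, 229))) (.leaf (0, 0))) (.node (.leaf (19, 115)) (.leaf (11, 579)))) (.node (.node (.leaf (15, 162)) (.leaf (20, 439))) (.node (.leaf (13, 633)) (.leaf (3, 678))))) (.node (.node (.node (.leaf (5, 57)) (.leaf (14, 452))) (.node (.leaf (19, 593)) (.leaf (14, 569)))) (.node (.node (.leaf (14, 38)) (.leaf (19, 369))) (.node (.leaf (20, 313)) (.leaf (13, 364)))))) (.node (.node (.node (.node (.node (.leaf (0, 0)) (.leaf (1, 719))) (.leaf (0, 0))) (.node (.leaf (11, 451)) (.leaf (18, 495)))) (.node (.node (.leaf (5, 121)) (.leaf (11, 264))) (.node (.leaf (19, 142)) (.leaf (20, 633))))) (.node (.node (.node (.leaf (13, 223)) (.leaf (12, 364))) (.node (.leaf (17, 249)) (.leaf (13, 325)))) (.node (.node (.leaf (0, 0)) (.leaf (14, 242)))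 (.node (.leaf (1, 568)) (.leaf (19, 631)))))))) (.node (.node (.node (.node (.node (.node (.node (.leaf (0, 0)) (.leaf (3, 692))) (.leaf (11, 393))) (.node (.leaf (19, 189)) (.leaf (20, 163)))) (.node (.node (.leaf (11, 498)) (.leaf (15, 436))) (.node (.leaf (14, 265)) (.leaf (14, 608))))) (.node (.node (.node (.leaf (0, 0)) (.leaf (17, 393))) (.node (.leaf (13, 30)) (.leaf (19, 421)))) (.node (.node (.leaf (5, 137)) (.leaf (13, 282))) (.node (.leaf (15, 308)) (.leaf (17, 667)))))) (.node (.node (.node (.node (.node (.leaf (14, 224)) (.leaf (20, 713))) (.leaf (18, 376))) (.node (.leaf (8, 13)) (.leaf (13, 272)))) (.node (.node (.leaf (19, 108)) (.leaf (7, 518))) (.node (.leaf (14, 70)) (.leaf (0, 0))))) (.node (.node (.node (.leaf (8, 2)) (.leaf (13, 261))) (.node (.leaf (15, 244)) (.leaf (19, 326)))) (.node (.node (.leaf (1, 159)) (.leaf (18, 233))) (.node (.leaf (19, 33)) (.leaf (6, 671))))))) (.node (.node (.node (.node (.node (.node (.leaf (0, 0)) (.leaf (14, 715))) (.leaf (8, 473))) (.node (.leaf (0, 0)) (.leaf (19,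 543)))) (.node (.node (.leaf (19, 105)) (.leaf (0, 0))) (.node (.leaf (19, 92)) (.leaf (20, 617))))) (.node (.node (.node (.leaf (14, 197)) (.leaf (19, 325))) (.node (.leaf (18, 15)) (.leaf (14, 682)))) (.node (.node (.leaf (19, 39)) (.leaf (19, 489))) (.node (.leaf (14, 366)) (.leaf (18, 258)))))) (.node (.node (.node (.node (.node (.leaf (0, 0)) (.leaf (18, 717))) (.leaf (12, 440))) (.node (.leaf (0, 0)) (.leaf (10, 553)))) (.node (.node (.leaf (14, 37)) (.leaf (0, 0))) (.node (.leaf (20, 449)) (.leaf (14, 375))))) (.node (.node (.node (.leaf (0, 0)) (.leaf (17, 425))) (.node (.leaf (14, 471)) (.leaf (8, 378)))) (.node (.node (.leaf (20, 46)) (.leaf (6, 511))) (.node (.leaf (19, 360)) (.leaf (20, 505))))))))))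

def threeVia12 : Janko.Tree (ℕ × ℕ) :=
  (.node (.node (.node (.node (.node (.node (.node (.node (.node (.leaf (0, 0)) (.leaf (18, 684))) (.leaf (16, 132))) (.node (.leaf (13, 172)) (.leaf (6, 561)))) (.node (.node (.leaf (17, 48)) (.leaf (18, 428))) (.node (.leaf (9, 271)) (.leaf (16, 332))))) (.node (.node (.node (.node (.leaf (0, 0)) (.leaf (7, 727))) (.leaf (0, 0))) (.node (.leaf (15, 65)) (.leaf (20, 553)))) (.node (.node (.leaf (7, 36)) (.leaf (16, 218))) (.node (.leaf (13, 300)) (.leaf (10, 696)))))) (.node (.node (.node (.node (.node (.leaf (17, 90)) (.leaf (9, 728))) (.leaf (4, 364))) (.node (.leaf (10, 214)) (.leaf (16, 112)))) (.node (.node (.leaf (20, 305)) (.leaf (9, 196))) (.node (.leaf (16, 93)) (.leaf (20, 418))))) (.node (.node (.node (.leaf (0, 0)) (.leaf (17, 412))) (.node (.leaf (20, 191)) (.leaf (10, 506)))) (.node (.node (.leaf (16, 43)) (.leaf (20, 696))) (.node (.leaf (10, 190)) (.leaf (15, 414))))))) (.node (.node (.node (.node (.node (.node (.leaf (20, 188)) (.leaf (17, 703))) (.leaf (9, 138)))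 (.node (.leaf (15, 396)) (.leaf (12, 85)))) (.node (.node (.leaf (0, 161)) (.leaf (15, 190))) (.node (.leaf (20, 541)) (.leaf (8, 523))))) (.node (.node (.node (.leaf (7, 55)) (.leaf (20, 608))) (.node (.leaf (10, 320)) (.leaf (17, 426)))) (.node (.node (.leaf (0, 0)) (.leaf (10, 673))) (.node (.leaf (16, 109)) (.leaf (4, 652)))))) (.node (.node (.node (.node (.node (.leaf (7, 7)) (.leaf (20, 355))) (.leaf (11, 375))) (.node (.leaf (20, 461)) (.leaf (7, 301)))) (.node (.node (.leaf (17, 541)) (.leaf (12, 62))) (.node (.leaf (9, 130)) (.leaf (16, 591))))) (.node (.node (.node (.leaf (20, 116)) (.leaf (0, 0))) (.node (.leaf (17, 101)) (.leaf (18, 588)))) (.node (.node (.leaf (10, 45)) (.leaf (16, 411))) (.node (.leaf (0, 0)) (.leaf (8, 524)))))))) (.node (.node (.node (.node (.node (.node (.node (.leaf (0, 0)) (.leaf (0, 690))) (.leaf (20, 49))) (.node (.leaf (8, 312)) (.leaf (6, 710)))) (.node (.node (.leaf (0, 0)) (.leaf (10, 311))) (.node (.leaf (17, 91)) (.leaf (0, 0))))) (.node (.node (.node (.leaf (0, 0)) (.leaf (6, 97)))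 (.node (.leaf (20, 66)) (.leaf (6, 609)))) (.node (.node (.leaf (16, 36)) (.leaf (18, 476))) (.node (.leaf (0, 0)) (.leaf (15, 615)))))) (.node (.node (.node (.node (.node (.leaf (20, 119)) (.leaf (15, 582))) (.leaf (7, 582))) (.node (.leaf (17, 255)) (.leaf (9, 392)))) (.node (.node (.leaf (0, 114)) (.leaf (16, 187))) (.node (.leaf (16, 118)) (.leaf (6, 689))))) (.node (.node (.node (.leaf (11, 71)) (.leaf (13, 85))) (.node (.leaf (8, 454)) (.leaf (17, 633)))) (.node (.node (.leaf (18, 391)) (.leaf (10, 460))) (.node (.leaf (17, 383)) (.leaf (20, 585))))))) (.node (.node (.node (.node (.node (.node (.leaf (10, 2)) (.leaf (18, 700))) (.leaf (17, 191))) (.node (.leaf (20, 55)) (.leaf (10, 346)))) (.node (.node (.leaf (11, 53)) (.leaf (20, 417))) (.node (.leaf (10, 280)) (.leaf (17, 629))))) (.node (.node (.node (.leaf (0, 0)) (.leaf (10, 600))) (.node (.leaf (17, 233)) (.leaf (16, 430)))) (.node (.node (.leaf (0, 0)) (.leaf (17, 622))) (.node (.leaf (20, 205)) (.leaf (8, 266)))))) (.node (.node (.node (.node (.node (.leaf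 (0, 0)) (.leaf (9, 604))) (.leaf (20, 642))) (.node (.leaf (10, 123)) (.leaf (11, 551)))) (.node (.node (.leaf (0, 0)) (.leaf (8, 210))) (.node (.leaf (17, 570)) (.leaf (4, 636))))) (.node (.node (.node (.leaf (0, 82)) (.leaf (16, 339))) (.node (.leaf (20, 310)) (.leaf (7, 701)))) (.node (.node (.leaf (15, 400)) (.leaf (9, 301))) (.node (.leaf (9, 320)) (.leaf (15, 638))))))))) (.node (.node (.node (.node (.node (.node (.node (.node (.leaf (0, 0)) (.leaf (17, 635))) (.leaf (9, 172))) (.node (.leaf (11, 175)) (.leaf (0, 0)))) (.node (.node (.leaf (6, 366)) (.leaf (16, 519))) (.node (.leaf (20, 274)) (.leaf (10, 305))))) (.node (.node (.node (.node (.leaf (16, 164)) (.leaf (6, 0))) (.leaf (20, 363))) (.node (.leaf (7, 356)) (.leaf (17, 651)))) (.node (.node (.leaf (0, 0)) (.leaf (10, 582))) (.node (.leaf (15, 406)) (.leaf (20, 701)))))) (.node (.node (.node (.node (.node (.leaf (0, 0)) (.leaf (20, 707))) (.leaf (17, 370))) (.node (.leaf (0, 0)) (.leaf (6, 269)))) (.node (.node (.leaf (17, 281)) (.leaf (20, 676))) (.node (.leaf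 (9, 415)) (.leaf (16, 440))))) (.node (.node (.node (.leaf (13, 68)) (.leaf (7, 181))) (.node (.leaf (11, 239)) (.leaf (20, 422)))) (.node (.node (.leaf (0, 0)) (.leaf (7, 495))) (.node (.leaf (0, 0)) (.leaf (8, 411))))))) (.node (.node (.node (.node (.node (.node (.leaf (0, 0)) (.leaf (8, 678))) (.leaf (13, 152))) (.node (.leaf (10, 349)) (.leaf (16, 264)))) (.node (.node (.leaf (20, 35)) (.leaf (10, 238))) (.node (.leaf (11, 271)) (.leaf (18, 612))))) (.node (.node (.node (.leaf (0, 58)) (.leaf (17, 333))) (.node (.leaf (20, 492)) (.leaf (8, 602)))) (.node (.node (.leaf (7, 63)) (.leaf (13, 484))) (.node (.leaf (9, 433)) (.leaf (16, 621)))))) (.node (.node (.node (.node (.node (.leaf (0, 0)) (.leaf (15, 347))) (.leaf (8, 329))) (.node (.leaf (16, 63)) (.leaf (20, 495)))) (.node (.node (.leaf (9, 83)) (.leaf (17, 207))) (.node (.leaf (20, 436)) (.leaf (8, 367))))) (.node (.node (.node (.leaf (16, 17)) (.leaf (20, 561))) (.node (.leaf (10, 461)) (.leaf (16, 325)))) (.node (.node (.leaf (0, 0)) (.leaf (6, 485))) (.node (.leaf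 (2, 599)) (.leaf (20, 198)))))))) (.node (.node (.node (.node (.node (.node (.node (.leaf (0, 0)) (.leaf (20, 493))) (.leaf (16, 137))) (.node (.leaf (0, 0)) (.leaf (9, 542)))) (.node (.node (.leaf (17, 268)) (.leaf (20, 292))) (.node (.leaf (10, 707)) (.leaf (17, 608))))) (.node (.node (.node (.leaf (0, 0)) (.leaf (10, 404))) (.node (.leaf (16, 67)) (.leaf (9, 437)))) (.node (.node (.leaf (0, 138)) (.leaf (17, 592))) (.node (.leaf (18, 308)) (.leaf (7, 450)))))) (.node (.node (.node (.node (.node (.leaf (17, 98)) (.leaf (10, 694))) (.leaf (18, 650))) (.node (.leaf (9, 327)) (.leaf (17, 290)))) (.node (.node (.leaf (20, 250)) (.leaf (0, 697))) (.node (.leaf (17, 540)) (.leaf (13, 628))))) (.node (.node (.node (.leaf (0, 0)) (.leaf (16, 455))) (.node (.leaf (20, 108)) (.leaf (9, 330)))) (.node (.node (.leaf (17, 137)) (.leaf (20, 353))) (.node (.leaf (7, 631)) (.leaf (17, 494))))))) (.node (.node (.node (.node (.node (.node (.leaf (0, 0)) (.leaf (15, 528))) (.leaf (10, 230))) (.node (.leaf (15, 58)) (.leaf (0, 0)))) (.node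 (.node (.leaf (9, 568)) (.leaf (17, 652))) (.node (.leaf (0, 0)) (.leaf (10, 619))))) (.node (.node (.node (.leaf (6, 6)) (.leaf (16, 435))) (.node (.leaf (9, 631)) (.leaf (16, 545)))) (.node (.node (.leaf (13, 148)) (.leaf (8, 492))) (.node (.leaf (11, 138)) (.leaf (20, 680)))))) (.node (.node (.node (.node (.node (.leaf (9, 8)) (.leaf (13, 645))) (.leaf (16, 367))) (.node (.leaf (0, 0)) (.leaf (8, 260)))) (.node (.node (.leaf (6, 9)) (.leaf (13, 141))) (.node (.leaf (0, 0)) (.leaf (17, 375))))) (.node (.node (.node (.leaf (0, 0)) (.leaf (10, 499))) (.node (.leaf (15, 83)) (.leaf (20, 342)))) (.node (.node (.leaf (10, 262)) (.leaf (17, 458))) (.node (.leaf (20, 419)) (.leaf (10, 594))))))))))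

def threeVia13 : Janko.Tree (ℕ × ℕ) :=
  (.node (.node (.node (.node (.node (.node (.node (.node (.node (.leaf (0, 0)) (.leaf (20, 684))) (.leaf (15, 343))) (.node (.leaf (14, 100)) (.leaf (14, 91)))) (.node (.node (.leaf (0, 0)) (.leaf (14, 173))) (.node (.leaf (14, 264)) (.leaf (0, 0))))) (.node (.node (.node (.node (.leaf (7, 1)) (.leaf (15, 727))) (.leaf (13, 566))) (.node (.leaf (0, 0)) (.leaf (20, 556)))) (.node (.node (.leaf (14, 587)) (.leaf (18, 508))) (.node (.leaf (10, 300)) (.leaf (13, 416)))))) (.node (.node (.node (.node (.node (.leaf (19, 95)) (.leaf (14, 708))) (.leaf (0, 0))) (.node (.leaf (11, 60)) (.leaf (0, 0)))) (.node (.node (.leaf (17, 108)) (.leaf (11, 689))) (.node (.leaf (18, 283)) (.leaf (17, 382))))) (.node (.node (.node (.leaf (14, 113)) (.leaf (12, 274))) (.node (.leaf (10, 204)) (.leaf (14, 260)))) (.node (.node (.leaf (15, 151)) (.leaf (20, 122))) (.node (.leaf (11, 123)) (.leaf (19, 680))))))) (.node (.node (.node (.node (.node (.node (.leaf (0, 0)) (.leaf (19, 703))) (.leaf (14, 290))) (.node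 (.leaf (19, 343)) (.leaf (20, 524)))) (.node (.node (.leaf (14, 22)) (.leaf (3, 638))) (.node (.leaf (0, 0)) (.leaf (14, 711))))) (.node (.node (.node (.leaf (0, 0)) (.leaf (19, 130))) (.node (.leaf (0, 0)) (.leaf (19, 192)))) (.node (.node (.leaf (6, 1)) (.leaf (14, 483))) (.node (.leaf (19, 120)) (.leaf (19, 652)))))) (.node (.node (.node (.node (.node (.leaf (14, 322)) (.leaf (19, 716))) (.leaf (12, 375))) (.node (.leaf (5, 204)) (.leaf (6, 546)))) (.node (.node (.leaf (19, 313)) (.leaf (20, 460))) (.node (.leaf (14, 98)) (.leaf (15, 568))))) (.node (.node (.node (.leaf (20, 76)) (.leaf (13, 619))) (.node (.leaf (19, 459)) (.leaf (14, 340)))) (.node (.node (.leaf (14, 209)) (.leaf (0, 0))) (.node (.leaf (19, 332)) (.leaf (12, 533)))))))) (.node (.node (.node (.node (.node (.node (.node (.leaf (0, 0)) (.leaf (12, 668))) (.leaf (20, 133))) (.node (.leaf (0, 0)) (.leaf (18, 256)))) (.node (.node (.leaf (20, 70)) (.leaf (12, 294))) (.node (.leaf (0, 0)) (.leaf (19, 336))))) (.node (.node (.node (.leaf (0, 0)) (.leaf (18, 295)))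 (.node (.leaf (20, 302)) (.leaf (1, 562)))) (.node (.node (.leaf (0, 0)) (.leaf (20, 697))) (.node (.leaf (14, 108)) (.leaf (19, 675)))))) (.node (.node (.node (.node (.node (.leaf (0, 0)) (.leaf (3, 711))) (.leaf (13, 651))) (.node (.leaf (19, 437)) (.leaf (20, 540)))) (.node (.node (.leaf (13, 76)) (.leaf (0, 0))) (.node (.leaf (5, 284)) (.leaf (13, 655))))) (.node (.node (.node (.leaf (0, 0)) (.leaf (20, 412))) (.node (.leaf (0, 0)) (.leaf (19, 633)))) (.node (.node (.leaf (17, 156)) (.leaf (14, 233))) (.node (.leaf (0, 0)) (.leaf (19, 338))))))) (.node (.node (.node (.node (.node (.node (.leaf (14, 2)) (.leaf (19, 700))) (.leaf (19, 620))) (.node (.leaf (0, 0)) (.leaf (13, 582)))) (.node (.node (.leaf (0, 0)) (.leaf (19, 123))) (.node (.leaf (0, 0)) (.leaf (12, 615))))) (.node (.node (.node (.leaf (6, 0)) (.leaf (14, 461))) (.node (.leaf (0, 0)) (.leaf (10, 572)))) (.node (.node (.leaf (1, 315)) (.leaf (15, 487))) (.node (.leaf (20, 316)) (.leaf (13, 728)))))) (.node (.node (.node (.node (.node (.leaf (0, 0)) (.leaf (14,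 634))) (.leaf (20, 83))) (.node (.leaf (14, 87)) (.leaf (12, 551)))) (.node (.node (.leaf (17, 140)) (.leaf (14, 448))) (.node (.leaf (12, 295)) (.leaf (20, 636))))) (.node (.node (.node (.leaf (0, 0)) (.leaf (19, 635))) (.node (.leaf (5, 252)) (.leaf (6, 594)))) (.node (.node (.leaf (3, 167)) (.leaf (19, 508))) (.node (.leaf (0, 0)) (.leaf (19, 355))))))))) (.node (.node (.node (.node (.node (.node (.node (.node (.leaf (0, 0)) (.leaf (15, 687))) (.leaf (13, 444))) (.node (.leaf (0, 0)) (.leaf (10, 516)))) (.node (.node (.leaf (13, 366)) (.leaf (19, 391))) (.node (.leaf (19, 91)) (.leaf (14, 334))))) (.node (.node (.node (.node (.leaf (0, 0)) (.leaf (7, 0))) (.leaf (20, 388))) (.node (.leaf (14, 525)) (.leaf (19, 339)))) (.node (.node (.leaf (10, 132)) (.leaf (13, 609))) (.node (.leaf (18, 242)) (.leaf (19, 625)))))) (.node (.node (.node (.node (.node (.leaf (0, 0)) (.leaf (19, 708))) (.leaf (0, 0))) (.node (.leaf (0, 0)) (.leaf (14, 611)))) (.node (.node (.leaf (18, 312)) (.leaf (10, 452))) (.node (.leaf (13, 94)) (.leaf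 (18, 355))))) (.node (.node (.node (.leaf (0, 0)) (.leaf (12, 168))) (.node (.leaf (0, 0)) (.leaf (14, 599)))) (.node (.node (.leaf (0, 0)) (.leaf (0, 0))) (.node (.leaf (17, 465)) (.leaf (14, 664))))))) (.node (.node (.node (.node (.node (.node (.leaf (0, 0)) (.leaf (14, 552))) (.leaf (10, 470))) (.node (.leaf (14, 41)) (.leaf (19, 663)))) (.node (.node (.leaf (10, 53)) (.leaf (11, 649))) (.node (.leaf (19, 89)) (.leaf (14, 612))))) (.node (.node (.node (.leaf (0, 0)) (.leaf (18, 718))) (.node (.leaf (17, 138)) (.leaf (11, 524)))) (.node (.node (.leaf (8, 143)) (.leaf (8, 67))) (.node (.leaf (12, 245)) (.leaf (15, 655)))))) (.node (.node (.node (.node (.node (.leaf (0, 0)) (.leaf (3, 719))) (.leaf (13, 411))) (.node (.leaf (15, 207)) (.leaf (14, 548)))) (.node (.node (.leaf (0, 0)) (.leaf (19, 247))) (.node (.leaf (17, 292)) (.leaf (14, 637))))) (.node (.node (.node (.leaf (18, 306)) (.leaf (14, 420))) (.node (.leaf (6, 250)) (.leaf (15, 591)))) (.node (.node (.leaf (20, 164)) (.leaf (14, 508))) (.node (.leaf (0, 0)) (.leaf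 (7, 206)))))))) (.node (.node (.node (.node (.node (.node (.node (.leaf (0, 0)) (.leaf (19, 692))) (.leaf (18, 137))) (.node (.leaf (20, 180)) (.leaf (13, 450)))) (.node (.node (.leaf (19, 280)) (.leaf (10, 315))) (.node (.leaf (0, 0)) (.leaf (18, 721))))) (.node (.node (.node (.leaf (19, 11)) (.leaf (14, 562))) (.node (.leaf (3, 509)) (.leaf (19, 564)))) (.node (.node (.leaf (0, 0)) (.leaf (0, 0))) (.node (.leaf (20, 459)) (.leaf (11, 450)))))) (.node (.node (.node (.node (.node (.leaf (18, 6)) (.leaf (13, 704))) (.leaf (14, 372))) (.node (.leaf (0, 0)) (.leaf (19, 536)))) (.node (.node (.leaf (17, 530)) (.leaf (12, 662))) (.node (.leaf (18, 289)) (.leaf (20, 600))))) (.node (.node (.node (.leaf (14, 118)) (.leaf (19, 170))) (.node (.leaf (17, 585)) (.leaf (14, 712)))) (.node (.node (.leaf (0, 0)) (.leaf (20, 92))) (.node (.leaf (13, 590)) (.leaf (19, 691))))))) (.node (.node (.node (.node (.node (.node (.leaf (0, 0)) (.leaf (18, 727))) (.leaf (0, 0))) (.node (.leaf (0, 0)) (.leaf (17, 532)))) (.node (.node (.leaf (1, 302))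 (.leaf (3, 447))) (.node (.leaf (19, 276)) (.leaf (14, 619))))) (.node (.node (.node (.leaf (19, 204)) (.leaf (20, 201))) (.node (.leaf (13, 480)) (.leaf (15, 575)))) (.node (.node (.leaf (20, 375)) (.leaf (14, 537))) (.node (.leaf (0, 0)) (.leaf (6, 697)))))) (.node (.node (.node (.node (.node (.leaf (13, 8)) (.leaf (20, 724))) (.leaf (0, 0))) (.node (.leaf (0, 0)) (.leaf (13, 555)))) (.node (.node (.leaf (8, 127)) (.leaf (10, 468))) (.node (.leaf (14, 303)) (.leaf (15, 460))))) (.node (.node (.node (.leaf (20, 527)) (.leaf (0, 0))) (.node (.leaf (0, 0)) (.leaf (19, 596)))) (.node (.node (.leaf (13, 47)) (.leaf (18, 300))) (.node (.leaf (20, 620)) (.leaf (11, 506))))))))))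

def threeVia14 : Janko.Tree (ℕ × ℕ) :=
  (.node (.node (.node (.node (.node (.node (.node (.node (.node (.leaf (0, 0)) (.leaf (10, 715))) (.leaf (0, 0))) (.node (.leaf (10, 178)) (.leaf (16, 297)))) (.node (.node (.leaf (0, 0)) (.leaf (9, 550))) (.node (.leaf (17, 264)) (.leaf (16, 129))))) (.node (.node (.node (.node (.leaf (0, 0)) (.leaf (4, 727))) (.leaf (17, 510))) (.node (.leaf (0, 0)) (.leaf (6, 382)))) (.node (.node (.leaf (16, 34)) (.leaf (20, 218))) (.node (.leaf (0, 0)) (.leaf (15, 579)))))) (.node (.node (.node (.node (.node (.leaf (20, 98)) (.leaf (16, 311))) (.leaf (6, 158))) (.node (.leaf (11, 194)) (.leaf (4, 535)))) (.node (.node (.leaf (9, 185)) (.leaf (17, 689))) (.node (.leaf (0, 0)) (.leaf (10, 318))))) (.node (.node (.node (.leaf (15, 474)) (.leaf (12, 9))) (.node (.leaf (0, 0)) (.leaf (15, 566)))) (.node (.node (.leaf (20, 380)) (.leaf (8, 670))) (.node (.leaf (16, 713)) (.leaf (20, 455))))))) (.node (.node (.node (.node (.node (.node (.leaf (0, 0)) (.leaf (20, 714))) (.leaf (11, 543))) (.node (.leaf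 (18, 135)) (.leaf (10, 435)))) (.node (.node (.leaf (17, 271)) (.leaf (13, 439))) (.node (.leaf (10, 536)) (.leaf (15, 338))))) (.node (.node (.node (.leaf (4, 55)) (.leaf (10, 170))) (.node (.leaf (15, 69)) (.leaf (18, 236)))) (.node (.node (.leaf (7, 191)) (.leaf (15, 218))) (.node (.leaf (4, 311)) (.leaf (8, 400)))))) (.node (.node (.node (.node (.node (.leaf (0, 0)) (.leaf (6, 534))) (.leaf (4, 375))) (.node (.leaf (10, 394)) (.leaf (15, 703)))) (.node (.node (.leaf (20, 113)) (.leaf (10, 657))) (.node (.leaf (16, 99)) (.leaf (20, 364))))) (.node (.node (.node (.leaf (0, 201)) (.leaf (15, 172))) (.node (.leaf (20, 204)) (.leaf (8, 479)))) (.node (.node (.leaf (17, 82)) (.leaf (16, 503))) (.node (.leaf (10, 393)) (.leaf (11, 674)))))))) (.node (.node (.node (.node (.node (.node (.node (.leaf (0, 0)) (.leaf (15, 219))) (.leaf (10, 345))) (.node (.leaf (17, 658)) (.leaf (4, 519)))) (.node (.node (.leaf (10, 554)) (.leaf (16, 700))) (.node (.leaf (18, 263)) (.leaf (10, 414))))) (.node (.node (.node (.leaf (16, 155)) (.leaf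 (20, 157))) (.node (.leaf (10, 66)) (.leaf (17, 571)))) (.node (.node (.leaf (4, 135)) (.leaf (10, 479))) (.node (.leaf (15, 106)) (.leaf (20, 672)))))) (.node (.node (.node (.node (.node (.leaf (0, 0)) (.leaf (16, 711))) (.leaf (17, 468))) (.node (.leaf (20, 155)) (.leaf (10, 628)))) (.node (.node (.leaf (15, 32)) (.leaf (13, 455))) (.node (.leaf (9, 231)) (.leaf (17, 677))))) (.node (.node (.node (.leaf (0, 0)) (.leaf (8, 286))) (.node (.leaf (15, 204)) (.leaf (0, 0)))) (.node (.node (.leaf (9, 42)) (.leaf (16, 477))) (.node (.leaf (12, 33)) (.leaf (6, 707))))))) (.node (.node (.node (.node (.node (.node (.leaf (17, 228)) (.leaf (0, 701))) (.leaf (20, 329))) (.node (.leaf (10, 351)) (.leaf (16, 265)))) (.node (.node (.leaf (0, 0)) (.leaf (10, 622))) (.node (.leaf (15, 91)) (.leaf (13, 615))))) (.node (.node (.node (.leaf (0, 0)) (.leaf (15, 164))) (.node (.leaf (20, 285)) (.leaf (0, 573)))) (.node (.node (.leaf (15, 39)) (.leaf (20, 225))) (.node (.leaf (10, 203)) (.leaf (15, 398)))))) (.node (.node (.node (.node (.node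 (.leaf (0, 0)) (.leaf (17, 726))) (.leaf (10, 625))) (.node (.leaf (16, 148)) (.leaf (9, 551)))) (.node (.node (.leaf (0, 0)) (.leaf (7, 474))) (.node (.leaf (13, 433)) (.leaf (7, 704))))) (.node (.node (.node (.leaf (16, 517)) (.leaf (13, 423))) (.node (.leaf (10, 124)) (.leaf (17, 701)))) (.node (.node (.leaf (0, 0)) (.leaf (10, 640))) (.node (.leaf (11, 95)) (.leaf (4, 679))))))))) (.node (.node (.node (.node (.node (.node (.node (.node (.leaf (9, 36)) (.leaf (4, 687))) (.leaf (17, 580))) (.node (.leaf (0, 0)) (.leaf (9, 97)))) (.node (.node (.leaf (16, 542)) (.leaf (20, 60))) (.node (.leaf (10, 336)) (.leaf (15, 581))))) (.node (.node (.node (.node (.leaf (0, 0)) (.leaf (8, 0))) (.leaf (0, 0))) (.node (.leaf (15, 145)) (.leaf (20, 339)))) (.node (.node (.leaf (10, 134)) (.leaf (15, 214))) (.node (.leaf (9, 75)) (.leaf (8, 571)))))) (.node (.node (.node (.node (.node (.leaf (15, 4)) (.leaf (10, 726))) (.leaf (20, 562))) (.node (.leaf (7, 355)) (.leaf (15, 586)))) (.node (.node (.leaf (0, 0)) (.leaf (9, 439))) (.node (.leaf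 (16, 535)) (.leaf (20, 716))))) (.node (.node (.node (.leaf (0, 127)) (.leaf (17, 661))) (.node (.leaf (0, 0)) (.leaf (0, 581)))) (.node (.node (.leaf (15, 377)) (.leaf (20, 692))) (.node (.leaf (10, 207)) (.leaf (16, 413))))))) (.node (.node (.node (.node (.node (.node (.leaf (0, 0)) (.leaf (7, 698))) (.leaf (10, 465))) (.node (.leaf (17, 187)) (.leaf (4, 527)))) (.node (.node (.leaf (0, 0)) (.leaf (17, 454))) (.node (.leaf (20, 89)) (.leaf (8, 355))))) (.node (.node (.node (.leaf (17, 253)) (.leaf (0, 0))) (.node (.leaf (9, 478)) (.leaf (15, 299)))) (.node (.node (.leaf (16, 143)) (.leaf (10, 644))) (.node (.leaf (15, 112)) (.leaf (4, 655)))))) (.node (.node (.node (.node (.node (.leaf (10, 7)) (.leaf (16, 719))) (.leaf (17, 149))) (.node (.leaf (16, 379)) (.leaf (10, 550)))) (.node (.node (.leaf (6, 7)) (.leaf (20, 208))) (.node (.leaf (0, 0)) (.leaf (11, 634))))) (.node (.node (.node (.leaf (4, 79)) (.leaf (8, 497))) (.node (.leaf (17, 106)) (.leaf (4, 591)))) (.node (.node (.leaf (10, 46)) (.leaf (16, 482))) (.node (.leaf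 (0, 0)) (.leaf (9, 440)))))))) (.node (.node (.node (.node (.node (.node (.node (.leaf (15, 163)) (.leaf (7, 686))) (.leaf (20, 621))) (.node (.leaf (10, 185)) (.leaf (16, 262)))) (.node (.node (.leaf (20, 283)) (.leaf (8, 199))) (.node (.leaf (15, 26)) (.leaf (20, 160))))) (.node (.node (.node (.leaf (10, 114)) (.leaf (16, 388))) (.node (.leaf (4, 223)) (.leaf (7, 278)))) (.node (.node (.leaf (7, 138)) (.leaf (20, 547))) (.node (.leaf (0, 0)) (.leaf (15, 450)))))) (.node (.node (.node (.node (.node (.leaf (20, 120)) (.leaf (17, 692))) (.leaf (10, 474))) (.node (.leaf (17, 471)) (.leaf (20, 710)))) (.node (.node (.leaf (10, 343)) (.leaf (11, 458))) (.node (.leaf (20, 284)) (.leaf (9, 624))))) (.node (.node (.node (.leaf (16, 488)) (.leaf (20, 411))) (.node (.leaf (9, 567)) (.leaf (15, 531)))) (.node (.node (.leaf (0, 0)) (.leaf (6, 676))) (.node (.leaf (16, 631)) (.leaf (20, 609))))))) (.node (.node (.node (.node (.node (.node (.leaf (0, 0)) (.leaf (18, 703))) (.leaf (15, 442))) (.node (.leaf (16, 191)) (.leaf (10, 266))))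 (.node (.node (.leaf (16, 25)) (.leaf (20, 574))) (.node (.leaf (9, 177)) (.leaf (17, 619))))) (.node (.node (.node (.leaf (20, 13)) (.leaf (10, 334))) (.node (.leaf (16, 491)) (.leaf (9, 245)))) (.node (.node (.leaf (8, 326)) (.leaf (16, 76))) (.node (.leaf (0, 0)) (.leaf (9, 719)))))) (.node (.node (.node (.node (.node (.leaf (16, 207)) (.leaf (10, 636))) (.leaf (20, 441))) (.node (.leaf (9, 689)) (.leaf (17, 707)))) (.node (.node (.leaf (16, 127)) (.leaf (8, 211))) (.node (.leaf (16, 238)) (.leaf (13, 43))))) (.node (.node (.node (.leaf (10, 91)) (.leaf (16, 340))) (.node (.leaf (20, 378)) (.leaf (6, 379)))) (.node (.node (.leaf (16, 403)) (.leaf (20, 482))) (.node (.leaf (9, 407)) (.leaf (11, 307))))))))))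

def threeVia15 : Janko.Tree (ℕ × ℕ) :=
  (.node (.node (.node (.node (.node (.node (.node (.node (.node (.leaf (0, 0)) (.leaf (13, 457))) (.leaf (14, 343))) (.node (.leaf (0, 0)) (.leaf (19, 640)))) (.node (.node (.leaf (20, 87)) (.leaf (14, 629))) (.node (.leaf (0, 0)) (.leaf (20, 599))))) (.node (.node (.node (.node (.leaf (11, 9)) (.leaf (20, 475))) (.leaf (0, 0))) (.node (.leaf (0, 0)) (.leaf (14, 546)))) (.node (.node (.leaf (0, 0)) (.leaf (10, 74))) (.node (.leaf (14, 509)) (.leaf (18, 380)))))) (.node (.node (.node (.node (.node (.leaf (0, 0)) (.leaf (15, 706))) (.leaf (13, 627))) (.node (.leaf (12, 194)) (.leaf (20, 269)))) (.node (.node (.leaf (14, 111)) (.leaf (19, 510))) (.node (.leaf (20, 554)) (.leaf (14, 716))))) (.node (.node (.node (.leaf (0, 0)) (.leaf (14, 407))) (.node (.leaf (0, 0)) (.leaf (18, 469)))) (.node (.node (.leaf (20, 519)) (.leaf (14, 550))) (.node (.leaf (19, 637)) (.leaf (20, 521))))))) (.node (.node (.node (.node (.node (.node (.leaf (0, 0)) (.leaf (14, 585))) (.leaf (19, 235))) (.node (.leaf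 (8, 11)) (.leaf (14, 218)))) (.node (.node (.leaf (19, 94)) (.leaf (12, 253))) (.node (.leaf (0, 0)) (.leaf (15, 610))))) (.node (.node (.node (.leaf (0, 0)) (.leaf (6, 397))) (.node (.leaf (0, 0)) (.leaf (10, 567)))) (.node (.node (.leaf (0, 0)) (.leaf (19, 145))) (.node (.leaf (20, 311)) (.leaf (14, 644)))))) (.node (.node (.node (.node (.node (.leaf (0, 0)) (.leaf (14, 382))) (.leaf (0, 0))) (.node (.leaf (0, 0)) (.leaf (18, 693)))) (.node (.node (.leaf (18, 5)) (.leaf (14, 299))) (.node (.leaf (18, 99)) (.leaf (20, 631))))) (.node (.node (.node (.leaf (14, 16)) (.leaf (19, 331))) (.node (.leaf (20, 247)) (.leaf (11, 381)))) (.node (.node (.leaf (0, 0)) (.leaf (14, 503))) (.node (.leaf (14, 393)) (.leaf (18, 668)))))))) (.node (.node (.node (.node (.node (.node (.node (.leaf (0, 0)) (.leaf (3, 690))) (.leaf (13, 183))) (.node (.leaf (19, 132)) (.leaf (5, 642)))) (.node (.node (.leaf (0, 0)) (.leaf (15, 503))) (.node (.leaf (19, 263)) (.leaf (1, 605))))) (.node (.node (.node (.leaf (0, 0)) (.leaf (20, 391))) (.node (.leaf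 (12, 116)) (.leaf (15, 590)))) (.node (.node (.leaf (0, 0)) (.leaf (14, 353))) (.node (.leaf (18, 245)) (.leaf (10, 647)))))) (.node (.node (.node (.node (.node (.leaf (0, 0)) (.leaf (19, 711))) (.leaf (0, 0))) (.node (.leaf (17, 204)) (.leaf (14, 320)))) (.node (.node (.leaf (19, 312)) (.leaf (20, 401))) (.node (.leaf (14, 500)) (.leaf (19, 687))))) (.node (.node (.node (.leaf (0, 0)) (.leaf (14, 518))) (.node (.leaf (19, 203)) (.leaf (20, 214)))) (.node (.node (.leaf (13, 375)) (.leaf (12, 552))) (.node (.leaf (20, 327)) (.leaf (11, 707))))))) (.node (.node (.node (.node (.node (.node (.leaf (15, 593)) (.leaf (13, 658))) (.leaf (19, 127))) (.node (.leaf (14, 56)) (.leaf (18, 674)))) (.node (.node (.leaf (10, 103)) (.leaf (14, 324))) (.node (.leaf (19, 167)) (.leaf (14, 419))))) (.node (.node (.node (.leaf (0, 0)) (.leaf (0, 0))) (.node (.leaf (20, 232)) (.leaf (11, 721)))) (.node (.node (.leaf (0, 0)) (.leaf (5, 487))) (.node (.leaf (11, 301)) (.leaf (3, 658)))))) (.node (.node (.node (.node (.node (.leaf (0, 0)) (.leaf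 (18, 337))) (.leaf (0, 0))) (.node (.leaf (0, 0)) (.leaf (17, 551)))) (.node (.node (.leaf (0, 0)) (.leaf (18, 574))) (.node (.leaf (20, 295)) (.leaf (11, 588))))) (.node (.node (.node (.leaf (19, 34)) (.leaf (17, 559))) (.node (.leaf (6, 39)) (.leaf (19, 327)))) (.node (.node (.leaf (17, 167)) (.leaf (13, 309))) (.node (.leaf (0, 0)) (.leaf (8, 195))))))))) (.node (.node (.node (.node (.node (.node (.node (.node (.leaf (13, 67)) (.leaf (20, 687))) (.leaf (19, 435))) (.node (.leaf (14, 175)) (.leaf (13, 254)))) (.node (.node (.leaf (19, 268)) (.leaf (19, 295))) (.node (.leaf (0, 0)) (.leaf (18, 573))))) (.node (.node (.node (.node (.leaf (0, 0)) (.leaf (9, 0))) (.leaf (14, 53))) (.node (.leaf (0, 0)) (.leaf (14, 559)))) (.node (.node (.leaf (1, 613)) (.leaf (0, 0))) (.node (.leaf (17, 523)) (.leaf (14, 717)))))) (.node (.node (.node (.node (.node (.leaf (3, 26)) (.leaf (12, 690))) (.leaf (19, 190))) (.node (.leaf (13, 683)) (.leaf (18, 490)))) (.node (.node (.leaf (19, 113)) (.leaf (13, 605))) (.node (.leaf (0, 0)) (.leaf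 (10, 623))))) (.node (.node (.node (.leaf (11, 214)) (.leaf (8, 410))) (.node (.leaf (19, 212)) (.leaf (12, 443)))) (.node (.node (.leaf (3, 154)) (.leaf (14, 557))) (.node (.leaf (14, 192)) (.leaf (18, 413))))))) (.node (.node (.node (.node (.node (.node (.leaf (0, 0)) (.leaf (19, 693))) (.leaf (13, 139))) (.node (.leaf (18, 432)) (.leaf (20, 258)))) (.node (.node (.leaf (0, 0)) (.leaf (3, 442))) (.node (.leaf (0, 0)) (.leaf (13, 339))))) (.node (.node (.node (.leaf (0, 0)) (.leaf (20, 399))) (.node (.leaf (14, 287)) (.leaf (18, 303)))) (.node (.node (.leaf (5, 198)) (.leaf (14, 240))) (.node (.leaf (19, 112)) (.leaf (17, 655)))))) (.node (.node (.node (.node (.node (.leaf (14, 7)) (.leaf (19, 719))) (.leaf (19, 641))) (.node (.leaf (0, 0)) (.leaf (14, 692)))) (.node (.node (.leaf (0, 0)) (.leaf (5, 463))) (.node (.leaf (1, 293)) (.leaf (3, 634))))) (.node (.node (.node (.leaf (0, 0)) (.leaf (12, 174))) (.node (.leaf (18, 305)) (.leaf (20, 591)))) (.node (.node (.leaf (0, 0)) (.leaf (19, 473))) (.node (.leaf (17, 335)) (.leaf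 (13, 443)))))))) (.node (.node (.node (.node (.node (.node (.node (.leaf (0, 0)) (.leaf (14, 480))) (.leaf (5, 351))) (.node (.leaf (14, 154)) (.leaf (3, 700)))) (.node (.node (.leaf (0, 0)) (.leaf (12, 424))) (.node (.leaf (3, 266)) (.leaf (20, 607))))) (.node (.node (.node (.leaf (6, 528)) (.leaf (19, 516))) (.node (.leaf (0, 0)) (.leaf (11, 656)))) (.node (.node (.leaf (0, 0)) (.leaf (17, 479))) (.node (.leaf (1, 309)) (.leaf (19, 639)))))) (.node (.node (.node (.node (.node (.leaf (0, 0)) (.leaf (19, 694))) (.leaf (14, 54))) (.node (.leaf (0, 0)) (.leaf (5, 543)))) (.node (.node (.leaf (0, 0)) (.leaf (0, 0))) (.node (.leaf (20, 287)) (.leaf (11, 647))))) (.node (.node (.node (.leaf (0, 0)) (.leaf (19, 262))) (.node (.leaf (14, 314)) (.leaf (18, 531)))) (.node (.node (.leaf (20, 659)) (.leaf (13, 289))) (.node (.leaf (3, 428)) (.leaf (5, 671))))))) (.node (.node (.node (.node (.node (.node (.leaf (0, 0)) (.leaf (20, 705))) (.leaf (3, 362))) (.node (.leaf (10, 61)) (.leaf (14, 694)))) (.node (.node (.leaf (0, 0)) (.leaf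 (0, 0))) (.node (.leaf (1, 547)) (.leaf (3, 618))))) (.node (.node (.node (.leaf (0, 0)) (.leaf (14, 646))) (.node (.leaf (18, 71)) (.leaf (20, 303)))) (.node (.node (.leaf (12, 40)) (.leaf (12, 709))) (.node (.leaf (20, 727)) (.leaf (11, 410)))))) (.node (.node (.node (.node (.node (.leaf (0, 0)) (.leaf (13, 631))) (.leaf (10, 383))) (.node (.leaf (1, 213)) (.leaf (15, 554)))) (.node (.node (.leaf (5, 140)) (.leaf (14, 406))) (.node (.leaf (3, 298)) (.leaf (20, 639))))) (.node (.node (.node (.leaf (0, 0)) (.leaf (18, 385))) (.node (.leaf (19, 40)) (.leaf (13, 350)))) (.node (.node (.leaf (0, 0)) (.leaf (20, 578))) (.node (.leaf (13, 133)) (.leaf (3, 682))))))))))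

/-- a table -/
def threeVia : Janko.Tree (ℕ × ℕ) := (.node (.node (.node (.node threeVia0 threeVia8) (.node threeVia4 threeVia12)) (.node (.node threeVia2 threeVia10) (.node threeVia6 threeVia14))) (.node (.node (.node threeVia1 threeVia9) (.node threeVia5 threeVia13)) (.node (.node threeVia3 threeVia11) (.node threeVia7 threeVia15))))

def threeOrd0 : Janko.Tree (ℕ) :=
  (.node (.node (.node (.node (.node (.node (.leaf 547) (.leaf 721)) (.leaf 214)) (.node (.node (.leaf 219) (.leaf 238)) (.leaf 50))) (.node (.node (.node (.leaf 304) (.leaf 518)) (.leaf 357)) (.node (.node (.leaf 87) (.leaf 15)) (.leaf 719)))) (.node (.node (.node (.node (.leaf 56) (.leaf 120)) (.leaf 422)) (.node (.node (.leaf 152) (.leaf 267)) (.leaf 159))) (.node (.node (.node (.leaf 488) (.leaf 557)) (.leaf 464)) (.node (.leaf 433) (.leaf 393))))) (.node (.node (.node (.node (.node (.leaf 160) (.leaf 313)) (.leaf 64)) (.node (.node (.leaf 354) (.leaf 421)) (.leaf 220))) (.node (.node (.node (.leaf 727) (.leaf 180)) (.leaf 292)) (.node (.node (.leaf 563)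 (.leaf 436)) (.leaf 517)))) (.node (.node (.node (.node (.leaf 394) (.leaf 60)) (.leaf 711)) (.node (.node (.leaf 647) (.leaf 187)) (.leaf 265))) (.node (.node (.node (.leaf 131) (.leaf 33)) (.leaf 463)) (.node (.leaf 277) (.leaf 322))))))

def threeOrd1 : Janko.Tree (ℕ) :=
  (.node (.node (.node (.node (.node (.node (.leaf 485) (.leaf 443)) (.leaf 327)) (.node (.node (.leaf 673) (.leaf 191)) (.leaf 256))) (.node (.node (.node (.leaf 583) (.leaf 43)) (.leaf 224)) (.node (.node (.leaf 720) (.leaf 149)) (.leaf 413)))) (.node (.node (.node (.node (.leaf 254) (.leaf 520)) (.leaf 602)) (.node (.node (.leaf 72) (.leaf 115)) (.leaf 540))) (.node (.node (.node (.leaf 374) (.leaf 18)) (.leaf 686)) (.node (.leaf 342) (.leaf 10))))) (.node (.node (.node (.node (.node (.leaf 171) (.leaf 263)) (.leaf 697)) (.node (.node (.leaf 25) (.leaf 425)) (.leaf 649))) (.node (.node (.node (.leaf 186) (.leaf 45)) (.leaf 166)) (.node (.node (.leaf 471) (.leaf 616)) (.leaf 188)))) (.node (.node (.node (.node (.leaf 459) (.leaf 70)) (.leaf 371)) (.node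 (.node (.leaf 590) (.leaf 535)) (.leaf 298))) (.node (.node (.node (.leaf 205) (.leaf 489)) (.leaf 506)) (.node (.leaf 586) (.leaf 572))))))

def threeOrd2 : Janko.Tree (ℕ) :=
  (.node (.node (.node (.node (.node (.node (.leaf 448) (.leaf 306)) (.leaf 630)) (.node (.node (.leaf 446) (.leaf 143)) (.leaf 296))) (.node (.node (.node (.leaf 483) (.leaf 125)) (.leaf 614)) (.node (.node (.leaf 606) (.leaf 246)) (.leaf 577)))) (.node (.node (.node (.node (.leaf 89) (.leaf 655)) (.leaf 330)) (.node (.node (.leaf 356) (.leaf 132)) (.leaf 661))) (.node (.node (.node (.leaf 453) (.leaf 201)) (.leaf 646)) (.node (.leaf 631) (.leaf 618))))) (.node (.node (.node (.node (.node (.leaf 146) (.leaf 21)) (.leaf 584)) (.node (.node (.leaf 529) (.leaf 486)) (.leaf 193))) (.node (.node (.node (.leaf 48) (.leaf 137)) (.leaf 668)) (.node (.node (.leaf 222) (.leaf 656)) (.leaf 283)))) (.node (.node (.node (.node (.leaf 418) (.leaf 377)) (.leaf 59)) (.node (.node (.leaf 468) (.leaf 128)) (.leaf 276))) (.node (.node (.node (.leaf 192) (.leaf 454))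 (.leaf 635)) (.node (.leaf 157) (.leaf 202))))))

def threeOrd3 : Janko.Tree (ℕ) :=
  (.node (.node (.node (.node (.node (.node (.leaf 712) (.leaf 431)) (.leaf 509)) (.node (.node (.leaf 633) (.leaf 596)) (.leaf 29))) (.node (.node (.node (.leaf 624) (.leaf 204)) (.leaf 473)) (.node (.node (.leaf 414) (.leaf 593)) (.leaf 597)))) (.node (.node (.node (.node (.leaf 728) (.leaf 335)) (.leaf 552)) (.node (.node (.leaf 694) (.leaf 409)) (.leaf 344))) (.node (.node (.node (.leaf 67) (.leaf 328)) (.leaf 678)) (.node (.leaf 657) (.leaf 684))))) (.node (.node (.node (.node (.node (.leaf 512) (.leaf 667)) (.leaf 209)) (.node (.node (.leaf 273) (.leaf 670)) (.leaf 424))) (.node (.node (.node (.leaf 662) (.leaf 118)) (.leaf 176)) (.node (.node (.leaf 672) (.leaf 295)) (.leaf 26)))) (.node (.node (.node (.node (.leaf 380) (.leaf 385)) (.leaf 703)) (.node (.node (.leaf 302) (.leaf 660)) (.leaf 150))) (.node (.node (.node (.leaf 426) (.leaf 141)) (.leaf 215)) (.node (.leaf 336) (.leaf 502))))))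

def threeOrd4 : Janko.Tree (ℕ) :=
  (.node (.node (.node (.node (.node (.node (.leaf 323) (.leaf 565)) (.leaf 511)) (.node (.node (.leaf 339) (.leaf 81)) (.leaf 599))) (.node (.node (.node (.leaf 147) (.leaf 353)) (.leaf 726)) (.node (.node (.leaf 119) (.leaf 208)) (.leaf 234)))) (.node (.node (.node (.node (.leaf 151) (.leaf 280)) (.leaf 106)) (.node (.node (.leaf 675) (.leaf 282)) (.leaf 19))) (.node (.node (.node (.leaf 588) (.leaf 249)) (.leaf 384)) (.node (.leaf 308) (.leaf 537))))) (.node (.node (.node (.node (.node (.leaf 636) (.leaf 372)) (.leaf 383)) (.node (.node (.leaf 207) (.leaf 626)) (.leaf 65))) (.node (.node (.node (.leaf 0) (.leaf 84)) (.leaf 360)) (.node (.node (.leaf 352) (.leaf 206)) (.leaf 420)))) (.node (.node (.node (.node (.leaf 452) (.leaf 317)) (.leaf 386)) (.node (.node (.leaf 690) (.leaf 32)) (.leaf 560))) (.node (.node (.node (.leaf 406) (.leaf 138)) (.leaf 444)) (.node (.leaf 659) (.leaf 319))))))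

def threeOrd5 : Janko.Tree (ℕ) :=
  (.node (.node (.node (.node (.node (.node (.leaf 629) (.leaf 341)) (.leaf 594)) (.node (.node (.leaf 460) (.leaf 199)) (.leaf 522))) (.node (.node (.node (.leaf 297) (.leaf 362)) (.leaf 284)) (.node (.node (.leaf 37) (.leaf 127)) (.leaf 412)))) (.node (.node (.node (.node (.leaf 203) (.leaf 419)) (.leaf 462)) (.node (.node (.leaf 716) (.leaf 455)) (.leaf 286))) (.node (.node (.node (.leaf 609) (.leaf 158)) (.leaf 480)) (.node (.leaf 530) (.leaf 31))))) (.node (.node (.node (.node (.node (.leaf 582) (.leaf 225)) (.leaf 458)) (.node (.node (.leaf 174) (.leaf 439)) (.leaf 85))) (.node (.node (.node (.leaf 279) (.leaf 604)) (.leaf 62)) (.node (.node (.leaf 197) (.leaf 501)) (.leaf 451)))) (.node (.node (.node (.node (.leaf 101) (.leaf 58)) (.leaf 381)) (.node (.node (.leaf 241) (.leaf 346)) (.leaf 252))) (.node (.node (.node (.leaf 61) (.leaf 77)) (.leaf 701)) (.node (.leaf 54) (.leaf 39))))))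

def threeOrd6 : Janko.Tree (ℕ) :=
  (.node (.node (.node (.node (.node (.node (.leaf 375) (.leaf 696)) (.leaf 687)) (.node (.node (.leaf 440) (.leaf 230)) (.leaf 533))) (.node (.node (.node (.leaf 559) (.leaf 69)) (.leaf 189)) (.node (.node (.leaf 640) (.leaf 363)) (.leaf 531)))) (.node (.node (.node (.node (.leaf 41) (.leaf 538)) (.leaf 179)) (.node (.node (.leaf 693) (.leaf 111)) (.leaf 182))) (.node (.node (.node (.leaf 293) (.leaf 227)) (.leaf 66)) (.node (.leaf 315) (.leaf 676))))) (.node (.node (.node (.node (.node (.leaf 725) (.leaf 505)) (.leaf 14)) (.node (.node (.leaf 390) (.leaf 689)) (.leaf 28))) (.node (.node (.node (.leaf 541) (.leaf 181)) (.leaf 397)) (.node (.node (.leaf 123) (.leaf 116)) (.leaf 704)))) (.node (.node (.node (.node (.leaf 718) (.leaf 228)) (.leaf 74)) (.node (.node (.leaf 196) (.leaf 576)) (.leaf 156))) (.node (.node (.node (.leaf 8) (.leaf 97)) (.leaf 466)) (.node (.leaf 93) (.leaf 243))))))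

def threeOrd7 : Janko.Tree (ℕ) :=
  (.node (.node (.node (.node (.node (.node (.leaf 713) (.leaf 524)) (.leaf 367)) (.node (.node (.leaf 51) (.leaf 326)) (.leaf 168))) (.node (.node (.node (.leaf 275) (.leaf 253)) (.leaf 35)) (.node (.node (.leaf 194) (.leaf 617)) (.leaf 579)))) (.node (.node (.node (.node (.leaf 198) (.leaf 568)) (.leaf 525)) (.node (.node (.leaf 566) (.leaf 34)) (.leaf 482))) (.node (.node (.node (.leaf 681) (.leaf 564)) (.leaf 211)) (.node (.leaf 549) (.leaf 581))))) (.node (.node (.node (.node (.node (.leaf 370) (.leaf 495)) (.leaf 312)) (.node (.node (.leaf 573) (.leaf 632)) (.leaf 434))) (.node (.node (.node (.leaf 347) (.leaf 411)) (.leaf 438)) (.node (.node (.leaf 695) (.leaf 674)) (.leaf 622)))) (.node (.node (.node (.node (.leaf 345) (.leaf 679)) (.leaf 685)) (.node (.node (.leaf 623) (.leaf 108)) (.leaf 365))) (.node (.node (.node (.leaf 641) (.leaf 350)) (.leaf 309)) (.node (.leaf 178) (.leaf 645))))))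

def threeOrd8 : Janko.Tree (ℕ) :=
  (.node (.node (.node (.node (.node (.node (.leaf 508) (.leaf 285)) (.leaf 223)) (.node (.node (.leaf 403) (.leaf 92)) (.leaf 289))) (.node (.node (.node (.leaf 677) (.leaf 244)) (.leaf 314)) (.node (.node (.leaf 190) (.leaf 680)) (.leaf 580)))) (.node (.node (.node (.node (.leaf 2) (.leaf 364)) (.leaf 669)) (.node (.node (.leaf 470) (.leaf 1)) (.leaf 498))) (.node (.node (.node (.leaf 465) (.leaf 523)) (.leaf 610)) (.node (.leaf 310) (.leaf 611))))) (.node (.node (.node (.node (.node (.leaf 456) (.leaf 358)) (.leaf 94)) (.node (.node (.leaf 126) (.leaf 504)) (.leaf 723))) (.node (.node (.node (.leaf 162) (.leaf 23)) (.leaf 542)) (.node (.node (.leaf 351) (.leaf 407)) (.leaf 324)))) (.node (.node (.node (.node (.leaf 503) (.leaf 487)) (.leaf 484)) (.node (.node (.leaf 300) (.leaf 545)) (.leaf 404))) (.node (.node (.node (.leaf 75) (.leaf 169)) (.leaf 639)) (.node (.leaf 536) (.leaf 432))))))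

def threeOrd9 : Janko.Tree (ℕ) :=
  (.node (.node (.node (.node (.node (.node (.leaf 5) (.leaf 316)) (.leaf 472)) (.node (.node (.leaf 135) (.leaf 321)) (.leaf 395))) (.node (.node (.node (.leaf 578) (.leaf 628)) (.leaf 271)) (.node (.node (.leaf 366) (.leaf 88)) (.leaf 250)))) (.node (.node (.node (.node (.leaf 236) (.leaf 251)) (.leaf 571)) (.node (.node (.leaf 450) (.leaf 717)) (.leaf 368))) (.node (.node (.node (.leaf 562) (.leaf 516)) (.leaf 78)) (.node (.leaf 379) (.leaf 642))))) (.node (.node (.node (.node (.node (.leaf 615) (.leaf 145)) (.leaf 598)) (.node (.node (.leaf 154) (.leaf 493)) (.leaf 264))) (.node (.node (.node (.leaf 607) (.leaf 643)) (.leaf 401)) (.node (.leaf 722) (.leaf 514)))) (.node (.node (.node (.node (.leaf 287) (.leaf 389)) (.leaf 217)) (.node (.node (.leaf 427) (.leaf 702)) (.leaf 20))) (.node (.node (.node (.leaf 122) (.leaf 266)) (.leaf 691)) (.node (.leaf 526) (.leaf 708))))))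

def threeOrd10 : Janko.Tree (ℕ) :=
  (.node (.node (.node (.node (.node (.node (.leaf 268) (.leaf 130)) (.leaf 474)) (.node (.node (.leaf 334) (.leaf 105)) (.leaf 621))) (.node (.node (.node (.leaf 613) (.leaf 415)) (.leaf 161)) (.node (.node (.leaf 589) (.leaf 47)) (.leaf 307)))) (.node (.node (.node (.node (.leaf 320) (.leaf 177)) (.leaf 467)) (.node (.node (.leaf 221) (.leaf 349)) (.leaf 475))) (.node (.node (.node (.leaf 212) (.leaf 233)) (.leaf 259)) (.node (.leaf 591) (.leaf 278))))) (.node (.node (.node (.node (.node (.leaf 692) (.leaf 592)) (.leaf 183)) (.node (.node (.leaf 378) (.leaf 554)) (.leaf 22))) (.node (.node (.node (.leaf 68) (.leaf 539)) (.leaf 110)) (.node (.leaf 98) (.leaf 104)))) (.node (.node (.node (.node (.leaf 410) (.leaf 548)) (.leaf 355)) (.node (.node (.leaf 481) (.leaf 491)) (.leaf 12))) (.node (.node (.node (.leaf 382) (.leaf 405)) (.leaf 80)) (.node (.leaf 30) (.leaf 398))))))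

def threeOrd11 : Janko.Tree (ℕ) :=
  (.node (.node (.node (.node (.node (.node (.leaf 553) (.leaf 543)) (.leaf 682)) (.node (.node (.leaf 27) (.leaf 42)) (.leaf 102))) (.node (.node (.node (.leaf 644) (.leaf 534)) (.leaf 163)) (.node (.node (.leaf 301) (.leaf 121)) (.leaf 270)))) (.node (.node (.node (.node (.leaf 620) (.leaf 550)) (.leaf 216)) (.node (.node (.leaf 683) (.leaf 272)) (.leaf 417))) (.node (.node (.node (.leaf 699) (.leaf 247)) (.leaf 71)) (.node (.leaf 435) (.leaf 184))))) (.node (.node (.node (.node (.node (.leaf 257) (.leaf 441)) (.leaf 167)) (.node (.node (.leaf 13) (.leaf 400)) (.leaf 392))) (.node (.node (.node (.leaf 213) (.leaf 155)) (.leaf 96)) (.node (.leaf 332) (.leaf 638)))) (.node (.node (.node (.node (.leaf 90) (.leaf 651)) (.leaf 175)) (.node (.node (.leaf 634) (.leaf 461)) (.leaf 82))) (.node (.node (.node (.leaf 359) (.leaf 600)) (.leaf 497)) (.node (.leaf 416) (.leaf 164))))))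

def threeOrd12 : Janko.Tree (ℕ) :=
  (.node (.node (.node (.node (.node (.node (.leaf 399) (.leaf 724)) (.leaf 551)) (.node (.node (.leaf 261) (.leaf 325)) (.leaf 715))) (.node (.node (.node (.leaf 478) (.leaf 7)) (.leaf 665)) (.node (.node (.leaf 237) (.leaf 165)) (.leaf 402)))) (.node (.node (.node (.node (.leaf 496) (.leaf 519)) (.leaf 248)) (.node (.node (.leaf 714) (.leaf 281)) (.leaf 688))) (.node (.node (.node (.leaf 245) (.leaf 172)) (.leaf 331)) (.node (.leaf 429) (.leaf 428))))) (.node (.node (.node (.node (.node (.leaf 666) (.leaf 262)) (.leaf 55)) (.node (.node (.leaf 457) (.leaf 396)) (.leaf 136))) (.node (.node (.node (.leaf 510) (.leaf 242)) (.leaf 133)) (.node (.leaf 709) (.leaf 652)))) (.node (.node (.node (.node (.leaf 117) (.leaf 447)) (.leaf 671)) (.node (.node (.leaf 561) (.leaf 391)) (.leaf 348))) (.node (.node (.node (.leaf 124) (.leaf 107)) (.leaf 303)) (.node (.leaf 477) (.leaf 290))))))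

def threeOrd13 : Janko.Tree (ℕ) :=
  (.node (.node (.node (.node (.node (.node (.leaf 24) (.leaf 100)) (.leaf 373)) (.node (.node (.leaf 558) (.leaf 103)) (.leaf 210))) (.node (.node (.node (.leaf 195) (.leaf 112)) (.leaf 235)) (.node (.node (.leaf 229) (.leaf 53)) (.leaf 274)))) (.node (.node (.node (.node (.leaf 338) (.leaf 570)) (.leaf 507)) (.node (.node (.leaf 430) (.leaf 343)) (.leaf 376))) (.node (.node (.node (.leaf 492) (.leaf 63)) (.leaf 294)) (.node (.leaf 305) (.leaf 79))))) (.node (.node (.node (.node (.node (.leaf 311) (.leaf 173)) (.leaf 521)) (.node (.node (.leaf 585) (.leaf 601)) (.leaf 706))) (.node (.node (.node (.leaf 595) (.leaf 38)) (.leaf 260)) (.node (.leaf 258) (.leaf 86)))) (.node (.node (.node (.node (.leaf 44) (.leaf 528)) (.leaf 476)) (.node (.node (.leaf 532) (.leaf 500)) (.leaf 109))) (.node (.node (.node (.leaf 232) (.leaf 527)) (.leaf 142)) (.node (.leaf 144) (.leaf 4))))))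

def threeOrd14 : Janko.Tree (ℕ) :=
  (.node (.node (.node (.node (.node (.node (.leaf 700) (.leaf 664)) (.leaf 153)) (.node (.node (.leaf 707) (.leaf 544)) (.leaf 625))) (.node (.node (.node (.leaf 240) (.leaf 99)) (.leaf 567)) (.node (.node (.leaf 648) (.leaf 333)) (.leaf 658)))) (.node (.node (.node (.node (.leaf 499) (.leaf 73)) (.leaf 637)) (.node (.node (.leaf 218) (.leaf 9)) (.leaf 515))) (.node (.node (.node (.leaf 231) (.leaf 255)) (.leaf 388)) (.node (.leaf 299) (.leaf 575))))) (.node (.node (.node (.node (.node (.leaf 95) (.leaf 52)) (.leaf 710)) (.node (.node (.leaf 140) (.leaf 170)) (.leaf 605))) (.node (.node (.node (.leaf 139) (.leaf 226)) (.leaf 653)) (.node (.leaf 46) (.leaf 129)))) (.node (.node (.node (.node (.leaf 57) (.leaf 627)) (.leaf 423)) (.node (.node (.leaf 3) (.leaf 437)) (.leaf 288))) (.node (.node (.node (.leaf 494) (.leaf 113)) (.leaf 490)) (.node (.leaf 449) (.leaf 36))))))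

def threeOrd15 : Janko.Tree (ℕ) :=
  (.node (.node (.node (.node (.node (.node (.leaf 619) (.leaf 11)) (.leaf 612)) (.node (.node (.leaf 654) (.leaf 291)) (.leaf 239))) (.node (.node (.node (.leaf 650) (.leaf 603)) (.leaf 76)) (.node (.node (.leaf 361) (.leaf 555)) (.leaf 134)))) (.node (.node (.node (.node (.leaf 17) (.leaf 329)) (.leaf 445)) (.node (.node (.leaf 698) (.leaf 608)) (.leaf 513))) (.node (.node (.node (.leaf 200) (.leaf 387)) (.leaf 569)) (.node (.leaf 408) (.leaf 479))))) (.node (.node (.node (.node (.node (.leaf 49) (.leaf 269)) (.leaf 337)) (.node (.node (.leaf 16) (.leaf 318)) (.leaf 6))) (.node (.node (.node (.leaf 546) (.leaf 83)) (.leaf 705)) (.node (.leaf 114) (.leaf 556)))) (.node (.node (.node (.node (.leaf 587) (.leaf 369)) (.leaf 574)) (.node (.node (.leaf 185) (.leaf 442)) (.leaf 663))) (.node (.node (.node (.leaf 469) (.leaf 40)) (.leaf 340)) (.node (.leaf 148) (.leaf 91))))))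

/-- a table -/
def threeOrd : Janko.Tree (ℕ) := (.node (.node (.node (.node threeOrd0 threeOrd8) (.node threeOrd4 threeOrd12)) (.node (.node threeOrd2 threeOrd10) (.node threeOrd6 threeOrd14))) (.node (.node (.node threeOrd1 threeOrd9) (.node threeOrd5 threeOrd13)) (.node (.node threeOrd3 threeOrd11) (.node threeOrd7 threeOrd15))))

/-- relators -/
def threeRels : List (List ℕ) :=
  [[0, 0, 0],
    [1, 1, 1],
    [2, 2, 2],
    [3, 3, 3],
    [4, 4, 4],
    [5, 5, 5],
    [1, 0, 2, 5, 1, 1, 0, 0],
    [2, 0, 5, 2, 2, 0, 0],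
    [3, 0, 5, 3, 3, 0, 0],
    [4, 0, 4, 4, 0, 0],
    [5, 0, 5, 5, 0, 0],
    [2, 1, 2, 2, 1, 1],
    [3, 1, 4, 4, 5, 5, 3, 3, 1, 1],
    [4, 1, 4, 4, 1, 1],
    [5, 1, 5, 5, 1, 1],
    [3, 2, 3, 3, 2, 2],
    [4, 2, 4, 4, 2, 2],
    [5, 2, 5, 5, 2, 2],
    [4, 3, 5, 4, 4, 3, 3],
    [5, 3, 5, 5, 3, 3],
    [5, 4, 5, 5, 4, 4]]

/-- the certificate -/
def threeCert : CentralLocal.Cert :=
  { act := actB baseB threeGens, one := oneB, N := 729, k := 6, q := 0, rels := threeRels, P := 19,
    elt := threeElt, next := threeNext, word := threeWord, par := threePar, L := threeL, kind := threeKind, rank := threeRank,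
    via := threeVia, pv := [4374, 4375, 4376, 4377, 4378, 4379, 4380, 4381, 4382, 4383, 4384, 4385, 4386, 4387, 4388, 4389, 4390, 4391, 4392] }

theorem three_edges0 : ((List.range 250).all fun i => threeCert.edgeCheck (Nat.add 0 i)) = true := by decide +kernel

theorem three_edges1 : ((List.range 250).all fun i => threeCert.edgeCheck (Nat.add 250 i)) = true := by decide +kernel

theorem three_edges2 : ((List.range 229).all fun i => threeCert.edgeCheck (Nat.add 500 i)) = true := by decide +kernel

theorem three_edges : ∀ i < 729, threeCert.edgeCheck i = true := by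
  intro i hi
  exact (if h250 : i < 250 then (by have := List.all_eq_true.1 three_edges0 (i - 0) (List.mem_range.2 (by omega)); rwa [show Nat.add 0 (i - 0) = i from Nat.add_sub_cancel' (by omega)] at this) else (if h500 : i < 500 then (by have := List.all_eq_true.1 three_edges1 (i - 250) (List.mem_range.2 (by omega)); rwa [show Nat.add 250 (i - 250) = i from Nat.add_sub_cancel' (by omega)] at this) else (by have := List.all_eq_true.1 three_edges2 (i - 500) (List.mem_range.2 (by omega)); rwa [show Nat.add 500 (i - 500) = i from Nat.add_sub_cancel' (by omega)] at this)))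

theorem three_tree0 : ((List.range 250).all fun i => threeCert.treeCheck (Nat.add 0 i)) = true := by decide +kernel

theorem three_tree1 : ((List.range 250).all fun i => threeCert.treeCheck (Nat.add 250 i)) = true := by decide +kernel

theorem three_tree2 : ((List.range 229).all fun i => threeCert.treeCheck (Nat.add 500 i)) = true := by decide +kernel

theorem three_tree : ∀ i < 729, threeCert.treeCheck i = true := by
  intro i hi
  exact (if h250 : i < 250 then (by have := List.all_eq_true.1 three_tree0 (i - 0) (List.mem_range.2 (by omega)); rwa [show Nat.add 0 (i - 0) = i from Nat.add_sub_cancel' (by omega)] at this) else (if h500 : i < 500 then (by have := List.all_eq_true.1 three_tree1 (i - 250) (List.mem_range.2 (by omega)); rwa [show Nat.add 250 (i - 250) = i from Nat.add_sub_cancel' (by omega)] at this) else (by have := List.all_eq_true.1 three_tree2 (i - 500) (List.mem_range.2 (by omega)); rwa [show Nat.add 500 (i - 500) = i from Nat.add_sub_cancel' (by omega)] at this)))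

theorem three_vars0 : ((List.range 600).all fun i => threeCert.varCheck (Nat.add 0 i)) = true := by decide +kernel

theorem three_vars1 : ((List.range 600).all fun i => threeCert.varCheck (Nat.add 600 i)) = true := by decide +kernel

theorem three_vars2 : ((List.range 600).all fun i => threeCert.varCheck (Nat.add 1200 i)) = true := by decide +kernel

theorem three_vars3 : ((List.range 600).all fun i => threeCert.varCheck (Nat.add 1800 i)) = true := by decide +kernel

theorem three_vars4 : ((List.range 600).all fun i => threeCert.varCheck (Nat.add 2400 i)) = true := by decide +kernel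

theorem three_vars5 : ((List.range 600).all fun i => threeCert.varCheck (Nat.add 3000 i)) = true := by decide +kernel

theorem three_vars6 : ((List.range 600).all fun i => threeCert.varCheck (Nat.add 3600 i)) = true := by decide +kernel

theorem three_vars7 : ((List.range 195).all fun i => threeCert.varCheck (Nat.add 4200 i)) = true := by decide +kernel

theorem three_vars : ∀ i < 4395, threeCert.varCheck i = true := by
  intro i hi
  exact (if h2400 : i < 2400 then (if h1200 : i < 1200 then (if h600 : i < 600 then (by have := List.all_eq_true.1 three_vars0 (i - 0) (List.mem_range.2 (by omega)); rwa [show Nat.add 0 (i - 0) = i from Nat.add_sub_cancel' (by omega)] at this) else (by have := List.all_eq_true.1 three_vars1 (i - 600) (List.mem_range.2 (by omega)); rwa [show Nat.add 600 (i - 600) = i from Nat.add_sub_cancel' (by omega)] at this)) else (if h1800 : i < 1800 then (by have := List.all_eq_true.1 three_vars2 (i - 1200) (List.mem_range.2 (by omega)); rwa [show Nat.add 1200 (i - 1200) = i from Nat.add_sub_cancel' (by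 omega)] at this) else (by have := List.all_eq_true.1 three_vars3 (i - 1800) (List.mem_range.2 (by omega)); rwa [show Nat.add 1800 (i - 1800) = i from Nat.add_sub_cancel' (by omega)] at this))) else (if h3600 : i < 3600 then (if h3000 : i < 3000 then (by have := List.all_eq_true.1 three_vars4 (i - 2400) (List.mem_range.2 (by omega)); rwa [show Nat.add 2400 (i - 2400) = i from Nat.add_sub_cancel' (by omega)] at this) else (by have := List.all_eq_true.1 three_vars5 (i - 3000) (List.mem_range.2 (by omega)); rwa [show Nat.add 3000 (i - 3000) = i from Nat.add_sub_cancel' (by omega)] at this)) else (if h4200 : i < 4200 then (by have := List.all_eq_true.1 three_vars6 (i - 3600) (List.mem_range.2 (by omega)); rwa [show Nat.add 3600 (i - 3600) = i from Nat.add_sub_cancel' (by omega)] at this) else (by have := List.all_eq_true.1 three_vars7 (i - 4200) (List.mem_range.2 (by omega)); rwa [show Nat.add 4200 (i - 4200) = i from Nat.add_sub_cancel' (by omega)] at this))))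

theorem three_ord0 : ((List.range 729).all fun i => threeCert.ordCheck threeOrd (Nat.add 0 i)) = true := by decide +kernel

theorem three_ord : ∀ i < 729, threeCert.ordCheck threeOrd i = true := by
  intro i hi
  exact (by have := List.all_eq_true.1 three_ord0 (i - 0) (List.mem_range.2 (by omega)); rwa [show Nat.add 0 (i - 0) = i from Nat.add_sub_cancel' (by omega)] at this)

theorem three_rels : (threeCert.rels.all fun w => threeCert.relCheck w) = true := by decide +kernel

theorem three_valid : threeCert.Valid where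
  npos := Nat.succ_pos _
  kpos := Nat.succ_pos _
  edges := three_edges
  tree := three_tree
  rels := List.all_eq_true.1 three_rels
  vars := three_vars

/-- the lattice -/
def threeLat : CentralBound.Lat :=
  { basis := [[0, 3, 1, -3, 0, 0, -3, 0, 3, 0, 0, 0, 0, 0, 0, 0, 0, 0, 0],
      [0, 3, 0, -2, 0, 0, -3, 1, 2, 0, 0, 0, 0, 0, 0, 0, 0, 0, 0],
      [3, 0, 0, 3, 0, 1, 0, 0, -3, 0, 0, 0, 0, 0, 0, 0, 0, 0, 0],
      [8, -3, 0, 3, 0, 0, 0, 0, -6, -2, 0, 0, 3, 0, 0, 0, 0, 0, 0],
      [2, 0, 0, 3, 0, 0, 0, 0, -3, 0, 1, 0, 0, 0, 0, 0, 0, 0, 0],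
      [0, 2, 0, -3, 0, 0, -3, 0, 3, 0, 0, 1, 0, 0, 0, 0, 0, 0, 0],
      [1, 0, 0, 0, 1, 0, 0, 0, 0, -1, 0, 0, 0, 0, 0, 0, 0, 0, 0],
      [1, -1, 0, 0, 0, 0, 0, 0, 0, -1, 0, 0, 0, 1, 0, 0, 0, 0, 0],
      [3, -1, 0, 3, 0, 0, 0, 0, -3, 0, 0, 0, 0, 0, 1, 0, 0, 0, 0],
      [0, 3, 0, -4, 0, 0, -3, 0, 3, 0, 0, 0, 0, 0, 0, 1, 0, 0, 0],
      [1, 3, 0, -3, 0, 0, -3, 0, 3, -1, 0, 0, 0, 0, 0, 0, 1, 0, 0],
      [3, 3, 0, 0, 0, 0, -3, 0, 0, 0, 0, 0, 0, 0, 0, 0, 0, 1, 0],
      [2, 0, 0, 0, 0, 0, 0, 0, -1, -1, 0, 0, 0, 0, 0, 0, 0, 0, 1]],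
    compl := [[1, 0, 0, 0, 0, 0, 0, 0, 0, 0, 0, 0, 0, 0, 0, 0, 0, 0, 0], [0, 1, 0, 0, 0, 0, 0, 0, 0, 0, 0, 0, 0, 0, 0, 0, 0, 0, 0], [-1, -1, 0, 0, 0, 0, 1, 0, 0, 0, 0, 0, 0, 0, 0, 0, 0, 0, 0], [0, 0, 0, 1, 0, 0, 0, 0, 0, 0, 0, 0, 0, 0, 0, 0, 0, 0, 0], [-1, 1, 0, 1, 0, 0, 0, 0, 0, 1, 0, 0, -1, 0, 0, 0, 0, 0, 0], [-1, 0, 0, -1, 0, 0, 0, 0, 1, 0, 0, 0, 0, 0, 0, 0, 0, 0, 0]],
    counts := [[3, 0, 0, 0, 0, 0], [0, 3, 0, 0, 0, 0], [0, 0, 1, 0, 0, 1], [0, 0, 0, 3, 0, 0], [0, 0, 0, 0, 1, -2], [0, 0, 0, 0, 0, 1]],
    piv := [0, 1, 2, 3, 4, 5],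
    coord := [([0, 0, 0, 0, 0, 0, 0, 0, 0, 0, 0, 0, 0], [1, 0, 0, 0, 0, 0]),
      ([0, 0, 0, 0, 0, 0, 0, 0, 0, 0, 0, 0, 0], [0, 1, 0, 0, 0, 0]),
      ([1, 0, 0, 0, 0, 0, 0, 0, 0, 0, 0, 0, 0], [0, 0, 3, 0, 0, -3]),
      ([0, 0, 0, 0, 0, 0, 0, 0, 0, 0, 0, 0, 0], [0, 0, 0, 1, 0, 0]),
      ([0, 0, 0, 1, 0, 0, 1, 0, 0, 0, 0, 0, 0], [0, 0, 0, 0, 3, 6]),
      ([0, 0, 1, 0, 0, 0, 0, 0, 0, 0, 0, 0, 0], [0, 0, 0, 0, 0, 3]),
      ([0, 0, 0, 0, 0, 0, 0, 0, 0, 0, 0, 0, 0], [1, 1, 1, 0, 0, 0]),
      ([0, 1, 0, 0, 0, 0, 0, 0, 0, 0, 0, 0, 0], [1, 0, 3, 0, 0, -2]),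
      ([0, 0, 0, 0, 0, 0, 0, 0, 0, 0, 0, 0, 0], [1, 0, 0, 1, 0, 1]),
      ([0, 0, 0, 1, 0, 0, 0, 0, 0, 0, 0, 0, 0], [1, 0, 0, 0, 3, 6]),
      ([0, 0, 0, 0, 1, 0, 0, 0, 0, 0, 0, 0, 0], [1, 0, 0, 0, 0, 3]),
      ([0, 0, 0, 0, 0, 1, 0, 0, 0, 0, 0, 0, 0], [0, 1, 3, 0, 0, -3]),
      ([0, 0, 0, 1, 0, 0, 0, 0, 0, 0, 0, 0, 0], [0, 1, 0, 1, 2, 6]),
      ([0, 0, 0, 1, 0, 0, 0, 1, 0, 0, 0, 0, 0], [0, 1, 0, 0, 3, 6]),
      ([0, 0, 0, 0, 0, 0, 0, 0, 1, 0, 0, 0, 0], [0, 1, 0, 0, 0, 3]),
      ([0, 0, 0, 0, 0, 0, 0, 0, 0, 1, 0, 0, 0], [0, 0, 3, 1, 0, -3]),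
      ([0, 0, 0, 1, 0, 0, 0, 0, 0, 0, 1, 0, 0], [0, 0, 3, 0, 3, 3]),
      ([0, 0, 0, 0, 0, 0, 0, 0, 0, 0, 0, 1, 0], [0, 0, 3, 0, 0, 0]),
      ([0, 0, 0, 1, 0, 0, 0, 0, 0, 0, 0, 0, 1], [0, 0, 0, 1, 3, 7])],
    gens := [[0, 3, 0, -2, 0, 0, -3, 1, 2, 0, 0, 0, 0, 0, 0, 0, 0, 0, 0]],
    ord := [3],
    red := [([69], ([(138, 0), (-333, 2), (210, 3), (207, 1)], [(-168, (0, 15)), (-182, (0, 26)), (224, (0, 18)), (-129, (0, 27)), (115, (0, 21)), (-134, (0, 6)), (287, (0, 45)), (246, (0, 29)), (-303, (0, 33)), (-49, (0, 5)), (-40, (0, 51)), (-184, (0, 46)), (337, (0, 59))]), [-1992643115, -1956836612, -4212816643, 11756, 5417954165, 6750513589, 9687147930, -5298972376, -162811891, 56653736, -2467339063, -309853526, 4479]),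
      ([1], ([], []), [0, 0, 0, 0, 0, 0, 0, 0, 0, 0, 0, 0, 0]),
      ([348], ([(162, 2), (-66, 0), (-216, 3), (-240, 1)], [(-156, (0, 26)), (245, (0, 15)), (-186, (0, 18)), (79, (0, 21)), (-25, (0, 6)), (300, (0, 27)), (351, (0, 45)), (-282, (0, 29)), (60, (0, 33)), (118, (0, 5)), (320, (0, 51)), (175, (0, 46)), (-347, (0, 59))]), [2028238056, 1993642893, 4289759378, -12082, -5517226058, -6874485155, -9864421304, 5397469032, 165570655, -57702906, 2512651737, 315668920, -4550]),
      ([-116], ([(36, 2), (274, 0), (134, 1)], [(17, (0, 27)), (-339, (0, 15)), (141, (0, 18)), (-306, (0, 26)), (-215, (0, 21)), (27, (0, 6)), (-295, (0, 45)), (-100, (0, 29)), (73, (0, 33)), (207, (0, 5)), (290, (0, 51)), (177, (0, 46)), (58, (0, 59))]), [-54681777, -49252178, -111537856, 19, 142679087, 177105399, 255654815, -136187136, -4826155, 1465696, -64730678, -7826777, 115]),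
      ([291], ([(-222, 2), (-177, 0), (162, 3), (-3, 1)], [(124, (0, 21)), (-241, (0, 15)), (-43, (0, 18)), (223, (0, 6)), (202, (0, 26)), (126, (0, 27)), (-33, (0, 45)), (-300, (0, 29)), (-13, (0, 33)), (-40, (0, 5)), (54, (0, 51)), (161, (0, 46)), (-345, (0, 59))]), [-1479487331, -1457987597, -3132557114, 9065, 4029545935, 5021393608, 7204094218, -3944904558, -120473214, 42165942, -1835341345, -230830236, 3313]),
      ([342], ([(-294, 2), (53, 0), (-196, 3), (-339, 1)], [(-362, (0, 15)), (-250, (0, 26)), (-37, (0, 18)), (201, (0, 27)), (100, (0, 21)), (-172, (0, 6)), (-334, (0, 45)), (34, (0, 29)), (-308, (0, 46)), (-42, (0, 33)), (-353, (0, 5)), (94, (0, 51)), (-220, (0, 59))]), [1801476523, 1774179965, 3813276778, -10953, -4904994347, -6112176436, -8769386707, 4801140016, 146780641, -51320175, 2234024191, 280896536, -4020]),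
      ([-172], ([(285, 3), (-7, 0), (-51, 2), (235, 1)], [(-115, (0, 45)), (226, (0, 15)), (-350, (0, 18)), (275, (0, 26)), (8, (0, 21)), (-273, (0, 6)), (320, (0, 29)), (-29, (0, 27)), (272, (0, 33)), (327, (0, 5)), (-122, (0, 51)), (-309, (0, 46)), (296, (0, 59))]), [-2661851101, -2617417816, -5630752378, 15941, 7242096964, 9023822235, 12948246331, -7085628132, -217215926, 75748093, -3298242617, -414431644, 5989]),
      ([-361], ([(14, 3), (-17, 0), (-323, 2), (217, 1)], [(-61, (0, 15)), (81, (0, 26)), (-4, (0, 18)), (-119, (0, 27)), (-291, (0, 21)), (-316, (0, 6)), (-321, (0, 45)), (-162, (0, 29)), (158, (0, 33)), (292, (0, 5)), (354, (0, 51)), (-278, (0, 46)), (225, (0, 59))]), [-107963034, -108274911, -230295370, 773, 296562910, 369863420, 529986874, -291776505, -8637304, 3114636, -135185355, -17128587, 216]),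
      ([-126], ([(-252, 1), (360, 0), (-189, 2), (27, 3)], [(106, (0, 33)), (-294, (0, 15)), (252, (0, 18)), (145, (0, 26)), (-46, (0, 21)), (-223, (0, 6)), (237, (0, 29)), (66, (0, 27)), (-278, (0, 5)), (127, (0, 51)), (-94, (0, 45)), (-179, (0, 46)), (-133, (0, 59))]), [-363762837, -348188380, -760826823, 1554, 976914445, 1215793336, 1747776303, -948587613, -30454542, 10161700, -444377523, -55193382, 853]),
      ([203], ([(283, 1), (332, 0), (-222, 2), (-84, 3)], [(-148, (0, 46)), (202, (0, 15)), (-171, (0, 18)), (37, (0, 26)), (-8, (0, 21)), (-152, (0, 6)), (-293, (0, 29)), (-189, (0, 27)), (-288, (0, 45)), (-308, (0, 33)), (23, (0, 5)), (-187, (0, 51)), (-209, (0, 59))]), [736207594, 727691403, 1560805638, -4686, -2008108439, -2502697217, -3589844169, 1967551563, 59774429, -21025603, 914748336, 115198105, -1691]),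
      ([71], ([(-143, 1), (200, 0), (66, 2), (222, 3)], [(332, (0, 15)), (98, (0, 26)), (-141, (0, 18)), (-26, (0, 27)), (310, (0, 21)), (-358, (0, 6)), (80, (0, 29)), (-277, (0, 45)), (-100, (0, 51)), (346, (0, 33)), (19, (0, 5)), (-77, (0, 46)), (352, (0, 59))]), [-2148356874, -2106491195, -4539063882, 12458, 5836965440, 7272065181, 10436710328, -5706286867, -175800962, 61016115, -2657970672, -333571646, 4844]),
      ([162], ([(-243, 0), (243, 2), (-243, 3), (-324, 1)], [(98, (0, 59)), (309, (0, 15)), (84, (0, 18)), (-31, (0, 26)), (-172, (0, 21)), (-89, (0, 6)), (279, (0, 29)), (-342, (0, 27)), (138, (0, 45)), (199, (0, 51)), (-264, (0, 33)), (-211, (0, 5)), (29, (0, 46))]), [2317578330, 2275107379, 4899027196, -13621, -6300323974, -7849789889, -11264907769, 6161350547, 189426794, -65875332, 2869127563, 360254912, -5198]),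
      ([265], ([(363, 0), (195, 2), (192, 3), (-260, 1)], [(-247, (0, 15)), (285, (0, 26)), (-210, (0, 18)), (219, (0, 27)), (364, (0, 21)), (-312, (0, 6)), (-308, (0, 45)), (-222, (0, 29)), (294, (0, 33)), (18, (0, 5)), (-206, (0, 51)), (-114, (0, 46)), (221, (0, 59))]), [-1914269579, -1872557371, -4040461614, 10807, 5195032142, 6471627576, 9289442426, -5075375560, -157002581, 54279673, -2365407467, -296555673, 4321])],
    kill := [(([(315, 0), (-126, 2), (-225, 3), (168, 1)], [(-294, (0, 15)), (-158, (0, 26)), (-255, (0, 18)), (-157, (0, 27)), (-250, (0, 21)), (216, (0, 6)), (263, (0, 45)), (103, (0, 29)), (-205, (0, 33)), (-177, (0, 5)), (-1, (0, 51)), (30, (0, 46)), (144, (0, 59)), (106, (0, 52))]), [2055131635, 2024786252, 4350959456, -12595, -5596749131, -6974263719, -10006008672, 5478806800, 167387470, -58561777, 2549123675, 320572973, -4641])] }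

/-- conjugate commuting pairs -/
def threeSpecs : List Spec :=
  [(([2, 2, 3, 3, 4, 4], [0, 4, 3, 3], [2, 2, 3, 3, 4, 4], [0, 2, 2, 0, 4]), (0x33166d11b37192ac62a3d34276c3bd222b7f02084537b810d29d0c96daa9b72abd870c372aa0ac77882caab2838144a682f25042cf04b50861885ac0d6f64bb11b4380b8b4c2f4723885c56843a1141c6b891f70a4e0760645262211cbb101d602a9542605e6c07164c8bf403005279651f02ca235348369e200447a7850bc95c8b66bc0a2ec46ab61c57708982a35718dc67008100cbabc43b19ba9027a587e7714118007e29440b807009343c83010b104db251c99665519e9ea0f44ae9dc2a303a9187606a54648538bb4bee6683043e745384da6ce3fc10df0f75c4496f336a4d32b52492148440618962e94f8c044d97f9f540391a02972b8423e902060908c62be61425243c738515647272f61adf5ba98ce7b330f876de7c1514b127c8e820e020868b0636b320b4507e2d8e0b439c190cfd, 0x509c7e2826442f46fb2054cf75809e25262a3d7a901dc0c0007648c826177fb70dad426289de9e831a4bc9c2799880ce13971eed349b492e1010061130e3a36479076582df2e22aaaa205b721513f1238abe1a0a7822a16da7a8acb4b25a0b0448c601a86a340f818900488bb082de7b285350c12bc978bb2b8782a4537ab146391faa1f8c77c42492ba6da18c4e6250a60a8885305366550334d6c245804c0333c1d462b329a0074ae0e1b960a4421917c58019c8be0528bcc96b86eaadfae80e86ce0b506109aa672eb9d1a7d7d0256c0d4c341da16801fd3a084388cf4c3269cc8e4612209884470c041ea7428694a280c84870d84943d2837489845a3e5cb45ac76821a1628384259d2ca170f5cabf2c9e58ccc54839f6e06bab52a262b0bd4c11362dcc643770d9c7023e0c1d4fe471dcf681,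 [260, 4, 232, 239, 248])),
    (([2, 2, 3, 3, 4, 4], [0, 4, 3, 3], [3], [0, 1, 0, 1, 3, 3, 1]), (0x241ce631b830929b5390828b47f1aca6ed783088e5a271b0ecec04b61a48b43b8dd68f3b8293c25659012c921d4350a4f102281a9a0b91410506c9e2090614a00ceef508b4366a532e8a2c381abdd50f26c14aa837d04188a95726593015dbd496326b878026d183800c416e0d12eb121c0066313435432a5122e18aa35f1481ece1c8f1ace53d075c91231271a6745e859baad6d254b30260a89ee0201b021088660688805331f216567f9287ae67c2d8de2c543b928c82faf0fd112eba0001c1784d123e1d8396093501b9a88c3e9a4e00b7933620072f328ae4656425f8db79b1c3e2a68a447e72523850c54023d0e70e30098b8f1632d498b93088cfeb77b161f6841c0444e2e3d9d424656f41d9e22471c430f94c2757e366fc306a4859b882b0a3caa9fa642dba5048d40a7c56b2142ac42d0, 0x260d855660f1d4163e8409c851137194dd67a3180ae3dc1c1a4d16b1c3877448bd7c3e2595c71036c1ca08fc7ab34146a889e138997b04884b60b88d22b32623dbefa5da75545d4abe48e0010a80ac83779498270250dd4ac56840916860ca8d266e5fb4868a6181d86d080981160616730d204f01039887385b4d504352229ae5f033c4349686391841b58bb51c71303b08d127a07c105c7c398ca847b905d22c640240eda189b4b67e13a6c1ede79bf44c941e9103c593a97970fe83350b4ab6c9fc480c8825c663b3794cd63905c011a2e289f1924082a89a2e0743fd96355e9ea1a1480941c48157c2968ee22990f29e31bad3e2b878602ab256af158b7338a1ac7402921b603148e9e0a71908002e724ae934686aa09521d71a4823093309454c650989cb0e2c3c9f6e12a2d5003f43a217269,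 [276, 8, 168, 226, 244])),
    (([2, 3, 5, 5], [5], [0, 1, 0, 0, 4], [0, 1, 0, 0, 1]), (0x1d57c5c0f208aaff2fa0090184e9f98e9977b96027223a6d4a642137cf46d41bad30961caac86942b12c94c2131e0ba6e102901a298496164635c0c4b6af498385ad656b30d0c88404467126e37934fd3e9ac70066838cd8161d1d91e258190046d950868386753bf1f404883d4360a0ebf8989f15409d4f2378856c3e04435103b298254cd32a2dcc2a962389cd0540b8616f7693390c146a8f572246483de00c459816a413cad056f63100c0e9258b350a7702bb89c4f760c918440117966e06da2614d8480f092191b9c4e6747d840e0bb76b18169c231fcf70e17af5e245540b218bf1b315d02e09b0d9e12799f0b43f503443e0148c11f2d76e8d0cc222bab0005913c0160d465a55b4f487a120e9e289a8ca8e34ae92eae4694194c126a89f08a1ab9e0c3088ba580a314149c8aa0b8557887, 0x34016b311941444948995c6d31083528365faaa022a862b998b62dad46a11481f164241faa09a85819c8ae6f7b2a414450725604056325924687d33866cf3389578641a36116284e23c74c720a38ecd6138550ed4829588c97213b02809244449c012c06912df4d295027e34b84ee296e061ae2e79011304b5ba75fae604049763b560820e547f33608f50cbd04cf06d9e06e63608702e6d41840cca100234ea227bc39270a29419963e28be4feea3a30a245c2ec00bc5953ba1f0c56507836d55c0c43afc701ed3282859a9d3106e8f458e217bbe1a9b4f8183e16381c426ad773b4c3097f94c986c78bed00be1e29114625030de6c92f91c1e32689b9bc0c27911b24a3eaadc80715bad80885e8c14ce71cc3d5eb958ae8c10801b10048c21901a45a43369ca842aac13ca33cb20e6b43d1ac702d,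 [513, 120, 193, 228, 242])),
    (([2, 3, 5, 5], [0, 0, 4], [0, 1, 0, 0, 4], [1, 2, 3, 3, 1, 3]), (0x1d57c5c0f208aaff2fa0090184e9f98e9977b96027223a6d4a642137cf46d41bad30961caac86942b12c94c2131e0ba6e102901a298496164635c0c4b6af498385ad656b30d0c88404467126e37934fd3e9ac70066838cd8161d1d91e258190046d950868386753bf1f404883d4360a0ebf8989f15409d4f2378856c3e04435103b298254cd32a2dcc2a962389cd0540b8616f7693390c146a8f572246483de00c459816a413cad056f63100c0e9258b350a7702bb89c4f760c918440117966e06da2614d8480f092191b9c4e6747d840e0bb76b18169c231fcf70e17af5e245540b218bf1b315d02e09b0d9e12799f0b43f503443e0148c11f2d76e8d0cc222bab0005913c0160d465a55b4f487a120e9e289a8ca8e34ae92eae4694194c126a89f08a1ab9e0c3088ba580a314149c8aa0b8557887, 0x34016b311941444948995c6d31083528365faaa022a862b998b62dad46a11481f164241faa09a85819c8ae6f7b2a414450725604056325924687d33866cf3389578641a36116284e23c74c720a38ecd6138550ed4829588c97213b02809244449c012c06912df4d295027e34b84ee296e061ae2e79011304b5ba75fae604049763b560820e547f33608f50cbd04cf06d9e06e63608702e6d41840cca100234ea227bc39270a29419963e28be4feea3a30a245c2ec00bc5953ba1f0c56507836d55c0c43afc701ed3282859a9d3106e8f458e217bbe1a9b4f8183e16381c426ad773b4c3097f94c986c78bed00be1e29114625030de6c92f91c1e32689b9bc0c27911b24a3eaadc80715bad80885e8c14ce71cc3d5eb958ae8c10801b10048c21901a45a43369ca842aac13ca33cb20e6b43d1ac702d,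 [513, 120, 193, 228, 242]))]

theorem three_gens : threeGens.all (elemOK 275 baseX) = true ∧ threeSpecs.all (specOK 275 baseX baseB threeCert threeGens) = true := by decide +kernel

theorem three_gensU : threeGens.all (elemOK 275 baseU) = true := by decide +kernel

theorem three_lat : CentralBound.latOK threeCert (threeSpecs.map extOf) (3 ^ 6) threeLat = true := by decide +kernel

end Cfsg.Agent.Lie.McLaughlinMult
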